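import Mathlib

/-!
Flatness is local on the source for flat surjective morphisms: if `g ≫ f` is flat with `g` flat and
surjective, then `f` is flat.
-/

set_option autoImplicit false
universe u
open CategoryTheory AlgebraicGeometry TensorProduct

namespace Groth.Agent.Lib.helper22

theorem flat_of_flat_of_faithfullyFlat (A B C : Type u) [CommRing A] [CommRing B] [CommRing C]
    [Algebra A B] [Algebra B C] [Algebra A C] [IsScalarTower A B C] [Module.FaithfullyFlat B C]
    [Module.Flat A C] : Module.Flat A B := by
  rw [Module.Flat.iff_lTensor_preserves_injective_linearMap]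
  intro N P _ _ _ _ f hf
  let fB : B ⊗[A] N →ₗ[B] B ⊗[A] P := AlgebraTensorModule.lTensor B B f
  have hfB : Function.Injective (fB.lTensor C) := by
    have h1 := AlgebraTensorModule.lTensor_comp_cancelBaseChange (R := A) (A := B) (B := C) (M := C) f
    have h2 : Function.Injective (AlgebraTensorModule.lTensor C C f) :=
      Module.Flat.lTensor_preserves_injective_linearMap (M := C) f hf
    have h3 : Function.Injective ((AlgebraTensorModule.lTensor C C f) ∘ₗ
        (AlgebraTensorModule.cancelBaseChange A B C C N).toLinearMap) :=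
      h2.comp (AlgebraTensorModule.cancelBaseChange A B C C N).injective
    rw [h1] at h3
    intro x y hxy
    apply h3
    simp only [LinearMap.comp_apply, LinearEquiv.coe_coe]
    congr 1
  exact (Module.FaithfullyFlat.lTensor_injective_iff_injective B C fB).mp hfB

theorem ringHom_flat_of_comp {A B C : Type u} [CommRing A] [CommRing B] [CommRing C]
    (φ : A →+* B) (ψ : B →+* C) (hψ : ψ.FaithfullyFlat) (h : (ψ.comp φ).Flat) : φ.Flat := by
  algebraize [φ, ψ, ψ.comp φ]
  exact flat_of_flat_of_faithfullyFlat A B C

theorem flat_of_flat_comp {X Y Z : Scheme.{u}} (g : X ⟶ Y) (f : Y ⟶ Z) [Flat g] [Surjective g]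
    [Flat (g ≫ f)] : Flat f := by
  rw [Flat.iff_flat_stalkMap]
  intro y
  obtain ⟨x, rfl⟩ := g.surjective y
  have h1 : ((g ≫ f).stalkMap x).hom.Flat := Flat.stalkMap (g ≫ f) x
  rw [Scheme.Hom.stalkMap_comp] at h1
  have h2 : (g.stalkMap x).hom.FaithfullyFlat := by
    have hfl : (g.stalkMap x).hom.Flat := Flat.stalkMap g x
    algebraize [(g.stalkMap x).hom]
    have : Module.FaithfullyFlat (Y.presheaf.stalk (g x)) (X.presheaf.stalk x) :=
      @Module.FaithfullyFlat.of_flat_of_isLocalHom _ _ _ _ _ _ _ hfl (g.toLRSHom.prop x)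
    assumption
  exact ringHom_flat_of_comp _ _ h2 h1

end Groth.Agent.Lib.helper22
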