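import Mathlib
import Groth.Prelude.Def_Found

/-!
# N-2 (Japanese) passes to localizations

`isN2_of_isLocalization`: if `B` is an N-2 domain and `B'` is a localization of `B` which is a
domain, then `B'` is N-2.
-/

namespace Groth.Agent.Lib.helper22

universe u

/-- N-2 passes to localizations (which are domains). -/
theorem isN2_of_isLocalization {B : Type u} [CommRing B] [IsDomain B] (hB : CAlg.IsN2 B)
    (M : Submonoid B) (B' : Type u) [CommRing B'] [IsDomain B'] [Algebra B B']
    [IsLocalization M B'] : CAlg.IsN2 B' := by
  classical
  intro L _ _ _ _ hfd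
  let K' := FractionRing B'
  have hM : M ≤ nonZeroDivisors B := by
    intro m hm
    rw [mem_nonZeroDivisors_iff_ne_zero]
    rintro rfl
    have h1 : IsUnit (algebraMap B B' 0) := IsLocalization.map_units B' ⟨0, hm⟩
    rw [map_zero] at h1
    exact not_isUnit_zero h1
  have hinjBB' : Function.Injective (algebraMap B B') := IsLocalization.injective B' hM
  let _ : Algebra B L := ((algebraMap B' L).comp (algebraMap B B')).toAlgebra
  have hST1 : IsScalarTower B B' L := IsScalarTower.of_algebraMap_eq fun x => rfl
  have hST2 : IsScalarTower B B' K' := inferInstance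
  have hfrac : IsFractionRing B K' := by
    have h1 : IsLocalization ((nonZeroDivisors B').comap (algebraMap B B')) K' :=
      IsLocalization.localization_localization_isLocalization_of_has_all_units M
        (nonZeroDivisors B') K' (fun x hx => hx.mem_nonZeroDivisors)
    have h2 : (nonZeroDivisors B').comap (algebraMap B B') = nonZeroDivisors B := by
      ext x
      rw [Submonoid.mem_comap, mem_nonZeroDivisors_iff_ne_zero, mem_nonZeroDivisors_iff_ne_zero,
        Ne, Ne, map_eq_zero_iff _ hinjBB']
    rw [h2] at h1
    exact h1
  let e : FractionRing B ≃ₐ[B] K' := FractionRing.algEquiv B K'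
  let _ : Algebra (FractionRing B) L :=
    ((algebraMap K' L).comp (e : FractionRing B →+* K')).toAlgebra
  have hST3 : IsScalarTower B (FractionRing B) L := by
    apply IsScalarTower.of_algebraMap_eq
    intro x
    show algebraMap B' L (algebraMap B B' x) = algebraMap K' L (e (algebraMap B (FractionRing B) x))
    rw [e.commutes]
    rw [IsScalarTower.algebraMap_apply B B' K', ← IsScalarTower.algebraMap_apply B' K' L]
  have hfd' : FiniteDimensional (FractionRing B) L := by
    apply Module.Finite.of_equiv_equiv (A₁ := K') (B₁ := L) e.symm.toRingEquiv (RingEquiv.refl L)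
    ext x
    simp only [RingHom.comp_apply]
    show algebraMap K' L (e (e.symm x)) = algebraMap K' L x
    rw [e.apply_symm_apply]
  have hC : Module.Finite B (integralClosure B L) := hB L hfd'
  have hC' : (Subalgebra.toSubmodule (integralClosure B L)).FG := Module.Finite.iff_fg.mp hC
  obtain ⟨G, hG⟩ := hC'
  have hGint : ∀ g ∈ G, IsIntegral B g := by
    intro g hg
    have : g ∈ Subalgebra.toSubmodule (integralClosure B L) := by
      rw [← hG]; exact Submodule.subset_span hg
    exact this
  have heq : Subalgebra.toSubmodule (integralClosure B' L) = Submodule.span B' (G : Set L) := by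
    apply le_antisymm
    · intro x hx
      obtain ⟨m, hm⟩ := IsIntegral.exists_multiple_integral_of_isLocalization M (Rₘ := B') x hx
      have h1 : m • x ∈ Submodule.span B (G : Set L) := by
        rw [hG]; exact hm
      have h2 : m • x ∈ Submodule.span B' (G : Set L) :=
        Submodule.span_le_restrictScalars B B' (G : Set L) h1
      have h3 : x = (IsLocalization.mk' B' (1 : B) m) • (m • x) := by
        rw [Submonoid.smul_def, ← algebraMap_smul B' (m : B) x, smul_smul,
          IsLocalization.mk'_spec, map_one, one_smul]
      rw [h3]
      exact Submodule.smul_mem _ _ h2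
    · rw [Submodule.span_le]
      intro g hg
      exact IsIntegral.tower_top (A := B') (hGint g hg)
  have hfg : (Subalgebra.toSubmodule (integralClosure B' L)).FG := by
    rw [heq]
    exact Submodule.fg_span G.finite_toSet
  exact Module.Finite.iff_fg.mpr hfg

end Groth.Agent.Lib.helper22
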