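import Mathlib
import Groth.Prelude.Def_CartDual
import Groth.Prelude.Def_AlphaP

/-!
# The Cartier dual of `α_p` is `α_p` (helper22)
-/

set_option autoImplicit false
universe u
open scoped TensorProduct
open WithConv

namespace Groth.Agent.Lib.helper22.CartDualAlphaP

variable (p : ℕ) [hp : Fact p.Prime] (R : Type u) [CommRing R] [CharP R p]

theorem comul_x_pow (m : ℕ) : Coalgebra.comul (R := R) (AlphaP.x p R ^ m) =
    ∑ j ∈ Finset.range (m + 1), (m.choose j : R) •
      ((AlphaP.x p R ^ j) ⊗ₜ[R] (AlphaP.x p R ^ (m - j))) := by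
  have h1 : Coalgebra.comul (R := R) (AlphaP.x p R ^ m) =
      (Bialgebra.comulAlgHom R (AlphaP.A p R)) (AlphaP.x p R ^ m) := rfl
  rw [h1, map_pow, Bialgebra.comulAlgHom_apply, AlphaP.comul_x, add_pow]
  apply Finset.sum_congr rfl
  intro j _
  rw [Algebra.TensorProduct.tmul_pow, Algebra.TensorProduct.tmul_pow, one_pow, one_pow,
    Algebra.TensorProduct.tmul_mul_tmul, mul_one, one_mul, mul_comm, ← nsmul_eq_mul,
    Nat.cast_smul_eq_nsmul]

theorem nontrivialR (p : ℕ) [hp : Fact p.Prime] (R : Type u) [CommRing R] [CharP R p] :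
    Nontrivial R :=
  CharP.nontrivial_of_char_ne_one (R := R) (v := p) (Nat.Prime.ne_one hp.out)

/-- the linear form dual to `x` -/
noncomputable def ξ : CartDual.D R (AlphaP.A p R) :=
  have := nontrivialR p R
  toConv ((AlphaP.basis p R).coord ⟨1, hp.out.one_lt⟩)

theorem ξ_x_pow (i : ℕ) : ξ p R (AlphaP.x p R ^ i) = if i = 1 then 1 else 0 := by
  have := nontrivialR p R
  by_cases hi : i < p
  · have h1 : AlphaP.x p R ^ i = AlphaP.basis p R ⟨i, hi⟩ := by rw [AlphaP.basis_apply]
    rw [h1]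
    change (AlphaP.basis p R).coord ⟨1, hp.out.one_lt⟩ (AlphaP.basis p R ⟨i, hi⟩) = _
    rw [Module.Basis.coord_apply, Module.Basis.repr_self, Finsupp.single_apply]
    by_cases h : i = 1
    · subst h
      simp
    · rw [if_neg h, if_neg]
      intro h'
      exact h (congrArg Fin.val h')
  · push Not at hi
    rw [AlphaP.x_pow_of_le p R hi, map_zero, if_neg]
    have := hp.out.one_lt
    omega

theorem one_x_pow (i : ℕ) :
    (1 : CartDual.D R (AlphaP.A p R)) (AlphaP.x p R ^ i) = if i = 0 then 1 else 0 := by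
  change (1 : WithConv (AlphaP.A p R →ₗ[R] R)).ofConv (AlphaP.x p R ^ i) = _
  rw [LinearMap.convOne_apply]
  have : Coalgebra.counit (R := R) (AlphaP.x p R ^ i) =
      (Bialgebra.counitAlgHom R (AlphaP.A p R)) (AlphaP.x p R ^ i) := rfl
  rw [this, map_pow, Bialgebra.counitAlgHom_apply, AlphaP.counit_x]
  by_cases h : i = 0
  · subst h; simp
  · rw [if_neg h, zero_pow h, map_zero]

theorem ξ_pow_apply (i j : ℕ) :
    (ξ p R ^ i) (AlphaP.x p R ^ j) = if j = i then (i.factorial : R) else 0 := by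
  induction i generalizing j with
  | zero =>
    rw [pow_zero, one_x_pow, Nat.factorial_zero, Nat.cast_one]
  | succ i ih =>
    rw [pow_succ]
    change ((ξ p R ^ i) * ξ p R).ofConv (AlphaP.x p R ^ j) = _
    rw [LinearMap.convMul_apply, comul_x_pow, map_sum, map_sum]
    have hterm : ∀ k ∈ Finset.range (j + 1),
        (LinearMap.mul' R R) ((TensorProduct.map (ξ p R ^ i).ofConv (ξ p R).ofConv)
          ((j.choose k : R) • ((AlphaP.x p R ^ k) ⊗ₜ[R] (AlphaP.x p R ^ (j - k))))) =
        (j.choose k : R) * ((if k = i then (i.factorial : R) else 0) *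
          (if j - k = 1 then 1 else 0)) := by
      intro k _
      rw [map_smul, map_smul, TensorProduct.map_tmul, LinearMap.mul'_apply, smul_eq_mul]
      have h1 : (ξ p R ^ i).ofConv (AlphaP.x p R ^ k) = (ξ p R ^ i) (AlphaP.x p R ^ k) := rfl
      have h2 : (ξ p R).ofConv (AlphaP.x p R ^ (j - k)) = ξ p R (AlphaP.x p R ^ (j - k)) := rfl
      rw [h1, h2, ih, ξ_x_pow]
    rw [Finset.sum_congr rfl hterm]
    by_cases hj : j = i + 1
    · subst hj
      rw [if_pos rfl, Finset.sum_eq_single i]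
      · rw [if_pos rfl, if_pos (by omega), mul_one, Nat.factorial_succ]
        rw [Nat.choose_succ_self_right]
        push_cast
        ring
      · intro k _ hk
        rw [if_neg hk, zero_mul, mul_zero]
      · intro h
        exfalso; apply h; rw [Finset.mem_range]; omega
    · rw [if_neg hj]
      refine Finset.sum_eq_zero (fun k hk => ?_)
      rw [Finset.mem_range] at hk
      by_cases hk1 : k = i
      · rw [if_pos hk1, if_neg (by omega), mul_zero, mul_zero]
      · rw [if_neg hk1, zero_mul, mul_zero]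

/-- elements of the dual are determined by their values on the powers of `x` -/
theorem ext_x_pow {y z : CartDual.D R (AlphaP.A p R)}
    (h : ∀ j : ℕ, j < p → y (AlphaP.x p R ^ j) = z (AlphaP.x p R ^ j)) : y = z := by
  have := nontrivialR p R
  apply WithConv.ofConv_injective
  apply (AlphaP.basis p R).ext
  intro i
  rw [AlphaP.basis_apply]
  exact h i i.2

theorem ξ_pow_p : ξ p R ^ p = 0 := by
  apply ext_x_pow
  intro j hj
  rw [ξ_pow_apply, if_neg (by omega)]
  rfl

theorem comul_ξ : Coalgebra.comul (R := R) (ξ p R) =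
    ξ p R ⊗ₜ[R] (1 : CartDual.D R (AlphaP.A p R)) + (1 : CartDual.D R (AlphaP.A p R)) ⊗ₜ[R] ξ p R := by
  have := nontrivialR p R
  apply (CartDual.ev₂ R (AlphaP.A p R)).injective
  apply TensorProduct.ext
  apply (AlphaP.basis p R).ext
  intro i
  apply (AlphaP.basis p R).ext
  intro j
  rw [AlphaP.basis_apply, AlphaP.basis_apply]
  change (CartDual.ev₂ R (AlphaP.A p R)) (Coalgebra.comul (R := R) (ξ p R))
      ((AlphaP.x p R ^ (i : ℕ)) ⊗ₜ[R] (AlphaP.x p R ^ (j : ℕ))) =
    (CartDual.ev₂ R (AlphaP.A p R)) (ξ p R ⊗ₜ[R] (1 : CartDual.D R (AlphaP.A p R)) +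
      (1 : CartDual.D R (AlphaP.A p R)) ⊗ₜ[R] ξ p R)
      ((AlphaP.x p R ^ (i : ℕ)) ⊗ₜ[R] (AlphaP.x p R ^ (j : ℕ)))
  rw [CartDual.ev₂_coalgebra_comul_tmul, map_add, LinearMap.add_apply, CartDual.ev₂_tmul,
    CartDual.ev₂_tmul, ← pow_add, ξ_x_pow, ξ_x_pow, ξ_x_pow, one_x_pow, one_x_pow]
  by_cases hi : (i : ℕ) = 0
  · rw [hi]
    by_cases hj : (j : ℕ) = 1
    · rw [hj]; simp
    · rw [if_neg (by omega), if_neg (by omega), if_neg hj]; simp
  · by_cases hi1 : (i : ℕ) = 1
    · rw [hi1]
      by_cases hj : (j : ℕ) = 0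
      · rw [hj]; simp
      · rw [if_neg (by omega), if_neg hj]; simp
    · rw [if_neg (by omega), if_neg hi1, if_neg hi]; simp

/-- the algebra map `A → D(A)`, `x ↦ ξ` -/
noncomputable def Psi : AlphaP.A p R →ₐ[R] CartDual.D R (AlphaP.A p R) :=
  AlphaP.lift p R (ξ p R) (ξ_pow_p p R)

@[simp] theorem Psi_x : Psi p R (AlphaP.x p R) = ξ p R := AlphaP.lift_x _ _

theorem Psi_x_pow (i : ℕ) : Psi p R (AlphaP.x p R ^ i) = ξ p R ^ i := by
  rw [map_pow, Psi_x]

theorem isUnit_factorial (j : ℕ) (hj : j < p) : IsUnit ((j.factorial : ℕ) : R) := by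
  rw [CharP.isUnit_natCast_iff (p := p) hp.out]
  intro h
  exact absurd ((Nat.Prime.dvd_factorial hp.out).1 h) (by omega)

/-- pairing of `Psi a` with `x^j` -/
theorem Psi_apply_x_pow (a : AlphaP.A p R) (j : ℕ) (hj : j < p) :
    haveI := nontrivialR p R
    Psi p R a (AlphaP.x p R ^ j) = (AlphaP.basis p R).repr a ⟨j, hj⟩ * (j.factorial : R) := by
  have := nontrivialR p R
  conv_lhs => rw [← (AlphaP.basis p R).sum_repr a]
  rw [map_sum]
  have : ∀ (s : Finset (Fin p)),
      (∑ i ∈ s, Psi p R ((AlphaP.basis p R).repr a i • AlphaP.basis p R i)) (AlphaP.x p R ^ j) =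
      ∑ i ∈ s, (AlphaP.basis p R).repr a i * (if j = (i : ℕ) then ((i : ℕ).factorial : R) else 0) := by
    intro s
    induction s using Finset.induction_on with
    | empty => rfl
    | insert b s hb ih =>
      rw [Finset.sum_insert hb, Finset.sum_insert hb, ← ih]
      change (Psi p R _) (AlphaP.x p R ^ j) + _ = _
      congr 1
      rw [map_smul, AlphaP.basis_apply, Psi_x_pow]
      change (AlphaP.basis p R).repr a b * (ξ p R ^ (b : ℕ)) (AlphaP.x p R ^ j) = _
      rw [ξ_pow_apply]
  rw [this, Finset.sum_eq_single ⟨j, hj⟩]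
  · rw [if_pos rfl]
  · intro b _ hb
    rw [if_neg, mul_zero]
    intro h
    exact hb (Fin.ext h.symm)
  · intro h; exact absurd (Finset.mem_univ _) h

theorem Psi_injective : Function.Injective (Psi p R) := by
  have := nontrivialR p R
  rw [injective_iff_map_eq_zero]
  intro a ha
  apply (AlphaP.basis p R).repr.injective
  ext i
  have h1 := Psi_apply_x_pow p R a i i.2
  rw [ha] at h1
  have h2 : (AlphaP.basis p R).repr a ⟨i, i.2⟩ * ((i : ℕ).factorial : R) = 0 := h1.symm
  rw [map_zero, Finsupp.zero_apply]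
  exact (isUnit_factorial p R i i.2).mul_left_eq_zero.1 h2

theorem Psi_surjective : Function.Surjective (Psi p R) := by
  have := nontrivialR p R
  intro y
  choose u hu using fun j : Fin p => (isUnit_factorial p R j j.2).exists_right_inv
  refine ⟨∑ j : Fin p, (y (AlphaP.x p R ^ (j : ℕ)) * u j) • AlphaP.basis p R j, ?_⟩
  apply ext_x_pow
  intro j hj
  rw [Psi_apply_x_pow p R _ j hj, map_sum, Finsupp.finsetSum_apply]
  rw [Finset.sum_eq_single ⟨j, hj⟩]
  · rw [map_smul, Module.Basis.repr_self, Finsupp.smul_apply, Finsupp.single_eq_same, smul_eq_mul,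
      mul_one, mul_assoc, mul_comm (u ⟨j, hj⟩), hu ⟨j, hj⟩, mul_one]
  · intro b _ hb
    rw [map_smul, Module.Basis.repr_self, Finsupp.smul_apply, Finsupp.single_eq_of_ne (Ne.symm hb),
      smul_zero]
  · intro h; exact absurd (Finset.mem_univ _) h

/-- the algebra equivalence `A ≃ D(A)` -/
noncomputable def algEquiv : AlphaP.A p R ≃ₐ[R] CartDual.D R (AlphaP.A p R) :=
  AlgEquiv.ofBijective (Psi p R) ⟨Psi_injective p R, Psi_surjective p R⟩

/-- the bialgebra equivalence `A ≃ D(A)` -/
noncomputable def bialgEquiv : AlphaP.A p R ≃ₐc[R] CartDual.D R (AlphaP.A p R) :=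
  BialgEquiv.ofAlgEquiv (algEquiv p R)
    (by
      apply AlphaP.algHom_ext
      change Coalgebra.counit (R := R) (Psi p R (AlphaP.x p R)) =
        Coalgebra.counit (R := R) (AlphaP.x p R)
      rw [Psi_x, AlphaP.counit_x, CartDual.coalgebra_counit_apply]
      have := ξ_x_pow p R 0
      rwa [pow_zero, if_neg (by norm_num)] at this)
    (by
      apply AlphaP.algHom_ext
      change Algebra.TensorProduct.map (algEquiv p R : AlphaP.A p R →ₐ[R] _)
          (algEquiv p R : AlphaP.A p R →ₐ[R] _) (Coalgebra.comul (R := R) (AlphaP.x p R)) =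
        Coalgebra.comul (R := R) (Psi p R (AlphaP.x p R))
      rw [Psi_x, comul_ξ, AlphaP.comul_x, map_add, Algebra.TensorProduct.map_tmul,
        Algebra.TensorProduct.map_tmul, map_one]
      have : (algEquiv p R : AlphaP.A p R →ₐ[R] _) (AlphaP.x p R) = ξ p R := Psi_x p R
      rw [this])

theorem bialgEquiv_x : bialgEquiv p R (AlphaP.x p R) = ξ p R := Psi_x p R

end Groth.Agent.Lib.helper22.CartDualAlphaP
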