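import Mathlib

/-!
# Core criterion for lifting smooth algebras along a quotient (helper22)

`exists_smooth_of_data`: given a smooth `R`-algebra `B`, an ideal `K₁ ⊇ I B`, a finite projective
`B`-module `P` with `P / K₁ P ≅ N` and a "retraction" `d₀ : Ω[B/R] → N` of the class map
`K₁ → N`, produce a smooth `R`-algebra `A` with `A / I A ≅ B / K₁`.
-/

open TensorProduct KaehlerDifferential
universe u
namespace Groth.Agent.Lib.helper22.SmoothLiftCore

/-- Derivation-lifting criterion: `(B/K)_h` is formally smooth over `R` when `B` is, provided that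
`K` is the image of `φ : P → B` and there is `w : Ω[B/R] → P` with `w (d (φ p)) ≡ h₂ p` mod `K P`,
`h₂` invertible in `(B/K)_h`. -/
theorem formallySmooth_localization_quotient {R B : Type u} [CommRing R] [CommRing B] [Algebra R B]
    [Algebra.FormallySmooth R B]
    (K : Ideal B) {P : Type u} [AddCommGroup P] [Module B P] (φ : P →ₗ[B] B)
    (hφ : ∀ p, φ p ∈ K) (hφK : ∀ k ∈ K, ∃ p, φ p = k) (w : Ω[B⁄R] →ₗ[B] P) (h h₂ : B)
    (hh : IsUnit (algebraMap (B ⧸ K) (Localization.Away (Ideal.Quotient.mk K h))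
      (Ideal.Quotient.mk K h₂)))
    (hw : ∀ p, w (D R B (φ p)) - h₂ • p ∈ K • (⊤ : Submodule B P)) :
    Algebra.FormallySmooth R (Localization.Away (Ideal.Quotient.mk K h)) := by
  refine Algebra.FormallySmooth.of_comp_surjective ?_
  intro T _ _ 𝔞 h𝔞 g
  let toA : B →ₐ[R] Localization.Away (Ideal.Quotient.mk K h) :=
    (IsScalarTower.toAlgHom R (B ⧸ K) _).comp (Ideal.Quotient.mkₐ R K)
  have htoA : ∀ b, toA b = algebraMap (B ⧸ K) _ (Ideal.Quotient.mk K b) := fun b => rfl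
  let g₀ : B →ₐ[R] T := Algebra.FormallySmooth.lift 𝔞 ⟨2, h𝔞⟩ (g.comp toA)
  have hg₀ : ∀ b, Ideal.Quotient.mk 𝔞 (g₀ b) = g (toA b) := fun b =>
    Algebra.FormallySmooth.mk_lift 𝔞 ⟨2, h𝔞⟩ (g.comp toA) b
  have hK : ∀ k ∈ K, g₀ k ∈ 𝔞 := by
    intro k hk
    rw [← Ideal.Quotient.eq_zero_iff_mem, hg₀, htoA, Ideal.Quotient.eq_zero_iff_mem.mpr hk]
    simp
  have hu : IsUnit (g₀ h₂) := by
    rw [← IsNilpotent.isUnit_quotient_mk_iff (I := 𝔞) ⟨2, h𝔞⟩, hg₀, htoA]
    exact hh.map g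
  obtain ⟨u, hu⟩ := hu
  letI : Algebra B T := g₀.toRingHom.toAlgebra
  have halg : ∀ b, algebraMap B T b = g₀ b := fun b => rfl
  haveI : IsScalarTower R B T := IsScalarTower.of_algebraMap_eq (fun r => (g₀.commutes r).symm)
  let lam : P →ₗ[B] 𝔞 :=
    { toFun := fun p => ⟨(↑u⁻¹ : T) * g₀ (φ p), 𝔞.mul_mem_left _ (hK _ (hφ p))⟩
      map_add' := fun p q => by
        apply Subtype.ext
        simp [mul_add]
      map_smul' := fun b p => by
        apply Subtype.ext
        simp only [map_smul, smul_eq_mul, map_mul, RingHom.id_apply, Submodule.coe_smul_of_tower,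
          Algebra.smul_def, halg]
        ring }
  have hlam : ∀ p, ((lam p : 𝔞) : T) = (↑u⁻¹ : T) * g₀ (φ p) := fun p => rfl
  let δ : Derivation R B 𝔞 := (lam ∘ₗ w).compDer (D R B)
  have hδ : ∀ b, ((δ b : 𝔞) : T) = (↑u⁻¹ : T) * g₀ (φ (w (D R B b))) := fun b => rfl
  let g₁ : B →ₐ[R] T := liftOfDerivationToSquareZero 𝔞 h𝔞 (-δ)
  have hg₁ : ∀ b, g₁ b = g₀ b - (↑u⁻¹ : T) * g₀ (φ (w (D R B b))) := by
    intro b
    change ((-δ) b : T) + algebraMap B T b = _
    rw [halg, Derivation.neg_apply, Submodule.coe_neg, hδ]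
    ring
  -- g₀ kills K²
  have hK2 : ∀ q ∈ K • (⊤ : Submodule B P), g₀ (φ q) = 0 := by
    intro q hq
    refine Submodule.smul_induction_on hq ?_ ?_
    · intro k hk p _
      rw [map_smul, smul_eq_mul, map_mul]
      have : g₀ k * g₀ (φ p) ∈ 𝔞 ^ 2 := by
        rw [pow_two]; exact Ideal.mul_mem_mul (hK k hk) (hK _ (hφ p))
      rwa [h𝔞, Ideal.mem_bot] at this
    · intro x y hx hy
      rw [map_add, map_add, hx, hy, add_zero]
  have hg₁K : ∀ k ∈ K, g₁ k = 0 := by
    intro k hk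
    obtain ⟨p, rfl⟩ := hφK k hk
    rw [hg₁]
    have h1 := hK2 _ (hw p)
    rw [map_sub, map_sub, sub_eq_zero, map_smul, smul_eq_mul, map_mul] at h1
    rw [h1, ← hu, ← mul_assoc, Units.inv_mul, one_mul, sub_self]
  have hg₁h : IsUnit (g₁ h) := by
    rw [← IsNilpotent.isUnit_quotient_mk_iff (I := 𝔞) ⟨2, h𝔞⟩, hg₁, map_sub,
      Ideal.Quotient.eq_zero_iff_mem.mpr (𝔞.mul_mem_left _ (hK _ (hφ _))), sub_zero, hg₀, htoA]
    exact (IsLocalization.Away.algebraMap_isUnit (Ideal.Quotient.mk K h)).map g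
  let f : (B ⧸ K) →ₐ[R] T := Ideal.Quotient.liftₐ K g₁ hg₁K
  let G : Localization.Away (Ideal.Quotient.mk K h) →ₐ[R] T :=
    IsLocalization.liftAlgHom (M := Submonoid.powers (Ideal.Quotient.mk K h)) (f := f) (by
      rintro ⟨_, n, rfl⟩
      simp only [map_pow]
      exact (show IsUnit (f (Ideal.Quotient.mk K h)) from hg₁h).pow n)
  refine ⟨G, ?_⟩
  apply IsLocalization.algHom_ext (Submonoid.powers (Ideal.Quotient.mk K h))
  apply Ideal.Quotient.algHom_ext
  ext b
  simp only [AlgHom.coe_comp, Function.comp_apply, Ideal.Quotient.mkₐ_eq_mk]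
  have e1 : G ((Algebra.algHom R (B ⧸ K) (Localization.Away ((Ideal.Quotient.mk K) h)))
      ((Ideal.Quotient.mk K) b)) = g₁ b := by
    change G (algebraMap (B ⧸ K) _ (Ideal.Quotient.mk K b)) = _
    rw [IsLocalization.liftAlgHom_apply, IsLocalization.lift_eq]
    rfl
  rw [e1, hg₁, map_sub, Ideal.Quotient.eq_zero_iff_mem.mpr (𝔞.mul_mem_left _ (hK _ (hφ _))),
    sub_zero, hg₀]
  rfl

open Polynomial in
/-- Cayley–Hamilton: an endomorphism of a finite module congruent to the identity modulo `K₁`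
has a "left inverse up to an element of `1 + K₁`". -/
theorem exists_inverse_up_to {B M : Type u} [CommRing B] [AddCommGroup M] [Module B M]
    [Module.Finite B M] (K₁ : Ideal B) (ū : M →ₗ[B] M)
    (hū : ∀ m, ū m - m ∈ K₁ • (⊤ : Submodule B M)) :
    ∃ h₂ : B, h₂ - 1 ∈ K₁ ∧ ∃ W : M →ₗ[B] M, ∀ m, W (ū m) = h₂ • m := by
  classical
  let f : Module.End B M := LinearMap.id - ū
  have hf : LinearMap.range f ≤ K₁ • (⊤ : Submodule B M) := by
    rintro _ ⟨m, rfl⟩
    have := (K₁ • (⊤ : Submodule B M)).neg_mem (hū m)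
    simpa [f] using this
  obtain ⟨p, hp, -, hcoef, hpf⟩ :=
    LinearMap.exists_monic_and_natDegree_eq_and_coeff_mem_pow_and_aeval_eq_zero B f K₁ hf
  let q : B[X] := p.comp (C 1 - X)
  have hq : aeval ū q = 0 := by
    have : aeval ū (C 1 - X : B[X]) = f := by
      simp [f, Module.End.one_eq_id]
    rw [aeval_comp, this, hpf]
  refine ⟨p.eval 1, ?_, -(aeval ū q.divX), ?_⟩
  · rw [eval_eq_sum_range, Finset.sum_range_succ, hp.coeff_natDegree]
    simp only [one_pow, mul_one, add_sub_cancel_right]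
    refine Ideal.sum_mem _ fun i hi => ?_
    have := hcoef i
    refine Ideal.pow_le_self ?_ this
    have := Finset.mem_range.mp hi
    omega
  · intro m
    have h0 : q.coeff 0 = p.eval 1 := by
      rw [coeff_zero_eq_eval_zero, eval_comp]
      simp
    have h1 : q = q.divX * X + C (p.eval 1) := by
      rw [← h0]; exact (divX_mul_X_add q).symm
    have h2 : aeval ū q m = 0 := by rw [hq]; rfl
    rw [h1] at h2
    simp only [map_add, map_mul, aeval_X, aeval_C, LinearMap.add_apply, Module.End.mul_apply,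
      Module.algebraMap_end_apply] at h2
    rw [LinearMap.neg_apply, neg_eq_iff_add_eq_zero, add_comm]
    rw [add_comm] at h2
    exact h2

theorem exists_correction {R B : Type u} [CommRing R] [CommRing B] [Algebra R B]
    (K K₁ : Ideal B) {P : Type u} [AddCommGroup P] [Module B P] [Module.Finite B P]
    [Module.Projective B P] (φ : P →ₗ[B] B) (hφ : ∀ p, φ p ∈ K) (w₀ : Ω[B⁄R] →ₗ[B] P)
    (hw₀ : ∀ p, w₀ (D R B (φ p)) - p ∈ K₁ • (⊤ : Submodule B P)) :
    ∃ h₂ : B, h₂ - 1 ∈ K₁ ∧ ∃ W : P →ₗ[B] P,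
      ∀ p, W (w₀ (D R B (φ p))) - h₂ • p ∈ K • (⊤ : Submodule B P) := by
  let V : Submodule B P := K • ⊤
  let ℓ : P →ₗ[B] P ⧸ V :=
    { toFun := fun p => V.mkQ (w₀ (D R B (φ p)))
      map_add' := fun p q => by simp
      map_smul' := fun b p => by
        simp only [map_smul, smul_eq_mul, RingHom.id_apply, Derivation.leibniz, map_add]
        rw [add_eq_left]
        exact (Submodule.Quotient.mk_eq_zero V).mpr
          (Submodule.smul_mem_smul (hφ p) Submodule.mem_top) }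
  have hℓ : ∀ p, ℓ p = V.mkQ (w₀ (D R B (φ p))) := fun p => rfl
  have hV : V ≤ LinearMap.ker ℓ := by
    refine Submodule.smul_le.mpr fun k hk p _ => ?_
    rw [LinearMap.mem_ker, map_smul, hℓ, ← map_smul]
    exact (Submodule.Quotient.mk_eq_zero V).mpr (Submodule.smul_mem_smul hk Submodule.mem_top)
  let ū : (P ⧸ V) →ₗ[B] (P ⧸ V) := V.liftQ ℓ hV
  have hū : ∀ p, ū (V.mkQ p) = V.mkQ (w₀ (D R B (φ p))) := fun p => rfl
  have hū1 : ∀ m, ū m - m ∈ K₁ • (⊤ : Submodule B (P ⧸ V)) := by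
    intro m
    obtain ⟨p, rfl⟩ := V.mkQ_surjective m
    rw [hū, ← map_sub]
    have := Submodule.mem_map_of_mem (f := V.mkQ) (hw₀ p)
    rwa [Submodule.map_smul'', Submodule.map_top, Submodule.range_mkQ] at this
  obtain ⟨h₂, hh₂, Wb, hWb⟩ := exists_inverse_up_to K₁ ū hū1
  obtain ⟨W, hW⟩ := Module.projective_lifting_property V.mkQ (Wb ∘ₗ V.mkQ) V.mkQ_surjective
  refine ⟨h₂, hh₂, W, fun p => ?_⟩
  rw [← Submodule.Quotient.mk_eq_zero V, Submodule.Quotient.mk_sub, sub_eq_zero]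
  have := LinearMap.congr_fun hW (w₀ (D R B (φ p)))
  simp only [LinearMap.coe_comp, Function.comp_apply] at this
  change V.mkQ _ = _
  rw [this, ← hū, hWb]
  rfl

theorem exists_quotient_map {R B : Type u} [CommRing R] [CommRing B] [Algebra R B]
    (I : Ideal R) (K K₁ : Ideal B) (hKK₁ : K ≤ K₁) (hIK₁ : I.map (algebraMap R B) ≤ K₁)
    (h h₁ h₂ : B) (hh : h = h₁ * h₂) (hh1 : h - 1 ∈ K₁)
    (hh₁ : ∀ x ∈ K₁, h₁ * x ∈ K ⊔ I.map (algebraMap R B)) :
    ∃ χ : Localization.Away (Ideal.Quotient.mk K h) →+* B ⧸ K₁,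
      (∀ r, χ (algebraMap R _ r) = algebraMap R (B ⧸ K₁) r) ∧
      Function.Surjective χ ∧ RingHom.ker χ = I.map (algebraMap R _) := by
  let f₀ : B ⧸ K →+* B ⧸ K₁ := Ideal.Quotient.factor hKK₁
  have hf₀ : ∀ b, f₀ (Ideal.Quotient.mk K b) = Ideal.Quotient.mk K₁ b := fun b => rfl
  have h1 : Ideal.Quotient.mk K₁ h = 1 := by
    rw [← sub_eq_zero, ← map_one (Ideal.Quotient.mk K₁), ← map_sub]
    exact Ideal.Quotient.eq_zero_iff_mem.mpr hh1
  have hunit : IsUnit (f₀ (Ideal.Quotient.mk K h)) := by rw [hf₀, h1]; exact isUnit_one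
  let χ : Localization.Away (Ideal.Quotient.mk K h) →+* B ⧸ K₁ :=
    IsLocalization.Away.lift (Ideal.Quotient.mk K h) hunit
  have hχ : ∀ x, χ (algebraMap (B ⧸ K) _ x) = f₀ x := fun x =>
    IsLocalization.Away.lift_eq (Ideal.Quotient.mk K h) hunit x
  have hRA : ∀ r, algebraMap R (Localization.Away (Ideal.Quotient.mk K h)) r =
      algebraMap (B ⧸ K) _ (Ideal.Quotient.mk K (algebraMap R B r)) := fun r => by
    rw [IsScalarTower.algebraMap_apply R (B ⧸ K) (Localization.Away (Ideal.Quotient.mk K h))]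
    rfl
  refine ⟨χ, fun r => ?_, ?_, ?_⟩
  · rw [hRA, hχ, hf₀]; rfl
  · intro y
    obtain ⟨b, rfl⟩ := Ideal.Quotient.mk_surjective y
    exact ⟨algebraMap (B ⧸ K) _ (Ideal.Quotient.mk K b), by rw [hχ, hf₀]⟩
  · apply le_antisymm
    · intro a ha
      rw [RingHom.mem_ker] at ha
      obtain ⟨n, x, hx⟩ := IsLocalization.Away.surj (Ideal.Quotient.mk K h) a
      obtain ⟨b, rfl⟩ := Ideal.Quotient.mk_surjective x
      have hb : b ∈ K₁ := by
        have := congrArg χ hx
        rw [map_mul, ha, zero_mul, hχ, hf₀] at this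
        exact Ideal.Quotient.eq_zero_iff_mem.mp this.symm
      have hu : IsUnit (algebraMap (B ⧸ K) (Localization.Away (Ideal.Quotient.mk K h))
          (Ideal.Quotient.mk K h)) := IsLocalization.Away.algebraMap_isUnit _
      have hu₁ : IsUnit (algebraMap (B ⧸ K) (Localization.Away (Ideal.Quotient.mk K h))
          (Ideal.Quotient.mk K h₁)) := by
        have e : algebraMap (B ⧸ K) (Localization.Away (Ideal.Quotient.mk K h))
            (Ideal.Quotient.mk K h) = algebraMap (B ⧸ K) _ (Ideal.Quotient.mk K h₁) *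
              algebraMap (B ⧸ K) _ (Ideal.Quotient.mk K h₂) := by
          rw [← map_mul, ← map_mul]
          exact congrArg (fun x => algebraMap (B ⧸ K) (Localization.Away (Ideal.Quotient.mk K h))
            (Ideal.Quotient.mk K x)) hh
        rw [e] at hu
        exact isUnit_of_mul_isUnit_left hu
      have key : algebraMap (B ⧸ K) (Localization.Away (Ideal.Quotient.mk K h))
          (Ideal.Quotient.mk K (h₁ * b)) ∈ I.map (algebraMap R _) := by
        obtain ⟨k, hk, i, hi, hki⟩ := Submodule.mem_sup.mp (hh₁ b hb)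
        rw [← hki, map_add, Ideal.Quotient.eq_zero_iff_mem.mpr hk, zero_add]
        have : I.map (algebraMap R B) ≤ (I.map (algebraMap R
            (Localization.Away (Ideal.Quotient.mk K h)))).comap
            ((algebraMap (B ⧸ K) _).comp (Ideal.Quotient.mk K)) := by
          rw [Ideal.map_le_iff_le_comap]
          intro r hr
          rw [Ideal.mem_comap, Ideal.mem_comap, RingHom.comp_apply, ← hRA]
          exact Ideal.mem_map_of_mem _ hr
        exact this hi
      rw [map_mul, map_mul] at key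
      have key2 := (Ideal.unit_mul_mem_iff_mem _ hu₁).mp key
      rw [← hx] at key2
      exact (Ideal.mul_unit_mem_iff_mem _ (hu.pow n)).mp key2
    · rw [Ideal.map_le_iff_le_comap]
      intro r hr
      rw [Ideal.mem_comap, RingHom.mem_ker, hRA, hχ, hf₀]
      exact Ideal.Quotient.eq_zero_iff_mem.mpr (hIK₁ (Ideal.mem_map_of_mem _ hr))

theorem exists_smooth_of_data {R B : Type u} [CommRing R] [CommRing B] [Algebra R B]
    [Algebra.Smooth R B]
    (I : Ideal R) (K₁ K₁'' : Ideal B) (hK₁fg : K₁''.FG)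
    (hK₁ : K₁ = K₁'' ⊔ I.map (algebraMap R B))
    {P : Type u} [AddCommGroup P] [Module B P] [Module.Finite B P] [Module.Projective B P]
    {N : Type u} [AddCommGroup N] [Module B N]
    (e : P →ₗ[B] N) (he : Function.Surjective e) (hker : LinearMap.ker e = K₁ • ⊤)
    (d₀ : Ω[B⁄R] →ₗ[B] N)
    (hc1 : ∀ n : N, ∃ k ∈ K₁, d₀ (D R B k) = n)
    (hc2 : ∀ k ∈ K₁, d₀ (D R B k) = 0 → k ∈ K₁ ^ 2 ⊔ I.map (algebraMap R B)) :
    ∃ (A : Type u) (_ : CommRing A) (_ : Algebra R A), Algebra.Smooth R A ∧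
      ∃ χ : A →+* B ⧸ K₁, (∀ r, χ (algebraMap R A r) = algebraMap R (B ⧸ K₁) r) ∧
        Function.Surjective χ ∧ RingHom.ker χ = I.map (algebraMap R A) := by
  have hIK₁ : I.map (algebraMap R B) ≤ K₁ := hK₁ ▸ le_sup_right
  -- K₁ kills N
  have hKN : ∀ k ∈ K₁, ∀ n : N, k • n = 0 := by
    intro k hk n
    obtain ⟨p, rfl⟩ := he n
    rw [← map_smul, ← LinearMap.mem_ker, hker]
    exact Submodule.smul_mem_smul hk Submodule.mem_top
  -- the class map
  let c : K₁ →ₗ[B] N :=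
    { toFun := fun k => d₀ (D R B (k : B))
      map_add' := fun x y => by simp
      map_smul' := fun b k => by
        simp only [Submodule.coe_smul_of_tower, smul_eq_mul, Derivation.leibniz, map_add, map_smul,
          RingHom.id_apply]
        rw [hKN _ k.2, add_zero] }
  have hc : ∀ k : K₁, c k = d₀ (D R B (k : B)) := fun k => rfl
  have csurj : Function.Surjective c := by
    intro n
    obtain ⟨k, hk, hkn⟩ := hc1 n
    exact ⟨⟨k, hk⟩, hkn⟩
  obtain ⟨φ₀, hφ₀⟩ := Module.projective_lifting_property c e csurj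
  let φ : P →ₗ[B] B := (Submodule.subtype K₁) ∘ₗ φ₀
  have hφ1 : ∀ p, φ p ∈ K₁ := fun p => (φ₀ p).2
  have hφ2 : ∀ p, d₀ (D R B (φ p)) = e p := fun p => LinearMap.congr_fun hφ₀ p
  let K : Ideal B := LinearMap.range φ
  have hKmem : ∀ p, φ p ∈ K := fun p => LinearMap.mem_range_self φ p
  have hKK₁ : K ≤ K₁ := by rintro _ ⟨p, rfl⟩; exact hφ1 p
  have hKfg : K.FG := by
    have : (⊤ : Submodule B P).FG := Module.Finite.fg_top
    have := this.map φ
    rwa [Submodule.map_top] at this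
  -- K₁ ≤ K ⊔ K₁² ⊔ IB
  have hle : K₁ ≤ (K ⊔ I.map (algebraMap R B)) ⊔ K₁ • K₁'' := by
    intro k hk
    obtain ⟨p, hp⟩ := he (d₀ (D R B k))
    have h0 : d₀ (D R B (k - φ p)) = 0 := by
      rw [map_sub, map_sub, hφ2, hp, sub_self]
    have h1 := hc2 (k - φ p) (K₁.sub_mem hk (hφ1 p)) h0
    have h2 : K₁ ^ 2 ≤ K₁ • K₁'' ⊔ I.map (algebraMap R B) := by
      rw [pow_two]
      calc K₁ * K₁ = K₁ * (K₁'' ⊔ I.map (algebraMap R B)) := congrArg (K₁ * ·) hK₁
        _ = K₁ * K₁'' ⊔ K₁ * I.map (algebraMap R B) := Ideal.mul_sup _ _ _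
        _ ≤ _ := sup_le_sup le_rfl Ideal.mul_le_right
    have h3 : k - φ p ∈ (K ⊔ I.map (algebraMap R B)) ⊔ K₁ • K₁'' := by
      have h5 : K₁ ^ 2 ⊔ I.map (algebraMap R B) ≤ (K ⊔ I.map (algebraMap R B)) ⊔ K₁ • K₁'' := by
        refine sup_le (h2.trans (sup_le le_sup_right ?_)) ?_
        · exact le_sup_right.trans le_sup_left
        · exact le_sup_right.trans le_sup_left
      exact h5 h1
    have h4 : φ p ∈ (K ⊔ I.map (algebraMap R B)) ⊔ K₁ • K₁'' :=
      (le_sup_left.trans le_sup_left : K ≤ _) (hKmem p)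
    have := Ideal.add_mem _ h3 h4
    rwa [sub_add_cancel] at this
  obtain ⟨h₁, hh₁1, hh₁2⟩ := Submodule.exists_sub_one_mem_and_smul_le_of_fg_of_le_sup
    (I := K₁) (N := K ⊔ I.map (algebraMap R B)) (N' := K₁'') (P := K₁) hK₁fg
    (hK₁ ▸ le_sup_left) hle
  have hh₁3 : ∀ x ∈ K₁, h₁ * x ∈ K ⊔ I.map (algebraMap R B) := fun x hx =>
    hh₁2 (Submodule.smul_mem_pointwise_smul x h₁ K₁ hx)
  -- w₀
  obtain ⟨w₀, hw₀⟩ := Module.projective_lifting_property e d₀ he
  have hw₀1 : ∀ p, w₀ (D R B (φ p)) - p ∈ K₁ • (⊤ : Submodule B P) := by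
    intro p
    rw [← hker, LinearMap.mem_ker, map_sub, sub_eq_zero]
    have := LinearMap.congr_fun hw₀ (D R B (φ p))
    simp only [LinearMap.coe_comp, Function.comp_apply] at this
    rw [this, hφ2]
  obtain ⟨h₂, hh₂, W, hW⟩ := exists_correction K K₁ φ hKmem w₀ hw₀1
  have hh1 : h₁ * h₂ - 1 ∈ K₁ := by
    have : h₁ * h₂ - 1 = (h₁ - 1) * h₂ + (h₂ - 1) := by ring
    rw [this]
    exact K₁.add_mem (K₁.mul_mem_right _ hh₁1) hh₂
  haveI : Algebra.FinitePresentation R (B ⧸ K) := Algebra.FinitePresentation.quotient hKfg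
  haveI : Algebra.FinitePresentation (B ⧸ K) (Localization.Away (Ideal.Quotient.mk K (h₁ * h₂))) :=
    IsLocalization.Away.finitePresentation (Ideal.Quotient.mk K (h₁ * h₂))
  haveI : Algebra.FinitePresentation R (Localization.Away (Ideal.Quotient.mk K (h₁ * h₂))) :=
    Algebra.FinitePresentation.trans R (B ⧸ K) _
  have hu₂ : IsUnit (algebraMap (B ⧸ K) (Localization.Away (Ideal.Quotient.mk K (h₁ * h₂)))
      (Ideal.Quotient.mk K h₂)) := by
    have hu := IsLocalization.Away.algebraMap_isUnit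
      (S := Localization.Away (Ideal.Quotient.mk K (h₁ * h₂))) (Ideal.Quotient.mk K (h₁ * h₂))
    rw [map_mul, map_mul] at hu
    exact isUnit_of_mul_isUnit_right hu
  haveI : Algebra.FormallySmooth R (Localization.Away (Ideal.Quotient.mk K (h₁ * h₂))) :=
    formallySmooth_localization_quotient K φ hKmem (fun k hk => hk) (W ∘ₗ w₀) (h₁ * h₂) h₂ hu₂ hW
  obtain ⟨χ, hχ1, hχ2, hχ3⟩ := exists_quotient_map I K K₁ hKK₁ hIK₁ (h₁ * h₂) h₁ h₂ rfl hh1 hh₁3
  exact ⟨Localization.Away (Ideal.Quotient.mk K (h₁ * h₂)), inferInstance, inferInstance,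
    ⟨inferInstance, inferInstance⟩, χ, hχ1, hχ2, hχ3⟩

end Groth.Agent.Lib.helper22.SmoothLiftCore
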