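import Mathlib

/-!
# Intertwiners of operator families and flat base change (towards Noether–Deuring)
-/

open TensorProduct

namespace Groth.Agent.Lib.helper22.ND

section Defs

variable {A : Type*} [CommSemiring A] {S : Type*}
variable {V W U : Type*} [AddCommMonoid V] [Module A V] [AddCommMonoid W] [Module A W]
  [AddCommMonoid U] [Module A U]

/-- `A`-linear maps intertwining two families of operators. -/
def homS (ρV : S → V →ₗ[A] V) (ρW : S → W →ₗ[A] W) : Submodule A (V →ₗ[A] W) where
  carrier := {f | ∀ s, f ∘ₗ ρV s = ρW s ∘ₗ f}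
  add_mem' := by
    intro f g hf hg s
    rw [LinearMap.add_comp, LinearMap.comp_add, hf s, hg s]
  zero_mem' := by
    intro s
    simp
  smul_mem' := by
    intro c f hf s
    rw [LinearMap.smul_comp, LinearMap.comp_smul, hf s]

lemma mem_homS {ρV : S → V →ₗ[A] V} {ρW : S → W →ₗ[A] W} {f : V →ₗ[A] W} :
    f ∈ homS ρV ρW ↔ ∀ s, f ∘ₗ ρV s = ρW s ∘ₗ f := Iff.rfl

lemma homS_apply {ρV : S → V →ₗ[A] V} {ρW : S → W →ₗ[A] W} {f : V →ₗ[A] W}
    (hf : f ∈ homS ρV ρW) (s : S) (v : V) : f (ρV s v) = ρW s (f v) :=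
  LinearMap.congr_fun (hf s) v

lemma comp_mem_homS {ρV : S → V →ₗ[A] V} {ρW : S → W →ₗ[A] W} {ρU : S → U →ₗ[A] U}
    {f : V →ₗ[A] W} {g : W →ₗ[A] U} (hf : f ∈ homS ρV ρW) (hg : g ∈ homS ρW ρU) :
    g ∘ₗ f ∈ homS ρV ρU := by
  intro s
  rw [LinearMap.comp_assoc, hf s, ← LinearMap.comp_assoc, hg s, LinearMap.comp_assoc]

lemma id_mem_homS (ρV : S → V →ₗ[A] V) : LinearMap.id ∈ homS ρV ρV := by
  intro s
  simp

end Defs

section Comm

variable {A : Type*} [CommRing A] {S : Type*}
variable {V W : Type*} [AddCommGroup V] [Module A V] [AddCommGroup W] [Module A W]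

/-- the commutator-type operator `f ↦ f ∘ ρV s - ρW s ∘ f` -/
def comm (ρV : S → V →ₗ[A] V) (ρW : S → W →ₗ[A] W) (s : S) :
    (V →ₗ[A] W) →ₗ[A] (V →ₗ[A] W) :=
  LinearMap.lcomp A W (ρV s) - LinearMap.llcomp A V W W (ρW s)

@[simp] lemma comm_apply (ρV : S → V →ₗ[A] V) (ρW : S → W →ₗ[A] W) (s : S) (f : V →ₗ[A] W) :
    comm ρV ρW s f = f ∘ₗ ρV s - ρW s ∘ₗ f := rfl

lemma mem_homS_iff_comm {ρV : S → V →ₗ[A] V} {ρW : S → W →ₗ[A] W} {f : V →ₗ[A] W} :
    f ∈ homS ρV ρW ↔ ∀ s, comm ρV ρW s f = 0 := by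
  simp only [mem_homS, comm_apply, sub_eq_zero]

end Comm

section BaseChange

variable {A : Type*} [CommSemiring A] (A' : Type*) [CommSemiring A'] [Algebra A A'] {S : Type*}
variable {V W : Type*} [AddCommMonoid V] [Module A V] [AddCommMonoid W] [Module A W]

/-- base change of a family of operators -/
def bcρ (ρV : S → V →ₗ[A] V) : S → (A' ⊗[A] V) →ₗ[A'] (A' ⊗[A] V) :=
  fun s => (ρV s).baseChange A'

lemma baseChange_mem_homS {ρV : S → V →ₗ[A] V} {ρW : S → W →ₗ[A] W} {f : V →ₗ[A] W}
    (hf : f ∈ homS ρV ρW) : f.baseChange A' ∈ homS (bcρ A' ρV) (bcρ A' ρW) := by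
  intro s
  unfold bcρ
  rw [← LinearMap.baseChange_comp, ← LinearMap.baseChange_comp, hf s]

end BaseChange

section BaseChangeComm

variable {A : Type*} [CommRing A] (A' : Type*) [CommRing A'] [Algebra A A'] {S : Type*}
variable {V W : Type*} [AddCommGroup V] [Module A V] [AddCommGroup W] [Module A W]

lemma comm_baseChange (ρV : S → V →ₗ[A] V) (ρW : S → W →ₗ[A] W) (s : S) (f : V →ₗ[A] W) :
    comm (bcρ A' ρV) (bcρ A' ρW) s (f.baseChange A') = (comm ρV ρW s f).baseChange A' := by
  simp only [comm_apply, bcρ, LinearMap.baseChange_sub, LinearMap.baseChange_comp]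

end BaseChangeComm


section Main

variable {A : Type*} [CommRing A] [IsNoetherianRing A] (A' : Type*) [CommRing A'] [Algebra A A']
  {S : Type*}
variable {V W : Type*} [AddCommGroup V] [Module A V] [AddCommGroup W] [Module A W]
  [Module.Finite A V] [Module.Finite A W]
variable (ρV : S → V →ₗ[A] V) (ρW : S → W →ₗ[A] W)

/-- finitely many operators suffice to cut out the intertwiners -/
lemma exists_finset_homS : ∃ F : Finset S, ∀ f : V →ₗ[A] W,
    (∀ s ∈ F, comm ρV ρW s f = 0) → f ∈ homS ρV ρW := by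
  classical
  have : IsNoetherian A W := isNoetherian_of_isNoetherianRing_of_finite A W
  have : IsNoetherian A (V →ₗ[A] W) := isNoetherian_linearMap A W V
  have : IsNoetherian A ((V →ₗ[A] W) →ₗ[A] (V →ₗ[A] W)) := isNoetherian_linearMap A _ _
  have hfg : (Submodule.span A (Set.range (comm ρV ρW))).FG := IsNoetherian.noetherian _
  obtain ⟨s', hs', hspan⟩ := (Submodule.fg_span_iff_fg_span_finset_subset _).1 hfg
  have hs'' : (s' : Set _) ⊆ (comm ρV ρW) '' Set.univ := by rwa [Set.image_univ]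
  obtain ⟨F, -, hF⟩ := Finset.subset_set_image_iff.1 hs''
  refine ⟨F, fun f hf => ?_⟩
  have key : ∀ t ∈ Submodule.span A (s' : Set ((V →ₗ[A] W) →ₗ[A] (V →ₗ[A] W))), t f = 0 := by
    intro t ht
    induction ht using Submodule.span_induction with
    | mem t ht =>
      rw [← hF] at ht
      obtain ⟨s, hs, rfl⟩ := Finset.mem_image.1 (by simpa using ht)
      exact hf s hs
    | zero => simp
    | add x y _ _ hx hy => rw [LinearMap.add_apply, hx, hy, add_zero]
    | smul c x _ hx => rw [LinearMap.smul_apply, hx, smul_zero]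
  rw [mem_homS_iff_comm]
  intro s
  apply key
  rw [← hspan]
  exact Submodule.subset_span ⟨s, rfl⟩

variable [Module.Flat A A']

theorem homS_baseChange_eq :
    homS (bcρ A' ρV) (bcρ A' ρW) =
      Submodule.span A' ((LinearMap.baseChangeHom A A' V W) ''
        (homS ρV ρW : Set (V →ₗ[A] W))) := by
  classical
  apply le_antisymm
  · intro f' hf'
    have := Module.finitePresentation_of_finite A V
    have hbc : IsBaseChange A' (LinearMap.baseChangeHom A A' V W) :=
      Module.FinitePresentation.isBaseChange_map A V W A'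
    obtain ⟨F, hF⟩ := exists_finset_homS ρV ρW
    set Φ₀ : (V →ₗ[A] W) →ₗ[A] (F → (V →ₗ[A] W)) :=
      LinearMap.pi (fun s : F => comm ρV ρW s.1) with hΦ₀
    have hker : ∀ f, f ∈ LinearMap.ker Φ₀ → f ∈ homS ρV ρW := by
      intro f hf
      apply hF
      intro s hs
      have := congrFun (LinearMap.mem_ker.1 hf) ⟨s, hs⟩
      simpa [hΦ₀] using this
    have hcompat : ∀ (y : A' ⊗[A] (V →ₗ[A] W)) (s : F),
        hbc.equiv (TensorProduct.piRight A A' A' (fun _ : F => (V →ₗ[A] W))
          (Φ₀.baseChange A' y) s) = comm (bcρ A' ρV) (bcρ A' ρW) s.1 (hbc.equiv y) := by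
      intro y s
      induction y using TensorProduct.induction_on with
      | zero => simp only [map_zero, Pi.zero_apply]
      | tmul a f =>
        rw [LinearMap.baseChange_tmul, TensorProduct.piRight_apply,
          TensorProduct.piRightHom_tmul, hbc.equiv_tmul, hbc.equiv_tmul, map_smul]
        congr 1
        rw [LinearMap.baseChangeHom_apply, LinearMap.baseChangeHom_apply, comm_baseChange]
        rfl
      | add x y hx hy =>
        rw [map_add, map_add, Pi.add_apply, map_add, hx, hy, map_add, map_add]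
    set x := hbc.equiv.symm f' with hx
    have hx0 : Φ₀.baseChange A' x = 0 := by
      apply (TensorProduct.piRight A A' A' (fun _ : F => (V →ₗ[A] W))).injective
      rw [map_zero]
      funext s
      apply hbc.equiv.injective
      rw [hcompat, hx, LinearEquiv.apply_symm_apply, Pi.zero_apply, map_zero]
      exact mem_homS_iff_comm.1 hf' s.1
    have hx1 : x ∈ LinearMap.range ((LinearMap.ker Φ₀).subtype.baseChange A') := by
      have h1 := Module.Flat.ker_lTensor_eq A' A' Φ₀
      have h2 : x ∈ LinearMap.ker (AlgebraTensorModule.lTensor A' A' Φ₀) := hx0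
      rw [h1] at h2
      exact h2
    obtain ⟨z, hz⟩ := hx1
    have hf'x : f' = hbc.equiv x := by rw [hx, LinearEquiv.apply_symm_apply]
    rw [hf'x, ← hz]
    clear hz hf'x hx0 hx
    induction z using TensorProduct.induction_on with
    | zero => simp
    | tmul a f =>
      rw [LinearMap.baseChange_tmul, hbc.equiv_tmul]
      apply Submodule.smul_mem
      apply Submodule.subset_span
      exact ⟨f.1, hker f.1 f.2, rfl⟩
    | add x y hx hy =>
      rw [map_add, map_add]
      exact Submodule.add_mem _ hx hy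
  · rw [Submodule.span_le]
    rintro _ ⟨f, hf, rfl⟩
    exact baseChange_mem_homS A' hf

/-- the comparison map `A' ⊗ Hom_S(V,W) → Hom_{A'}(A'⊗V, A'⊗W)` -/
noncomputable def tensorHomSAux :
    A' ⊗[A] ↥(homS ρV ρW) →ₗ[A'] (A' ⊗[A] V →ₗ[A'] A' ⊗[A] W) :=
  LinearMap.liftBaseChange A' ((LinearMap.baseChangeHom A A' V W) ∘ₗ (homS ρV ρW).subtype)

omit [IsNoetherianRing A] [Module.Finite A V] [Module.Finite A W] [Module.Flat A A'] in
@[simp] lemma tensorHomSAux_tmul (a : A') (f : ↥(homS ρV ρW)) :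
    tensorHomSAux A' ρV ρW (a ⊗ₜ f) = a • f.1.baseChange A' := by
  simp [tensorHomSAux]

omit [IsNoetherianRing A] [Module.Finite A V] [Module.Finite A W] [Module.Flat A A'] in
lemma tensorHomSAux_mem (z : A' ⊗[A] ↥(homS ρV ρW)) :
    tensorHomSAux A' ρV ρW z ∈ homS (bcρ A' ρV) (bcρ A' ρW) := by
  induction z using TensorProduct.induction_on with
  | zero => simp
  | tmul a f =>
    rw [tensorHomSAux_tmul]
    exact Submodule.smul_mem _ _ (baseChange_mem_homS A' f.2)
  | add x y hx hy =>
    rw [map_add]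
    exact Submodule.add_mem _ hx hy

lemma tensorHomSAux_injective : Function.Injective (tensorHomSAux A' ρV ρW) := by
  have := Module.finitePresentation_of_finite A V
  have hbc : IsBaseChange A' (LinearMap.baseChangeHom A A' V W) :=
    Module.FinitePresentation.isBaseChange_map A V W A'
  have h1 : tensorHomSAux A' ρV ρW =
      hbc.equiv.toLinearMap ∘ₗ ((homS ρV ρW).subtype.baseChange A') := by
    apply TensorProduct.AlgebraTensorModule.curry_injective
    ext a f
    simp [hbc.equiv_tmul]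
  rw [h1]
  exact hbc.equiv.injective.comp
    (Module.Flat.lTensor_preserves_injective_linearMap _ (homS ρV ρW).injective_subtype)

lemma tensorHomSAux_range :
    LinearMap.range (tensorHomSAux A' ρV ρW) = homS (bcρ A' ρV) (bcρ A' ρW) := by
  apply le_antisymm
  · rintro _ ⟨z, rfl⟩
    exact tensorHomSAux_mem A' ρV ρW z
  · rw [homS_baseChange_eq, Submodule.span_le]
    rintro _ ⟨f, hf, rfl⟩
    exact ⟨1 ⊗ₜ ⟨f, hf⟩, by simp⟩

/-- flat base change for intertwiners, as an equivalence -/
noncomputable def tensorHomS :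
    A' ⊗[A] ↥(homS ρV ρW) ≃ₗ[A'] ↥(homS (bcρ A' ρV) (bcρ A' ρW)) :=
  LinearEquiv.ofBijective
    ((tensorHomSAux A' ρV ρW).codRestrict _ (tensorHomSAux_mem A' ρV ρW))
    ⟨fun x y h => tensorHomSAux_injective A' ρV ρW (by
        have := congrArg Subtype.val h
        simpa using this),
     fun y => by
        have hy : y.1 ∈ LinearMap.range (tensorHomSAux A' ρV ρW) := by
          rw [tensorHomSAux_range]; exact y.2
        obtain ⟨z, hz⟩ := hy
        exact ⟨z, Subtype.ext (by simpa using hz)⟩⟩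

@[simp] lemma tensorHomS_tmul (a : A') (f : ↥(homS ρV ρW)) :
    (tensorHomS A' ρV ρW (a ⊗ₜ f) : A' ⊗[A] V →ₗ[A'] A' ⊗[A] W) = a • f.1.baseChange A' := by
  simp [tensorHomS]

lemma tensorHomS_coe (z : A' ⊗[A] ↥(homS ρV ρW)) :
    (tensorHomS A' ρV ρW z : A' ⊗[A] V →ₗ[A'] A' ⊗[A] W) = tensorHomSAux A' ρV ρW z := by
  simp [tensorHomS]

end Main

end Groth.Agent.Lib.helper22.ND
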