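import Mathlib
import Groth.Agent.Lib.Helper22.ND1

/-!
# Noether–Deuring over an infinite field (operator-family form)
-/

open TensorProduct

namespace Groth.Agent.Lib.helper22.ND

section Field

variable {k : Type*} [Field k] {K : Type*} [Field K] [Algebra k K] {S : Type*}
variable {N M : Type*} [AddCommGroup N] [Module k N] [AddCommGroup M] [Module k M]
  [Module.Finite k N] [Module.Finite k M]
variable (ρN : S → N →ₗ[k] N) (ρM : S → M →ₗ[k] M)

lemma finrank_homS_baseChange :
    Module.finrank K ↥(homS (bcρ K ρN) (bcρ K ρM)) = Module.finrank k ↥(homS ρN ρM) := by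
  rw [← (tensorHomS K ρN ρM).finrank_eq, Module.finrank_baseChange]

omit [Module.Finite k N] [Module.Finite k M] in
lemma finrank_eq_of_baseChange_equiv [Module.Finite k N] [Module.Finite k M]
    (θ : K ⊗[k] N ≃ₗ[K] K ⊗[k] M) :
    Module.finrank k M = Module.finrank k N := by
  have := θ.finrank_eq
  rw [Module.finrank_baseChange, Module.finrank_baseChange] at this
  exact this.symm

theorem exists_equiv_of_infinite [Infinite k] (θ : K ⊗[k] N ≃ₗ[K] K ⊗[k] M)
    (hθ : θ.toLinearMap ∈ homS (bcρ K ρN) (bcρ K ρM)) :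
    ∃ h : N ≃ₗ[k] M, h.toLinearMap ∈ homS ρN ρM := by
  classical
  -- bases
  have hM : Module.finrank k M = Module.finrank k N := finrank_eq_of_baseChange_equiv θ
  set n := Module.finrank k N with hn
  let bN : Module.Basis (Fin n) k N := Module.finBasis k N
  let bM : Module.Basis (Fin n) k M := Module.finBasisOfFinrankEq k M hM
  let b := Module.finBasis k ↥(homS ρN ρM)
  set r := Module.finrank k ↥(homS ρN ρM) with hr
  -- coordinates of θ
  set z := (tensorHomS K ρN ρM).symm ⟨θ.toLinearMap, hθ⟩ with hz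
  let bK := Algebra.TensorProduct.basis K b
  let y : Fin r → K := fun j => bK.repr z j
  have hzsum : z = ∑ j, y j • ((1 : K) ⊗ₜ[k] b j) := by
    conv_lhs => rw [← bK.sum_repr z]
    apply Finset.sum_congr rfl
    intro j _
    simp [bK, y]
  have hθsum : θ.toLinearMap = ∑ j, y j • (b j).1.baseChange K := by
    have h1 : (tensorHomS K ρN ρM z : K ⊗[k] N →ₗ[K] K ⊗[k] M) = θ.toLinearMap := by
      rw [hz, LinearEquiv.apply_symm_apply]
    rw [← h1, hzsum, map_sum]
    simp
  -- the matrices
  let Mj : Fin r → Matrix (Fin n) (Fin n) k := fun j => LinearMap.toMatrix bN bM (b j).1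
  let P : MvPolynomial (Fin r) k :=
    Matrix.det (∑ j, (MvPolynomial.X j : MvPolynomial (Fin r) k) • (Mj j).map MvPolynomial.C)
  have hPeval : ∀ x : Fin r → k, MvPolynomial.eval x P =
      (LinearMap.toMatrix bN bM (∑ j, x j • (b j).1)).det := by
    intro x
    simp only [P]
    rw [RingHom.map_det]
    congr 1
    ext i l
    simp [Matrix.sum_apply, Mj, map_sum]
  have hPaeval : MvPolynomial.aeval y P =
      (LinearMap.toMatrix (Algebra.TensorProduct.basis K bN) (Algebra.TensorProduct.basis K bM)
        θ.toLinearMap).det := by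
    simp only [P]
    rw [AlgHom.map_det]
    congr 1
    rw [hθsum]
    ext i l
    simp [Matrix.sum_apply, Mj, map_sum, LinearMap.toMatrix_baseChange]
  have hunit : IsUnit (LinearMap.toMatrix (Algebra.TensorProduct.basis K bN)
      (Algebra.TensorProduct.basis K bM) θ.toLinearMap).det :=
    LinearEquiv.isUnit_det θ _ _
  have hP0 : P ≠ 0 := by
    intro h0
    rw [h0, map_zero] at hPaeval
    rw [← hPaeval] at hunit
    exact not_isUnit_zero hunit
  obtain ⟨x, hx⟩ : ∃ x : Fin r → k, MvPolynomial.eval x P ≠ 0 := by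
    by_contra hcon
    push Not at hcon
    apply hP0
    apply MvPolynomial.funext
    intro x
    rw [hcon x, map_zero]
  rw [hPeval] at hx
  set h0 : N →ₗ[k] M := ∑ j, x j • (b j).1 with hh0
  have hh0mem : h0 ∈ homS ρN ρM :=
    Submodule.sum_mem _ (fun j _ => Submodule.smul_mem _ _ (b j).2)
  refine ⟨LinearEquiv.ofIsUnitDet (f := h0) (v := bN) (v' := bM) (isUnit_iff_ne_zero.2 hx), ?_⟩
  have : (LinearEquiv.ofIsUnitDet (f := h0) (v := bN) (v' := bM)
      (isUnit_iff_ne_zero.2 hx)).toLinearMap = h0 := by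
    ext v
    simp
  rw [this]
  exact hh0mem

end Field

end Groth.Agent.Lib.helper22.ND
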