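import Mathlib
import Groth.Agent.Lib.Helper22.ND1
import Groth.Agent.Lib.Helper22.ND2

/-!
# Noether–Deuring over a finite field, by counting homomorphisms
-/

open TensorProduct

namespace Groth.Agent.Lib.helper22.ND

section Precomp

variable {A : Type*} [CommSemiring A] {S : Type*}
variable {V W U : Type*} [AddCommMonoid V] [Module A V] [AddCommMonoid W] [Module A W]
  [AddCommMonoid U] [Module A U]
variable {ρV : S → V →ₗ[A] V} {ρW : S → W →ₗ[A] W} (ρU : S → U →ₗ[A] U)

lemma symm_mem_homS (θ : V ≃ₗ[A] W) (hθ : θ.toLinearMap ∈ homS ρV ρW) :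
    θ.symm.toLinearMap ∈ homS ρW ρV := by
  intro s
  ext w
  apply θ.injective
  have := homS_apply hθ s (θ.symm w)
  simp only [LinearEquiv.coe_coe, LinearEquiv.apply_symm_apply] at this
  simp [this]

/-- precomposition with an intertwining equivalence -/
noncomputable def precompEquiv (θ : V ≃ₗ[A] W) (hθ : θ.toLinearMap ∈ homS ρV ρW) :
    ↥(homS ρW ρU) ≃ₗ[A] ↥(homS ρV ρU) where
  toFun f := ⟨f.1 ∘ₗ θ.toLinearMap, comp_mem_homS hθ f.2⟩
  invFun g := ⟨g.1 ∘ₗ θ.symm.toLinearMap, comp_mem_homS (symm_mem_homS θ hθ) g.2⟩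
  map_add' f g := by
    apply Subtype.ext
    simp [LinearMap.add_comp]
  map_smul' c f := by
    apply Subtype.ext
    simp [LinearMap.smul_comp]
  left_inv f := by
    apply Subtype.ext
    ext w
    simp
  right_inv g := by
    apply Subtype.ext
    ext v
    simp

end Precomp

section Restrict

variable {A : Type*} [CommRing A] {S : Type*}
variable {V W : Type*} [AddCommGroup V] [Module A V] [AddCommGroup W] [Module A W]
variable (ρV : S → V →ₗ[A] V) (ρW : S → W →ₗ[A] W)

/-- invariant submodules -/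
def IsInv (Y : Submodule A W) : Prop := ∀ s, ∀ y ∈ Y, ρW s y ∈ Y

variable {ρW}

/-- restricted operators -/
def restrictρ {Y : Submodule A W} (hY : IsInv ρW Y) : S → ↥Y →ₗ[A] ↥Y :=
  fun s => (ρW s).restrict (hY s)

variable {ρV}

lemma range_isInv {f : V →ₗ[A] W} (hf : f ∈ homS ρV ρW) : IsInv ρW (LinearMap.range f) := by
  rintro s _ ⟨v, rfl⟩
  exact ⟨ρV s v, homS_apply hf s v⟩

variable (ρV)

/-- intertwiners with range in an invariant submodule -/
noncomputable def rangeLeEquiv {Y : Submodule A W} (hY : IsInv ρW Y) :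
    {f : ↥(homS ρV ρW) // LinearMap.range f.1 ≤ Y} ≃ ↥(homS ρV (restrictρ hY)) where
  toFun f := ⟨LinearMap.codRestrict Y f.1.1 (fun v => f.2 ⟨v, rfl⟩), by
    intro s
    ext v
    simp [restrictρ, homS_apply f.1.2 s v]⟩
  invFun g := ⟨⟨Y.subtype ∘ₗ g.1, by
    intro s
    ext v
    have := homS_apply g.2 s v
    simp only [restrictρ] at this
    simp [this]⟩, by
    rintro _ ⟨v, rfl⟩
    simp⟩
  left_inv f := by
    apply Subtype.ext
    apply Subtype.ext
    ext v
    simp
  right_inv g := by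
    apply Subtype.ext
    ext v
    simp

end Restrict

section Counting

variable {k : Type*} [Field k] [Finite k] {S : Type*}
variable {X T : Type*} [AddCommGroup X] [Module k X] [AddCommGroup T] [Module k T]
  [Module.Finite k X] [Module.Finite k T]
variable (ρX : S → X →ₗ[k] X) (ρT : S → T →ₗ[k] T)

omit [Finite k] [Module.Finite k X] [Module.Finite k T] in
lemma finite_homS [Finite X] [Finite T] : Finite ↥(homS ρX ρT) := by
  have : Finite (X →ₗ[k] T) := DFunLike.finite _
  exact Subtype.finite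

/-- number of intertwiners with range exactly `Y` -/
noncomputable def sC (Y : Submodule k T) : ℕ :=
  Nat.card {f : ↥(homS ρX ρT) // LinearMap.range f.1 = Y}

/-- number of intertwiners with range inside `Y` -/
noncomputable def hC (Y : Submodule k T) : ℕ :=
  Nat.card {f : ↥(homS ρX ρT) // LinearMap.range f.1 ≤ Y}

lemma hC_eq_sum (Y : Submodule k T) [Fintype {Y' : Submodule k T // Y' ≤ Y}] :
    hC ρX ρT Y = ∑ Y' : {Y' : Submodule k T // Y' ≤ Y}, sC ρX ρT Y'.1 := by
  have : Finite X := Module.finite_of_finite k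
  have : Finite T := Module.finite_of_finite k
  have : Finite ↥(homS ρX ρT) := finite_homS ρX ρT
  let e : {f : ↥(homS ρX ρT) // LinearMap.range f.1 ≤ Y} ≃
      Σ Y' : {Y' : Submodule k T // Y' ≤ Y},
        {f : ↥(homS ρX ρT) // LinearMap.range f.1 = Y'.1} :=
    { toFun := fun f => ⟨⟨LinearMap.range f.1.1, f.2⟩, ⟨f.1, rfl⟩⟩
      invFun := fun p => ⟨p.2.1, p.2.2.le.trans p.1.2⟩
      left_inv := fun f => rfl
      right_inv := by
        rintro ⟨⟨Y', hY'⟩, ⟨f, hf⟩⟩
        dsimp only at hf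
        subst hf
        rfl }
  unfold hC sC
  rw [Nat.card_congr e, Nat.card_sigma]

omit [Finite k] [Module.Finite k X] [Module.Finite k T] in
lemma sC_eq_zero_of_not_isInv {Y : Submodule k T} (hY : ¬ IsInv ρT Y) : sC ρX ρT Y = 0 := by
  unfold sC
  have : IsEmpty {f : ↥(homS ρX ρT) // LinearMap.range f.1 = Y} := by
    constructor
    rintro ⟨f, hf⟩
    apply hY
    rw [← hf]
    exact range_isInv f.2
  exact Nat.card_of_isEmpty

lemma hC_eq_pow {Y : Submodule k T} (hY : IsInv ρT Y) :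
    hC ρX ρT Y = Nat.card k ^ Module.finrank k ↥(homS ρX (restrictρ hY)) := by
  unfold hC
  rw [Nat.card_congr (rangeLeEquiv ρX hY)]
  exact Module.natCard_eq_pow_finrank (K := k) (V := ↥(homS ρX (restrictρ hY)))

end Counting

section FiniteField

variable {k : Type*} [Field k] [Finite k] {K : Type*} [Field K] [Algebra k K] {S : Type*}
variable {N M : Type*} [AddCommGroup N] [Module k N] [AddCommGroup M] [Module k M]
  [Module.Finite k N] [Module.Finite k M]
variable (ρN : S → N →ₗ[k] N) (ρM : S → M →ₗ[k] M)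

omit [Finite k] in
lemma finrank_homS_eq_of_baseChange_equiv {Y : Type*} [AddCommGroup Y] [Module k Y]
    [Module.Finite k Y] (ρY : S → Y →ₗ[k] Y)
    (θ : K ⊗[k] N ≃ₗ[K] K ⊗[k] M)
    (hθ : θ.toLinearMap ∈ homS (bcρ K ρN) (bcρ K ρM)) :
    Module.finrank k ↥(homS ρN ρY) = Module.finrank k ↥(homS ρM ρY) := by
  rw [← finrank_homS_baseChange (K := K) ρN ρY, ← finrank_homS_baseChange (K := K) ρM ρY]
  exact ((precompEquiv (bcρ K ρY) θ hθ).finrank_eq).symm

theorem sC_eq_of_baseChange_equiv (θ : K ⊗[k] N ≃ₗ[K] K ⊗[k] M)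
    (hθ : θ.toLinearMap ∈ homS (bcρ K ρN) (bcρ K ρM)) (Y : Submodule k M) :
    sC ρN ρM Y = sC ρM ρM Y := by
  classical
  have : Finite M := Module.finite_of_finite k
  have : Finite (Submodule k M) :=
    Finite.of_injective (fun Y : Submodule k M => (Y : Set M)) SetLike.coe_injective
  induction Y using WellFoundedLT.induction with
  | ind Y IH =>
    by_cases hY : IsInv ρM Y
    · have : Fintype {Y' : Submodule k M // Y' ≤ Y} := Fintype.ofFinite _
      have h1 := hC_eq_sum ρN ρM Y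
      have h2 := hC_eq_sum ρM ρM Y
      have h3 : hC ρN ρM Y = hC ρM ρM Y := by
        rw [hC_eq_pow ρN ρM hY, hC_eq_pow ρM ρM hY,
          finrank_homS_eq_of_baseChange_equiv ρN ρM (restrictρ hY) θ hθ]
      rw [h1, h2] at h3
      rw [← Finset.add_sum_erase Finset.univ (fun Y' : {Y' : Submodule k M // Y' ≤ Y} =>
          sC ρN ρM Y'.1) (Finset.mem_univ ⟨Y, le_rfl⟩),
        ← Finset.add_sum_erase Finset.univ (fun Y' : {Y' : Submodule k M // Y' ≤ Y} =>
          sC ρM ρM Y'.1) (Finset.mem_univ ⟨Y, le_rfl⟩)] at h3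
      have h4 : ∑ Y' ∈ Finset.univ.erase (⟨Y, le_rfl⟩ : {Y' : Submodule k M // Y' ≤ Y}),
          sC ρN ρM Y'.1 = ∑ Y' ∈ Finset.univ.erase (⟨Y, le_rfl⟩ :
            {Y' : Submodule k M // Y' ≤ Y}), sC ρM ρM Y'.1 := by
        apply Finset.sum_congr rfl
        intro Y' hY'
        apply IH
        refine lt_of_le_of_ne Y'.2 ?_
        intro h
        exact (Finset.ne_of_mem_erase hY') (Subtype.ext h)
      rw [h4] at h3
      exact Nat.add_right_cancel h3
    · rw [sC_eq_zero_of_not_isInv ρN ρM hY, sC_eq_zero_of_not_isInv ρM ρM hY]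

theorem exists_equiv_of_finite (θ : K ⊗[k] N ≃ₗ[K] K ⊗[k] M)
    (hθ : θ.toLinearMap ∈ homS (bcρ K ρN) (bcρ K ρM)) :
    ∃ h : N ≃ₗ[k] M, h.toLinearMap ∈ homS ρN ρM := by
  have : Finite M := Module.finite_of_finite k
  have : Finite N := Module.finite_of_finite k
  have h1 := sC_eq_of_baseChange_equiv ρN ρM θ hθ ⊤
  have h2 : 0 < sC ρM ρM ⊤ := by
    unfold sC
    have : Finite ↥(homS ρM ρM) := finite_homS ρM ρM
    have : Nonempty {f : ↥(homS ρM ρM) // LinearMap.range f.1 = ⊤} :=
      ⟨⟨⟨LinearMap.id, id_mem_homS ρM⟩, LinearMap.range_id⟩⟩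
    exact Nat.card_pos
  rw [← h1] at h2
  unfold sC at h2
  have : Finite ↥(homS ρN ρM) := finite_homS ρN ρM
  obtain ⟨⟨f, hf⟩⟩ := (Nat.card_pos_iff.1 h2).1
  have hsurj : Function.Surjective f.1 := LinearMap.range_eq_top.1 hf
  have hfr : Module.finrank k N = Module.finrank k M :=
    (finrank_eq_of_baseChange_equiv θ).symm
  have hinj : Function.Injective f.1 :=
    (LinearMap.injective_iff_surjective_of_finrank_eq_finrank hfr).2 hsurj
  refine ⟨LinearEquiv.ofBijective f.1 ⟨hinj, hsurj⟩, ?_⟩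
  have : (LinearEquiv.ofBijective f.1 ⟨hinj, hsurj⟩).toLinearMap = f.1 := by
    ext v
    simp
  rw [this]
  exact f.2

end FiniteField

section Combined

variable {k : Type*} [Field k] {K : Type*} [Field K] [Algebra k K] {S : Type*}
variable {N M : Type*} [AddCommGroup N] [Module k N] [AddCommGroup M] [Module k M]
  [Module.Finite k N] [Module.Finite k M]
variable (ρN : S → N →ₗ[k] N) (ρM : S → M →ₗ[k] M)

/-- **Noether–Deuring** over a field, for families of operators. -/
theorem exists_equiv_of_baseChange_equiv (θ : K ⊗[k] N ≃ₗ[K] K ⊗[k] M)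
    (hθ : θ.toLinearMap ∈ homS (bcρ K ρN) (bcρ K ρM)) :
    ∃ h : N ≃ₗ[k] M, h.toLinearMap ∈ homS ρN ρM := by
  rcases finite_or_infinite k with hk | hk
  · exact exists_equiv_of_finite ρN ρM θ hθ
  · exact exists_equiv_of_infinite ρN ρM θ hθ

end Combined

end Groth.Agent.Lib.helper22.ND
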