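import Mathlib

/-!
# Euler characteristic of a bounded cochain complex for an additive invariant

`euler`: for an invariant `φ` of objects of an abelian category, additive on short exact sequences
whose middle term satisfies `P`, the alternating sum of `φ` over the terms of a cochain complex
(vanishing outside a finite set of degrees) equals the alternating sum over the cohomology objects.
-/

namespace Groth.Agent.Lib.helper22.EulerChar
open CategoryTheory CategoryTheory.Limits

universe v u

section telescoping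
variable {G : Type*} [AddCommGroup G]

lemma telescoping (s : Finset ℤ) (ε : ℤ → ℤ) (hε : ∀ i, ε (i + 1) = - ε i) (b h x : ℤ → G)
    (hb : ∀ i, (i ∉ s ∨ i - 1 ∉ s) → b i = 0)
    (hx : ∀ i, x i = b i + h i + b (i + 1)) :
    ∑ i ∈ s, ε i • x i = ∑ i ∈ s, ε i • h i := by
  classical
  have h1 : ∑ i ∈ s, ε i • b (i + 1) = - ∑ i ∈ s, ε i • b i := by
    set t : Finset ℤ := s.map (addRightEmbedding 1) with ht
    have hmem : ∀ j, j ∈ t ↔ j - 1 ∈ s := by
      intro j
      rw [ht, Finset.mem_map]
      constructor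
      · rintro ⟨i, hi, rfl⟩
        simpa using hi
      · intro hj
        exact ⟨j - 1, hj, by simp⟩
    have h2 : ∑ i ∈ s, ε i • b (i + 1) = - ∑ j ∈ t, ε j • b j := by
      rw [ht, Finset.sum_map, ← Finset.sum_neg_distrib]
      apply Finset.sum_congr rfl
      intro i _
      simp only [addRightEmbedding_apply]
      rw [hε, neg_smul, neg_neg]
    have h3 : ∑ j ∈ t, ε j • b j = ∑ j ∈ s ∪ t, ε j • b j := by
      apply Finset.sum_subset Finset.subset_union_right
      intro j _ hj
      rw [hb j (Or.inr (fun h => hj ((hmem j).mpr h))), smul_zero]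
    have h4 : ∑ j ∈ s, ε j • b j = ∑ j ∈ s ∪ t, ε j • b j := by
      apply Finset.sum_subset Finset.subset_union_left
      intro j _ hj
      rw [hb j (Or.inl hj), smul_zero]
    rw [h2, h3, ← h4]
  calc ∑ i ∈ s, ε i • x i
      = ∑ i ∈ s, (ε i • b i + ε i • h i + ε i • b (i + 1)) := by
        apply Finset.sum_congr rfl
        intro i _
        rw [hx, smul_add, smul_add]
    _ = ∑ i ∈ s, ε i • b i + ∑ i ∈ s, ε i • h i + ∑ i ∈ s, ε i • b (i + 1) := by
        rw [Finset.sum_add_distrib, Finset.sum_add_distrib]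
    _ = ∑ i ∈ s, ε i • h i := by rw [h1]; abel

end telescoping

variable {C : Type u} [Category.{v} C] [Abelian C] {G : Type*} [AddCommGroup G]

/-- An invariant additive on short exact sequences whose middle term satisfies `P`. -/
structure IsAdditiveOn (φ : C → G) (P : C → Prop) : Prop where
  add : ∀ S : ShortComplex C, S.ShortExact → P S.X₂ → φ S.X₂ = φ S.X₁ + φ S.X₃
  iso : ∀ {X Y : C}, (X ≅ Y) → φ X = φ Y
  zero : ∀ X : C, IsZero X → φ X = 0
  mono : ∀ {X Y : C} (f : X ⟶ Y) [Mono f], P Y → P X

namespace IsAdditiveOn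

variable {φ : C → G} {P : C → Prop} (hφ : IsAdditiveOn φ P)
include hφ

lemma ker_add_image {X Y : C} (f : X ⟶ Y) (hX : P X) :
    φ X = φ (kernel f) + φ (Abelian.image f) := by
  have hex : (ShortComplex.mk (kernel.ι f) (Abelian.coimage.π f)
      (Abelian.comp_coimage_π_eq_zero (kernel.condition f))).Exact :=
    (ShortComplex.exact_iff_exact_coimage_π (ShortComplex.mk (kernel.ι f) f (by simp))).mp
      (ShortComplex.exact_kernel f)
  have hse := ShortComplex.ShortExact.mk' hex (inferInstanceAs (Mono (kernel.ι f)))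
    (inferInstanceAs (Epi (Abelian.coimage.π f)))
  have := hφ.add _ hse hX
  rw [this, hφ.iso (Abelian.coimageIsoImage f)]

lemma image_add_coker {X Y : C} (f : X ⟶ Y) (hY : P Y) :
    φ Y = φ (Abelian.image f) + φ (cokernel f) := by
  have hex : (ShortComplex.mk (Abelian.image.ι f) (cokernel.π f)
      (Abelian.image_ι_comp_eq_zero (cokernel.condition f))).Exact :=
    (ShortComplex.exact_iff_exact_image_ι (ShortComplex.mk f (cokernel.π f) (by simp))).mp
      (ShortComplex.exact_cokernel f)
  have hse := ShortComplex.ShortExact.mk' hex (inferInstanceAs (Mono (Abelian.image.ι f)))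
    (inferInstanceAs (Epi (cokernel.π f)))
  exact hφ.add _ hse hY

omit hφ in
lemma isZero_image_of_src {X Y : C} (f : X ⟶ Y) (hX : IsZero X) : IsZero (Abelian.image f) :=
  IsZero.of_epi (Abelian.factorThruImage f) hX

omit hφ in
lemma isZero_image_of_tgt {X Y : C} (f : X ⟶ Y) (hY : IsZero Y) : IsZero (Abelian.image f) :=
  IsZero.of_mono (Abelian.image.ι f) hY

/-- The local formula `φ(X₂) = φ(im f) + φ(H) + φ(im g)`. -/
lemma shortComplex_formula (S : ShortComplex C) (h1 : P S.X₁) (h2 : P S.X₂) :
    φ S.X₂ = φ (Abelian.image S.f) + φ S.homology + φ (Abelian.image S.g) := by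
  set f' : S.X₁ ⟶ kernel S.g := kernel.lift S.g S.f S.zero with hf'
  have hK : P (kernel S.g) := hφ.mono (kernel.ι S.g) h2
  have e1 : φ S.X₂ = φ (kernel S.g) + φ (Abelian.image S.g) := hφ.ker_add_image S.g h2
  have e2 : φ (kernel S.g) = φ (Abelian.image f') + φ (cokernel f') := hφ.image_add_coker f' hK
  have e3 : φ (cokernel f') = φ S.homology := (hφ.iso S.homologyIsoCokernelLift).symm
  have e4 : φ S.X₁ = φ (kernel f') + φ (Abelian.image f') := hφ.ker_add_image f' h1
  have e5 : φ S.X₁ = φ (kernel S.f) + φ (Abelian.image S.f) := hφ.ker_add_image S.f h1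
  have e6 : φ (kernel f') = φ (kernel S.f) := by
    have hcomp : f' ≫ kernel.ι S.g = S.f := kernel.lift_ι _ _ _
    have i1 : kernel (f' ≫ kernel.ι S.g) ≅ kernel f' := kernelCompMono f' (kernel.ι S.g)
    have i2 : kernel (f' ≫ kernel.ι S.g) ≅ kernel S.f := kernelIsoOfEq hcomp
    rw [← hφ.iso i1, hφ.iso i2]
  have e7 : φ (Abelian.image f') = φ (Abelian.image S.f) := by
    rw [e6] at e4
    have := e4.symm.trans e5
    exact add_left_cancel this
  rw [e1, e2, e3, e7]

/-- Euler characteristic formula. -/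
theorem euler (E : CochainComplex C ℤ) (s : Finset ℤ)
    (hs : ∀ i, i ∉ s → IsZero (E.X i)) (hP : ∀ i, P (E.X i)) (ε : ℤ → ℤ)
    (hε : ∀ i, ε (i + 1) = - ε i) :
    ∑ i ∈ s, ε i • φ (E.X i) = ∑ i ∈ s, ε i • φ (E.homology i) := by
  apply telescoping s ε hε (fun i => φ (Abelian.image (E.d (i - 1) i)))
  · rintro i (hi | hi)
    · exact hφ.zero _ (isZero_image_of_tgt _ (hs i hi))
    · exact hφ.zero _ (isZero_image_of_src _ (hs (i - 1) hi))
  · intro i
    have h := hφ.shortComplex_formula (E.sc' (i - 1) i (i + 1)) (hP (i - 1)) (hP i)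
    have hiso : φ (E.sc' (i - 1) i (i + 1)).homology = φ (E.homology i) :=
      (hφ.iso (E.homologyIsoSc' (i - 1) i (i + 1) (by simp) (by simp))).symm
    have htr : ∀ k (hk : k = i), φ (Abelian.image (E.d k (i + 1))) =
        φ (Abelian.image (E.d i (i + 1))) := by
      rintro k rfl; rfl
    rw [hiso] at h
    simp only [HomologicalComplex.shortComplexFunctor'_obj_X₂,
      HomologicalComplex.shortComplexFunctor'_obj_f,
      HomologicalComplex.shortComplexFunctor'_obj_g] at h
    show φ (E.X i) = φ (Abelian.image (E.d (i - 1) i)) + φ (E.homology i) +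
      φ (Abelian.image (E.d (i + 1 - 1) (i + 1)))
    rw [htr (i + 1 - 1) (by ring)]
    exact h

end IsAdditiveOn

end Groth.Agent.Lib.helper22.EulerChar
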