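import Mathlib

/-!
# Length of localizations of modules (helper22)

* `length_localized_add_of_exact`: additivity of `length_{S⁻¹R} (S⁻¹ -)` on short exact sequences.
* `length_localized_of_equiv`
* `length_localized_simple_eq_one` / `length_localized_simple_eq_zero`: for a simple `R`-module `Q`
  and a maximal ideal `m`, `length_{R_m} Q_m` is `1` if `Ann Q = m` and `0` otherwise.
-/

namespace Groth.Agent.Lib.helper22

universe u

variable {R : Type u} [CommRing R]

lemma length_localized_add_of_exact (S : Submonoid R) {N M P : Type*}
    [AddCommGroup N] [AddCommGroup M] [AddCommGroup P]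
    [Module R N] [Module R M] [Module R P] (f : N →ₗ[R] M) (g : M →ₗ[R] P)
    (hf : Function.Injective f) (hg : Function.Surjective g) (H : Function.Exact f g) :
    Module.length (Localization S) (LocalizedModule S M) =
      Module.length (Localization S) (LocalizedModule S N) +
        Module.length (Localization S) (LocalizedModule S P) :=
  Module.length_eq_add_of_exact (LocalizedModule.map S f) (LocalizedModule.map S g)
    (LocalizedModule.map_injective S f hf) (LocalizedModule.map_surjective S g hg)
    (LocalizedModule.map_exact S f g H)

lemma length_localized_of_equiv (S : Submonoid R) {M N : Type*}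
    [AddCommGroup M] [AddCommGroup N] [Module R M] [Module R N] (e : M ≃ₗ[R] N) :
    Module.length (Localization S) (LocalizedModule S M) =
      Module.length (Localization S) (LocalizedModule S N) :=
  (IsLocalizedModule.mapEquiv S (LocalizedModule.mkLinearMap S M)
    (LocalizedModule.mkLinearMap S N) (Localization S) e).length_eq

lemma length_localized_of_subsingleton (S : Submonoid R) {M : Type*}
    [AddCommGroup M] [Module R M] [Subsingleton M] :
    Module.length (Localization S) (LocalizedModule S M) = 0 := by
  rw [Module.length_eq_zero_iff]
  exact IsLocalizedModule.subsingleton_of_subsingleton S (LocalizedModule.mkLinearMap S M)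

lemma length_localized_simple_eq_zero (m : Ideal R) [m.IsMaximal] (Q : Type*)
    [AddCommGroup Q] [Module R Q] [IsSimpleModule R Q]
    (h : Module.annihilator R Q ≠ m) :
    Module.length (Localization.AtPrime m) (LocalizedModule m.primeCompl Q) = 0 := by
  have hmax : (Module.annihilator R Q).IsMaximal := IsSimpleModule.annihilator_isMaximal
  obtain ⟨t, htA, htm⟩ : ∃ t ∈ Module.annihilator R Q, t ∉ m := by
    by_contra hcon
    push Not at hcon
    exact h (hmax.eq_of_le (Ideal.IsMaximal.ne_top inferInstance) hcon)
  rw [Module.length_eq_zero_iff,
    IsLocalizedModule.subsingleton_iff m.primeCompl (LocalizedModule.mkLinearMap m.primeCompl Q)]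
  intro q
  exact ⟨t, htm, Module.mem_annihilator.mp htA q⟩

lemma length_localized_simple_eq_one (m : Ideal R) [m.IsMaximal] (Q : Type*)
    [AddCommGroup Q] [Module R Q] [IsSimpleModule R Q]
    (h : Module.annihilator R Q = m) :
    Module.length (Localization.AtPrime m) (LocalizedModule m.primeCompl Q) = 1 := by
  set S := m.primeCompl with hS
  let f : Q →ₗ[R] LocalizedModule S Q := LocalizedModule.mkLinearMap S Q
  -- every `t ∈ S` acts bijectively on `Q`
  have hbij : ∀ t : S, Function.Bijective (fun q : Q => (t : R) • q) := by
    intro t
    have hne : (LinearMap.lsmul R Q (t : R)) ≠ 0 := by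
      intro h0
      apply t.2
      show (t : R) ∈ m
      rw [← h, Module.mem_annihilator]
      intro q
      have := LinearMap.congr_fun h0 q
      simpa using this
    exact LinearMap.bijective_of_ne_zero hne
  have hfinj : Function.Injective f := by
    rw [← LinearMap.ker_eq_bot, LinearMap.ker_eq_bot']
    intro q hq
    obtain ⟨t, ht⟩ := (IsLocalizedModule.eq_zero_iff S f).mp hq
    apply (hbij t).1
    show (t : R) • q = (t : R) • 0
    rw [smul_zero]
    exact ht
  have hfsurj : Function.Surjective f := by
    intro a
    induction a using LocalizedModule.induction_on with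
    | h q t =>
      obtain ⟨q', hq'⟩ := (hbij t).2 q
      refine ⟨q', ?_⟩
      show LocalizedModule.mk q' 1 = LocalizedModule.mk q t
      rw [LocalizedModule.mk_eq]
      refine ⟨1, ?_⟩
      simp only [one_smul]
      exact hq'
  let e : Q ≃ₗ[R] LocalizedModule S Q := LinearEquiv.ofBijective f ⟨hfinj, hfsurj⟩
  have h1 : Module.length R (LocalizedModule S Q) = 1 := by
    rw [← e.length_eq]
    exact Module.length_eq_one R Q
  have h2 : Module.length (Localization.AtPrime m) (LocalizedModule S Q) ≤ 1 := by
    have := Submodule.length_le_length_restrictScalars R
      (⊤ : Submodule (Localization.AtPrime m) (LocalizedModule S Q))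
    rw [Submodule.restrictScalars_top, Module.length_top, Module.length_top, h1] at this
    exact this
  have h3 : Nontrivial (LocalizedModule S Q) := e.toEquiv.nontrivial_congr.mp
    (IsSimpleModule.nontrivial R Q)
  have h4 : 0 < Module.length (Localization.AtPrime m) (LocalizedModule S Q) :=
    Module.length_pos
  exact le_antisymm h2 (Order.one_le_iff_pos.mpr h4)

end Groth.Agent.Lib.helper22
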