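import Groth.Prelude.Def_AlgGrp
import Mathlib

/-!
Pointwise calculus for actions of group objects of `Over S` (the prelude's `AlgGrp.Action`).
-/

set_option autoImplicit false
universe u
open CategoryTheory MonoidalCategory CartesianMonoidalCategory MonObj AlgebraicGeometry

namespace Groth.Agent.Lib.helper22

variable {S : Scheme.{u}} {G X : Over S} [GrpObj G]

/-- the action on `T`-valued points -/
noncomputable def smul (a : AlgGrp.Action G X) {T : Over S} (g : T ⟶ G) (x : T ⟶ X) : T ⟶ X :=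
  lift g x ≫ a.act

theorem comp_smul (a : AlgGrp.Action G X) {T T' : Over S} (f : T' ⟶ T) (g : T ⟶ G) (x : T ⟶ X) :
    f ≫ smul a g x = smul a (f ≫ g) (f ≫ x) := by
  simp [smul, ← Category.assoc, comp_lift]

theorem one_smul (a : AlgGrp.Action G X) {T : Over S} (x : T ⟶ X) :
    smul a (1 : T ⟶ G) x = x := by
  have h : lift (1 : T ⟶ G) x = lift (toUnit T) x ≫ (η[G] ▷ X) := by
    rw [lift_whiskerRight]; rfl
  rw [smul, h, Category.assoc, a.one_act]
  simp [leftUnitor_hom]

theorem mul_smul (a : AlgGrp.Action G X) {T : Over S} (g h : T ⟶ G) (x : T ⟶ X) :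
    smul a (g * h) x = smul a g (smul a h x) := by
  have h1 : lift (g * h) x = lift (lift g h) x ≫ (μ[G] ▷ X) := by
    rw [lift_whiskerRight]; rfl
  rw [smul, h1, Category.assoc, a.mul_act]
  simp only [smul, ← Category.assoc, lift_lift_associator_hom, lift_whiskerLeft]

theorem act_eq_smul (a : AlgGrp.Action G X) : a.act = smul a (fst G X) (snd G X) := by
  simp [smul]

theorem comp_orbitMap (a : AlgGrp.Action G X) (o : 𝟙_ (Over S) ⟶ X) {T : Over S} (g : T ⟶ G) :
    g ≫ a.orbitMap o = smul a g (toUnit T ≫ o) := by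
  simp [AlgGrp.Action.orbitMap, smul, ← Category.assoc, comp_lift]

theorem inv_smul_smul (a : AlgGrp.Action G X) {T : Over S} (g : T ⟶ G) (x : T ⟶ X) :
    smul a g⁻¹ (smul a g x) = x := by
  rw [← mul_smul, inv_mul_cancel, one_smul]

theorem smul_inv_smul (a : AlgGrp.Action G X) {T : Over S} (g : T ⟶ G) (x : T ⟶ X) :
    smul a g (smul a g⁻¹ x) = x := by
  rw [← mul_smul, mul_inv_cancel, one_smul]

/-- the shear isomorphism `(g, x) ↦ (g, g x)` -/
noncomputable def shear (a : AlgGrp.Action G X) : G ⊗ X ≅ G ⊗ X where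
  hom := lift (fst G X) a.act
  inv := lift (fst G X) (smul a (fst G X)⁻¹ (snd G X))
  hom_inv_id := by
    rw [comp_lift, comp_smul, GrpObj.comp_inv]
    simp only [lift_fst, lift_snd]
    rw [act_eq_smul a, inv_smul_smul]
    simp
  inv_hom_id := by
    rw [comp_lift]
    rw [act_eq_smul a]
    rw [comp_smul]
    simp only [lift_fst, lift_snd]
    rw [smul_inv_smul]
    simp

theorem shear_hom_snd (a : AlgGrp.Action G X) : (shear a).hom ≫ snd G X = a.act := by
  simp [shear]

end Groth.Agent.Lib.helper22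

namespace Groth.Agent.Lib.helper22

/-- a square is a pullback as soon as it has the existence and uniqueness property on points -/
theorem isPullback_of_points {C : Type*} [Category C] {P X Y Z : C} {fst : P ⟶ X} {snd : P ⟶ Y}
    {f : X ⟶ Z} {g : Y ⟶ Z} (w : fst ≫ f = snd ≫ g)
    (hex : ∀ {T : C} (s : T ⟶ X) (t : T ⟶ Y), s ≫ f = t ≫ g → ∃ l : T ⟶ P, l ≫ fst = s ∧ l ≫ snd = t)
    (huniq : ∀ {T : C} (l l' : T ⟶ P), l ≫ fst = l' ≫ fst → l ≫ snd = l' ≫ snd → l = l') :
    IsPullback fst snd f g := by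
  refine ⟨⟨w⟩, ⟨Limits.PullbackCone.IsLimit.mk w
    (fun s => (hex s.fst s.snd s.condition).choose)
    (fun s => (hex s.fst s.snd s.condition).choose_spec.1)
    (fun s => (hex s.fst s.snd s.condition).choose_spec.2)
    (fun s m h1 h2 => huniq _ _
      (h1.trans (hex s.fst s.snd s.condition).choose_spec.1.symm)
      (h2.trans (hex s.fst s.snd s.condition).choose_spec.2.symm))⟩⟩

variable {S : Scheme.{u}} {G X : Over S} [GrpObj G]

/-- the stabilizer square gives the quotient-type square `G × G_o ≅ G ×_X G` -/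
theorem isPullback_shear_of_stabilizer (a : AlgGrp.Action G X) (o : 𝟙_ (Over S) ⟶ X)
    {Go : Over S} (i : Go ⟶ G)
    (hGo : IsPullback i (toUnit Go) (a.orbitMap o) o) :
    IsPullback (fst G Go) ((G ◁ i) ≫ μ[G]) (a.orbitMap o) (a.orbitMap o) := by
  have hmul : ∀ {T : Over S} (m : T ⟶ G ⊗ Go),
      m ≫ (G ◁ i) ≫ μ[G] = (m ≫ fst G Go) * (m ≫ snd G Go ≫ i) := by
    intro T m
    rw [Hom.mul_def, ← Category.assoc]
    congr 1
    ext <;> simp
  have hstab : ∀ {T : Over S} (h : T ⟶ Go) (x : T ⟶ G),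
      smul a (x * (h ≫ i)) (toUnit T ≫ o) = smul a x (toUnit T ≫ o) := by
    intro T h x
    rw [mul_smul, ← comp_orbitMap, Category.assoc, hGo.w, ← Category.assoc, toUnit_unique (h ≫ toUnit Go) (toUnit T)]
  apply isPullback_of_points
  · have := hmul (𝟙 (G ⊗ Go))
    simp only [Category.id_comp] at this
    rw [this, comp_orbitMap, comp_orbitMap, hstab]
  · intro T s t hst
    have h0 : (s⁻¹ * t) ≫ a.orbitMap o = toUnit T ≫ o := by
      rw [comp_orbitMap, mul_smul, ← comp_orbitMap, ← hst, comp_orbitMap, inv_smul_smul]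
    refine ⟨lift s (hGo.lift (s⁻¹ * t) (toUnit T) h0), by simp, ?_⟩
    rw [hmul]
    simp
  · intro T l l' h1 h2
    rw [hmul, hmul, h1] at h2
    have h3 : l ≫ snd G Go ≫ i = l' ≫ snd G Go ≫ i := mul_left_cancel h2
    ext1
    · exact h1
    · apply hGo.hom_ext
      · simpa using h3
      · exact toUnit_unique _ _

end Groth.Agent.Lib.helper22
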