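import Mathlib
import Groth.Prelude.Def_CartDual
import Groth.Prelude.Def_ConstGrp

/-!
# Cartier dual of the group algebra is the constant group scheme (helper22)
-/

set_option autoImplicit false
universe u v
open scoped TensorProduct
open WithConv

namespace Groth.Agent.Lib.helper22.CartDualMon

variable (R : Type u) [CommRing R] (G : Type v) [Group G] [Fintype G] [DecidableEq G]

/-- the linear map `y ↦ (g ↦ y g)` -/
noncomputable def thetaLin : CartDual.D R (MonoidAlgebra R G) →ₗ[R] ConstGrp.F R G where
  toFun y := (show ConstGrp.F R G from fun g => y (MonoidAlgebra.single g 1))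
  map_add' _ _ := rfl
  map_smul' _ _ := rfl

@[simp] theorem thetaLin_apply (y : CartDual.D R (MonoidAlgebra R G)) (g : G) :
    thetaLin R G y g = y (MonoidAlgebra.single g 1) := rfl

theorem thetaLin_one : thetaLin R G 1 = 1 := by
  apply ConstGrp.ext
  intro g
  change (1 : WithConv (MonoidAlgebra R G →ₗ[R] R)).ofConv (MonoidAlgebra.single g 1) = 1
  rw [LinearMap.convOne_apply, MonoidAlgebra.counit_single]
  rfl

theorem thetaLin_mul (y z : CartDual.D R (MonoidAlgebra R G)) :
    thetaLin R G (y * z) = thetaLin R G y * thetaLin R G z := by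
  apply ConstGrp.ext
  intro g
  change (y * z).ofConv (MonoidAlgebra.single g 1) = y (MonoidAlgebra.single g 1) *
    z (MonoidAlgebra.single g 1)
  rw [LinearMap.convMul_apply, MonoidAlgebra.comul_single, CommSemiring.comul_apply,
    TensorProduct.map_tmul, TensorProduct.map_tmul, LinearMap.mul'_apply]
  rfl

/-- the algebra map `D(R[G]) → Maps(G,R)` -/
noncomputable def Theta : CartDual.D R (MonoidAlgebra R G) →ₐ[R] ConstGrp.F R G :=
  AlgHom.ofLinearMap (thetaLin R G) (thetaLin_one R G) (thetaLin_mul R G)

@[simp] theorem Theta_apply (y : CartDual.D R (MonoidAlgebra R G)) (g : G) :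
    Theta R G y g = y (MonoidAlgebra.single g 1) := rfl

theorem Theta_injective : Function.Injective (Theta R G) := by
  intro y z h
  apply WithConv.ofConv_injective
  apply (MonoidAlgebra.basis G R).ext
  intro g
  rw [MonoidAlgebra.basis_apply]
  exact congrFun h g

theorem Theta_surjective : Function.Surjective (Theta R G) := by
  intro f
  refine ⟨toConv ((MonoidAlgebra.basis G R).constr R (fun g => f g)), ?_⟩
  apply ConstGrp.ext
  intro g
  change ((MonoidAlgebra.basis G R).constr R (fun g => f g)) (MonoidAlgebra.single g 1) = f g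
  rw [← MonoidAlgebra.basis_apply, Module.Basis.constr_basis]

theorem Theta_eq_sum (y : CartDual.D R (MonoidAlgebra R G)) :
    Theta R G y = ∑ g : G, y (MonoidAlgebra.single g 1) • ConstGrp.e R g := by
  rw [ConstGrp.eq_sum_smul_e (Theta R G y)]
  rfl

theorem map_Theta_eq_sum (t : CartDual.D R (MonoidAlgebra R G) ⊗[R] CartDual.D R (MonoidAlgebra R G)) :
    TensorProduct.map (Theta R G).toLinearMap (Theta R G).toLinearMap t =
      ∑ a : G, ∑ b : G, (CartDual.ev₂ R (MonoidAlgebra R G) t
        (MonoidAlgebra.single a 1 ⊗ₜ[R] MonoidAlgebra.single b 1)) •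
        (ConstGrp.e R a ⊗ₜ[R] ConstGrp.e R b) := by
  induction t using TensorProduct.induction_on with
  | zero => simp
  | tmul y z =>
    rw [TensorProduct.map_tmul]
    change Theta R G y ⊗ₜ[R] Theta R G z = _
    rw [Theta_eq_sum, Theta_eq_sum, TensorProduct.sum_tmul]
    refine Finset.sum_congr rfl (fun a _ => ?_)
    rw [TensorProduct.tmul_sum]
    refine Finset.sum_congr rfl (fun b _ => ?_)
    rw [CartDual.ev₂_tmul, TensorProduct.smul_tmul_smul]
  | add x y hx hy =>
    rw [map_add, hx, hy, ← Finset.sum_add_distrib]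
    refine Finset.sum_congr rfl (fun a _ => ?_)
    rw [← Finset.sum_add_distrib]
    refine Finset.sum_congr rfl (fun b _ => ?_)
    rw [map_add, LinearMap.add_apply, add_smul]

/-- the algebra equivalence -/
noncomputable def algEquiv : CartDual.D R (MonoidAlgebra R G) ≃ₐ[R] ConstGrp.F R G :=
  AlgEquiv.ofBijective (Theta R G) ⟨Theta_injective R G, Theta_surjective R G⟩

/-- the bialgebra equivalence `D(R[G]) ≃ Maps(G,R)` -/
noncomputable def bialgEquiv : CartDual.D R (MonoidAlgebra R G) ≃ₐc[R] ConstGrp.F R G :=
  BialgEquiv.ofAlgEquiv (algEquiv R G)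
    (by
      ext y
      change Coalgebra.counit (R := R) (Theta R G y) = Coalgebra.counit (R := R) y
      rw [ConstGrp.counit_apply, CartDual.coalgebra_counit_apply, Theta_apply, MonoidAlgebra.one_def])
    (by
      ext y
      change TensorProduct.map (Theta R G).toLinearMap (Theta R G).toLinearMap
          (Coalgebra.comul (R := R) y) = Coalgebra.comul (R := R) (Theta R G y)
      rw [map_Theta_eq_sum, ConstGrp.comul_eq_sum]
      refine Finset.sum_congr rfl (fun a _ => Finset.sum_congr rfl (fun b _ => ?_))
      rw [CartDual.ev₂_coalgebra_comul_tmul, MonoidAlgebra.single_mul_single, mul_one]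
      rfl)

theorem bialgEquiv_apply (y : CartDual.D R (MonoidAlgebra R G)) (g : G) :
    bialgEquiv R G y g = y (MonoidAlgebra.single g 1) := rfl

end Groth.Agent.Lib.helper22.CartDualMon
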