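import Mathlib

/-!
# Eakin–Nagata theorem (helper22)

* `isNoetherian_of_forall_smul`: Formanek's lemma.
* `isNoetherian_of_finite`: if `A` is a noetherian ring, finite as a `B`-module, then `A` is a
  noetherian `B`-module.
* `isNoetherianRing_of_finite_of_injective`: Eakin–Nagata.
-/

set_option autoImplicit false

namespace Groth.Agent.Lib.helper22.EakinNagata
universe u v

/-- Formanek's lemma: a finite module `M` over a commutative ring `B` is noetherian as soon as,
for every `b` not annihilating `M`, the image of `b • ·` is the kernel of a linear map to a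
noetherian module. -/
theorem isNoetherian_of_forall_smul {B : Type u} {M : Type v} [CommRing B] [AddCommGroup M]
    [Module B M] [Module.Finite B M]
    (h : ∀ b : B, (∃ m : M, b • m ≠ 0) → ∃ (Q : Type v) (_ : AddCommGroup Q) (_ : Module B Q)
      (g : M →ₗ[B] Q), IsNoetherian B Q ∧
        LinearMap.ker g = LinearMap.range (LinearMap.lsmul B M b)) :
    IsNoetherian B M := by
  classical
  obtain ⟨s, hs⟩ := (Module.finite_def.mp (inferInstance : Module.Finite B M))
  -- membership in all generators suffices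
  have hgen : ∀ (N : Submodule B M) (b : B), (∀ m : M, m ∈ s → b • m ∈ N) → ∀ m : M, b • m ∈ N := by
    intro N b hb m
    have hm : m ∈ Submodule.span B (s : Set M) := hs ▸ Submodule.mem_top
    induction hm using Submodule.span_induction with
    | mem x hx => exact hb x hx
    | zero => simp
    | add x y _ _ hx hy => rw [smul_add]; exact N.add_mem hx hy
    | smul a x _ hx => rw [smul_comm]; exact N.smul_mem a hx
  let Γ : Set (Submodule B M) := {N | ∀ b : B, (∀ m : M, b • m ∈ N) → ∀ m : M, b • m = 0}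
  have hbot : (⊥ : Submodule B M) ∈ Γ := fun b hb m => by simpa using hb m
  obtain ⟨N₀, -, hN₀, hmax⟩ := zorn_le_nonempty₀ Γ (by
    intro c hcΓ hc y hy
    refine ⟨sSup c, ?_, fun z hz => le_sSup hz⟩
    intro b hb
    have hdir : DirectedOn (· ≤ ·) c := hc.directedOn
    have hne : c.Nonempty := ⟨y, hy⟩
    have key : ∀ t : Finset M, ∃ N ∈ c, ∀ m : M, m ∈ t → b • m ∈ N := by
      intro t
      induction t using Finset.induction_on with
      | empty => exact ⟨y, hy, by simp⟩
      | insert a t _ ih =>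
        obtain ⟨N, hN, hNt⟩ := ih
        obtain ⟨N', hN', ha⟩ := (Submodule.mem_sSup_of_directed hne hdir).mp (hb a)
        obtain ⟨N'', hN'', h1, h2⟩ := hdir N hN N' hN'
        refine ⟨N'', hN'', ?_⟩
        intro m hm
        rcases Finset.mem_insert.mp hm with rfl | hm
        · exact h2 ha
        · exact h1 (hNt m hm)
    obtain ⟨N, hN, hNs⟩ := key s
    exact hcΓ hN b (hgen N b hNs)) ⊥ hbot
  -- `M ⧸ N₀` is noetherian
  have hQ : IsNoetherian B (M ⧸ N₀) := by
    rw [isNoetherian_def]
    intro P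
    have hP : P = (P.comap N₀.mkQ).map N₀.mkQ :=
      (Submodule.map_comap_eq_of_surjective N₀.mkQ_surjective P).symm
    set N := P.comap N₀.mkQ with hNdef
    have hle : N₀ ≤ N := by
      intro x hx
      simp only [hNdef, Submodule.mem_comap, Submodule.mkQ_apply]
      rw [(Submodule.Quotient.mk_eq_zero N₀).mpr hx]
      exact P.zero_mem
    by_cases hNΓ : N ∈ Γ
    · have : N₀ = N := le_antisymm hle (hmax hNΓ hle)
      rw [hP, ← this, Submodule.mkQ_map_self]
      exact Submodule.fg_bot
    · rw [hP]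
      apply Submodule.FG.map
      simp only [Γ, Set.mem_ofPred_eq, not_forall] at hNΓ
      obtain ⟨b, hbN, m, hm⟩ := hNΓ
      obtain ⟨Q, _, _, g, hQn, hker⟩ := h b ⟨m, hm⟩
      apply Submodule.fg_of_fg_map_of_fg_inf_ker g
      · exact IsNoetherian.noetherian _
      · have hr : LinearMap.range (LinearMap.lsmul B M b) ≤ N := by
          rintro _ ⟨x, rfl⟩
          exact hbN x
        rw [hker, inf_eq_right.mpr hr, LinearMap.range_eq_map]
        exact Submodule.FG.map _ (Module.finite_def.mp inferInstance)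
  -- `B ⧸ K` embeds in a power of `M ⧸ N₀`
  let ψ : B →ₗ[B] (s → M ⧸ N₀) :=
    LinearMap.pi (fun m : s => N₀.mkQ ∘ₗ LinearMap.toSpanSingleton B M (m : M))
  let K : Submodule B B := LinearMap.ker ψ
  have hK : ∀ b ∈ K, ∀ m : M, b • m = 0 := by
    intro b hb
    apply hN₀ b
    apply hgen N₀ b
    intro m hm
    have h1 : ψ b ⟨m, hm⟩ = 0 := congrFun (LinearMap.mem_ker.mp hb) ⟨m, hm⟩
    have h2 : ψ b ⟨m, hm⟩ = Submodule.Quotient.mk (b • m) := by simp [ψ]
    rw [h2, Submodule.Quotient.mk_eq_zero] at h1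
    exact h1
  have hBK : IsNoetherian B (B ⧸ K) :=
    isNoetherian_of_injective (K.liftQ ψ le_rfl) (by
      rw [← LinearMap.ker_eq_bot]
      exact Submodule.ker_liftQ_eq_bot _ _ _ le_rfl)
  let φ : (s → B ⧸ K) →ₗ[B] M :=
    LinearMap.lsum B (fun _ : s => B ⧸ K) B
      (fun m => K.liftQ (LinearMap.toSpanSingleton B M (m : M)) (by
        intro b hb
        simpa using hK b hb m))
  have hφ : Function.Surjective φ := by
    rw [← LinearMap.range_eq_top, eq_top_iff, ← hs, Submodule.span_le]
    intro m hm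
    refine ⟨Pi.single ⟨m, hm⟩ (Submodule.Quotient.mk 1), ?_⟩
    simp only [φ, LinearMap.lsum_apply, LinearMap.coe_sum, Finset.sum_apply, LinearMap.coe_comp,
      LinearMap.coe_proj, Function.comp_apply, Function.eval]
    rw [Finset.sum_eq_single (⟨m, hm⟩ : s)]
    · rw [Pi.single_eq_same, Submodule.liftQ_apply]
      simp
    · intro x _ hx
      rw [Pi.single_eq_of_ne hx, map_zero]
    · intro h
      exact absurd (Finset.mem_univ _) h
  exact isNoetherian_of_surjective φ (LinearMap.range_eq_top.mpr hφ)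

/-- **Eakin–Nagata** (Formanek's proof): if `A` is a noetherian ring which is finite as a module
over `B`, then `A` is a noetherian `B`-module. -/
theorem isNoetherian_of_finite (B : Type u) (A : Type v) [CommRing B] [CommRing A] [Algebra B A]
    [IsNoetherianRing A] [Module.Finite B A] : IsNoetherian B A := by
  classical
  by_contra hA
  let 𝒮 : Set (Ideal A) :=
    {J | (∃ I : Ideal B, J = I.map (algebraMap B A)) ∧ ¬ IsNoetherian B (A ⧸ J)}
  have hne : 𝒮.Nonempty := by
    refine ⟨⊥, ⟨⊥, by simp⟩, ?_⟩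
    intro h
    apply hA
    refine isNoetherian_of_injective ((Ideal.Quotient.mkₐ B (⊥ : Ideal A)).toLinearMap) ?_
    intro x y hxy
    have : Ideal.Quotient.mk (⊥ : Ideal A) x = Ideal.Quotient.mk ⊥ y := hxy
    rw [Ideal.Quotient.eq, Ideal.mem_bot, sub_eq_zero] at this
    exact this
  obtain ⟨J₀, ⟨⟨I, hI⟩, hJ₀⟩, hmax⟩ :=
    (wellFounded_gt : WellFounded (α := Ideal A) (· > ·)).has_min 𝒮 hne
  apply hJ₀
  haveI : Module.Finite B (A ⧸ J₀) :=
    Module.Finite.of_surjective (Ideal.Quotient.mkₐ B J₀).toLinearMap Ideal.Quotient.mk_surjective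
  apply isNoetherian_of_forall_smul
  rintro b ⟨m, hm⟩
  set J' := (I ⊔ Ideal.span {b}).map (algebraMap B A) with hJ'
  have hle : J₀ ≤ J' := hI ▸ Ideal.map_mono le_sup_left
  have hsm : ∀ a : A, b • (Ideal.Quotient.mk J₀ a) = Ideal.Quotient.mk J₀ (algebraMap B A b * a) := by
    intro a
    rw [← Algebra.smul_def]; rfl
  have hb : algebraMap B A b ∉ J₀ := by
    intro hb
    apply hm
    obtain ⟨a, rfl⟩ := Ideal.Quotient.mk_surjective m
    rw [hsm, Ideal.Quotient.eq_zero_iff_mem]
    exact J₀.mul_mem_right _ hb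
  have hlt : J₀ < J' := lt_of_le_of_ne hle (fun h => hb (h ▸ Ideal.mem_map_of_mem _
    (Ideal.mem_sup_right (Ideal.mem_span_singleton_self b))))
  have hJ'n : IsNoetherian B (A ⧸ J') := by
    by_contra hn
    exact hmax J' ⟨⟨_, rfl⟩, hn⟩ hlt
  refine ⟨A ⧸ J', inferInstance, inferInstance, (Ideal.Quotient.factorₐ B hle).toLinearMap,
    hJ'n, ?_⟩
  ext x
  obtain ⟨a, rfl⟩ := Ideal.Quotient.mk_surjective x
  simp only [LinearMap.mem_ker, LinearMap.mem_range, AlgHom.toLinearMap_apply,
    LinearMap.lsmul_apply]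
  constructor
  · intro h
    have ha : a ∈ J' := by
      rw [← Ideal.Quotient.eq_zero_iff_mem]
      simpa using h
    rw [hJ', Ideal.map_sup, Ideal.map_span, Set.image_singleton, ← hI, Submodule.mem_sup] at ha
    obtain ⟨j, hj, k, hk, rfl⟩ := ha
    obtain ⟨c, rfl⟩ := Ideal.mem_span_singleton'.mp hk
    refine ⟨Ideal.Quotient.mk _ c, ?_⟩
    rw [hsm, map_add, (Ideal.Quotient.eq_zero_iff_mem).mpr hj, zero_add, mul_comm]
  · rintro ⟨y, hy⟩
    obtain ⟨c, rfl⟩ := Ideal.Quotient.mk_surjective y
    rw [← hy, hsm]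
    have : algebraMap B A b * c ∈ J' :=
      J'.mul_mem_right _ (Ideal.mem_map_of_mem _
        (Ideal.mem_sup_right (Ideal.mem_span_singleton_self b)))
    have h2 : (Ideal.Quotient.factorₐ B hle) (Ideal.Quotient.mk J₀ (algebraMap B A b * c)) =
        Ideal.Quotient.mk J' (algebraMap B A b * c) := rfl
    rw [h2]
    exact (Ideal.Quotient.eq_zero_iff_mem).mpr this

/-- **Eakin–Nagata**: a subring `B` of a noetherian ring `A`, finite over `B`, is noetherian. -/
theorem isNoetherianRing_of_finite_of_injective (B : Type u) (A : Type v) [CommRing B]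
    [CommRing A] [Algebra B A] [IsNoetherianRing A] [Module.Finite B A]
    (hinj : Function.Injective (algebraMap B A)) : IsNoetherianRing B := by
  haveI := isNoetherian_of_finite B A
  exact isNoetherian_of_injective (Algebra.linearMap B A) hinj

end Groth.Agent.Lib.helper22.EakinNagata
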