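import Mathlib.RingTheory.HopfAlgebra.Quotient
import Mathlib.RingTheory.Flat.Basic
import Mathlib.LinearAlgebra.FreeModule.Basic
import Mathlib.LinearAlgebra.Basis.VectorSpace

/-!
Bialgebra maps between Hopf algebras commute with antipodes; the kernel of a bialgebra map
of commutative Hopf algebras over a field is a Hopf ideal.
-/

set_option autoImplicit false
universe u v w
open scoped TensorProduct
open WithConv

namespace Groth.Agent.Lib.helper22

section

variable {k : Type u} [CommRing k] {A : Type v} [Ring A] [HopfAlgebra k A]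
  {B : Type w} [Ring B] [HopfAlgebra k B]

theorem bialgHom_comp_antipode (π : A →ₐc[k] B) :
    (π : A →ₐ[k] B).toLinearMap ∘ₗ HopfAlgebra.antipode k (A := A) =
      HopfAlgebra.antipode k (A := B) ∘ₗ (π : A →ₐ[k] B).toLinearMap := by
  have hL : toConv (HopfAlgebra.antipode k (A := B) ∘ₗ (π : A →ₐ[k] B).toLinearMap) *
      toConv ((π : A →ₐ[k] B).toLinearMap) = (1 : WithConv (A →ₗ[k] B)) := by
    apply WithConv.ofConv_injective
    have h1 := LinearMap.convMul_comp_coalgHom_distrib
      (toConv (HopfAlgebra.antipode k (A := B))) (toConv (LinearMap.id : B →ₗ[k] B))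
      (π : A →ₗc[k] B)
    rw [LinearMap.antipode_mul_id, LinearMap.convOne_comp_coalgHom] at h1
    rw [h1]
    rfl
  have hR : toConv ((π : A →ₐ[k] B).toLinearMap) *
      toConv ((π : A →ₐ[k] B).toLinearMap ∘ₗ HopfAlgebra.antipode k (A := A)) =
      (1 : WithConv (A →ₗ[k] B)) := by
    apply WithConv.ofConv_injective
    have h1 := LinearMap.algHom_comp_convMul_distrib (π : A →ₐ[k] B)
      (toConv (LinearMap.id : A →ₗ[k] A)) (toConv (HopfAlgebra.antipode k (A := A)))
    rw [LinearMap.id_mul_antipode, LinearMap.algHom_comp_convOne] at h1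
    rw [h1]
    rfl
  have := left_inv_eq_right_inv hL hR
  exact (WithConv.toConv_injective this).symm

end

section

variable {k : Type u} [Field k] {A : Type v} [CommRing A] [HopfAlgebra k A]
  {B : Type w} [CommRing B] [HopfAlgebra k B]

/-- the kernel of a bialgebra map between commutative Hopf algebras over a field is a Hopf ideal -/
theorem isHopfIdeal_ker (π : A →ₐc[k] B) : (RingHom.ker (π : A →+* B)).IsHopfIdeal k := by
  set I := RingHom.ker (π : A →+* B) with hI
  set I' := I.restrictScalars k with hI'
  have hmem : ∀ x, x ∈ I' ↔ π x = 0 := fun x => Iff.rfl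
  refine @Ideal.IsHopfIdeal.mk k A _ _ _ I ⟨?_, ?_⟩ ?_
  · intro x hx
    have h1 : Coalgebra.counit (R := k) (π x) = Coalgebra.counit (R := k) x :=
      CoalgHomClass.counit_comp_apply π x
    rw [← h1, (hmem x).mp hx, map_zero]
  · intro x hx
    -- the injective map A/I → B
    let πbar : (A ⧸ I') →ₗ[k] B := I'.liftQ (π : A →ₐ[k] B).toLinearMap (fun y hy => (hmem y).mp hy)
    have hinj : Function.Injective πbar := by
      rw [← LinearMap.ker_eq_bot]
      exact Submodule.ker_liftQ_eq_bot _ _ _ (fun y hy => (hmem y).mpr hy)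
    have hinj2 : Function.Injective (TensorProduct.map πbar πbar) := by
      have : TensorProduct.map πbar πbar = πbar.rTensor B ∘ₗ πbar.lTensor (A ⧸ I') := by
        rw [LinearMap.rTensor, LinearMap.lTensor, ← TensorProduct.map_comp, LinearMap.comp_id,
          LinearMap.id_comp]
      rw [this, LinearMap.coe_comp]
      exact (Module.Flat.rTensor_preserves_injective_linearMap _ hinj).comp
        (Module.Flat.lTensor_preserves_injective_linearMap _ hinj)
    apply hinj2
    rw [map_zero, ← LinearMap.comp_apply, ← TensorProduct.map_comp]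
    have h1 : πbar ∘ₗ I'.mkQ = (π : A →ₐ[k] B).toLinearMap := Submodule.liftQ_mkQ _ _ _
    rw [h1]
    have h2 : TensorProduct.map (π : A →ₐ[k] B).toLinearMap (π : A →ₐ[k] B).toLinearMap
        (Coalgebra.comul (R := k) x) = Coalgebra.comul (R := k) (π x) :=
      CoalgHomClass.map_comp_comul_apply π x
    rw [h2, (hmem x).mp hx, map_zero]
  · intro x hx
    have h1 := LinearMap.congr_fun (bialgHom_comp_antipode π) x
    simp only [LinearMap.comp_apply, AlgHom.toLinearMap_apply] at h1
    change π (HopfAlgebra.antipode k x) = 0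
    have hx' : π x = 0 := hx
    have : (π : A →ₐ[k] B) x = 0 := hx'
    rw [this, map_zero] at h1
    exact h1

end

end Groth.Agent.Lib.helper22
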