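import Groth.Prelude.Def_ArtFun2
import Mathlib

/-!
Helper lemmas about fibre-product squares in `ArtFun.Art Λ k` (seat helper22).
-/

set_option autoImplicit false
universe u v
open CategoryTheory

namespace Groth.Agent.Lib.helper22

variable {Λ : Type u} {k : Type u} [CommRing Λ] [Field k] [Algebra Λ k]

open ArtFun ArtFun.Art

/-- The universal property of a pinned fibre-product square: a pair of compatible morphisms
lifts to the corner. -/
theorem IsFibreProd.exists_lift {D A A' A'' : Art Λ k} {d₁ : D ⟶ A'} {d₂ : D ⟶ A''}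
    {f' : A' ⟶ A} {f'' : A'' ⟶ A} (hD : IsFibreProd d₁ d₂ f' f'')
    {B : Art Λ k} (u : B ⟶ A') (v : B ⟶ A'') (huv : u ≫ f' = v ≫ f'') :
    ∃ r : B ⟶ D, r ≫ d₁ = u ∧ r ≫ d₂ = v := by
  classical
  have hw : ∀ b : B, f' (u b) = f'' (v b) := by
    intro b
    change (u ≫ f') b = (v ≫ f'') b
    rw [huv]
  choose r₀ hr₁ hr₂ using fun b : B => hD.surj (u b) (v b) (hw b)
  have hinj : ∀ x y : D, d₁ x = d₁ y → d₂ x = d₂ y → x = y := hD.inj
  let r : B →ₐ[Λ] D :=
    { toFun := r₀
      map_one' := by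
        apply hinj
        · rw [hr₁]
          change u.toAlgHom 1 = d₁.toAlgHom 1
          rw [map_one, map_one]
        · rw [hr₂]
          change v.toAlgHom 1 = d₂.toAlgHom 1
          rw [map_one, map_one]
      map_mul' := by
        intro x y
        apply hinj
        · rw [hr₁]
          change u.toAlgHom (x * y) = d₁.toAlgHom (r₀ x * r₀ y)
          rw [map_mul, map_mul]
          change u x * u y = d₁ (r₀ x) * d₁ (r₀ y)
          rw [hr₁, hr₁]
        · rw [hr₂]
          change v.toAlgHom (x * y) = d₂.toAlgHom (r₀ x * r₀ y)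
          rw [map_mul, map_mul]
          change v x * v y = d₂ (r₀ x) * d₂ (r₀ y)
          rw [hr₂, hr₂]
      map_zero' := by
        apply hinj
        · rw [hr₁]
          change u.toAlgHom 0 = d₁.toAlgHom 0
          rw [map_zero, map_zero]
        · rw [hr₂]
          change v.toAlgHom 0 = d₂.toAlgHom 0
          rw [map_zero, map_zero]
      map_add' := by
        intro x y
        apply hinj
        · rw [hr₁]
          change u.toAlgHom (x + y) = d₁.toAlgHom (r₀ x + r₀ y)
          rw [map_add, map_add]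
          change u x + u y = d₁ (r₀ x) + d₁ (r₀ y)
          rw [hr₁, hr₁]
        · rw [hr₂]
          change v.toAlgHom (x + y) = d₂.toAlgHom (r₀ x + r₀ y)
          rw [map_add, map_add]
          change v x + v y = d₂ (r₀ x) + d₂ (r₀ y)
          rw [hr₂, hr₂]
      commutes' := by
        intro l
        apply hinj
        · rw [hr₁]
          change u.toAlgHom (algebraMap Λ B l) = d₁.toAlgHom (algebraMap Λ D l)
          rw [AlgHom.commutes, AlgHom.commutes]
        · rw [hr₂]
          change v.toAlgHom (algebraMap Λ B l) = d₂.toAlgHom (algebraMap Λ D l)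
          rw [AlgHom.commutes, AlgHom.commutes] }
  have hr : D.res.comp r = B.res := by
    apply AlgHom.ext
    intro b
    change D.res (r₀ b) = B.res b
    rw [← res_app d₁, hr₁, res_app]
  refine ⟨homMk r hr, ?_, ?_⟩
  · apply hom_ext
    apply AlgHom.ext
    intro b
    exact hr₁ b
  · apply hom_ext
    apply AlgHom.ext
    intro b
    exact hr₂ b

/-- Pasting: if `D = A' ×_A B'` and `r : B → D` is compatible, then `B = A' ×_A C` (over `p ≫ q`)
implies `B = D ×_{B'} C`. -/
theorem IsFibreProd.of_comp {B D A A' B' C : Art Λ k} {p' : B ⟶ A'} {p'' : B ⟶ C} {f' : A' ⟶ A}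
    {p : C ⟶ B'} {q : B' ⟶ A} (h : IsFibreProd p' p'' f' (p ≫ q))
    {d₁ : D ⟶ A'} {d₂ : D ⟶ B'} (hD : IsFibreProd d₁ d₂ f' q)
    (r : B ⟶ D) (hr₁ : r ≫ d₁ = p') (hr₂ : r ≫ d₂ = p'' ≫ p) :
    IsFibreProd r p'' d₂ p where
  w := hr₂
  inj := by
    intro b₁ b₂ h1 h2
    apply h.inj _ _ _ h2
    rw [← hr₁]
    change d₁ (r b₁) = d₁ (r b₂)
    rw [h1]
  surj := by
    intro d c hdc
    have h1 : f' (d₁ d) = (p ≫ q) c := by
      rw [hD.w_apply, hdc]
      rfl
    obtain ⟨b, hb1, hb2⟩ := h.surj (d₁ d) c h1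
    refine ⟨b, ?_, hb2⟩
    apply hD.inj
    · change (r ≫ d₁) b = d₁ d
      rw [hr₁, hb1]
    · change (r ≫ d₂) b = d₂ d
      rw [hr₂]
      change p (p'' b) = d₂ d
      rw [hb2, hdc]

end Groth.Agent.Lib.helper22
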