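import Groth.Agent.Lib.Helper22.TraceSep

/-!
# Converse: unit discriminant implies étale (helper22)

`Θ_bijective_of_isUnit_discr`, `exists_sepElem_of_isUnit_discr`, `etale_of_isUnit_discr`.
-/

namespace Groth.Agent.Lib.helper22.TraceSep

open TensorProduct

variable {K L : Type*} [CommRing K] [CommRing L] [Algebra K L]

section Converse

variable {ι : Type*} [Fintype ι] [DecidableEq ι] (b : Module.Basis ι K L)

theorem toMatrix_Θ : LinearMap.toMatrix b b.dualBasis (Θ (K := K) (L := L)) =
    (Algebra.traceMatrix K b).transpose := by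
  ext i j
  rw [LinearMap.toMatrix_apply, Module.Basis.dualBasis_repr, Matrix.transpose_apply,
    Algebra.traceMatrix_apply]
  rfl

/-- if the discriminant is a unit, the trace form `L → L^*` is bijective. -/
theorem Θ_bijective_of_isUnit_discr (hu : IsUnit (Algebra.discr K b)) :
    Function.Bijective (Θ (K := K) (L := L)) := by
  have h : IsUnit (LinearMap.toMatrix b b.dualBasis (Θ (K := K) (L := L))).det := by
    rw [toMatrix_Θ, Matrix.det_transpose]
    exact hu
  have := (LinearEquiv.ofIsUnitDet h).bijective
  rwa [← LinearEquiv.coe_coe, LinearEquiv.coe_ofIsUnitDet] at this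

/-- if the discriminant is a unit, there is a separability element. -/
theorem exists_sepElem_of_isUnit_discr (hu : IsUnit (Algebra.discr K b)) :
    ∃ t : L ⊗[K] L, (∀ s : L, ((1 : L) ⊗ₜ[K] s - s ⊗ₜ[K] (1 : L)) * t = 0) ∧
      Algebra.TensorProduct.lmul' K t = 1 := by
  have hΘ := Θ_bijective_of_isUnit_discr b hu
  let Θe : L ≃ₗ[K] Module.Dual K L := LinearEquiv.ofBijective Θ hΘ
  let c : ι → L := fun i => Θe.symm (b.coord i)
  have hc : ∀ i x, Algebra.trace K L (c i * x) = b.repr x i := by
    intro i x
    have h1 : Θ (K := K) (c i) = b.coord i := Θe.apply_symm_apply (b.coord i)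
    rw [← Θ_apply, h1]
    rfl
  have exp1 : ∀ x : L, ∑ i, Algebra.trace K L (c i * x) • b i = x := by
    intro x
    simp_rw [hc]
    exact b.sum_repr x
  have exp2 : ∀ x : L, ∑ k, Algebra.trace K L (x * b k) • c k = x := by
    intro x
    apply hΘ.1
    apply b.ext
    intro m
    rw [map_sum, LinearMap.sum_apply, Θ_apply]
    simp_rw [map_smul, LinearMap.smul_apply, Θ_apply, hc, Module.Basis.repr_self,
      smul_eq_mul]
    rw [Finset.sum_eq_single m]
    · simp
    · intro k _ hk
      simp [hk.symm]
    · intro hm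
      exact absurd (Finset.mem_univ m) hm
  refine ⟨∑ i, b i ⊗ₜ[K] c i, ?_, ?_⟩
  · intro s
    rw [sub_mul, sub_eq_zero, Finset.mul_sum, Finset.mul_sum]
    simp_rw [Algebra.TensorProduct.tmul_mul_tmul, one_mul]
    -- Σ b_i ⊗ s c_i = Σ s b_i ⊗ c_i
    have hL : ∀ i, b i ⊗ₜ[K] (s * c i) =
        ∑ k, Algebra.trace K L (s * c i * b k) • (b i ⊗ₜ[K] c k) := by
      intro i
      conv_lhs => rw [← exp2 (s * c i), tmul_sum]
      simp_rw [tmul_smul]
    have hR : ∀ k, (s * b k) ⊗ₜ[K] c k =
        ∑ i, Algebra.trace K L (c i * (s * b k)) • (b i ⊗ₜ[K] c k) := by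
      intro k
      conv_lhs => rw [← exp1 (s * b k), sum_tmul]
      simp_rw [smul_tmul']
    simp_rw [hL, hR]
    rw [Finset.sum_comm]
    refine Finset.sum_congr rfl fun k _ => Finset.sum_congr rfl fun i _ => ?_
    congr 2
    ring
  · rw [map_sum]
    simp_rw [Algebra.TensorProduct.lmul'_apply_tmul]
    apply hΘ.1
    apply LinearMap.ext
    intro x
    rw [Θ_apply, Θ_apply, one_mul, Finset.sum_mul, map_sum, trace_eq_sum_coord b x]
    refine Finset.sum_congr rfl fun i _ => ?_
    rw [mul_comm (b i) (c i), mul_assoc, hc, mul_comm]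
    rfl

end Converse

/-- A finite free algebra with unit discriminant is étale. -/
theorem etale_of_isUnit_discr {ι : Type*} [Fintype ι] [DecidableEq ι] (b : Module.Basis ι K L)
    (hu : IsUnit (Algebra.discr K b)) : Algebra.Etale K L := by
  have : Module.Free K L := Module.Free.of_basis b
  have : Module.Finite K L := Module.Finite.of_basis b
  have : Module.FinitePresentation K L := Module.finitePresentation_of_projective K L
  have : Algebra.FinitePresentation K L := inferInstance
  have : Algebra.FormallyUnramified K L :=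
    Algebra.FormallyUnramified.iff_exists_tensorProduct.mpr (exists_sepElem_of_isUnit_discr b hu)
  exact Algebra.Etale.of_formallyUnramified_of_flat

end Groth.Agent.Lib.helper22.TraceSep
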