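import Mathlib
import Groth.Agent.S0248
import Groth.Agent.S0564
import Groth.Agent.Lib.Helper15.Regular

/-!
# Zariski–Nagata purity, ring-level form "unramified in codimension one ⇒ étale" (helper22)

`etale_of_unramCodimOne`: let `R` be a regular local ring and `B` an integrally closed domain,
finite over `R` with `R → B` injective. If `B` is unramified over `R` at every prime of `B` of
height at most one, then `B` is étale over `R`.

The proof is by induction on `dim R`, using the one-step purity statement `S0248` (helper9) for
the induction step and the structure of finite torsion-free modules over a PID in dimension `≤ 1`.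
-/

namespace Groth.Agent.Lib.helper22.PurityInd

universe u v

open IsLocalRing

/-- unramified at all primes of height at most one -/
def UnramCodimOne (R B : Type*) [CommRing R] [CommRing B] [Algebra R B] : Prop :=
  ∀ (Q : Ideal B) [Q.IsPrime], Q.height ≤ 1 → Algebra.IsUnramifiedAt R Q

theorem isPrincipalIdealRing_of_dim_le_one (R : Type u) [CommRing R] [IsRegularLocalRing R]
    (hdim : ringKrullDim R ≤ 1) : IsDomain R ∧ IsPrincipalIdealRing R := by
  haveI : IsDomain R := Groth.Agent.Lib.helper15.isDomain_of_isRegularLocalRing R
  refine ⟨inferInstance, ?_⟩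
  have h1 := IsRegularLocalRing.spanFinrank_maximalIdeal (R := R)
  have h2 : (maximalIdeal R).spanFinrank ≤ 1 := by
    have : ((maximalIdeal R).spanFinrank : WithBot ℕ∞) ≤ 1 := by rw [h1]; exact hdim
    exact_mod_cast this
  have hfg : (maximalIdeal R).FG := IsNoetherian.noetherian _
  rcases Nat.le_one_iff_eq_zero_or_eq_one.mp h2 with h0 | h1'
  · have hbot : maximalIdeal R = ⊥ := (Submodule.spanFinrank_eq_zero_iff_eq_bot hfg).mp h0
    have hf : IsField R := IsLocalRing.isField_iff_maximalIdeal_eq.mpr hbot
    letI := hf.toField
    infer_instance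
  · obtain ⟨hprinc, hne⟩ := (Submodule.spanFinrank_eq_one_iff _).mp h1'
    have hnf : ¬ IsField R := by
      rw [IsLocalRing.isField_iff_maximalIdeal_eq]; exact hne
    haveI : IsDiscreteValuationRing R := ((IsDiscreteValuationRing.TFAE R hnf).out 4 0).mp hprinc
    infer_instance

theorem etale_of_dim_le_one (R B : Type u) [CommRing R] [IsRegularLocalRing R] [CommRing B]
    [IsDomain B] [Algebra R B] [Module.Finite R B] (hinj : Function.Injective (algebraMap R B))
    (hdim : ringKrullDim R ≤ 1) (h : UnramCodimOne R B) : Algebra.Etale R B := by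
  obtain ⟨hdom, hpid⟩ := isPrincipalIdealRing_of_dim_le_one R hdim
  haveI : FaithfulSMul R B := (faithfulSMul_iff_algebraMap_injective R B).mpr hinj
  haveI : Module.IsTorsionFree R B := inferInstance
  haveI : Module.Free R B := Module.free_of_finite_type_torsion_free'
  haveI : Algebra.FinitePresentation R B :=
    Algebra.FinitePresentation.of_finiteType.mp inferInstance
  haveI : Algebra.IsIntegral R B := Algebra.IsIntegral.of_finite R B
  have hdimB : ringKrullDim B ≤ 1 := by
    refine le_trans ?_ hdim
    refine Order.krullDim_le_of_strictMono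
      (fun p : PrimeSpectrum B => PrimeSpectrum.comap (algebraMap R B) p) ?_
    intro p q hpq
    have : p.asIdeal < q.asIdeal := hpq
    exact Ideal.IsIntegral.comap_lt_comap (R := R) this
  haveI : Algebra.FormallyUnramified R B := by
    rw [Algebra.formallyUnramified_iff_forall]
    intro q
    apply h q.asIdeal
    have := Ideal.height_le_ringKrullDim_of_ne_top q.2.ne_top
    have h3 : (q.asIdeal.height : WithBot ℕ∞) ≤ 1 := this.trans hdimB
    exact_mod_cast h3
  exact Algebra.Etale.of_formallyUnramified_of_flat

section Loc
variable (R B : Type u) [CommRing R] [CommRing B] [Algebra R B] (p : Ideal R) [p.IsPrime]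

local notation "Rp" => Localization.AtPrime p
local notation "Bp" => Localization (Algebra.algebraMapSubmonoid B p.primeCompl)

/-- the localization at a prime of `B_p` is the localization of `B` at its contraction -/
theorem isLocalization_atPrime_comap (Q' : Ideal Bp) [Q'.IsPrime] (Q : Ideal B) [Q.IsPrime]
    (h : Q'.comap (algebraMap B Bp) = Q) : IsLocalization.AtPrime (Localization.AtPrime Q') Q := by
  subst h
  exact IsLocalization.isLocalization_isLocalization_atPrime_isLocalization
    (Algebra.algebraMapSubmonoid B p.primeCompl) _ Q'

noncomputable def locEquiv (Q' : Ideal Bp) [Q'.IsPrime] (Q : Ideal B) [Q.IsPrime]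
    (h : Q'.comap (algebraMap B Bp) = Q) :
    Localization.AtPrime Q ≃ₐ[R] Localization.AtPrime Q' :=
  haveI := isLocalization_atPrime_comap R B p Q' Q h
  (IsLocalization.algEquiv Q.primeCompl (Localization.AtPrime Q)
    (Localization.AtPrime Q')).restrictScalars R

theorem unramCodimOne_localization (h : UnramCodimOne R B) : UnramCodimOne Rp Bp := by
  intro Q' _ hQ'
  have hht : (Q'.comap (algebraMap B Bp)).height = Q'.height :=
    IsLocalization.height_under (Algebra.algebraMapSubmonoid B p.primeCompl) Q'
  haveI : Algebra.IsUnramifiedAt R (Q'.comap (algebraMap B Bp)) := h _ (hht ▸ hQ')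
  haveI : Algebra.FormallyUnramified R (Localization.AtPrime Q') :=
    Algebra.FormallyUnramified.of_equiv (locEquiv R B p Q' _ rfl)
  exact Algebra.FormallyUnramified.of_restrictScalars R Rp _

theorem isEtaleAt_of_etale_localization (q : Ideal B) [q.IsPrime] (hp : q.under R = p)
    [Algebra.Etale Rp Bp] : Algebra.IsEtaleAt R q := by
  have hdisj : Disjoint (Algebra.algebraMapSubmonoid B p.primeCompl : Set B) (q : Set B) := by
    rw [Set.disjoint_left]
    rintro _ ⟨r, hr, rfl⟩ hq
    apply hr
    rw [← hp]
    exact hq
  let q' : Ideal Bp := q.map (algebraMap B Bp)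
  haveI : q'.IsPrime := IsLocalization.isPrime_of_isPrime_disjoint _ Bp q inferInstance hdisj
  have hq'c : q'.comap (algebraMap B Bp) = q :=
    IsLocalization.under_map_of_isPrime_disjoint _ Bp inferInstance hdisj
  haveI : Algebra.FormallyEtale Bp (Localization.AtPrime q') :=
    Algebra.FormallyEtale.of_isLocalization q'.primeCompl
  haveI : Algebra.FormallyEtale Rp (Localization.AtPrime q') :=
    Algebra.FormallyEtale.comp Rp Bp _
  haveI : Algebra.FormallyEtale R Rp := Algebra.FormallyEtale.of_isLocalization p.primeCompl
  haveI : Algebra.FormallyEtale R (Localization.AtPrime q') := Algebra.FormallyEtale.comp R Rp _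
  exact Algebra.FormallyEtale.of_equiv (locEquiv R B p q' q hq'c).symm

end Loc

theorem etale_aux (n : ℕ) : ∀ (R B : Type u) [CommRing R] [IsRegularLocalRing R] [CommRing B]
    [IsDomain B] [IsIntegrallyClosed B] [Algebra R B] [Module.Finite R B],
    Function.Injective (algebraMap R B) → ringKrullDim R ≤ n → UnramCodimOne R B →
    Algebra.Etale R B := by
  induction n using Nat.strong_induction_on with
  | _ n ih =>
    intro R B _ _ _ _ _ _ _ hinj hdim h
    by_cases h1 : ringKrullDim R ≤ 1
    · exact etale_of_dim_le_one R B hinj h1 h
    · have hd := IsRegularLocalRing.spanFinrank_maximalIdeal (R := R)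
      set d := (maximalIdeal R).spanFinrank with hdd
      have h2 : (2 : WithBot ℕ∞) ≤ ringKrullDim R := by
        rw [← hd] at h1 ⊢
        have h1' : ¬ d ≤ 1 := by exact_mod_cast h1
        exact_mod_cast (by omega : 2 ≤ d)
      have hdn : d ≤ n := by
        rw [← hd] at hdim
        exact_mod_cast hdim
      refine Groth.Agent.S0248.result R B h2 hinj (fun q hq hqm => ?_)
      haveI := hq
      set p := q.comap (algebraMap R B) with hp
      haveI : p.IsPrime := Ideal.comap_isPrime _ _
      have hlt : p < maximalIdeal R := lt_of_le_of_ne (IsLocalRing.le_maximalIdeal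
        (Ideal.IsPrime.ne_top inferInstance)) hqm
      have hht : p.height < (maximalIdeal R).height :=
        Ideal.height_strict_mono_of_isPrime_of_isPrime hlt
      have hdimp : ringKrullDim (Localization.AtPrime p) = p.height :=
        IsLocalization.AtPrime.ringKrullDim_eq_height p _
      obtain ⟨m, hm⟩ : ∃ m : ℕ, p.height = m := by
        have : p.height ≠ ⊤ := Ideal.height_ne_top (Ideal.IsPrime.ne_top inferInstance)
        exact ⟨p.height.toNat, (ENat.natCast_toNat this).symm⟩
      have hmd : m < d := by
        have h3 : ((maximalIdeal R).height : WithBot ℕ∞) = d := by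
          rw [IsLocalRing.maximalIdeal_height_eq_ringKrullDim, ← hd]
        have h4 : (maximalIdeal R).height = d := by exact_mod_cast h3
        rw [hm, h4] at hht
        exact_mod_cast hht
      haveI : IsRegularLocalRing (Localization.AtPrime p) := Groth.Agent.S0564.result R p
      have hle : Algebra.algebraMapSubmonoid B p.primeCompl ≤ nonZeroDivisors B := by
        rintro _ ⟨r, hr, rfl⟩
        apply mem_nonZeroDivisors_of_ne_zero
        intro h0
        apply hr
        have : r = 0 := hinj (by rw [h0, map_zero])
        rw [this]
        exact p.zero_mem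
      haveI : IsDomain (Localization (Algebra.algebraMapSubmonoid B p.primeCompl)) :=
        IsLocalization.isDomain_localization hle
      haveI : IsIntegrallyClosed (Localization (Algebra.algebraMapSubmonoid B p.primeCompl)) :=
        isIntegrallyClosed_of_isLocalization _ _ hle
      haveI : Module.Finite (Localization.AtPrime p)
          (Localization (Algebra.algebraMapSubmonoid B p.primeCompl)) :=
        Module.Finite.of_isLocalization R B p.primeCompl
      have hinj' : Function.Injective (algebraMap (Localization.AtPrime p)
          (Localization (Algebra.algebraMapSubmonoid B p.primeCompl))) :=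
        localizationAlgebra_injective _ _ hinj
      haveI : Algebra.Etale (Localization.AtPrime p)
          (Localization (Algebra.algebraMapSubmonoid B p.primeCompl)) :=
        ih m (lt_of_lt_of_le hmd hdn) _ _ hinj' (by rw [hdimp, hm]; rfl)
          (unramCodimOne_localization R B p h)
      exact isEtaleAt_of_etale_localization R B p q rfl

theorem unramCodimOne_of_algEquiv {R : Type*} {B B' : Type*} [CommRing R] [CommRing B]
    [CommRing B'] [Algebra R B] [Algebra R B'] (e : B ≃ₐ[R] B') (h : UnramCodimOne R B) :
    UnramCodimOne R B' := by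
  intro Q' _ hQ'
  have hht : (Q'.comap e.toRingEquiv).height = Q'.height := RingEquiv.height_comap e.toRingEquiv Q'
  haveI : (Q'.comap e.toRingEquiv).IsPrime := Ideal.comap_isPrime _ _
  haveI : Algebra.IsUnramifiedAt R (Q'.comap e.toRingEquiv) := h _ (by rw [hht]; exact hQ')
  let ψ : Localization.AtPrime (Q'.comap e.toRingEquiv) ≃+* Localization.AtPrime Q' :=
    IsLocalization.ringEquivOfRingEquiv _ _ e.toRingEquiv (e.toRingEquiv.map_primeCompl_comap_eq Q')
  let ψ' : Localization.AtPrime (Q'.comap e.toRingEquiv) ≃ₐ[R] Localization.AtPrime Q' :=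
    AlgEquiv.ofRingEquiv (f := ψ) (by
      intro r
      rw [IsScalarTower.algebraMap_apply R B (Localization.AtPrime (Q'.comap e.toRingEquiv)),
        IsLocalization.ringEquivOfRingEquiv_eq]
      rw [IsScalarTower.algebraMap_apply R B' (Localization.AtPrime Q')]
      congr 1
      exact e.commutes r)
  exact Algebra.FormallyUnramified.of_equiv ψ'

theorem etale_of_unramCodimOne {R : Type u} {B : Type v} [CommRing R] [IsRegularLocalRing R]
    [CommRing B] [IsDomain B] [IsIntegrallyClosed B] [Algebra R B] [Module.Finite R B]
    (hinj : Function.Injective (algebraMap R B)) (h : UnramCodimOne R B) :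
    Algebra.Etale R B := by
  haveI : Small.{u} B := by
    obtain ⟨m, f, hf⟩ := Module.Finite.exists_fin' R B
    exact small_of_surjective hf
  let e : Shrink.{u} B ≃ₐ[R] B := Shrink.algEquiv R B
  haveI : IsDomain (Shrink.{u} B) := e.toRingEquiv.toMulEquiv.isDomain
  haveI : IsIntegrallyClosed (Shrink.{u} B) := IsIntegrallyClosed.of_equiv e.symm.toRingEquiv
  haveI : Module.Finite R (Shrink.{u} B) := Module.Finite.equiv e.symm.toLinearEquiv
  have hinj' : Function.Injective (algebraMap R (Shrink.{u} B)) := by
    intro x y hxy
    apply hinj
    have := congrArg e hxy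
    rwa [e.commutes, e.commutes] at this
  obtain ⟨d, hd⟩ : ∃ d : ℕ, ringKrullDim R = d :=
    ⟨_, (IsRegularLocalRing.spanFinrank_maximalIdeal (R := R)).symm⟩
  haveI : Algebra.Etale R (Shrink.{u} B) :=
    etale_aux d R (Shrink.{u} B) hinj' hd.le (unramCodimOne_of_algEquiv e.symm h)
  exact Algebra.Etale.of_equiv e

end Groth.Agent.Lib.helper22.PurityInd
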