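import Mathlib

/-!
# Finite free extensions realizing a finite extension of a residue field (helper22)

For a prime `p` of `R` and a finite extension `L` of `κ(p)` we construct, by adjoining roots of monic
lifts of (scaled) minimal polynomials, a finite free `R`-algebra `S` with an `R`-algebra map
`ψ : S → L` whose kernel is `p S` and such that every element of `L` is a fraction of elements of
`ψ S` (`exists_datum_top`).
-/

set_option autoImplicit false
universe u
open scoped IntermediateField

namespace Groth.Agent.Lib.helper22.ResFieldExt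

variable (R : Type u) [CommRing R] (p : Ideal R) [p.IsPrime]
  (L : Type u) [Field L] [Algebra p.ResidueField L] [Algebra R L]

/-- the data constructed so far: a finite free `R`-algebra `S` with `ψ : S → L`, `ker ψ = p S`,
`ψ S ⊆ K ⊆ Frac (ψ S)`. -/
structure Datum (K : IntermediateField p.ResidueField L) where
  S : Type u
  [instCR : CommRing S]
  [instAlg : Algebra R S]
  [instFin : Module.Finite R S]
  [instFree : Module.Free R S]
  ψ : S →ₐ[R] L
  ker_eq : RingHom.ker ψ = p.map (algebraMap R S)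
  mem : ∀ s, ψ s ∈ K
  frac : ∀ y ∈ K, ∃ s t, ψ t ≠ 0 ∧ y * ψ t = ψ s

attribute [instance] Datum.instCR Datum.instAlg Datum.instFin Datum.instFree

variable {R p L}

/-- the base case -/
theorem datum_bot [IsScalarTower R p.ResidueField L] :
    Nonempty (Datum R p L (⊥ : IntermediateField p.ResidueField L)) := by
  have hinj : Function.Injective (algebraMap p.ResidueField L) := (algebraMap p.ResidueField L).injective
  refine ⟨{ S := R, ψ := Algebra.ofId R L, ker_eq := ?_, mem := ?_, frac := ?_ }⟩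
  · rw [Algebra.algebraMap_self, Ideal.map_id]
    ext r
    rw [RingHom.mem_ker]
    show algebraMap R L r = 0 ↔ r ∈ p
    rw [IsScalarTower.algebraMap_apply R p.ResidueField L, map_eq_zero_iff _ hinj,
      Ideal.algebraMap_residueField_eq_zero]
  · intro s
    show algebraMap R L s ∈ _
    rw [IsScalarTower.algebraMap_apply R p.ResidueField L]
    exact IntermediateField.algebraMap_mem _ _
  · intro y hy
    rw [IntermediateField.mem_bot] at hy
    obtain ⟨c, rfl⟩ := hy
    obtain ⟨a, b, hb, rfl⟩ := IsFractionRing.div_surjective (A := R ⧸ p) c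
    obtain ⟨a, rfl⟩ := Ideal.Quotient.mk_surjective a
    obtain ⟨b, rfl⟩ := Ideal.Quotient.mk_surjective b
    have hb0 : algebraMap (R ⧸ p) p.ResidueField (Ideal.Quotient.mk p b) ≠ 0 :=
      IsFractionRing.to_map_ne_zero_of_mem_nonZeroDivisors hb
    refine ⟨a, b, ?_, ?_⟩
    · show algebraMap R L b ≠ 0
      rw [IsScalarTower.algebraMap_apply R p.ResidueField L, Ne, map_eq_zero_iff _ hinj]
      exact hb0
    · show _ * algebraMap R L b = algebraMap R L a
      rw [IsScalarTower.algebraMap_apply R p.ResidueField L,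
        IsScalarTower.algebraMap_apply R p.ResidueField L a, ← map_mul]
      congr 1
      rw [div_mul_eq_mul_div, div_eq_iff hb0]
      rfl

section step
variable {K : IntermediateField p.ResidueField L}

theorem exists_common_denom (D : Datum R p L K) (k : ℕ → L) (hk : ∀ i, k i ∈ K) (m : ℕ) :
    ∃ t : D.S, D.ψ t ≠ 0 ∧ ∀ i < m, ∃ a, D.ψ a = k i * D.ψ t := by
  induction m with
  | zero => exact ⟨1, by simp, fun i hi => absurd hi (Nat.not_lt_zero i)⟩
  | succ m ih =>
    obtain ⟨t₀, ht₀, h₀⟩ := ih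
    obtain ⟨s, t₁, ht₁, h₁⟩ := D.frac (k m) (hk m)
    refine ⟨t₀ * t₁, by rw [map_mul]; exact mul_ne_zero ht₀ ht₁, fun i hi => ?_⟩
    rcases Nat.lt_succ_iff_lt_or_eq.1 hi with hi | rfl
    · obtain ⟨a, ha⟩ := h₀ i hi
      exact ⟨a * t₁, by rw [map_mul, map_mul, ha]; ring⟩
    · exact ⟨s * t₀, by rw [map_mul, map_mul, ← h₁]; ring⟩

/-- the subalgebra of elements of `L` that become, after multiplication by a nonzero element of
`ψ S`, an element of the image of a ring map `ψ'` extending `ψ` -/
def fracSub (D : Datum R p L K) {S' : Type u} [CommRing S'] (ι : D.S →+* S') (ψ' : S' →+* L)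
    (hψ' : ∀ s, ψ' (ι s) = D.ψ s) : Subalgebra K L where
  carrier := {v | ∃ (c : D.S) (w : S'), D.ψ c ≠ 0 ∧ D.ψ c * v = ψ' w}
  mul_mem' := by
    rintro a b ⟨c₁, w₁, hc₁, h₁⟩ ⟨c₂, w₂, hc₂, h₂⟩
    refine ⟨c₁ * c₂, w₁ * w₂, by rw [map_mul]; exact mul_ne_zero hc₁ hc₂, ?_⟩
    rw [map_mul, map_mul, ← h₁, ← h₂]
    ring
  add_mem' := by
    rintro a b ⟨c₁, w₁, hc₁, h₁⟩ ⟨c₂, w₂, hc₂, h₂⟩
    refine ⟨c₁ * c₂, ι c₂ * w₁ + ι c₁ * w₂, by rw [map_mul]; exact mul_ne_zero hc₁ hc₂, ?_⟩
    rw [map_mul, map_add, map_mul, map_mul, hψ', hψ', ← h₁, ← h₂]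
    ring
  algebraMap_mem' := by
    intro y
    obtain ⟨s, t, ht, h⟩ := D.frac (y : L) y.2
    refine ⟨t, ι s, ht, ?_⟩
    rw [hψ', ← h, mul_comm]
    rfl

end step

section step2
variable {K : IntermediateField p.ResidueField L}

open Polynomial in
/-- the inductive step: adjoin one more element -/
theorem step [FiniteDimensional p.ResidueField L] (D : Datum R p L K) (x : L) :
    Nonempty (Datum R p L (K⟮x⟯.restrictScalars p.ResidueField)) := by
  classical
  have hntS : Nontrivial D.S := (D.ψ : D.S →+* L).domain_nontrivial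
  have hfin : FiniteDimensional K L := IntermediateField.finiteDimensional_right K
  have hint : IsIntegral K x := Algebra.IsIntegral.isIntegral x
  have hfm : (minpoly K x).Monic := minpoly.monic hint
  set m := (minpoly K x).natDegree with hm
  obtain ⟨t, ht, hden⟩ := exists_common_denom D (fun i => (((minpoly K x).coeff i : K) : L))
    (fun i => ((minpoly K x).coeff i).2) m
  set uK : K := ⟨D.ψ t, D.mem t⟩ with huKdef
  have huKL : (uK : L) = D.ψ t := rfl
  have huK0 : uK ≠ 0 := by
    intro h
    apply ht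
    rw [← huKL, h]
    rfl
  set g := scaleRoots (minpoly K x) uK with hg
  have hgm : g.Monic := (monic_scaleRoots_iff uK).2 hfm
  have hgdeg : g.natDegree = m := natDegree_scaleRoots (minpoly K x) uK
  set β : L := D.ψ t * x with hβ
  have hgβ : aeval β g = 0 := scaleRoots_aeval_eq_zero (r := uK) (minpoly.aeval K x)
  have hcoef : ∀ i, i < m → ∃ a : D.S, D.ψ a = ((g.coeff i : K) : L) := by
    intro i hi
    obtain ⟨a, ha⟩ := hden i hi
    refine ⟨a * t ^ (m - i - 1), ?_⟩
    have e : m - i = (m - i - 1) + 1 := by omega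
    rw [map_mul, map_pow, ha, hg, coeff_scaleRoots, ← hm, e, pow_succ]
    push_cast
    rw [huKL]
    ring
  choose! a ha using hcoef
  let G : D.S[X] := X ^ m + ∑ i ∈ Finset.range m, C (a i) * X ^ i
  have hGlt : (∑ i ∈ Finset.range m, C (a i) * X ^ i : D.S[X]).degree < m := by
    rw [Finset.sum_range]
    exact degree_sum_fin_lt _
  have hGm : G.Monic := monic_X_pow_add hGlt
  have hGdeg : G.degree = m := by
    have h1 : (X ^ m : D.S[X]).degree = m := degree_X_pow m
    show (X ^ m + ∑ i ∈ Finset.range m, C (a i) * X ^ i : D.S[X]).degree = m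
    rw [degree_add_eq_left_of_degree_lt (by rw [h1]; exact hGlt), h1]
  have hGmap : G.map (D.ψ : D.S →+* L) = g.map (algebraMap K L) := by
    conv_rhs => rw [hgm.as_sum, hgdeg]
    simp only [G, Polynomial.map_add, Polynomial.map_pow, map_X, Polynomial.map_sum,
      Polynomial.map_mul, map_C]
    congr 1
    refine Finset.sum_congr rfl (fun i hi => ?_)
    rw [RingHom.coe_coe, ha i (Finset.mem_range.1 hi)]
    rfl
  have hGβ : G.eval₂ (D.ψ : D.S →+* L) β = 0 := by
    rw [eval₂_eq_eval_map, hGmap, eval_map_algebraMap]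
    exact hgβ
  let ψ' : AdjoinRoot G →ₐ[R] L := AdjoinRoot.liftAlgHom G D.ψ β hGβ
  have hψ'of : ∀ s, ψ' (AdjoinRoot.of G s) = D.ψ s := fun s => AdjoinRoot.liftAlgHom_of G D.ψ β hGβ s
  have hψ'mk : ∀ q : D.S[X], ψ' (AdjoinRoot.mk G q) = q.eval₂ (D.ψ : D.S →+* L) β := fun q =>
    AdjoinRoot.lift_mk hGβ q
  have hψ'root : ψ' (AdjoinRoot.root G) = β := AdjoinRoot.lift_root hGβ
  have hfinS : Module.Finite D.S (AdjoinRoot G) := (AdjoinRoot.powerBasis' hGm).finite
  have hfreeS : Module.Free D.S (AdjoinRoot G) := Module.Free.of_basis (AdjoinRoot.powerBasis' hGm).basis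
  have hxK' : x ∈ K⟮x⟯ := IntermediateField.mem_adjoin_simple_self K x
  have hKle : ∀ y ∈ K, y ∈ K⟮x⟯ := fun y hy =>
    IntermediateField.algebraMap_mem K⟮x⟯ (⟨y, hy⟩ : K)
  refine ⟨{ S := AdjoinRoot G, instFin := Module.Finite.trans D.S _,
            instFree := Module.Free.trans (S := D.S), ψ := ψ', ker_eq := ?_, mem := ?_, frac := ?_ }⟩
  · -- kernel
    have hmapmap : p.map (algebraMap R (AdjoinRoot G)) =
        (p.map (algebraMap R D.S)).map (AdjoinRoot.of G) := by
      rw [Ideal.map_map, ← AdjoinRoot.algebraMap_eq, ← IsScalarTower.algebraMap_eq]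
    apply le_antisymm
    · intro z hz
      rw [RingHom.mem_ker] at hz
      obtain ⟨q, rfl⟩ := AdjoinRoot.mk_surjective z
      have hq : AdjoinRoot.mk G q = AdjoinRoot.mk G (q %ₘ G) := by
        rw [AdjoinRoot.mk_eq_mk]
        exact ⟨q /ₘ G, sub_eq_of_eq_add' (modByMonic_add_div q G).symm⟩
      rw [hq] at hz ⊢
      set q₀ := q %ₘ G with hq₀
      have hq₀deg : q₀.degree < m := hGdeg ▸ degree_modByMonic_lt q hGm
      let ψK : D.S →+* K := (D.ψ : D.S →+* L).codRestrict K D.mem
      have hcomp : (algebraMap K L).comp ψK = (D.ψ : D.S →+* L) := RingHom.ext fun _ => rfl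
      have hh : aeval β (q₀.map ψK) = 0 := by
        rw [aeval_def, eval₂_map, hcomp, ← hψ'mk]
        exact hz
      have hzero : q₀.map ψK = 0 := by
        by_contra hne
        have hx' : aeval x (scaleRoots (q₀.map ψK) uK⁻¹) = 0 := by
          have := scaleRoots_aeval_eq_zero (r := uK⁻¹) hh
          have e : algebraMap K L uK⁻¹ * β = x := by
            show ((uK⁻¹ : K) : L) * (D.ψ t * x) = x
            rw [IntermediateField.coe_inv, huKL, inv_mul_cancel_left₀ ht]
          rwa [e] at this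
        have h1 := minpoly.degree_le_of_ne_zero K x (scaleRoots_ne_zero hne _) hx'
        rw [degree_scaleRoots, degree_eq_natDegree hfm.ne_zero, ← hm] at h1
        exact absurd (lt_of_le_of_lt (h1.trans (degree_map_le)) hq₀deg) (lt_irrefl _)
      have hcoeff : ∀ i, q₀.coeff i ∈ p.map (algebraMap R D.S) := by
        intro i
        rw [← D.ker_eq, RingHom.mem_ker]
        have := congrArg (fun r : K[X] => ((r.coeff i : K) : L)) hzero
        simpa [ψK] using this
      rw [hmapmap, q₀.as_sum_support_C_mul_X_pow, map_sum]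
      refine Ideal.sum_mem _ (fun i _ => ?_)
      rw [map_mul, AdjoinRoot.mk_C]
      exact Ideal.mul_mem_right _ _ (Ideal.mem_map_of_mem _ (hcoeff i))
    · rw [Ideal.map_le_iff_le_comap]
      intro r hr
      rw [Ideal.mem_comap, RingHom.mem_ker, AlgHom.commutes, ← D.ψ.commutes, ← RingHom.mem_ker,
        D.ker_eq]
      exact Ideal.mem_map_of_mem _ hr
  · -- image in K⟮x⟯
    intro z
    rw [IntermediateField.mem_restrictScalars]
    obtain ⟨q, rfl⟩ := AdjoinRoot.mk_surjective z
    rw [hψ'mk]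
    induction q using Polynomial.induction_on' with
    | add q₁ q₂ h₁ h₂ =>
      rw [eval₂_add]
      exact add_mem h₁ h₂
    | monomial n c =>
      rw [eval₂_monomial]
      exact mul_mem (hKle _ (D.mem c)) (pow_mem (mul_mem (hKle _ (D.mem t)) hxK') n)
  · -- fractions
    intro y hy
    rw [IntermediateField.mem_restrictScalars, IntermediateField.mem_adjoin_simple_iff] at hy
    obtain ⟨r, s, rfl⟩ := hy
    let W := fracSub D (AdjoinRoot.of G) (ψ' : AdjoinRoot G →+* L) hψ'of
    have hxW : x ∈ W := ⟨t, AdjoinRoot.root G, ht, by rw [RingHom.coe_coe, hψ'root]⟩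
    have hadj : Algebra.adjoin K {x} ≤ W := Algebra.adjoin_le (Set.singleton_subset_iff.2 hxW)
    obtain ⟨c₁, w₁, hc₁, h₁⟩ := hadj (aeval_mem_adjoin_singleton K x (p := r))
    obtain ⟨c₂, w₂, hc₂, h₂⟩ := hadj (aeval_mem_adjoin_singleton K x (p := s))
    rw [RingHom.coe_coe] at h₁ h₂
    by_cases hs0 : aeval x s = 0
    · refine ⟨0, 1, by rw [map_one]; exact one_ne_zero, ?_⟩
      rw [hs0, div_zero, zero_mul, map_zero]
    · refine ⟨AdjoinRoot.of G c₂ * w₁, AdjoinRoot.of G c₁ * w₂, ?_, ?_⟩
      · rw [map_mul, hψ'of, ← h₂]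
        exact mul_ne_zero hc₁ (mul_ne_zero hc₂ hs0)
      · rw [map_mul, map_mul, hψ'of, hψ'of, ← h₂, ← h₁]
        field_simp

end step2

/-- **Main construction.** -/
theorem exists_datum_top [FiniteDimensional p.ResidueField L] [IsScalarTower R p.ResidueField L] :
    Nonempty (Datum R p L (⊤ : IntermediateField p.ResidueField L)) :=
  IntermediateField.induction_on_adjoin (fun K => Nonempty (Datum R p L K)) datum_bot
    (fun _ x ⟨D⟩ => step D x) ⊤

end Groth.Agent.Lib.helper22.ResFieldExt
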