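import Mathlib

/-!
# Weak Cauchy–Binet

`det (P * Q)` for `P : r × κ`, `Q : κ × r` expanded over all functions `Fin r → κ`.
-/

namespace Groth.Agent.Lib.helper22.WeakCB

open Matrix

variable {R : Type*} [CommRing R]

/-- weak Cauchy–Binet: expansion of `det (P * Q)` over all functions. -/
theorem det_mul_eq_sum {r : ℕ} {κ : Type*} [Fintype κ] [DecidableEq κ]
    (P : Matrix (Fin r) κ R) (Q : Matrix κ (Fin r) R) :
    (P * Q).det = ∑ φ : Fin r → κ, (∏ i, P i (φ i)) * (Q.submatrix φ id).det := by
  have h : P * Q = Matrix.of (fun i => ∑ k, P i k • Q k) := by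
    ext i j
    simp [Matrix.mul_apply, Finset.sum_apply]
  rw [h]
  have h1 := (Matrix.detRowAlternating (R := R) (n := Fin r)).toMultilinearMap.map_sum
    (fun i k => P i k • Q k)
  simp only [AlternatingMap.coe_multilinearMap] at h1
  show Matrix.detRowAlternating (fun i => ∑ k, P i k • Q k) = _
  rw [h1]
  refine Finset.sum_congr rfl (fun φ _ => ?_)
  have h2 := (Matrix.detRowAlternating (R := R) (n := Fin r)).toMultilinearMap.map_smul_univ
    (fun i => P i (φ i)) (fun i => Q (φ i))
  simp only [AlternatingMap.coe_multilinearMap] at h2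
  rw [h2, smul_eq_mul]
  rfl

/-- a submatrix of a product is a product of submatrices -/
theorem submatrix_mul_eq {m n κ : Type*} [Fintype κ] {r s : Type*}
    (A : Matrix m κ R) (B : Matrix κ n R) (ρ : r → m) (γ : s → n) :
    (A * B).submatrix ρ γ = A.submatrix ρ id * B.submatrix id γ := by
  ext i j
  simp [Matrix.mul_apply]

/-- column version of the weak Cauchy–Binet expansion. -/
theorem det_mul_eq_sum' {r : ℕ} {κ : Type*} [Fintype κ] [DecidableEq κ]
    (P : Matrix (Fin r) κ R) (Q : Matrix κ (Fin r) R) :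
    (P * Q).det = ∑ φ : Fin r → κ, (∏ i, Q (φ i) i) * (P.submatrix id φ).det := by
  rw [← Matrix.det_transpose, Matrix.transpose_mul, det_mul_eq_sum]
  refine Finset.sum_congr rfl (fun φ _ => ?_)
  rw [← Matrix.det_transpose (P.submatrix id φ)]
  rfl

end Groth.Agent.Lib.helper22.WeakCB
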