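import Groth.Agent.Lib.Helper26.DepthCR2
import Groth.Agent.Lib.Helper26.Depth7
import Groth.Agent.S0565

/-!
# Coproducts of subalgebras of a regular local ring finite over a regular local ring (helper22)

* `free_left_of_free_tensor`, `free_right_of_free_tensor`: over a local ring, if `M ⊗ N` is free with
  `M`, `N` finite and nonzero then `M` and `N` are free.
* `prodHom_bijective`: if `A` is the coproduct (in commutative `R`-algebras) of subalgebras `B j`, then
  `B_i ⊗ ⨂_{j ≠ i} B_j → A` is bijective.
* `free_of_regular_finite`: a regular local ring finite over a regular local subring is free over it.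
* `free_and_regular_of_coproduct`: `R ⊆ A` finite, both regular local, `A` the coproduct of subalgebras
  `B j`: every `B j` is free over `R` and a regular local ring.
-/

set_option autoImplicit false
universe u v w
open scoped TensorProduct

namespace Groth.Agent.Lib.helper22.Coprod

open LocCoh IsLocalRing Groth.Agent.Lib.helper26.Depth

section FreeTensor

variable {R : Type u} [CommRing R] [IsLocalRing R]
  {M : Type v} {N : Type w} [AddCommGroup M] [Module R M] [Module.Finite R M]
  [AddCommGroup N] [Module R N] [Module.Finite R N]

/-- over a local ring, if `M ⊗ N` is free with `M`, `N` finite and `N ≠ 0`, then `M` is free -/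
theorem free_left_of_free_tensor [Nontrivial N] [Module.Free R (M ⊗[R] N)] : Module.Free R M := by
  classical
  let k := IsLocalRing.ResidueField R
  let wM := Module.finBasis k (k ⊗[R] M)
  let wN := Module.finBasis k (k ⊗[R] N)
  obtain ⟨vM, hvM⟩ :=
    (TensorProduct.mk_surjective R M k Ideal.Quotient.mk_surjective).comp_left wM
  obtain ⟨vN, hvN⟩ :=
    (TensorProduct.mk_surjective R N k Ideal.Quotient.mk_surjective).comp_left wN
  have hspanM : Submodule.span R (Set.range vM) = ⊤ :=
    IsLocalRing.span_eq_top_of_tmul_eq_basis vM wM (congr_fun hvM)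
  have hspanN : Submodule.span R (Set.range vN) = ⊤ :=
    IsLocalRing.span_eq_top_of_tmul_eq_basis vN wN (congr_fun hvN)
  let f := Fintype.linearCombination R vM
  let g := Fintype.linearCombination R vN
  have hf : Function.Surjective f := by
    rw [← LinearMap.range_eq_top, Fintype.range_linearCombination, hspanM]
  have hg : Function.Surjective g := by
    rw [← LinearMap.range_eq_top, Fintype.range_linearCombination, hspanN]
  let F := TensorProduct.map f g
  have hF : Function.Surjective F := TensorProduct.map_surjective hf hg
  -- ranks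
  have hrank : Module.finrank R (M ⊗[R] N) =
      Module.finrank k (k ⊗[R] M) * Module.finrank k (k ⊗[R] N) := by
    rw [← Module.finrank_baseChange (R := k) (S := R) (M' := M ⊗[R] N),
      (TensorProduct.AlgebraTensorModule.distribBaseChange R k M N).finrank_eq,
      Module.finrank_tensorProduct]
  have hrank' : Module.finrank R ((Fin (Module.finrank k (k ⊗[R] M)) → R) ⊗[R]
      (Fin (Module.finrank k (k ⊗[R] N)) → R)) = Module.finrank R (M ⊗[R] N) := by
    rw [hrank, Module.finrank_tensorProduct, Module.finrank_fin_fun, Module.finrank_fin_fun]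
  let e := LinearEquiv.ofFinrankEq _ _ hrank'.symm
  have hFinj : Function.Injective F := by
    have h1 : Function.Surjective (e.toLinearMap ∘ₗ F) := e.surjective.comp hF
    have h2 := OrzechProperty.injective_of_surjective_endomorphism _ h1
    exact (Function.Injective.of_comp_iff e.injective F).mp h2
  -- injectivity of `f`
  have hpos : 0 < Module.finrank k (k ⊗[R] N) := by
    haveI : Nontrivial (k ⊗[R] N) := by
      rw [← not_subsingleton_iff_nontrivial, IsLocalRing.subsingleton_tensorProduct]
      exact not_subsingleton N
    exact Module.finrank_pos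
  let j : Fin (Module.finrank k (k ⊗[R] N)) := ⟨0, hpos⟩
  have hfinj : Function.Injective f := by
    rw [injective_iff_map_eq_zero]
    intro x hx
    have h1 : F (x ⊗ₜ[R] Pi.single j 1) = 0 := by
      rw [TensorProduct.map_tmul, hx, TensorProduct.zero_tmul]
    have h2 : x ⊗ₜ[R] (Pi.single j (1 : R)) = 0 := hFinj (by rw [h1, map_zero])
    have h3 := congrArg (fun t => TensorProduct.rid R _ (LinearMap.lTensor _ (LinearMap.proj j) t)) h2
    simpa using h3
  exact Module.Free.of_equiv (LinearEquiv.ofBijective f ⟨hfinj, hf⟩)

/-- symmetric version -/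
theorem free_right_of_free_tensor [Nontrivial M] [Module.Free R (M ⊗[R] N)] : Module.Free R N := by
  haveI : Module.Free R (N ⊗[R] M) := Module.Free.of_equiv (TensorProduct.comm R M N)
  exact free_left_of_free_tensor (M := N) (N := M)

end FreeTensor

section Coproduct

variable {R : Type u} [CommRing R] {A : Type v} [CommRing A] [Algebra R A]
  {n : ℕ} (B : Fin n → Subalgebra R A)

/-- the tensor product of the `B j`, `j ≠ i` -/
abbrev Rest (i : Fin n) : Type (max u v) := ⨂[R] (j : {j : Fin n // j ≠ i}), B j

/-- the product map `⨂_{j ≠ i} B_j → A` -/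
noncomputable def restHom (i : Fin n) : Rest B i →ₐ[R] A :=
  PiTensorProduct.liftAlgHom
    ((MultilinearMap.mkPiAlgebra R {j : Fin n // j ≠ i} A).compLinearMap
      (fun j => (B j).val.toLinearMap))
    (by simp) (by
      intro x y
      simp only [MultilinearMap.compLinearMap_apply, MultilinearMap.mkPiAlgebra_apply,
        AlgHom.toLinearMap_apply, Pi.mul_apply, map_mul]
      exact Finset.prod_mul_distrib)

theorem restHom_single (i : Fin n) (j : {j : Fin n // j ≠ i}) (c : B j) :
    restHom B i (PiTensorProduct.singleAlgHom j c) = c := by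
  classical
  simp only [restHom, PiTensorProduct.singleAlgHom_apply, PiTensorProduct.liftAlgHom_apply,
    PiTensorProduct.lift.tprod, MultilinearMap.compLinearMap_apply,
    MultilinearMap.mkPiAlgebra_apply, AlgHom.toLinearMap_apply]
  rw [Finset.prod_eq_single j]
  · simp
  · intro l _ hl
    simp [Pi.mulSingle_eq_of_ne hl]
  · intro h
    exact absurd (Finset.mem_univ j) h

/-- the product map `B_i ⊗ ⨂_{j ≠ i} B_j → A` -/
noncomputable def prodHom (i : Fin n) : (B i) ⊗[R] (Rest B i) →ₐ[R] A :=
  Algebra.TensorProduct.lift (B i).val (restHom B i) (fun _ _ => Commute.all _ _)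

variable (hcoprod : ∀ (C : Type (max u v)) [CommRing C] [Algebra R C] (φ : ∀ i, B i →ₐ[R] C),
      ∃! ψ : A →ₐ[R] C, ∀ i (x : B i), ψ x = φ i x)

include hcoprod in
/-- if `A` is the coproduct of the subalgebras `B j`, then `B_i ⊗ ⨂_{j ≠ i} B_j → A` is bijective -/
theorem prodHom_bijective (i : Fin n) : Function.Bijective (prodHom B i) := by
  classical
  let T := (B i) ⊗[R] (Rest B i)
  let φ : ∀ j, B j →ₐ[R] T := fun j =>
    if h : j = i then
      (Algebra.TensorProduct.includeLeft : B i →ₐ[R] T).comp
        (Subalgebra.inclusion (le_of_eq (congrArg B h)))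
    else
      (Algebra.TensorProduct.includeRight : Rest B i →ₐ[R] T).comp
        (PiTensorProduct.singleAlgHom (R := R) (A := fun l : {j : Fin n // j ≠ i} => ↥(B l))
          (⟨j, h⟩ : {j : Fin n // j ≠ i}))
  obtain ⟨ψ, hψ, -⟩ := hcoprod T φ
  -- `prodHom ∘ ψ = id`
  have hΘφ : ∀ j (x : B j), prodHom B i (φ j x) = x := by
    intro j x
    by_cases h : j = i
    · subst h
      simp only [φ, dif_pos, AlgHom.comp_apply, prodHom]
      rw [Algebra.TensorProduct.includeLeft_apply, Algebra.TensorProduct.lift_tmul, map_one,
        mul_one]
      rfl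
    · simp only [φ, dif_neg h, AlgHom.comp_apply, prodHom]
      rw [Algebra.TensorProduct.includeRight_apply, Algebra.TensorProduct.lift_tmul, map_one,
        one_mul]
      exact restHom_single B i ⟨j, h⟩ x
  have h1 : ∀ a : A, prodHom B i (ψ a) = a := by
    let φ' : ∀ j, B j →ₐ[R] ULift.{u} A := fun j =>
      (ULift.algEquiv (R := R) (A := A)).symm.toAlgHom.comp (B j).val
    obtain ⟨χ, -, hχu⟩ := hcoprod (ULift.{u} A) φ'
    have e1 : (ULift.algEquiv (R := R) (A := A)).symm.toAlgHom = χ :=
      hχu _ (fun j x => rfl)
    have e2 : (ULift.algEquiv (R := R) (A := A)).symm.toAlgHom.comp ((prodHom B i).comp ψ) = χ :=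
      hχu _ (fun j x => by
        simp only [AlgHom.comp_apply, hψ j x, hΘφ j x]
        rfl)
    intro a
    have := DFunLike.congr_fun (e2.trans e1.symm) a
    exact (ULift.algEquiv (R := R) (A := A)).symm.injective this
  -- `ψ ∘ prodHom = id`
  have h2 : ψ.comp (prodHom B i) = AlgHom.id R T := by
    apply Algebra.TensorProduct.ext
    · ext b
      simp only [AlgHom.comp_apply, Algebra.TensorProduct.includeLeft_apply, AlgHom.id_apply]
      have : prodHom B i (b ⊗ₜ[R] 1) = (b : A) := by simp [prodHom]
      rw [this, hψ i b]
      simp only [φ, dif_pos, AlgHom.comp_apply]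
      rfl
    · apply PiTensorProduct.algHom_ext
      intro j
      ext c
      simp only [AlgHom.comp_apply, Algebra.TensorProduct.includeRight_apply, AlgHom.id_apply,
        AlgHom.restrictScalars_apply]
      have : prodHom B i (1 ⊗ₜ[R] PiTensorProduct.singleAlgHom j c) = (c : A) := by
        simp only [prodHom, Algebra.TensorProduct.lift_tmul, map_one, one_mul]
        exact restHom_single B i j c
      rw [this, hψ j.1 c]
      simp only [φ, dif_neg j.2, AlgHom.comp_apply, Algebra.TensorProduct.includeRight_apply]
      rfl
  refine ⟨?_, fun a => ⟨ψ a, h1 a⟩⟩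
  intro x y hxy
  have := congrArg ψ hxy
  rwa [← AlgHom.comp_apply, ← AlgHom.comp_apply, h2] at this

end Coproduct

section RegFree

theorem ringKrullDim_eq_of_finite_injective {R : Type u} {A : Type v} [CommRing R] [CommRing A]
    [Algebra R A] [Algebra.IsIntegral R A] (hinj : Function.Injective (algebraMap R A)) :
    ringKrullDim A = ringKrullDim R := by
  apply le_antisymm
  · refine Order.krullDim_le_of_strictMono
      (fun p : PrimeSpectrum A => PrimeSpectrum.comap (algebraMap R A) p) ?_
    intro p q hpq
    have : p.asIdeal < q.asIdeal := hpq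
    exact Ideal.IsIntegral.comap_lt_comap (R := R) this
  · unfold ringKrullDim Order.krullDim
    apply iSup_le
    intro l
    obtain ⟨P, -, hP, hPl⟩ := Ideal.exists_ideal_over_prime_of_isIntegral
      (S := A) l.head.asIdeal (⊥ : Ideal A) (by
        rw [← RingHom.ker_eq_comap_bot, (RingHom.injective_iff_ker_eq_bot _).mp hinj]
        exact bot_le)
    have : P.LiesOver l.head.asIdeal := ⟨hPl.symm⟩
    obtain ⟨L, hL, -, -⟩ := Ideal.exists_ltSeries_of_hasGoingUp l P
    rw [← hL]
    exact le_iSup (fun p : LTSeries (PrimeSpectrum A) => (p.length : WithBot ℕ∞)) L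

/-- a regular local ring finite over a regular local subring is a free module (same universe) -/
theorem free_of_regular_finite_aux {R A : Type u} [CommRing R] [IsRegularLocalRing R]
    [CommRing A] [IsRegularLocalRing A] [Algebra R A] [Module.Finite R A]
    (hinj : Function.Injective (algebraMap R A)) : Module.Free R A := by
  haveI : Algebra.IsIntegral R A := Algebra.IsIntegral.of_finite R A
  haveI : FaithfulSMul R A := (faithfulSMul_iff_algebraMap_injective R A).mpr hinj
  haveI : IsLocalHom (algebraMap R A) := inferInstance
  apply free_of_depth_eq_ringKrullDim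
  rw [depth_eq_of_isLocalHom (A := R) (B := A) A, depth_eq_ringKrullDim_of_isRegularLocalRing,
    ringKrullDim_eq_of_finite_injective hinj]

/-- a regular local ring finite over a regular local subring is a free module -/
theorem free_of_regular_finite {R : Type u} {A : Type v} [CommRing R] [IsRegularLocalRing R]
    [CommRing A] [IsRegularLocalRing A] [Algebra R A] [Module.Finite R A]
    (hinj : Function.Injective (algebraMap R A)) : Module.Free R A := by
  haveI : Small.{u} A := by
    obtain ⟨m, f, hf⟩ := Module.Finite.exists_fin' R A
    exact small_of_surjective hf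
  let e : Shrink.{u} A ≃ₐ[R] A := Shrink.algEquiv R A
  haveI : IsRegularLocalRing (Shrink.{u} A) := IsRegularLocalRing.of_ringEquiv e.symm.toRingEquiv
  haveI : Module.Finite R (Shrink.{u} A) := Module.Finite.equiv e.symm.toLinearEquiv
  have hinj' : Function.Injective (algebraMap R (Shrink.{u} A)) := by
    intro x y hxy
    apply hinj
    have := congrArg e hxy
    rwa [e.commutes, e.commutes] at this
  haveI := free_of_regular_finite_aux (R := R) (A := Shrink.{u} A) hinj'
  exact Module.Free.of_equiv e.toLinearEquiv

end RegFree

section Main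

variable {R : Type u} {A : Type v} [CommRing R] [IsRegularLocalRing R]
  [CommRing A] [IsRegularLocalRing A] [Algebra R A] [Module.Finite R A]

/-- `R ⊆ A` finite, both regular local, `A` the coproduct of subalgebras `B j`: every `B j` is free
over `R` and a regular local ring. -/
theorem free_and_regular_of_coproduct (hinj : Function.Injective (algebraMap R A)) {n : ℕ}
    (B : Fin n → Subalgebra R A)
    (hcoprod : ∀ (C : Type (max u v)) [CommRing C] [Algebra R C] (φ : ∀ i, B i →ₐ[R] C),
      ∃! ψ : A →ₐ[R] C, ∀ i (x : B i), ψ x = φ i x) (i : Fin n) :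
    Module.Free R (B i) ∧ IsRegularLocalRing (B i) := by
  classical
  haveI hAfree : Module.Free R A := free_of_regular_finite hinj
  haveI hfinB : ∀ j, Module.Finite R (B j) := fun j =>
    Module.Finite.of_injective (B j).val.toLinearMap Subtype.val_injective
  let eΘ : ((B i) ⊗[R] (Rest B i)) ≃ₐ[R] A :=
    AlgEquiv.ofBijective (prodHom B i) (prodHom_bijective B hcoprod i)
  haveI : Module.Free R ((B i) ⊗[R] (Rest B i)) := Module.Free.of_equiv eΘ.symm.toLinearEquiv
  haveI : Nontrivial (Rest B i) := (restHom B i).toRingHom.domain_nontrivial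
  haveI hfreeB : Module.Free R (B i) := free_left_of_free_tensor (M := B i) (N := Rest B i)
  haveI hfreeN : Module.Free R (Rest B i) := free_right_of_free_tensor (M := B i) (N := Rest B i)
  refine ⟨hfreeB, ?_⟩
  -- `A` is free over `B i`
  let eB : ((B i) ⊗[R] (Rest B i)) ≃ₗ[B i] A :=
    { eΘ.toLinearEquiv with
      map_smul' := fun b t => by
        change prodHom B i (b • t) = (b : A) * prodHom B i t
        induction t using TensorProduct.induction_on with
        | zero => simp
        | tmul x y =>
          rw [TensorProduct.smul_tmul', smul_eq_mul]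
          simp only [prodHom, Algebra.TensorProduct.lift_tmul, Subalgebra.coe_val,
            MulMemClass.coe_mul, mul_assoc]
        | add t₁ t₂ h₁ h₂ => rw [smul_add, map_add, map_add, h₁, h₂, mul_add] }
  haveI : Module.Flat (B i) A := Module.Flat.of_linearEquiv eB.symm
  haveI : IsNoetherianRing (B i) := IsNoetherianRing.of_finite R (B i)
  haveI : Module.Finite (B i) A := Module.Finite.of_restrictScalars_finite R (B i) A
  haveI : Algebra.IsIntegral (B i) A := Algebra.IsIntegral.of_finite (B i) A
  haveI : IsLocalHom (algebraMap (B i) A) := inferInstance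
  haveI : IsLocalRing (B i) := (algebraMap (B i) A).domain_isLocalRing
  exact Groth.Agent.S0565.result (B i) A

end Main

end Groth.Agent.Lib.helper22.Coprod
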