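import Mathlib
import Groth.Agent.Lib.Helper22.Coprod
import Groth.Agent.LibObs29d
import Groth.Agent.Lib.Helper24.PSDim
import Groth.Agent.Lib.Helper15.Regular
import Groth.Agent.Lib.Helper4.RigClosed
import Groth.Agent.Lib.Helper26.RegularNormal

/-!
# Artin–Schreier families over power series rings, abstract form (helper22)

`IsASFam p a u`: `B` is an algebra over `R = k[[x₁..xₙ]]` generated by `u₁..uₙ` with
`uᵢ^p = aᵢ^(p-1) uᵢ + xᵢ`, finite free of rank `p^n`, with an augmentation to `k` and the lifting
property of `R[u]/(relations)`.  Then (for `aᵢ` without constant term) `B` is a regular local ring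
with maximal ideal `(u)` (`isLocalRing`, `maximalIdeal_eq`, `isRegularLocalRing`, `isDomain`),
`(u)`-adically complete (`isAdicComplete`), and if all `aᵢ ≠ 0` its `R`-automorphism group is
`(ℤ/p)^n` acting by `uᵢ ↦ uᵢ + cᵢ aᵢ` with invariants `R` (`Psi`, `aut_main`).
-/

set_option autoImplicit false

namespace Groth.Agent.Lib.helper22.ASAbs
universe u
open IsLocalRing

theorem ncard_range_le {α : Type*} (m : ℕ) (g : Fin m → α) : (Set.range g).ncard ≤ m := by
  classical
  have e : Set.range g = ((Finset.univ.image g : Finset α) : Set α) := by simp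
  rw [e, Set.ncard_coe_finset]
  exact Finset.card_image_le.trans (by simp)

variable (p : ℕ) [hp : Fact p.Prime] {k : Type u} [Field k] {n : ℕ}
  (a : Fin n → MvPowerSeries (Fin n) k)
  {B : Type u} [CommRing B] [Algebra (MvPowerSeries (Fin n) k) B] (u : Fin n → B)

/-- abstract Artin–Schreier family data: `B` is generated over `R = k[[x]]` by `u_i` with
`u_i^p = a_i^(p-1) u_i + x_i`, and has an augmentation to `k` killing the `u_i`. -/
structure IsASFam : Prop where
  rel : ∀ i, u i ^ p = algebraMap (MvPowerSeries (Fin n) k) B (a i ^ (p - 1)) * u i +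
    algebraMap (MvPowerSeries (Fin n) k) B (MvPowerSeries.X i)
  gen : ∀ y : B, ∃ F : MvPolynomial (Fin n) (MvPowerSeries (Fin n) k), y = MvPolynomial.aeval u F
  aug : ∃ chi : B →+* k, (∀ i, chi (u i) = 0) ∧
    ∀ r, chi (algebraMap (MvPowerSeries (Fin n) k) B r) = MvPowerSeries.constantCoeff r
  lift : ∀ v : Fin n → B,
    (∀ i, v i ^ p = algebraMap (MvPowerSeries (Fin n) k) B (a i ^ (p - 1)) * v i +
      algebraMap (MvPowerSeries (Fin n) k) B (MvPowerSeries.X i)) →
    ∃ φ : B →ₐ[MvPowerSeries (Fin n) k] B, ∀ i, φ (u i) = v i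
  free : Module.Free (MvPowerSeries (Fin n) k) B
  finite : Module.Finite (MvPowerSeries (Fin n) k) B
  rank : Module.finrank (MvPowerSeries (Fin n) k) B = p ^ n

variable {p a u}
variable (h : IsASFam p a u)

include hp h in
theorem nontrivial : Nontrivial B := by
  haveI := h.free
  haveI := h.finite
  apply Module.nontrivial_of_finrank_pos (R := MvPowerSeries (Fin n) k)
  rw [h.rank]
  exact pos_of_ne_zero (pow_ne_zero _ hp.out.ne_zero)

include hp h in
theorem algebraMap_injective :
    Function.Injective (algebraMap (MvPowerSeries (Fin n) k) B) := by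
  haveI := h.free
  haveI := nontrivial h
  exact FaithfulSMul.algebraMap_injective _ _

include hp h in
theorem algebraMap_X_mem (i : Fin n) :
    algebraMap (MvPowerSeries (Fin n) k) B (MvPowerSeries.X i) ∈ Ideal.span (Set.range u) := by
  have h1 : algebraMap (MvPowerSeries (Fin n) k) B (MvPowerSeries.X i) =
      (u i ^ (p - 1) - algebraMap (MvPowerSeries (Fin n) k) B (a i ^ (p - 1))) * u i := by
    have h3 : u i ^ p = u i ^ (p - 1) * u i := by
      rw [← pow_succ, Nat.sub_add_cancel hp.out.one_le]
    have := h.rel i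
    rw [h3] at this
    rw [sub_mul, this]
    ring
  rw [h1]
  exact Ideal.mul_mem_left _ _ (Ideal.subset_span ⟨i, rfl⟩)

include hp h in
theorem map_span_X_le : (Ideal.span (Set.range
    (MvPowerSeries.X : Fin n → MvPowerSeries (Fin n) k))).map
    (algebraMap (MvPowerSeries (Fin n) k) B) ≤ Ideal.span (Set.range u) := by
  rw [Ideal.map_span, Ideal.span_le]
  rintro _ ⟨_, ⟨i, rfl⟩, rfl⟩
  exact algebraMap_X_mem h i

include hp h in
theorem span_isMaximal : (Ideal.span (Set.range u)).IsMaximal := by
  obtain ⟨chi, hchi_u, hchi_alg⟩ := h.aug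
  have hsub : ∀ y : B, y - algebraMap (MvPowerSeries (Fin n) k) B (MvPowerSeries.C (chi y)) ∈
      Ideal.span (Set.range u) := by
    intro y
    obtain ⟨F, rfl⟩ := h.gen y
    induction F using MvPolynomial.induction_on with
    | C r =>
      rw [MvPolynomial.aeval_C, hchi_alg, ← map_sub]
      exact map_span_X_le h (Ideal.mem_map_of_mem _ (Groth.Agent.LibCR29.sub_C_mem_span_X r))
    | add F G hF hG =>
      rw [map_add, map_add, map_add, map_add]
      have := (Ideal.span (Set.range u)).add_mem hF hG
      convert this using 1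
      ring
    | mul_X F i _ =>
      rw [map_mul, map_mul, MvPolynomial.aeval_X, hchi_u, mul_zero, map_zero, map_zero, sub_zero]
      exact Ideal.mul_mem_left _ _ (Ideal.subset_span ⟨i, rfl⟩)
  have hker : RingHom.ker chi = Ideal.span (Set.range u) := by
    apply le_antisymm
    · intro y hy
      have := hsub y
      rw [RingHom.mem_ker] at hy
      rwa [hy, map_zero, map_zero, sub_zero] at this
    · rw [Ideal.span_le]
      rintro _ ⟨i, rfl⟩
      exact hchi_u i
  have hsurj : Function.Surjective chi := by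
    intro c
    refine ⟨algebraMap (MvPowerSeries (Fin n) k) B (MvPowerSeries.C c), ?_⟩
    rw [hchi_alg, MvPowerSeries.constantCoeff_C]
  rw [← hker]
  exact RingHom.ker_isMaximal_of_surjective _ hsurj

omit hp in
theorem X_mem_maximalIdeal (i : Fin n) :
    (MvPowerSeries.X i : MvPowerSeries (Fin n) k) ∈ maximalIdeal (MvPowerSeries (Fin n) k) := by
  rw [IsLocalRing.mem_maximalIdeal, mem_nonunits_iff, MvPowerSeries.isUnit_iff_constantCoeff,
    MvPowerSeries.constantCoeff_X]
  exact not_isUnit_zero

section ham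
variable (ham : ∀ i, MvPowerSeries.constantCoeff (a i) = 0)

include ham in
omit hp in
theorem a_mem_maximalIdeal (i : Fin n) : a i ∈ maximalIdeal (MvPowerSeries (Fin n) k) := by
  rw [IsLocalRing.mem_maximalIdeal, mem_nonunits_iff, MvPowerSeries.isUnit_iff_constantCoeff,
    ham i]
  exact not_isUnit_zero

include ham hp h in
theorem eq_span_of_isMaximal (M : Ideal B) (hM : M.IsMaximal) : M = Ideal.span (Set.range u) := by
  haveI := h.finite
  haveI : Algebra.IsIntegral (MvPowerSeries (Fin n) k) B := Algebra.IsIntegral.of_finite _ _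
  have hcm : (M.comap (algebraMap (MvPowerSeries (Fin n) k) B)).IsMaximal :=
    Ideal.isMaximal_comap_of_isIntegral_of_isMaximal M
  have hcm' := IsLocalRing.eq_maximalIdeal hcm
  have hmem : ∀ r ∈ maximalIdeal (MvPowerSeries (Fin n) k),
      algebraMap (MvPowerSeries (Fin n) k) B r ∈ M := by
    intro r hr
    have : r ∈ M.comap (algebraMap (MvPowerSeries (Fin n) k) B) := hcm' ▸ hr
    exact this
  have hu : ∀ i, u i ∈ M := by
    intro i
    apply hM.isPrime.mem_of_pow_mem p
    rw [h.rel]
    refine M.add_mem (M.mul_mem_right _ (hmem _ ?_)) (hmem _ (X_mem_maximalIdeal i))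
    have h1 : p - 1 ≠ 0 := by have := hp.out.one_lt; omega
    exact Ideal.pow_mem_of_mem _ (a_mem_maximalIdeal ham i) _ (Nat.pos_of_ne_zero h1)
  symm
  apply (span_isMaximal h).eq_of_le hM.ne_top
  rw [Ideal.span_le]
  rintro _ ⟨i, rfl⟩
  exact hu i

include ham hp h in
theorem isLocalRing : IsLocalRing B :=
  IsLocalRing.of_unique_max_ideal ⟨_, span_isMaximal h,
    fun M hM => eq_span_of_isMaximal h ham M hM⟩

include ham hp h in
theorem maximalIdeal_eq [IsLocalRing B] : maximalIdeal B = Ideal.span (Set.range u) :=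
  eq_span_of_isMaximal h ham _ (IsLocalRing.maximalIdeal.isMaximal B)

include h in
omit hp in
theorem isNoetherianRing : IsNoetherianRing B := by
  haveI := Groth.Agent.LibObs29.isRegularLocalRing_mvPowerSeries k n
  haveI := h.finite
  exact IsNoetherianRing.of_finite (MvPowerSeries (Fin n) k) B

include hp h in
theorem ringKrullDim_eq : ringKrullDim B = n := by
  haveI := h.finite
  haveI : Algebra.IsIntegral (MvPowerSeries (Fin n) k) B := Algebra.IsIntegral.of_finite _ _
  rw [Groth.Agent.Lib.helper22.Coprod.ringKrullDim_eq_of_finite_injective (algebraMap_injective h)]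
  exact le_antisymm (Groth.Agent.Lib.Helper24.PSDim.ringKrullDim_mvPowerSeries_field_le k n)
    (Groth.Agent.LibObs29.le_ringKrullDim_mvPowerSeries k n)

include ham hp h in
theorem isRegularLocalRing : IsRegularLocalRing B := by
  haveI := isLocalRing h ham
  haveI := isNoetherianRing h
  apply IsRegularLocalRing.of_spanFinrank_maximalIdeal_le
  rw [maximalIdeal_eq h ham, ringKrullDim_eq h]
  have h2 := Submodule.spanFinrank_span_le_ncard_of_finite (R := B) (Set.finite_range u)
  exact_mod_cast h2.trans (ncard_range_le n u)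

include ham hp h in
theorem isDomain : IsDomain B := by
  haveI := isRegularLocalRing h ham
  exact Groth.Agent.Lib.helper15.isDomain_of_isRegularLocalRing B

include ham hp h in
theorem isAdicComplete : IsAdicComplete (Ideal.span (Set.range u)) B := by
  haveI := Groth.Agent.LibObs29.isRegularLocalRing_mvPowerSeries k n
  haveI := h.finite
  haveI := isNoetherianRing h
  haveI : IsAdicComplete (maximalIdeal k) k := by
    rw [IsLocalRing.maximalIdeal_eq_bot]; infer_instance
  haveI := Groth.Agent.LibCR29.isAdicComplete_mvPowerSeries n k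
  haveI h1 : IsAdicComplete (maximalIdeal (MvPowerSeries (Fin n) k)) B :=
    Groth.Agent.Lib.helper4.RigClosed.isAdicComplete_of_finite _ B
  haveI h2 : IsAdicComplete ((maximalIdeal (MvPowerSeries (Fin n) k)).map
      (algebraMap (MvPowerSeries (Fin n) k) B)) B := (IsAdicComplete.map_algebraMap_iff (I := maximalIdeal (MvPowerSeries (Fin n) k)) (S := B) (M := B)).mpr h1
  have hm : maximalIdeal (MvPowerSeries (Fin n) k) =
      Ideal.span (Set.range (MvPowerSeries.X : Fin n → MvPowerSeries (Fin n) k)) := by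
    rw [Groth.Agent.LibCR29.maximalIdeal_ps, IsLocalRing.maximalIdeal_eq_bot, Ideal.map_bot,
      bot_sup_eq]
  have hle : (maximalIdeal (MvPowerSeries (Fin n) k)).map
      (algebraMap (MvPowerSeries (Fin n) k) B) ≤ Ideal.span (Set.range u) := by
    rw [hm]; exact map_span_X_le h
  have hrad : Ideal.span (Set.range u) ≤ ((maximalIdeal (MvPowerSeries (Fin n) k)).map
      (algebraMap (MvPowerSeries (Fin n) k) B)).radical := by
    rw [Ideal.span_le]
    rintro _ ⟨i, rfl⟩
    refine ⟨p, ?_⟩
    rw [h.rel]
    have h1 : p - 1 ≠ 0 := by have := hp.out.one_lt; omega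
    refine Ideal.add_mem _ (Ideal.mul_mem_right _ _ (Ideal.mem_map_of_mem _ ?_))
      (Ideal.mem_map_of_mem _ (X_mem_maximalIdeal i))
    exact Ideal.pow_mem_of_mem _ (a_mem_maximalIdeal ham i) _ (Nat.pos_of_ne_zero h1)
  obtain ⟨N, hN⟩ := Ideal.exists_pow_le_of_le_radical_of_fg hrad (IsNoetherian.noetherian _)
  exact Groth.Agent.Lib.helper4.RigClosed.isAdicComplete_of_pow_le _ _ N hle
    ((Ideal.pow_le_pow_right (Nat.le_succ N)).trans hN)

end ham


section aut
variable [CharP k p]

include h in
omit hp [CharP k p] in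
theorem algHom_ext {φ ψ : B →ₐ[MvPowerSeries (Fin n) k] B} (hu : ∀ i, φ (u i) = ψ (u i)) :
    φ = ψ := by
  have h1 : φ.comp (MvPolynomial.aeval u) = ψ.comp (MvPolynomial.aeval u) := by
    apply MvPolynomial.algHom_ext
    intro i
    simp [hu i]
  ext y
  obtain ⟨F, rfl⟩ := h.gen y
  exact congrArg (fun g => g F) h1

/-- the translation vector attached to `c ∈ (ℤ/p)^n` -/
noncomputable def shift (a : Fin n → MvPowerSeries (Fin n) k) (B : Type u) [CommRing B]
    [Algebra (MvPowerSeries (Fin n) k) B] (c : Fin n → ZMod p) (i : Fin n) : B :=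
  algebraMap (MvPowerSeries (Fin n) k) B
    (MvPowerSeries.C (ZMod.castHom (dvd_refl p) k (c i)) * a i)

theorem shift_add (c c' : Fin n → ZMod p) (i : Fin n) :
    shift (p := p) a B (c + c') i = shift a B c i + shift a B c' i := by
  simp only [shift, Pi.add_apply, map_add, add_mul]

theorem shift_zero (i : Fin n) : shift (p := p) a B 0 i = 0 := by
  simp [shift]

include hp h in
theorem exists_sigma (c : Fin n → ZMod p) :
    ∃ φ : B →ₐ[MvPowerSeries (Fin n) k] B, ∀ i, φ (u i) = u i + shift a B c i := by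
  apply h.lift
  intro i
  haveI : CharP (MvPowerSeries (Fin n) k) p :=
    charP_of_injective_ringHom (MvPowerSeries.C_injective (σ := Fin n) (R := k)) p
  haveI : CharP B p := charP_of_injective_algebraMap (algebraMap_injective h) p
  have hc : (ZMod.castHom (dvd_refl p) k (c i)) ^ p = ZMod.castHom (dvd_refl p) k (c i) := by
    rw [← map_pow, ZMod.pow_card]
  have hp1 : a i ^ p = a i ^ (p - 1) * a i := by
    rw [← pow_succ, Nat.sub_add_cancel hp.out.one_le]
  have hs : shift a B c i ^ p =
      algebraMap (MvPowerSeries (Fin n) k) B (a i ^ (p - 1)) * shift a B c i := by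
    simp only [shift]
    rw [← map_pow, ← map_mul, mul_pow, ← map_pow, hc, hp1]
    congr 1
    ring
  rw [add_pow_char, h.rel, hs]
  ring

/-- the automorphisms `u_i ↦ u_i + c_i a_i` (as algebra endomorphisms) -/
noncomputable def sig (c : Fin n → ZMod p) : B →ₐ[MvPowerSeries (Fin n) k] B :=
  (exists_sigma h c).choose

theorem sig_u (c : Fin n → ZMod p) (i : Fin n) : sig h c (u i) = u i + shift a B c i :=
  (exists_sigma h c).choose_spec i

theorem sig_comp (c c' : Fin n → ZMod p) : (sig h c).comp (sig h c') = sig h (c + c') := by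
  apply algHom_ext h
  intro i
  rw [AlgHom.comp_apply, sig_u, map_add, sig_u, sig_u, shift_add]
  simp only [shift, AlgHom.commutes]
  ring

theorem sig_zero : sig h (0 : Fin n → ZMod p) = AlgHom.id _ _ := by
  apply algHom_ext h
  intro i
  rw [sig_u, shift_zero, add_zero, AlgHom.id_apply]

/-- the automorphisms `u_i ↦ u_i + c_i a_i` -/
noncomputable def sigEquiv (c : Fin n → ZMod p) : B ≃ₐ[MvPowerSeries (Fin n) k] B :=
  AlgEquiv.ofAlgHom (sig h c) (sig h (-c))
    (by rw [sig_comp, add_neg_cancel, sig_zero])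
    (by rw [sig_comp, neg_add_cancel, sig_zero])

/-- the group homomorphism `(ℤ/p)^n → Aut_R(B)` -/
noncomputable def Psi : Multiplicative (Fin n → ZMod p) →* (B ≃ₐ[MvPowerSeries (Fin n) k] B) where
  toFun c := sigEquiv h (Multiplicative.toAdd c)
  map_one' := by
    ext y
    show sig h 0 y = y
    rw [sig_zero]; rfl
  map_mul' c c' := by
    ext y
    show sig h (Multiplicative.toAdd c + Multiplicative.toAdd c') y =
      sig h (Multiplicative.toAdd c) (sig h (Multiplicative.toAdd c') y)
    rw [← sig_comp]; rfl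

theorem Psi_apply_u (c : Multiplicative (Fin n → ZMod p)) (i : Fin n) :
    Psi h c (u i) = u i + shift a B (Multiplicative.toAdd c) i :=
  sig_u h _ i

include hp in
theorem Psi_injective (ha0 : ∀ i, a i ≠ 0) : Function.Injective (Psi h) := by
  rw [injective_iff_map_eq_one]
  intro c hc
  have h1 : ∀ i, shift a B (Multiplicative.toAdd c) i = 0 := by
    intro i
    have := Psi_apply_u h c i
    rw [hc, AlgEquiv.one_apply] at this
    exact (add_eq_left.mp this.symm)
  have h2 : Multiplicative.toAdd c = 0 := by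
    funext i
    have h3 := h1 i
    simp only [shift] at h3
    rw [← map_zero (algebraMap (MvPowerSeries (Fin n) k) B)] at h3
    have h4 := algebraMap_injective h h3
    rcases mul_eq_zero.mp h4 with h5 | h5
    · rw [← map_zero (MvPowerSeries.C (σ := Fin n) (R := k))] at h5
      have h6 := MvPowerSeries.C_injective h5
      rw [← map_zero (ZMod.castHom (dvd_refl p) k)] at h6
      exact (ZMod.castHom (dvd_refl p) k).injective h6
    · exact absurd h5 (ha0 i)
  exact h2


section galois
variable (ham : ∀ i, MvPowerSeries.constantCoeff (a i) = 0)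

include ham hp h in
omit [CharP k p] in
/-- the fraction field picture: `Aut_R(B)` embeds into `Gal(Frac B / Frac R)`, which has at most
`p ^ n` elements; if it has exactly `p ^ n` elements then invariants of `B` come from `R`. -/
theorem card_aut_le_and_fixed :
    Finite (B ≃ₐ[MvPowerSeries (Fin n) k] B) ∧
    Nat.card (B ≃ₐ[MvPowerSeries (Fin n) k] B) ≤ p ^ n ∧
    (p ^ n ≤ Nat.card (B ≃ₐ[MvPowerSeries (Fin n) k] B) →
      ∀ b : B, (∀ σ : B ≃ₐ[MvPowerSeries (Fin n) k] B, σ b = b) →
        b ∈ Set.range (algebraMap (MvPowerSeries (Fin n) k) B)) := by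
  classical
  haveI := isDomain h ham
  haveI := h.finite
  haveI := h.free
  haveI hreg := Groth.Agent.LibObs29.isRegularLocalRing_mvPowerSeries k n
  haveI : IsDomain (MvPowerSeries (Fin n) k) :=
    Groth.Agent.Lib.helper15.isDomain_of_isRegularLocalRing _
  haveI : FaithfulSMul (MvPowerSeries (Fin n) k) B :=
    (faithfulSMul_iff_algebraMap_injective _ _).mpr (algebraMap_injective h)
  let K := FractionRing (MvPowerSeries (Fin n) k)
  let L := FractionRing B
  letI : Algebra K L := FractionRing.liftAlgebra (MvPowerSeries (Fin n) k) L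
  haveI : IsScalarTower (MvPowerSeries (Fin n) k) K L := FractionRing.isScalarTower_liftAlgebra _ _
  have hrank : Module.finrank K L = p ^ n := by
    rw [IsFractionRing.finrank_eq (MvPowerSeries (Fin n) k) K B L, h.rank]
  haveI : FiniteDimensional K L := Module.finite_of_finrank_pos (by
    rw [hrank]; exact pos_of_ne_zero (pow_ne_zero _ hp.out.ne_zero))
  let ι : (B ≃ₐ[MvPowerSeries (Fin n) k] B) →* (L ≃ₐ[K] L) :=
    IsFractionRing.fieldEquivOfAlgEquivHom K L
  have hι : Function.Injective ι :=
    IsFractionRing.fieldEquivOfAlgEquivHom_injective (MvPowerSeries (Fin n) k) B K L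
  haveI : Finite (L ≃ₐ[K] L) := inferInstance
  have hle : Nat.card (L ≃ₐ[K] L) ≤ p ^ n := by
    rw [Nat.card_eq_fintype_card, ← hrank]
    exact AlgEquiv.card_le
  have h1 : Nat.card (B ≃ₐ[MvPowerSeries (Fin n) k] B) ≤ Nat.card (L ≃ₐ[K] L) :=
    Nat.card_le_card_of_injective ι hι
  haveI : Finite (B ≃ₐ[MvPowerSeries (Fin n) k] B) := Finite.of_injective ι hι
  refine ⟨inferInstance, h1.trans hle, fun hge b hb => ?_⟩
  have hcard : Nat.card (L ≃ₐ[K] L) = Module.finrank K L := by
    rw [hrank]; exact le_antisymm hle (hge.trans h1)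
  haveI : IsGalois K L := IsGalois.of_card_aut_eq_finrank K L hcard
  have hbij : Function.Bijective ι := by
    rw [Nat.bijective_iff_injective_and_card]
    exact ⟨hι, le_antisymm h1 (hle.trans hge)⟩
  have hfix : ∀ f : L ≃ₐ[K] L, f (algebraMap B L b) = algebraMap B L b := by
    intro f
    obtain ⟨σ, rfl⟩ := hbij.2 f
    show IsFractionRing.fieldEquivOfAlgEquiv K L L σ (algebraMap B L b) = _
    rw [IsFractionRing.fieldEquivOfAlgEquiv_algebraMap, hb σ]
  have hmem := (IsGalois.mem_bot_iff_fixed (F := K) (E := L) (algebraMap B L b)).mpr hfix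
  obtain ⟨x, hx⟩ := IntermediateField.mem_bot.mp hmem
  -- `x ∈ K` is integral over `R`
  haveI : IsIntegrallyClosed (MvPowerSeries (Fin n) k) :=
    Groth.Agent.Lib.helper26.RegNormal.isIntegrallyClosed _
  have hint : IsIntegral (MvPowerSeries (Fin n) k) x := by
    have hb_int : IsIntegral (MvPowerSeries (Fin n) k) b := Algebra.IsIntegral.isIntegral b
    have h2 : IsIntegral (MvPowerSeries (Fin n) k) (algebraMap K L x) := by
      rw [hx]; exact hb_int.map (IsScalarTower.toAlgHom (MvPowerSeries (Fin n) k) B L)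
    exact (isIntegral_algHom_iff (IsScalarTower.toAlgHom (MvPowerSeries (Fin n) k) K L)
      (algebraMap K L).injective).mp h2
  obtain ⟨r, hr⟩ := IsIntegrallyClosed.isIntegral_iff.mp hint
  refine ⟨r, ?_⟩
  apply FaithfulSMul.algebraMap_injective B L
  rw [← hx, ← hr, ← IsScalarTower.algebraMap_apply, ← IsScalarTower.algebraMap_apply]


include ham hp h in
theorem aut_main (ha0 : ∀ i, a i ≠ 0) :
    Nat.card (B ≃ₐ[MvPowerSeries (Fin n) k] B) = p ^ n ∧
    (∀ σ τ : B ≃ₐ[MvPowerSeries (Fin n) k] B, σ * τ = τ * σ) ∧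
    (∀ σ : B ≃ₐ[MvPowerSeries (Fin n) k] B, σ ^ p = 1) ∧
    ∀ b : B, (∀ σ : B ≃ₐ[MvPowerSeries (Fin n) k] B, σ b = b) ↔
      b ∈ Set.range (algebraMap (MvPowerSeries (Fin n) k) B) := by
  classical
  obtain ⟨hfin, hle, hfix⟩ := card_aut_le_and_fixed h ham
  have hΨ := Psi_injective h ha0
  have hcardM : Nat.card (Multiplicative (Fin n → ZMod p)) = p ^ n := by
    rw [Nat.card_congr (Multiplicative.toAdd (α := Fin n → ZMod p)), Nat.card_eq_fintype_card,
      Fintype.card_fun, ZMod.card, Fintype.card_fin]
  have hge : p ^ n ≤ Nat.card (B ≃ₐ[MvPowerSeries (Fin n) k] B) :=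
    hcardM ▸ Nat.card_le_card_of_injective (Psi h) hΨ
  have heq := le_antisymm hle hge
  have hbij : Function.Bijective (Psi h) :=
    (Nat.bijective_iff_injective_and_card (Psi h)).mpr ⟨hΨ, hcardM.trans heq.symm⟩
  refine ⟨heq, ?_, ?_, ?_⟩
  · intro σ τ
    obtain ⟨c, rfl⟩ := hbij.2 σ
    obtain ⟨c', rfl⟩ := hbij.2 τ
    rw [← map_mul, ← map_mul, mul_comm]
  · intro σ
    obtain ⟨c, rfl⟩ := hbij.2 σ
    rw [← map_pow]
    have : c ^ p = 1 := by
      apply Multiplicative.toAdd.injective
      rw [toAdd_pow, toAdd_one]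
      funext i
      simp [nsmul_eq_mul, CharP.cast_eq_zero]
    rw [this, map_one]
  · intro b
    constructor
    · exact hfix hge b
    · rintro ⟨r, rfl⟩ σ
      exact σ.commutes r

end galois

end aut

end Groth.Agent.Lib.helper22.ASAbs
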