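import Mathlib

/-!
# Quotients of polynomial rings by separated monic relations (helper22)

For `f : ι → R[X]` (`ι` finite), `MvPolynomial ι R ⧸ (f i (X i) : i)` is the tensor product over
`R` of the `AdjoinRoot (f i)` (`equiv`); if the `f i` are monic it is finite free of rank
`∏ i, (f i).natDegree` (`free`, `finite`, `finrank_eq`).
-/

set_option autoImplicit false

namespace Groth.Agent.Lib.helper22.SepMonic
universe u v
open MvPolynomial PiTensorProduct TensorProduct

variable {R : Type u} [CommRing R] {ι : Type v} [Fintype ι] [DecidableEq ι]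
  (f : ι → Polynomial R)

/-- the ideal of the separated relations `f i (X i)` -/
noncomputable def relIdeal : Ideal (MvPolynomial ι R) :=
  Ideal.span (Set.range fun i => Polynomial.aeval (X i : MvPolynomial ι R) (f i))

/-- the tensor product model -/
abbrev T : Type (max u v) := ⨂[R] i, AdjoinRoot (f i)

/-- the map from the quotient of the polynomial ring to the tensor product of the `AdjoinRoot`s -/
noncomputable def toT : (MvPolynomial ι R ⧸ relIdeal f) →ₐ[R] T f :=
  Ideal.Quotient.liftₐ (relIdeal f)
    (MvPolynomial.aeval fun i => singleAlgHom (R := R) (A := fun i => AdjoinRoot (f i)) i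
      (AdjoinRoot.root (f i))) (by
    intro a ha
    have hle : relIdeal f ≤ RingHom.ker (MvPolynomial.aeval fun i =>
        singleAlgHom (R := R) (A := fun i => AdjoinRoot (f i)) i (AdjoinRoot.root (f i))) := by
      rw [relIdeal, Ideal.span_le]
      rintro _ ⟨i, rfl⟩
      rw [SetLike.mem_coe, RingHom.mem_ker]
      show (MvPolynomial.aeval _) (Polynomial.aeval (X i) (f i)) = 0
      rw [← Polynomial.aeval_algHom_apply, MvPolynomial.aeval_X, Polynomial.aeval_algHom_apply,
        AdjoinRoot.aeval_eq, AdjoinRoot.mk_self, map_zero]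
    exact hle ha)

omit [Fintype ι] in
theorem toT_mk_X (i : ι) : toT f (Ideal.Quotient.mk _ (X i)) =
    singleAlgHom (R := R) (A := fun i => AdjoinRoot (f i)) i (AdjoinRoot.root (f i)) := by
  simp [toT]

/-- the component maps `R[T]/(f i) → R[X]/(f)` -/
noncomputable def comp (i : ι) : AdjoinRoot (f i) →ₐ[R] (MvPolynomial ι R ⧸ relIdeal f) :=
  AdjoinRoot.liftAlgHom (f i) (Algebra.ofId R _) (Ideal.Quotient.mk _ (X i)) (by
    have h1 : Polynomial.eval₂ (Algebra.ofId R (MvPolynomial ι R ⧸ relIdeal f) : R →+* _)
        (Ideal.Quotient.mk (relIdeal f) (X i)) (f i) =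
        Ideal.Quotient.mk (relIdeal f) (Polynomial.aeval (X i : MvPolynomial ι R) (f i)) := by
      rw [Polynomial.aeval_def, Polynomial.hom_eval₂]
      rfl
    rw [h1, Ideal.Quotient.eq_zero_iff_mem]
    exact Ideal.subset_span ⟨i, rfl⟩)

omit [Fintype ι] [DecidableEq ι] in
theorem comp_root (i : ι) : comp f i (AdjoinRoot.root (f i)) = Ideal.Quotient.mk _ (X i) := by
  simp [comp]

/-- the map back -/
noncomputable def ofT : T f →ₐ[R] (MvPolynomial ι R ⧸ relIdeal f) :=
  liftAlgHom ((MultilinearMap.mkPiAlgebra R ι (MvPolynomial ι R ⧸ relIdeal f)).compLinearMap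
    (fun i => (comp f i).toLinearMap)) (by simp) (by
      intro x y
      simp [Finset.prod_mul_distrib])

theorem ofT_single (i : ι) (a : AdjoinRoot (f i)) :
    ofT f (singleAlgHom (R := R) (A := fun i => AdjoinRoot (f i)) i a) = comp f i a := by
  simp only [ofT, liftAlgHom_apply, singleAlgHom_apply]
  rw [PiTensorProduct.lift.tprod]
  simp only [MultilinearMap.compLinearMap_apply, AlgHom.toLinearMap_apply,
    MultilinearMap.mkPiAlgebra_apply]
  rw [Finset.prod_eq_single i]
  · simp
  · intro j _ hj
    simp [MonoidHom.mulSingle_apply, Pi.mulSingle_eq_of_ne hj]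
  · intro h; exact absurd (Finset.mem_univ i) h

/-- the quotient by separated relations is the tensor product of the `AdjoinRoot`s -/
noncomputable def equiv : (MvPolynomial ι R ⧸ relIdeal f) ≃ₐ[R] T f :=
  AlgEquiv.ofAlgHom (toT f) (ofT f)
    (by
      apply PiTensorProduct.algHom_ext
      intro i
      apply AdjoinRoot.algHom_ext
      simp only [AlgHom.comp_apply, AlgHom.id_comp]
      rw [ofT_single, comp_root, toT_mk_X])
    (by
      apply Ideal.Quotient.algHom_ext
      apply MvPolynomial.algHom_ext
      intro i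
      simp only [AlgHom.comp_apply, Ideal.Quotient.mkₐ_eq_mk, AlgHom.id_comp]
      rw [toT_mk_X, ofT_single, comp_root])

theorem free (hf : ∀ i, (f i).Monic) : Module.Free R (MvPolynomial ι R ⧸ relIdeal f) := by
  have b : Module.Basis (Π i, Fin (f i).natDegree) R (T f) :=
    Basis.piTensorProduct (fun i => (AdjoinRoot.powerBasis' (hf i)).basis)
  exact Module.Free.of_basis (b.map (equiv f).symm.toLinearEquiv)

theorem finite (hf : ∀ i, (f i).Monic) : Module.Finite R (MvPolynomial ι R ⧸ relIdeal f) := by
  have b : Module.Basis (Π i, Fin (f i).natDegree) R (T f) :=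
    Basis.piTensorProduct (fun i => (AdjoinRoot.powerBasis' (hf i)).basis)
  exact Module.Finite.of_basis (b.map (equiv f).symm.toLinearEquiv)

theorem finrank_eq [Nontrivial R] (hf : ∀ i, (f i).Monic) :
    Module.finrank R (MvPolynomial ι R ⧸ relIdeal f) = ∏ i, (f i).natDegree := by
  have b : Module.Basis (Π i, Fin (f i).natDegree) R (T f) :=
    Basis.piTensorProduct (fun i => (AdjoinRoot.powerBasis' (hf i)).basis)
  rw [Module.finrank_eq_card_basis (b.map (equiv f).symm.toLinearEquiv)]
  simp

end Groth.Agent.Lib.helper22.SepMonic
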