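import Mathlib
import Groth.Agent.Lib.Helper22.SepMonic
import Groth.Agent.Lib.Helper22.ASAbs

/-!
# The Artin–Schreier family `R[u]/(uᵢ^p - aᵢ^(p-1) uᵢ - xᵢ)` over `R = k[[x₁..xₙ]]` (helper22)

Instantiates `ASAbs.IsASFam` for the explicit quotient (`isASFam`), using `SepMonic` for freeness.
Main results: `main_regular` (S15787), `main_free` (S15788), `main_aut` (S15789).
-/

set_option autoImplicit false

namespace Groth.Agent.Lib.helper22.ASFam
universe u
open IsLocalRing

variable (p : ℕ) [hp : Fact p.Prime] (k : Type u) [Field k] [CharP k p] (n : ℕ)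
  (a : Fin n → MvPowerSeries (Fin n) k)

/-- the one-variable Artin–Schreier polynomial `T^p - a_i^(p-1) T - x_i` -/
noncomputable def poly (i : Fin n) : Polynomial (MvPowerSeries (Fin n) k) :=
  Polynomial.X ^ p - Polynomial.C (a i ^ (p - 1)) * Polynomial.X -
    Polynomial.C (MvPowerSeries.X i)

/-- the ideal of the Artin–Schreier family -/
noncomputable def asIdeal : Ideal (MvPolynomial (Fin n) (MvPowerSeries (Fin n) k)) :=
  Ideal.span (Set.range fun i : Fin n =>
    MvPolynomial.X i ^ p - MvPolynomial.C (a i ^ (p - 1)) * MvPolynomial.X i -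
      MvPolynomial.C (MvPowerSeries.X i))

include hp in
omit [CharP k p] in
theorem poly_monic (i : Fin n) : (poly p k n a i).Monic := by
  have h1 : 1 < p := hp.out.one_lt
  unfold poly
  rw [sub_sub]
  apply Polynomial.monic_X_pow_sub
  refine lt_of_le_of_lt (Polynomial.degree_add_le _ _) ?_
  rw [max_lt_iff]
  constructor
  · refine lt_of_le_of_lt (Polynomial.degree_C_mul_X_le _) ?_
    exact_mod_cast h1
  · refine lt_of_le_of_lt Polynomial.degree_C_le ?_
    exact_mod_cast (by omega : 0 < p)

include hp in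
omit [CharP k p] in
theorem poly_natDegree (i : Fin n) : (poly p k n a i).natDegree = p := by
  have h1 : 1 < p := hp.out.one_lt
  unfold poly
  rw [sub_sub]
  have hdeg : (Polynomial.C (a i ^ (p - 1)) * Polynomial.X +
      Polynomial.C (MvPowerSeries.X i : MvPowerSeries (Fin n) k)).degree <
      (Polynomial.X ^ p : Polynomial (MvPowerSeries (Fin n) k)).degree := by
    rw [Polynomial.degree_X_pow]
    refine lt_of_le_of_lt (Polynomial.degree_add_le _ _) ?_
    rw [max_lt_iff]
    constructor
    · refine lt_of_le_of_lt (Polynomial.degree_C_mul_X_le _) ?_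
      exact_mod_cast h1
    · refine lt_of_le_of_lt Polynomial.degree_C_le ?_
      exact_mod_cast (by omega : 0 < p)
  apply Polynomial.natDegree_eq_of_degree_eq_some
  rw [Polynomial.degree_sub_eq_left_of_degree_lt hdeg, Polynomial.degree_X_pow]

omit hp [CharP k p] in
theorem asIdeal_eq : asIdeal p k n a = SepMonic.relIdeal (poly p k n a) := by
  unfold asIdeal SepMonic.relIdeal
  congr 1
  ext y
  constructor
  · rintro ⟨i, rfl⟩
    exact ⟨i, by simp [poly, MvPolynomial.algebraMap_eq]⟩
  · rintro ⟨i, rfl⟩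
    exact ⟨i, by simp [poly, MvPolynomial.algebraMap_eq]⟩

/-- the Artin–Schreier family ring -/
abbrev A : Type u := MvPolynomial (Fin n) (MvPowerSeries (Fin n) k) ⧸ asIdeal p k n a

include hp in
omit [CharP k p] in
theorem free : Module.Free (MvPowerSeries (Fin n) k) (A p k n a) := by
  have := SepMonic.free (poly p k n a) (poly_monic p k n a)
  rwa [← asIdeal_eq] at this

include hp in
omit [CharP k p] in
theorem finite : Module.Finite (MvPowerSeries (Fin n) k) (A p k n a) := by
  have := SepMonic.finite (poly p k n a) (poly_monic p k n a)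
  rwa [← asIdeal_eq] at this

include hp in
omit [CharP k p] in
theorem finrank_eq : Module.finrank (MvPowerSeries (Fin n) k) (A p k n a) = p ^ n := by
  have := SepMonic.finrank_eq (poly p k n a) (poly_monic p k n a)
  rw [← asIdeal_eq] at this
  rw [this]
  simp [poly_natDegree]


include hp in
omit [CharP k p] in
theorem nontrivial : Nontrivial (A p k n a) := by
  haveI := free p k n a
  haveI := finite p k n a
  apply Module.nontrivial_of_finrank_pos (R := MvPowerSeries (Fin n) k)
  rw [finrank_eq]
  exact pos_of_ne_zero (pow_ne_zero _ hp.out.ne_zero)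

include hp in
omit [CharP k p] in
theorem algebraMap_injective :
    Function.Injective (algebraMap (MvPowerSeries (Fin n) k) (A p k n a)) := by
  haveI := free p k n a
  haveI := nontrivial p k n a
  exact FaithfulSMul.algebraMap_injective _ _

/-- the augmentation `A → k`, `u_i ↦ 0` -/
noncomputable def chi : A p k n a →+* k :=
  Ideal.Quotient.lift (asIdeal p k n a)
    (MvPolynomial.eval₂Hom (MvPowerSeries.constantCoeff (σ := Fin n) (R := k)) (fun _ => 0)) (by
    intro x hx
    have hle : asIdeal p k n a ≤ RingHom.ker (MvPolynomial.eval₂Hom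
        (MvPowerSeries.constantCoeff (σ := Fin n) (R := k)) (fun _ => (0 : k))) := by
      unfold asIdeal
      rw [Ideal.span_le]
      rintro _ ⟨i, rfl⟩
      simp [RingHom.mem_ker, hp.out.ne_zero]
    exact hle hx)

/-- the ideal generated by the classes of the `u_i` -/
noncomputable def U : @Ideal (A p k n a) CommRing.toCommSemiring.toSemiring :=
  Ideal.map (Ideal.Quotient.mk (asIdeal p k n a))
    (Ideal.span (Set.range (MvPolynomial.X : Fin n → MvPolynomial (Fin n) (MvPowerSeries (Fin n) k))))

omit hp [CharP k p] in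
theorem mk_X_mem_U (i : Fin n) : Ideal.Quotient.mk (asIdeal p k n a) (MvPolynomial.X i) ∈ U p k n a :=
  Ideal.mem_map_of_mem _ (Ideal.subset_span ⟨i, rfl⟩)

omit [CharP k p] in
include hp in
theorem algebraMap_X_mem_U (i : Fin n) :
    algebraMap (MvPowerSeries (Fin n) k) (A p k n a) (MvPowerSeries.X i) ∈ U p k n a := by
  have h1 : algebraMap (MvPowerSeries (Fin n) k) (A p k n a) (MvPowerSeries.X i) =
      Ideal.Quotient.mk (asIdeal p k n a) (MvPolynomial.X i ^ p -
        MvPolynomial.C (a i ^ (p - 1)) * MvPolynomial.X i) := by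
    symm
    rw [← sub_eq_zero]
    show Ideal.Quotient.mk (asIdeal p k n a) _ - Ideal.Quotient.mk (asIdeal p k n a)
      (MvPolynomial.C (MvPowerSeries.X i)) = 0
    rw [← map_sub, Ideal.Quotient.eq_zero_iff_mem]
    exact Ideal.subset_span ⟨i, rfl⟩
  rw [h1]
  apply Ideal.mem_map_of_mem
  have h2 : (MvPolynomial.X i ^ p - MvPolynomial.C (a i ^ (p - 1)) * MvPolynomial.X i :
      MvPolynomial (Fin n) (MvPowerSeries (Fin n) k)) =
      (MvPolynomial.X i ^ (p - 1) - MvPolynomial.C (a i ^ (p - 1))) * MvPolynomial.X i := by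
    have h3 : (MvPolynomial.X i ^ p : MvPolynomial (Fin n) (MvPowerSeries (Fin n) k)) =
        MvPolynomial.X i ^ (p - 1) * MvPolynomial.X i := by
      rw [← pow_succ, Nat.sub_add_cancel hp.out.one_le]
    rw [h3]
    ring
  rw [h2]
  exact Ideal.mul_mem_left _ _ (Ideal.subset_span ⟨i, rfl⟩)

omit [CharP k p] in
include hp in
theorem map_span_X_le_U : (Ideal.span (Set.range
    (MvPowerSeries.X : Fin n → MvPowerSeries (Fin n) k))).map
    (algebraMap (MvPowerSeries (Fin n) k) (A p k n a)) ≤ U p k n a := by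
  rw [Ideal.map_span, Ideal.span_le]
  rintro _ ⟨_, ⟨i, rfl⟩, rfl⟩
  exact algebraMap_X_mem_U p k n a i

omit [CharP k p] in
theorem chi_mk_X (i : Fin n) : chi p k n a (Ideal.Quotient.mk _ (MvPolynomial.X i)) = 0 := by
  simp [chi]

omit [CharP k p] in
theorem chi_algebraMap (r : MvPowerSeries (Fin n) k) :
    chi p k n a (algebraMap _ _ r) = MvPowerSeries.constantCoeff r := by
  show chi p k n a (Ideal.Quotient.mk _ (MvPolynomial.C r)) = _
  simp [chi]

omit [CharP k p] in
theorem sub_mem_U (y : A p k n a) :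
    y - algebraMap (MvPowerSeries (Fin n) k) (A p k n a) (MvPowerSeries.C (chi p k n a y)) ∈
      U p k n a := by
  obtain ⟨F, rfl⟩ := Ideal.Quotient.mk_surjective y
  induction F using MvPolynomial.induction_on with
  | C r =>
    have h1 : Ideal.Quotient.mk (asIdeal p k n a) (MvPolynomial.C r) =
        algebraMap (MvPowerSeries (Fin n) k) (A p k n a) r := rfl
    rw [h1, chi_algebraMap, ← map_sub]
    exact map_span_X_le_U p k n a (Ideal.mem_map_of_mem _ (Groth.Agent.LibCR29.sub_C_mem_span_X r))
  | add F G hF hG =>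
    rw [map_add, map_add, map_add, map_add]
    have := (U p k n a).add_mem hF hG
    convert this using 1
    ring
  | mul_X F i _ =>
    rw [map_mul, map_mul, chi_mk_X, mul_zero, map_zero, map_zero, sub_zero]
    exact Ideal.mul_mem_left _ _ (mk_X_mem_U p k n a i)

omit [CharP k p] in
theorem ker_chi : RingHom.ker (chi p k n a) = U p k n a := by
  apply le_antisymm
  · intro y hy
    have := sub_mem_U p k n a y
    rw [RingHom.mem_ker] at hy
    rwa [hy, map_zero, map_zero, sub_zero] at this
  · unfold U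
    rw [Ideal.map_le_iff_le_comap, Ideal.span_le]
    rintro _ ⟨i, rfl⟩
    simp only [SetLike.mem_coe, Ideal.mem_comap, RingHom.mem_ker]
    exact chi_mk_X p k n a i

omit [CharP k p] in
theorem chi_surjective : Function.Surjective (chi p k n a) := by
  intro c
  refine ⟨algebraMap (MvPowerSeries (Fin n) k) (A p k n a) (MvPowerSeries.C c), ?_⟩
  rw [chi_algebraMap, MvPowerSeries.constantCoeff_C]

omit [CharP k p] in
theorem U_isMaximal : (U p k n a).IsMaximal := by
  rw [← ker_chi]
  exact RingHom.ker_isMaximal_of_surjective _ (chi_surjective p k n a)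



omit [CharP k p] hp in
theorem mk_X_pow (i : Fin n) :
    Ideal.Quotient.mk (asIdeal p k n a) (MvPolynomial.X i) ^ p =
      algebraMap (MvPowerSeries (Fin n) k) (A p k n a) (a i ^ (p - 1)) *
        Ideal.Quotient.mk (asIdeal p k n a) (MvPolynomial.X i) +
      algebraMap (MvPowerSeries (Fin n) k) (A p k n a) (MvPowerSeries.X i) := by
  rw [← sub_eq_zero]
  show Ideal.Quotient.mk (asIdeal p k n a) (MvPolynomial.X i) ^ p -
    (Ideal.Quotient.mk (asIdeal p k n a) (MvPolynomial.C (a i ^ (p - 1))) *
      Ideal.Quotient.mk (asIdeal p k n a) (MvPolynomial.X i) +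
    Ideal.Quotient.mk (asIdeal p k n a) (MvPolynomial.C (MvPowerSeries.X i))) = 0
  rw [← map_pow, ← map_mul, ← map_add, ← map_sub, Ideal.Quotient.eq_zero_iff_mem, ← sub_sub]
  exact Ideal.subset_span ⟨i, rfl⟩

/-- the classes of the variables -/
noncomputable def uu (i : Fin n) : A p k n a := Ideal.Quotient.mk (asIdeal p k n a) (MvPolynomial.X i)

omit [CharP k p] hp in
theorem aeval_uu (F : MvPolynomial (Fin n) (MvPowerSeries (Fin n) k)) :
    MvPolynomial.aeval (uu p k n a) F = Ideal.Quotient.mk (asIdeal p k n a) F := by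
  have h1 : MvPolynomial.aeval (uu p k n a) =
      Ideal.Quotient.mkₐ (MvPowerSeries (Fin n) k) (asIdeal p k n a) := by
    apply MvPolynomial.algHom_ext
    intro i
    simp [uu]
  rw [h1]; rfl

omit [CharP k p] hp in
theorem exists_lift (v : Fin n → A p k n a)
    (hv : ∀ i, v i ^ p = algebraMap (MvPowerSeries (Fin n) k) (A p k n a) (a i ^ (p - 1)) * v i +
      algebraMap (MvPowerSeries (Fin n) k) (A p k n a) (MvPowerSeries.X i)) :
    ∃ φ : A p k n a →ₐ[MvPowerSeries (Fin n) k] A p k n a, ∀ i, φ (uu p k n a i) = v i := by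
  have hle : asIdeal p k n a ≤ RingHom.ker (MvPolynomial.aeval v :
      MvPolynomial (Fin n) (MvPowerSeries (Fin n) k) →ₐ[MvPowerSeries (Fin n) k] A p k n a) := by
    refine Ideal.span_le.mpr ?_
    rintro _ ⟨i, rfl⟩
    rw [SetLike.mem_coe, RingHom.mem_ker]
    rw [map_sub, map_sub, map_mul, map_pow, MvPolynomial.aeval_X, MvPolynomial.aeval_C,
      MvPolynomial.aeval_C, hv i]
    ring
  refine ⟨Ideal.Quotient.liftₐ (asIdeal p k n a) (MvPolynomial.aeval v) (fun x hx => hle hx), ?_⟩
  intro i
  simp [uu]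

include hp in
omit [CharP k p] in
theorem isASFam : ASAbs.IsASFam p a (uu p k n a) where
  rel := mk_X_pow p k n a
  gen := by
    intro y
    obtain ⟨F, rfl⟩ := Ideal.Quotient.mk_surjective y
    exact ⟨F, (aeval_uu p k n a F).symm⟩
  aug := ⟨chi p k n a, chi_mk_X p k n a, chi_algebraMap p k n a⟩
  lift := exists_lift p k n a
  free := free p k n a
  finite := finite p k n a
  rank := finrank_eq p k n a

omit [CharP k p] hp in
theorem U_eq : U p k n a = Ideal.span (Set.range (uu p k n a)) := by
  unfold U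
  rw [Ideal.map_span, ← Set.range_comp]
  rfl

section main
variable (ham : ∀ i, MvPowerSeries.constantCoeff (a i) = 0)

include hp ham in
omit [CharP k p] in
/-- S15787 -/
theorem main_regular : IsRegularLocalRing (A p k n a) ∧ (U p k n a).IsMaximal :=
  ⟨ASAbs.isRegularLocalRing (isASFam p k n a) ham, U_isMaximal p k n a⟩

include hp ham in
omit [CharP k p] in
/-- S15788 -/
theorem main_free : Module.Free (MvPowerSeries (Fin n) k) (A p k n a) ∧
    Module.finrank (MvPowerSeries (Fin n) k) (A p k n a) = p ^ n ∧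
    IsAdicComplete (U p k n a) (A p k n a) ∧ IsDomain (A p k n a) := by
  refine ⟨free p k n a, finrank_eq p k n a, ?_, ASAbs.isDomain (isASFam p k n a) ham⟩
  rw [U_eq]
  exact ASAbs.isAdicComplete (isASFam p k n a) ham

include hp ham in
/-- S15789 -/
theorem main_aut (ha0 : ∀ i, a i ≠ 0) :
    Nat.card (A p k n a ≃ₐ[MvPowerSeries (Fin n) k] A p k n a) = p ^ n ∧
    (∀ σ τ : A p k n a ≃ₐ[MvPowerSeries (Fin n) k] A p k n a, σ * τ = τ * σ) ∧
    (∀ σ : A p k n a ≃ₐ[MvPowerSeries (Fin n) k] A p k n a, σ ^ p = 1) ∧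
    ∀ b : A p k n a, (∀ σ : A p k n a ≃ₐ[MvPowerSeries (Fin n) k] A p k n a, σ b = b) ↔
      b ∈ Set.range (algebraMap (MvPowerSeries (Fin n) k) (A p k n a)) :=
  ASAbs.aut_main (isASFam p k n a) ham ha0

end main

end Groth.Agent.Lib.helper22.ASFam
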