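import Mathlib
import Groth.Agent.Lib.Helper22.ASAbs
import Groth.Agent.Lib.Helper22.ASFam

/-!
# The fixed-point ideal of an Artin–Schreier family (helper22)

For `B` an abstract Artin–Schreier family over `R = k[[x]]` (`ASAbs.IsASFam p a u`) and an
`R`-automorphism `σ` with `σ uᵢ = uᵢ + aᵢ`: the ideal generated by all `σ t - t` is `(a)B`
(`span_sub_eq_map`), it lies in `(u)^p` (`map_le_pow`), and `ℓ_B(B/(a)B) = p^n ℓ_R(R/(a))`
(`length_quotient_map`).
-/

set_option autoImplicit false

namespace Groth.Agent.Lib.helper22.ASFix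
universe u
open IsLocalRing Groth.Agent.Lib.helper22.ASAbs

variable {p : ℕ} [hp : Fact p.Prime] {k : Type u} [Field k] {n : ℕ}
  {a : Fin n → MvPowerSeries (Fin n) k}
  {B : Type u} [CommRing B] [Algebra (MvPowerSeries (Fin n) k) B] {u : Fin n → B}
  (h : IsASFam p a u)

local notation "PS" => MvPowerSeries (Fin n) k

include h in
omit hp in
theorem span_sub_eq_map (σ : B ≃ₐ[PS] B) (hσ : ∀ i, σ (u i) = u i + algebraMap PS B (a i)) :
    Ideal.span (Set.range fun t : B => σ t - t) =
      (Ideal.span (Set.range a)).map (algebraMap PS B) := by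
  apply le_antisymm
  · rw [Ideal.span_le]
    rintro _ ⟨t, rfl⟩
    obtain ⟨F, rfl⟩ := h.gen t
    show σ _ - _ ∈ (Ideal.span (Set.range a)).map (algebraMap PS B)
    induction F using MvPolynomial.induction_on with
    | C r =>
      rw [MvPolynomial.aeval_C, AlgEquiv.commutes, sub_self]
      exact Ideal.zero_mem _
    | add F G hF hG =>
      rw [map_add, map_add]
      have := Ideal.add_mem _ hF hG
      convert this using 1
      ring
    | mul_X F i hF =>
      rw [map_mul, map_mul, MvPolynomial.aeval_X, hσ]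
      have h1 : σ (MvPolynomial.aeval u F) * (u i + algebraMap PS B (a i)) -
          MvPolynomial.aeval u F * u i =
          (σ (MvPolynomial.aeval u F) - MvPolynomial.aeval u F) * u i +
            σ (MvPolynomial.aeval u F) * algebraMap PS B (a i) := by ring
      rw [h1]
      refine Ideal.add_mem _ (Ideal.mul_mem_right _ _ hF) (Ideal.mul_mem_left _ _ ?_)
      exact Ideal.mem_map_of_mem _ (Ideal.subset_span ⟨i, rfl⟩)
  · rw [Ideal.map_span, Ideal.span_le]
    rintro _ ⟨_, ⟨i, rfl⟩, rfl⟩
    have : algebraMap PS B (a i) = σ (u i) - u i := by rw [hσ]; ring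
    rw [this]
    exact Ideal.subset_span ⟨u i, rfl⟩

section ham
variable (ham : ∀ i, MvPowerSeries.constantCoeff (a i) = 0)

include ham in
omit hp in
theorem span_a_le : Ideal.span (Set.range a) ≤
    Ideal.span (Set.range (MvPowerSeries.X : Fin n → PS)) := by
  rw [Ideal.span_le]
  rintro _ ⟨i, rfl⟩
  have := Groth.Agent.LibCR29.sub_C_mem_span_X (a i)
  rwa [ham i, map_zero, sub_zero] at this

include h ham in
theorem map_X_le_pow (m : ℕ) (hm : m ≤ p) :
    (Ideal.span (Set.range (MvPowerSeries.X : Fin n → PS))).map (algebraMap PS B) ≤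
      Ideal.span (Set.range u) ^ m := by
  induction m with
  | zero => rw [pow_zero, Ideal.one_eq_top]; exact le_top
  | succ m ih =>
    have ih' := ih (by omega)
    rw [Ideal.map_span, Ideal.span_le]
    rintro _ ⟨_, ⟨i, rfl⟩, rfl⟩
    have hrel := h.rel i
    have hX : algebraMap PS B (MvPowerSeries.X i) =
        u i ^ p - algebraMap PS B (a i ^ (p - 1)) * u i := by rw [hrel]; ring
    rw [SetLike.mem_coe, hX]
    have hu : u i ∈ Ideal.span (Set.range u) := Ideal.subset_span ⟨i, rfl⟩
    refine Ideal.sub_mem _ ?_ ?_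
    · exact Ideal.pow_le_pow_right hm (Ideal.pow_mem_pow hu p)
    · rw [pow_succ]
      refine Ideal.mul_mem_mul ?_ hu
      have ha : algebraMap PS B (a i) ∈ Ideal.span (Set.range u) ^ m :=
        ih' (Ideal.mem_map_of_mem _ (span_a_le ham (Ideal.subset_span ⟨i, rfl⟩)))
      have hp1 : p - 1 = (p - 2) + 1 := by have := hp.out.two_le; omega
      rw [map_pow, hp1, pow_succ]
      exact Ideal.mul_mem_left _ _ ha

include h ham in
theorem map_le_pow : (Ideal.span (Set.range a)).map (algebraMap PS B) ≤
    Ideal.span (Set.range u) ^ p :=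
  (Ideal.map_mono (span_a_le ham)).trans (map_X_le_pow h ham p le_rfl)


include h in
theorem sub_mem_span (y : B) : ∃ c : k, y - algebraMap PS B (MvPowerSeries.C c) ∈
    Ideal.span (Set.range u) := by
  obtain ⟨F, rfl⟩ := h.gen y
  induction F using MvPolynomial.induction_on with
  | C r =>
    refine ⟨MvPowerSeries.constantCoeff r, ?_⟩
    rw [MvPolynomial.aeval_C, ← map_sub]
    exact map_span_X_le h (Ideal.mem_map_of_mem _ (Groth.Agent.LibCR29.sub_C_mem_span_X r))
  | add F G hF hG =>
    obtain ⟨c, hc⟩ := hF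
    obtain ⟨d, hd⟩ := hG
    refine ⟨c + d, ?_⟩
    rw [map_add, map_add, map_add]
    have := (Ideal.span (Set.range u)).add_mem hc hd
    convert this using 1
    ring
  | mul_X F i _ =>
    refine ⟨0, ?_⟩
    rw [map_zero, map_zero, sub_zero, map_mul, MvPolynomial.aeval_X]
    exact Ideal.mul_mem_left _ _ (Ideal.subset_span ⟨i, rfl⟩)


section length
open TensorProduct

/-- length of `B/JB` over `PS` for a finite free `PS`-algebra `B` -/
theorem length_quotient_map_of_free {R' : Type*} [CommRing R'] {B' : Type*} [CommRing B']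
    [Algebra R' B'] [Module.Free R' B'] [Module.Finite R' B'] (J : Ideal R') :
    Module.length R' (B' ⧸ J.map (algebraMap R' B')) =
      (Module.finrank R' B' : ℕ∞) * Module.length R' (R' ⧸ J) := by
  by_cases hJ : J = ⊤
  · subst hJ
    rw [Ideal.map_top]
    haveI : Subsingleton (B' ⧸ (⊤ : Ideal B')) := Ideal.Quotient.subsingleton_iff.mpr rfl
    haveI : Subsingleton (R' ⧸ (⊤ : Ideal R')) := Ideal.Quotient.subsingleton_iff.mpr rfl
    rw [Module.length_eq_zero, Module.length_eq_zero, mul_zero]
  haveI : Nontrivial (R' ⧸ J) := Ideal.Quotient.nontrivial_iff.mpr hJ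
  haveI : Nontrivial R' := (Ideal.Quotient.mk J).domain_nontrivial
  let e1 : (R' ⧸ J) ⊗[R'] B' ≃ₗ[R'] B' ⧸ (J • ⊤ : Submodule R' B') := quotTensorEquivQuotSMul B' J
  let e2 : (B' ⧸ (J • ⊤ : Submodule R' B')) ≃ₗ[R'] B' ⧸ J.map (algebraMap R' B') :=
    (Submodule.quotEquivOfEq _ _ (Ideal.smul_top_eq_map J)).trans
      (Submodule.Quotient.restrictScalarsEquiv R' (J.map (algebraMap R' B')))
  rw [← (e1.trans e2).length_eq,
    Module.length_eq_of_surjective (R := R' ⧸ J) (S := R') (M := (R' ⧸ J) ⊗[R'] B')
      Ideal.Quotient.mk_surjective,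
    Module.length_of_free_of_finite (R' ⧸ J) ((R' ⧸ J) ⊗[R'] B'), Module.finrank_baseChange,
    Module.length_eq_of_surjective (R := R' ⧸ J) (S := R') (M := R' ⧸ J)
      Ideal.Quotient.mk_surjective]

end length

include h ham in
/-- `ℓ_B(B/JB) = p^n ℓ_R(PS/J)` -/
theorem length_quotient_map (J : Ideal PS) :
    Module.length B (B ⧸ J.map (algebraMap PS B)) = (p ^ n : ℕ∞) * Module.length PS (PS ⧸ J) := by
  haveI := isLocalRing h ham
  haveI := h.free
  haveI := h.finite
  have hmax := maximalIdeal_eq h ham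
  haveI : IsLocalHom (algebraMap PS B) := by
    refine ⟨fun r hr => ?_⟩
    by_contra hru
    have hr0 : MvPowerSeries.constantCoeff r = 0 := by
      by_contra h0
      exact hru (MvPowerSeries.isUnit_iff_constantCoeff.mpr (Ne.isUnit h0))
    have h1 : r ∈ Ideal.span (Set.range (MvPowerSeries.X : Fin n → PS)) := by
      have := Groth.Agent.LibCR29.sub_C_mem_span_X r
      rwa [hr0, map_zero, sub_zero] at this
    have h2 : algebraMap PS B r ∈ maximalIdeal B := by
      rw [hmax]
      exact map_span_X_le h (Ideal.mem_map_of_mem _ h1)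
    exact (IsLocalRing.mem_maximalIdeal _).mp h2 hr
  have hres : Module.length (ResidueField PS) (ResidueField B) = 1 := by
    have hsurj : Function.Surjective (Algebra.linearMap (ResidueField PS) (ResidueField B)) := by
      intro z
      obtain ⟨y, rfl⟩ := IsLocalRing.residue_surjective z
      obtain ⟨c, hc⟩ := sub_mem_span h y
      refine ⟨IsLocalRing.residue PS (MvPowerSeries.C c), ?_⟩
      rw [Algebra.linearMap_apply, IsLocalRing.ResidueField.algebraMap_residue]
      symm
      rw [← sub_eq_zero, ← map_sub, IsLocalRing.residue_eq_zero_iff, hmax]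
      exact hc
    have hinj : Function.Injective (Algebra.linearMap (ResidueField PS) (ResidueField B)) :=
      (algebraMap (ResidueField PS) (ResidueField B)).injective
    rw [← (LinearEquiv.ofBijective _ ⟨hinj, hsurj⟩).length_eq, Module.length_eq_finrank,
      Module.finrank_self, Nat.cast_one]
  have h1 := IsLocalRing.length_restrictScalars PS B (B ⧸ J.map (algebraMap PS B))
  rw [hres, mul_one] at h1
  rw [← h1, length_quotient_map_of_free J, h.rank]
  push_cast
  rfl

end ham

end Groth.Agent.Lib.helper22.ASFix
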