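import Mathlib

/-!
# `R[a] ∩ R[a⁻¹]` is integral over `R`, and `R[a] + R[a⁻¹] = R[a, a⁻¹]`
-/

namespace Groth.Agent.Lib.helper22.AdjoinInv

open Polynomial

variable {R L : Type*} [CommRing R] [CommRing L] [Algebra R L]

/-- An element stabilizing a f.g. submodule containing `1` is integral. -/
theorem isIntegral_of_stable (N : Submodule R L) (hN : N.FG) (h1 : (1 : L) ∈ N) (z : L)
    (hz : ∀ n ∈ N, z * n ∈ N) : IsIntegral R z := by
  have : Module.Finite R N := Module.Finite.iff_fg.mpr hN
  let f : Module.End R N := (LinearMap.mulLeft R z).restrict hz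
  obtain ⟨P, hPm, hP⟩ := (Module.End.isIntegral (R := R) (M := N)).isIntegral f
  refine ⟨P, hPm, ?_⟩
  have key : ∀ Q : Polynomial R, ∀ n : N, ((Polynomial.aeval f Q) n : L) = Polynomial.aeval z Q * n := by
    intro Q
    induction Q using Polynomial.induction_on' with
    | add p q hp hq =>
      intro n
      rw [map_add, map_add, LinearMap.add_apply, Submodule.coe_add, hp, hq, add_mul]
    | monomial k r =>
      intro n
      rw [Polynomial.aeval_monomial, Polynomial.aeval_monomial]
      have hpow : ∀ (k : ℕ) (n : N), ((f ^ k) n : L) = z ^ k * n := by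
        intro k
        induction k with
        | zero => intro n; simp
        | succ k ih =>
          intro n
          rw [pow_succ, Module.End.mul_apply, ih, pow_succ, mul_assoc]
          rfl
      rw [Module.End.mul_apply, Module.algebraMap_end_apply, Submodule.coe_smul, hpow,
        Algebra.smul_def, mul_assoc]
  have h2 := key P ⟨1, h1⟩
  rw [← Polynomial.aeval_def] at hP ⊢
  rw [hP] at h2
  simpa using h2.symm

variable (a b : L) (hab : a * b = 1)

include hab in
theorem pow_mul_pow_mem (M₁ M₂ : Submodule R L) (i j : ℕ)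
    (h₁ : ∀ k ≤ i, a ^ k ∈ M₁) (h₂ : ∀ k ≤ j, b ^ k ∈ M₂) : a ^ i * b ^ j ∈ M₁ ⊔ M₂ := by
  rcases le_total j i with h | h
  · obtain ⟨d, rfl⟩ := Nat.exists_eq_add_of_le h
    have : a ^ (j + d) * b ^ j = a ^ d := by
      rw [pow_add, mul_comm (a ^ j), mul_assoc, ← mul_pow, hab, one_pow, mul_one]
    rw [this]
    exact Submodule.mem_sup_left (h₁ d (by omega))
  · obtain ⟨d, rfl⟩ := Nat.exists_eq_add_of_le h
    have : a ^ i * b ^ (i + d) = b ^ d := by
      rw [pow_add, ← mul_assoc, ← mul_pow, hab, one_pow, one_mul]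
    rw [this]
    exact Submodule.mem_sup_right (h₂ d (by omega))

/-- the span of `a^0, ..., a^n` -/
def powSpan (R : Type*) {L : Type*} [CommRing R] [CommRing L] [Algebra R L] (a : L) (n : ℕ) :
    Submodule R L :=
  Submodule.span R ((fun i : ℕ => a ^ i) '' Set.Iic n)

theorem pow_mem_powSpan (n k : ℕ) (hk : k ≤ n) : a ^ k ∈ powSpan R a n :=
  Submodule.subset_span ⟨k, hk, rfl⟩

theorem aeval_mem_powSpan (p : Polynomial R) : Polynomial.aeval a p ∈ powSpan R a p.natDegree := by
  rw [Polynomial.aeval_eq_sum_range]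
  refine Submodule.sum_mem _ fun i hi => Submodule.smul_mem _ _ ?_
  exact pow_mem_powSpan a _ i (by simpa [Nat.lt_succ_iff] using hi)

theorem powSpan_fg (n : ℕ) : (powSpan R a n).FG :=
  Submodule.fg_span ((Set.finite_Iic n).image _)

include hab in
theorem powSpan_mul_le (n m : ℕ) :
    powSpan R a n * powSpan R b m ≤ powSpan R a n ⊔ powSpan R b m := by
  unfold powSpan
  rw [Submodule.span_mul_span, Submodule.span_le]
  rintro _ ⟨_, ⟨i, hi, rfl⟩, _, ⟨j, hj, rfl⟩, rfl⟩
  exact pow_mul_pow_mem a b hab _ _ i j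
    (fun k hk => pow_mem_powSpan a n k (le_trans hk hi))
    (fun k hk => pow_mem_powSpan b m k (le_trans hk hj))

include hab in
/-- Elements of `R[a] ∩ R[a⁻¹]` are integral over `R`. -/
theorem isIntegral_of_mem_inf (z : L) (hza : z ∈ Algebra.adjoin R {a})
    (hzb : z ∈ Algebra.adjoin R {b}) : IsIntegral R z := by
  rw [Algebra.adjoin_singleton_eq_range_aeval] at hza hzb
  obtain ⟨p, rfl⟩ := hza
  obtain ⟨q, hq⟩ := hzb
  set z := Polynomial.aeval a p with hz
  have hq' : Polynomial.aeval b q = z := hq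
  have hzMa : z ∈ powSpan R a p.natDegree := aeval_mem_powSpan a p
  have hzMb : z ∈ powSpan R b q.natDegree := hq' ▸ aeval_mem_powSpan b q
  refine isIntegral_of_stable (powSpan R a p.natDegree ⊔ powSpan R b q.natDegree)
    ((powSpan_fg a _).sup (powSpan_fg b _))
    (Submodule.mem_sup_left (by simpa using pow_mem_powSpan (R := R) a p.natDegree 0 (Nat.zero_le _)))
    z ?_
  intro n hn
  obtain ⟨u, hu, v, hv, rfl⟩ := Submodule.mem_sup.mp hn
  rw [mul_add]
  refine Submodule.add_mem _ ?_ ?_
  · rw [mul_comm]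
    exact powSpan_mul_le a b hab _ _ (Submodule.mul_mem_mul hu hzMb)
  · exact powSpan_mul_le a b hab _ _ (Submodule.mul_mem_mul hzMa hv)

include hab in
/-- `R[a] + R[a⁻¹] = R[a, a⁻¹]` as submodules. -/
theorem adjoin_sup_adjoin :
    Subalgebra.toSubmodule (Algebra.adjoin R {a}) ⊔ Subalgebra.toSubmodule (Algebra.adjoin R {b}) =
      Subalgebra.toSubmodule (Algebra.adjoin R {a, b}) := by
  apply le_antisymm
  · refine sup_le ?_ ?_
    · intro z hz
      exact (Algebra.adjoin_mono (R := R) (Set.singleton_subset_iff.mpr (Set.mem_insert a {b})) :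
        Algebra.adjoin R {a} ≤ Algebra.adjoin R {a, b}) hz
    · intro z hz
      exact (Algebra.adjoin_mono (R := R)
        (Set.singleton_subset_iff.mpr (Set.mem_insert_of_mem a (Set.mem_singleton b))) :
        Algebra.adjoin R {b} ≤ Algebra.adjoin R {a, b}) hz
  · have : ({a, b} : Set L) = {a} ∪ {b} := by ext; simp [or_comm]
    rw [this, Algebra.adjoin_union_coe_submodule, Algebra.adjoin_eq_span, Algebra.adjoin_eq_span,
      Submodule.span_mul_span, Submodule.span_le]
    rintro _ ⟨u, hu, v, hv, rfl⟩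
    obtain ⟨i, rfl⟩ := Submonoid.mem_closure_singleton.mp hu
    obtain ⟨j, rfl⟩ := Submonoid.mem_closure_singleton.mp hv
    refine pow_mul_pow_mem a b hab _ _ i j (fun k _ => ?_) (fun k _ => ?_)
    · exact Submodule.subset_span (Submonoid.mem_closure_singleton.mpr ⟨k, rfl⟩)
    · exact Submodule.subset_span (Submonoid.mem_closure_singleton.mpr ⟨k, rfl⟩)

/-- clearing denominators: if `b * x = y` then every element of `R[b]` times a power of `x`
lies in `R`. -/
theorem exists_pow_mul_eq_algebraMap (x y : R) (hb : b * algebraMap R L x = algebraMap R L y)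
    (z : L) (hz : z ∈ Algebra.adjoin R {b}) :
    ∃ (m : ℕ) (r : R), algebraMap R L x ^ m * z = algebraMap R L r := by
  induction hz using Algebra.adjoin_induction with
  | mem u hu =>
    rw [Set.mem_singleton_iff] at hu
    subst hu
    exact ⟨1, y, by rw [pow_one, mul_comm, hb]⟩
  | algebraMap r => exact ⟨0, r, by simp⟩
  | add u v _ _ hu hv =>
    obtain ⟨m₁, r₁, h₁⟩ := hu
    obtain ⟨m₂, r₂, h₂⟩ := hv
    refine ⟨m₁ + m₂, x ^ m₂ * r₁ + x ^ m₁ * r₂, ?_⟩
    rw [mul_add, map_add, map_mul, map_mul, ← h₁, ← h₂, map_pow, map_pow, pow_add]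
    ring
  | mul u v _ _ hu hv =>
    obtain ⟨m₁, r₁, h₁⟩ := hu
    obtain ⟨m₂, r₂, h₂⟩ := hv
    refine ⟨m₁ + m₂, r₁ * r₂, ?_⟩
    rw [map_mul, ← h₁, ← h₂, pow_add]
    ring

include hab in
/-- Main lemma: if `R` is integrally closed in `R_x` then `R[x/y] ∩ R[y/x] = R` inside `R_{xy}`. -/
theorem mem_range_of_mem_inf (x y : R) (hx : x ∈ nonZeroDivisors R) (hy : y ∈ nonZeroDivisors R)
    [IsLocalization.Away (x * y) L]
    (hb : b * algebraMap R L x = algebraMap R L y)
    (hint : IsIntegrallyClosedIn R (Localization.Away x))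
    (z : L) (hza : z ∈ Algebra.adjoin R {a}) (hzb : z ∈ Algebra.adjoin R {b}) :
    ∃ r : R, algebraMap R L r = z := by
  have hzint : IsIntegral R z := isIntegral_of_mem_inf a b hab z hza hzb
  obtain ⟨m, r, hmr⟩ := exists_pow_mul_eq_algebraMap b x y hb z hzb
  have hxunit : IsUnit (algebraMap R L x) := by
    have h1 : IsUnit (algebraMap R L (x * y)) :=
      IsLocalization.map_units L (⟨x * y, Submonoid.mem_powers _⟩ : Submonoid.powers (x * y))
    rw [map_mul] at h1
    exact isUnit_of_mul_isUnit_left h1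
  have hinjL : Function.Injective (algebraMap R L) :=
    IsLocalization.injective L (M := Submonoid.powers (x * y))
      (Submonoid.powers_le.mpr (mul_mem hx hy))
  let φ : Localization.Away x →ₐ[R] L :=
    IsLocalization.liftAlgHom (M := Submonoid.powers x) (f := Algebra.ofId R L)
      (by
        rintro ⟨s, k, rfl⟩
        change IsUnit (algebraMap R L (x ^ k))
        rw [map_pow]
        exact hxunit.pow k)
  have hφmk : ∀ (r : R) (s : Submonoid.powers x),
      φ (IsLocalization.mk' (Localization.Away x) r s) * algebraMap R L s = algebraMap R L r := by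
    intro r s
    have h1 : algebraMap R L (s : R) = φ (algebraMap R (Localization.Away x) (s : R)) :=
      (φ.commutes _).symm
    rw [h1, ← map_mul, IsLocalization.mk'_spec, φ.commutes]
  have hφinj : Function.Injective φ := by
    rw [injective_iff_map_eq_zero]
    intro u hu
    obtain ⟨r, s, rfl⟩ := IsLocalization.exists_mk'_eq (Submonoid.powers x) u
    have h1 := hφmk r s
    rw [hu, zero_mul] at h1
    have hr0 : r = 0 := hinjL (by rw [← h1, map_zero])
    rw [hr0, IsLocalization.mk'_zero]
  let s : Submonoid.powers x := ⟨x ^ m, m, rfl⟩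
  have hz' : φ (IsLocalization.mk' (Localization.Away x) r s) = z := by
    have h1 := hφmk r s
    have h2 : algebraMap R L (s : R) = algebraMap R L x ^ m := by simp [s]
    rw [h2, ← hmr, mul_comm] at h1
    exact (hxunit.pow m).mul_left_cancel h1
  have hint' : IsIntegral R (IsLocalization.mk' (Localization.Away x) r s) := by
    rw [← isIntegral_algHom_iff φ hφinj, hz']
    exact hzint
  obtain ⟨r₀, hr₀⟩ := hint.algebraMap_eq_of_integral hint'
  refine ⟨r₀, ?_⟩
  rw [← hz', ← hr₀, φ.commutes]

end Groth.Agent.Lib.helper22.AdjoinInv
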