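import Mathlib
import Groth.Prelude.Def_W4c2arithlefschetzNode
import Groth.Agent.S15315

/-! helper22: generic tools for the `ArLef` rows: continuity of automorphisms of Noetherian local rings
(fixed-point ideal generated on a dense subring), length computations via S15315, and the power
series ring over a DVR. -/

set_option autoImplicit false
universe u

namespace Groth.Agent.Lib.helper22.ArLefGen

open ArLef

section dense
variable {R : Type u} [CommRing R]

/-- approximation by a subring modulo powers of a two-generated ideal -/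
lemma exists_mem_sub_mem_pow (T : Subring R) (a b : R) (ha : a ∈ T) (hb : b ∈ T)
    (hdense : ∀ x : R, ∃ y ∈ T, x - y ∈ Ideal.span ({a, b} : Set R)) (N : ℕ) :
    ∀ x : R, ∃ y ∈ T, x - y ∈ (Ideal.span ({a, b} : Set R)) ^ N := by
  induction N with
  | zero => intro x; exact ⟨0, T.zero_mem, by simp⟩
  | succ N ih =>
    intro x
    obtain ⟨y0, hy0, h0⟩ := hdense x
    obtain ⟨r0, r1, hr⟩ := Ideal.mem_span_pair.mp h0
    obtain ⟨y1, hy1, h1⟩ := ih r0
    obtain ⟨y2, hy2, h2⟩ := ih r1
    refine ⟨y0 + (a * y1 + b * y2), T.add_mem hy0 (T.add_mem (T.mul_mem ha hy1) (T.mul_mem hb hy2)), ?_⟩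
    have : x - (y0 + (a * y1 + b * y2)) = a * (r0 - y1) + b * (r1 - y2) := by
      linear_combination (-1 : R) * hr
    rw [this, pow_succ']
    refine Ideal.add_mem _ (Ideal.mul_mem_mul (Ideal.subset_span (by simp)) h1)
      (Ideal.mul_mem_mul (Ideal.subset_span (by simp)) h2)

end dense

section fix
variable {R : Type u} [CommRing R]

/-- the set of `x` with `σ x - x ∈ I` is a subring -/
def fixSubring (σ : R ≃+* R) (I : Ideal R) : Subring R where
  carrier := {x | σ x - x ∈ I}
  mul_mem' := by
    intro x y hx hy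
    simp only [Set.mem_ofPred_eq] at *
    have : σ (x * y) - x * y = σ x * (σ y - y) + (σ x - x) * y := by rw [map_mul]; ring
    rw [this]
    exact I.add_mem (I.mul_mem_left _ hy) (I.mul_mem_right _ hx)
  one_mem' := by simp
  add_mem' := by
    intro x y hx hy
    simp only [Set.mem_ofPred_eq] at *
    have : σ (x + y) - (x + y) = (σ x - x) + (σ y - y) := by rw [map_add]; ring
    rw [this]; exact I.add_mem hx hy
  zero_mem' := by simp
  neg_mem' := by
    intro x hx
    simp only [Set.mem_ofPred_eq] at *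
    have : σ (-x) - (-x) = -(σ x - x) := by rw [map_neg]; ring
    rw [this]; exact I.neg_mem hx

lemma mem_fixSubring (σ : R ≃+* R) (I : Ideal R) (x : R) : x ∈ fixSubring σ I ↔ σ x - x ∈ I := Iff.rfl

variable [IsNoetherianRing R] [IsLocalRing R]

lemma mem_of_forall_mem_sup_pow (I : Ideal R) (x : R)
    (h : ∀ N : ℕ, x ∈ I ⊔ (IsLocalRing.maximalIdeal R) ^ N) : x ∈ I := by
  have key := Ideal.iInf_pow_smul_eq_bot_of_isLocalRing (R := R) (M := R ⧸ I)
    (IsLocalRing.maximalIdeal R) (IsLocalRing.maximalIdeal.isMaximal R).ne_top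
  rw [← Ideal.Quotient.eq_zero_iff_mem]
  have : Ideal.Quotient.mk I x ∈ (⨅ i : ℕ, (IsLocalRing.maximalIdeal R) ^ i • (⊤ : Submodule R (R ⧸ I))) := by
    rw [Submodule.mem_iInf]
    intro N
    obtain ⟨y, hy, z, hz, hyz⟩ := Submodule.mem_sup.mp (h N)
    have : Ideal.Quotient.mk I x = z • (Ideal.Quotient.mk I 1) := by
      rw [← hyz, map_add, Ideal.Quotient.eq_zero_iff_mem.mpr hy, zero_add, Algebra.smul_def,
        map_one, mul_one]; rfl
    rw [this]
    exact Submodule.smul_mem_smul hz Submodule.mem_top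
  rw [key] at this
  exact this

/-- continuity argument: a local Noetherian ring, a dense subring on which `σ - 1` lands in `I` -/
theorem fixIdeal_le (σ : R ≃+* R) (I : Ideal R) (a b : R)
    (ham : a ∈ IsLocalRing.maximalIdeal R) (hbm : b ∈ IsLocalRing.maximalIdeal R)
    (T : Subring R) (haT : a ∈ T) (hbT : b ∈ T)
    (hdense : ∀ x : R, ∃ y ∈ T, x - y ∈ Ideal.span ({a, b} : Set R))
    (hT : ∀ y ∈ T, σ y - y ∈ I) : fixIdeal σ ≤ I := by
  unfold fixIdeal
  rw [Ideal.span_le]
  rintro _ ⟨x, rfl⟩
  simp only [SetLike.mem_coe]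
  apply mem_of_forall_mem_sup_pow
  intro N
  obtain ⟨y, hy, hxy⟩ := exists_mem_sub_mem_pow T a b haT hbT hdense N x
  have hJ : Ideal.span ({a, b} : Set R) ≤ IsLocalRing.maximalIdeal R := by
    rw [Ideal.span_le]; rintro z (rfl | rfl); exacts [ham, hbm]
  have h1 : x - y ∈ (IsLocalRing.maximalIdeal R) ^ N := Ideal.pow_right_mono hJ N hxy
  have h2 : σ (x - y) ∈ (IsLocalRing.maximalIdeal R) ^ N := by
    have : (IsLocalRing.maximalIdeal R) ^ N ≤ ((IsLocalRing.maximalIdeal R) ^ N).comap (σ : R →+* R) := by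
      rw [← Ideal.map_le_iff_le_comap, Ideal.map_pow]
      apply Ideal.pow_right_mono
      rw [Ideal.map_le_iff_le_comap]
      intro z hz
      rw [Ideal.mem_comap, IsLocalRing.mem_maximalIdeal, mem_nonunits_iff] at *
      intro hu
      apply hz
      have := hu.map (σ.symm : R →+* R)
      simpa using this
    exact this h1
  have : σ x - x = (σ y - y) + (σ (x - y) - (x - y)) := by rw [map_sub]; ring
  rw [this]
  exact Submodule.add_mem_sup (hT y hy) (Ideal.sub_mem _ h2 h1)


theorem fixIdeal_le' (σ : R ≃+* R) (I : Ideal R) (a b : R)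
    (ham : a ∈ IsLocalRing.maximalIdeal R) (hbm : b ∈ IsLocalRing.maximalIdeal R)
    (ha : σ a - a ∈ I) (hb : σ b - b ∈ I)
    (hdense : ∀ x : R, ∃ y : R, σ y - y ∈ I ∧ x - y ∈ Ideal.span ({a, b} : Set R)) :
    fixIdeal σ ≤ I :=
  fixIdeal_le σ I a b ham hbm (fixSubring σ I) ha hb
    (fun x => let ⟨y, h1, h2⟩ := hdense x; ⟨y, h1, h2⟩) (fun _ hy => hy)

omit [IsNoetherianRing R] [IsLocalRing R] in
lemma sub_mem_fixIdeal (σ : R ≃+* R) (x : R) : σ x - x ∈ fixIdeal σ :=
  Ideal.subset_span ⟨x, rfl⟩

end fix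

section len
variable {A : Type u} [CommRing A]

lemma length_quot_congr {I J : Ideal A} (h : I = J) :
    Module.length A (A ⧸ I) = Module.length A (A ⧸ J) := by subst h; rfl

lemma isSMulRegular_quot_of {a b : A} (h : ∀ x y : A, a * x = b * y → b ∣ x) :
    IsSMulRegular (A ⧸ Ideal.span ({b} : Set A)) a := by
  rw [isSMulRegular_iff_right_eq_zero_of_smul]
  intro z hz
  obtain ⟨x, rfl⟩ := Ideal.Quotient.mk_surjective z
  rw [Algebra.smul_def, Ideal.Quotient.algebraMap_eq, ← map_mul, Ideal.Quotient.eq_zero_iff_mem,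
    Ideal.mem_span_singleton] at hz
  obtain ⟨y, hy⟩ := hz
  rw [Ideal.Quotient.eq_zero_iff_mem, Ideal.mem_span_singleton]
  exact h x y hy

variable [IsNoetherianRing A]

lemma length_quot_mul (a c b : A) (ha : IsSMulRegular (A ⧸ Ideal.span ({b} : Set A)) a) :
    Module.length A (A ⧸ Ideal.span ({a * c, b} : Set A)) =
      Module.length A (A ⧸ Ideal.span ({a, b} : Set A)) +
        Module.length A (A ⧸ Ideal.span ({c, b} : Set A)) := by
  have h := Groth.Agent.S15315.result A a b (Ideal.span {c}) ha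
  rw [Ideal.span_singleton_mul_span_singleton] at h
  rw [length_quot_congr (Ideal.span_insert (a * c) {b}), h,
    length_quot_congr (Ideal.span_insert c {b})]

lemma length_quot_pow (a b : A) (ha : IsSMulRegular (A ⧸ Ideal.span ({b} : Set A)) a) (n : ℕ) :
    Module.length A (A ⧸ Ideal.span ({a ^ n, b} : Set A)) =
      (n : ℕ∞) * Module.length A (A ⧸ Ideal.span ({a, b} : Set A)) := by
  induction n with
  | zero =>
    have : Ideal.span ({a ^ 0, b} : Set A) = ⊤ := by
      rw [Ideal.eq_top_iff_one]; exact Ideal.subset_span (by simp)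
    rw [length_quot_congr this]
    simp only [Nat.cast_zero, zero_mul]
    rw [Module.length_eq_zero_iff]
    exact Ideal.Quotient.subsingleton_iff.mpr rfl
  | succ n ih =>
    rw [pow_succ', length_quot_mul a (a ^ n) b ha, ih]
    push_cast
    ring

end len


section ps
open PowerSeries
variable {B : Type u} [CommRing B] [IsDomain B] [IsDiscreteValuationRing B] {π : B}

lemma red_eq_zero_iff (hπ : Irreducible π) (x : PowerSeries B) :
    PowerSeries.map (IsLocalRing.residue B) x = 0 ↔ C π ∣ x := by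
  constructor
  · intro h
    have hc : ∀ n, ∃ c : B, coeff n x = π * c := by
      intro n
      have h1 := congrArg (coeff n) h
      rw [coeff_map, map_zero, IsLocalRing.residue_eq_zero_iff, hπ.maximalIdeal_eq,
        Ideal.mem_span_singleton] at h1
      exact h1
    choose c hc using hc
    refine ⟨PowerSeries.mk c, ?_⟩
    ext n
    rw [coeff_C_mul, coeff_mk, hc]
  · rintro ⟨y, rfl⟩
    rw [map_mul, map_C]
    have : IsLocalRing.residue B π = 0 := by
      rw [IsLocalRing.residue_eq_zero_iff, hπ.maximalIdeal_eq]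
      exact Ideal.mem_span_singleton_self π
    rw [this, map_zero, zero_mul]

lemma Cπ_dvd_mul (hπ : Irreducible π) {x y : PowerSeries B} (h : C π ∣ x * y) :
    C π ∣ x ∨ C π ∣ y := by
  rw [← red_eq_zero_iff hπ] at h ⊢
  rw [← red_eq_zero_iff hπ]
  rw [map_mul] at h
  exact mul_eq_zero.mp h

omit [IsDomain B] [IsDiscreteValuationRing B] in
lemma Cπ_ne_zero (hπ : Irreducible π) : (C π : PowerSeries B) ≠ 0 := by
  intro h
  apply hπ.ne_zero
  have := congrArg constantCoeff h
  simpa using this

lemma isSMulRegular_Cπ (hπ : Irreducible π) {f : PowerSeries B} (hf : ¬ C π ∣ f) :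
    IsSMulRegular (PowerSeries B ⧸ Ideal.span ({f} : Set (PowerSeries B))) (C π : PowerSeries B) := by
  apply isSMulRegular_quot_of
  intro x y h
  have h1 : C π ∣ f * y := ⟨x, h.symm⟩
  rcases Cπ_dvd_mul hπ h1 with h2 | ⟨y', rfl⟩
  · exact absurd h2 hf
  · refine ⟨y', ?_⟩
    have : C π * x = C π * (f * y') := by rw [h]; ring
    exact mul_left_cancel₀ (Cπ_ne_zero hπ) this

lemma length_quot_Cπ (hπ : Irreducible π) (f : PowerSeries B) :
    Module.length (PowerSeries B) (PowerSeries B ⧸ Ideal.span ({C π, f} : Set (PowerSeries B))) =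
      Module.length (PowerSeries (IsLocalRing.ResidueField B))
        (PowerSeries (IsLocalRing.ResidueField B) ⧸
          Ideal.span ({PowerSeries.map (IsLocalRing.residue B) f} :
            Set (PowerSeries (IsLocalRing.ResidueField B)))) := by
  set φ : PowerSeries B →+* PowerSeries (IsLocalRing.ResidueField B) :=
    PowerSeries.map (IsLocalRing.residue B) with hφ
  have hsurj : Function.Surjective φ :=
    PowerSeries.map_surjective _ IsLocalRing.residue_surjective
  letI : Algebra (PowerSeries B) (PowerSeries (IsLocalRing.ResidueField B)) := φ.toAlgebra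
  set J : Ideal (PowerSeries (IsLocalRing.ResidueField B)) := Ideal.span {φ f} with hJ
  rw [← Module.length_eq_of_surjective (S := PowerSeries B)
    (R := PowerSeries (IsLocalRing.ResidueField B))
    (M := PowerSeries (IsLocalRing.ResidueField B) ⧸ J) hsurj]
  let g : PowerSeries B →ₗ[PowerSeries B] (PowerSeries (IsLocalRing.ResidueField B) ⧸ J) :=
    (Ideal.Quotient.mkₐ (PowerSeries B) J).toLinearMap.comp
      (Algebra.linearMap (PowerSeries B) (PowerSeries (IsLocalRing.ResidueField B)))
  have hg : Function.Surjective g := by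
    intro z
    obtain ⟨y, rfl⟩ := Ideal.Quotient.mk_surjective z
    obtain ⟨x, rfl⟩ := hsurj y
    exact ⟨x, rfl⟩
  have hker : LinearMap.ker g = Ideal.span ({C π, f} : Set (PowerSeries B)) := by
    ext x
    rw [LinearMap.mem_ker]
    change Ideal.Quotient.mk J (φ x) = 0 ↔ _
    rw [Ideal.Quotient.eq_zero_iff_mem, hJ, Ideal.mem_span_singleton, Ideal.mem_span_pair]
    constructor
    · rintro ⟨c, hc⟩
      obtain ⟨c', rfl⟩ := hsurj c
      have : φ (x - f * c') = 0 := by rw [map_sub, map_mul, hc, sub_self]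
      rw [hφ, red_eq_zero_iff hπ] at this
      obtain ⟨d, hd⟩ := this
      exact ⟨d, c', by linear_combination (-1 : PowerSeries B) * hd⟩
    · rintro ⟨a, b, rfl⟩
      refine ⟨φ b, ?_⟩
      have h0 : φ (C π) = 0 := by rw [hφ, red_eq_zero_iff hπ]
      rw [map_add, map_mul, map_mul, h0, mul_zero, zero_add, mul_comm]
  exact ((Submodule.quotEquivOfEq _ _ hker.symm).trans
    (g.quotKerEquivOfSurjective hg)).length_eq

end ps

section psmain
open PowerSeries
variable {B : Type u} [CommRing B] [IsDomain B] [IsDiscreteValuationRing B] {π : B}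

lemma X_mem_maximalIdeal : (X : PowerSeries B) ∈ IsLocalRing.maximalIdeal (PowerSeries B) := by
  rw [IsLocalRing.mem_maximalIdeal, mem_nonunits_iff, PowerSeries.isUnit_iff_constantCoeff]
  simp

theorem ps_fixIdeal_eq (j : ℕ) (γ : B) (hγ : IsUnit γ)
    (σ : PowerSeries B ≃+* PowerSeries B)
    (hσB : ∀ b : B, σ (C b) - C b ∈ Ideal.span ({C (π ^ j)} : Set (PowerSeries B)))
    (hσπ : σ (C π) = C (π + γ * π ^ j)) :
    fixIdeal σ = Ideal.span ({(C π) ^ j, σ X - X} : Set (PowerSeries B)) := by
  apply le_antisymm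
  · refine fixIdeal_le' σ _ X X X_mem_maximalIdeal X_mem_maximalIdeal
      (Ideal.subset_span (by simp)) (Ideal.subset_span (by simp)) ?_
    intro x
    refine ⟨C (constantCoeff x), ?_, ?_⟩
    · have := hσB (constantCoeff x)
      rw [Ideal.mem_span_singleton] at this
      obtain ⟨c, hc⟩ := this
      rw [hc, map_pow]
      exact Ideal.mul_mem_right _ _ (Ideal.subset_span (by simp))
    · rw [sub_const_eq_X_mul_shift]
      exact Ideal.mul_mem_right _ _ (Ideal.subset_span (by simp))
  · rw [Ideal.span_le]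
    rintro z (rfl | rfl)
    · obtain ⟨u, rfl⟩ := hγ
      have h1 : σ (C π) - C π ∈ fixIdeal σ := sub_mem_fixIdeal σ _
      rw [hσπ] at h1
      have h2 : (C π : PowerSeries B) ^ j = C ((u⁻¹ : Bˣ) : B) * (C (π + u * π ^ j) - C π) := by
        rw [← map_pow, ← map_sub, ← map_mul]
        congr 1
        have : ((u⁻¹ : Bˣ) : B) * (u : B) = 1 := by simp
        linear_combination (-(π ^ j)) * this
      rw [SetLike.mem_coe, h2]
      exact Ideal.mul_mem_left _ _ h1
    · exact sub_mem_fixIdeal σ _

theorem ps_length (hπ : Irreducible π) (n : ℕ) (f : PowerSeries B) (hf : ¬ C π ∣ f) :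
    Module.length (PowerSeries B) (PowerSeries B ⧸ Ideal.span ({(C π) ^ n, f} : Set (PowerSeries B))) =
      (n : ℕ∞) * Module.length (PowerSeries (IsLocalRing.ResidueField B))
        (PowerSeries (IsLocalRing.ResidueField B) ⧸
          Ideal.span ({PowerSeries.map (IsLocalRing.residue B) f} :
            Set (PowerSeries (IsLocalRing.ResidueField B)))) := by
  rw [length_quot_pow _ _ (isSMulRegular_Cπ hπ hf), length_quot_Cπ hπ]

omit [IsDiscreteValuationRing B] in
theorem ps_colon (hπ : Irreducible π) (i j : ℕ) (hij : i ≤ j) (f : PowerSeries B) :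
    (Ideal.span ({(C π) ^ j, (C π) ^ i * f} : Set (PowerSeries B))).colon
        ({(C π) ^ i} : Set (PowerSeries B)) =
      Ideal.span ({(C π) ^ (j - i), f} : Set (PowerSeries B)) := by
  ext x
  rw [Submodule.mem_colon_singleton, smul_eq_mul, Ideal.mem_span_pair, Ideal.mem_span_pair]
  have hne : (C π : PowerSeries B) ^ i ≠ 0 := pow_ne_zero _ (Cπ_ne_zero hπ)
  have hj : (C π : PowerSeries B) ^ j = (C π) ^ i * (C π) ^ (j - i) := by
    rw [← pow_add, Nat.add_sub_cancel' hij]
  constructor
  · rintro ⟨u, v, h⟩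
    refine ⟨u, v, ?_⟩
    apply mul_left_cancel₀ hne
    rw [hj] at h
    linear_combination h
  · rintro ⟨u, v, h⟩
    refine ⟨u, v, ?_⟩
    rw [hj, ← h]
    ring

end psmain

end Groth.Agent.Lib.helper22.ArLefGen
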