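import Mathlib
import Groth.Prelude.Def_W4c2arithlefschetzNode
import Groth.Agent.Lib.Helper22.ArLefGen

set_option autoImplicit false
universe u

namespace Groth.Agent.Lib.helper22.ArLefNode

open ArLef MvPowerSeries

section axis
variable {B : Type u} [CommRing B]

/-- the embedding `Unit ↪ Fin 2` with value `i` -/
def emb (i : Fin 2) : Unit ↪ Fin 2 := ⟨fun _ => i, fun _ _ _ => rfl⟩

/-- restriction to the `i`-th axis: kills the other variable -/
noncomputable def axis (i : Fin 2) : MvPowerSeries (Fin 2) B →ₐ[B] PowerSeries B :=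
  killCompl (emb i)

/-- the inclusion of the `i`-th axis -/
noncomputable def incl (i : Fin 2) : PowerSeries B →ₐ[B] MvPowerSeries (Fin 2) B :=
  rename (emb i)

lemma axis_incl (i : Fin 2) (g : PowerSeries B) : axis i (incl i g) = g :=
  killCompl_rename_app g

lemma axis_surjective (i : Fin 2) : Function.Surjective (axis (B := B) i) :=
  fun g => ⟨incl i g, axis_incl i g⟩

lemma axis_X_self (i : Fin 2) : axis (B := B) i (X i) = PowerSeries.X := by
  have := killCompl_X (R := B) (e := emb i) ()
  exact this

lemma axis_X_ne {i j : Fin 2} (h : j ≠ i) : axis (B := B) i (X j) = 0 := by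
  apply killCompl_X_eq_zero
  rintro ⟨u, hu⟩
  exact h hu.symm

lemma axis_C (i : Fin 2) (b : B) : axis (B := B) i (C b) = PowerSeries.C b := by
  have := killCompl_C (R := B) (e := emb i) b
  exact this

lemma incl_X (i : Fin 2) : incl (B := B) i PowerSeries.X = X i := by
  have := rename_X (R := B) (emb i) ()
  exact this

lemma axis_eq_zero_iff {i j : Fin 2} (h : j ≠ i) (f : MvPowerSeries (Fin 2) B) :
    axis i f = 0 ↔ X j ∣ f := by
  rw [X_dvd_iff]
  constructor
  · intro h0 m hm
    have hm' : m = Finsupp.embDomain (emb i) (Finsupp.single () (m i)) := by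
      ext k
      by_cases hk : k = i
      · subst hk
        have h1 := Finsupp.embDomain_apply_self (emb k) (Finsupp.single () (m k)) ()
        rw [Finsupp.single_eq_same] at h1
        exact h1.symm
      · have hkj : k = j := by
          fin_cases k <;> fin_cases i <;> fin_cases j <;> simp_all
        rw [hkj, hm, Finsupp.embDomain_of_notMem_range]
        rintro ⟨u, hu⟩
        exact h hu.symm
    have := congrArg (MvPowerSeries.coeff (Finsupp.single () (m i))) h0
    rw [axis, coeff_killCompl, ← hm'] at this
    simpa using this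
  · intro h0
    apply MvPowerSeries.ext
    intro n
    rw [axis, coeff_killCompl, map_zero]
    apply h0
    rw [Finsupp.embDomain_of_notMem_range]
    rintro ⟨u, hu⟩
    exact h hu.symm

lemma sub_C_mem_span_pair (f : MvPowerSeries (Fin 2) B) :
    f - C (constantCoeff f) ∈ Ideal.span ({X 0, X 1} : Set (MvPowerSeries (Fin 2) B)) := by
  set g := f - C (constantCoeff f) with hg
  have hg0 : constantCoeff g = 0 := by rw [hg, map_sub, constantCoeff_C, sub_self]
  have h1 : axis 1 (g - incl 1 (axis 1 g)) = 0 := by rw [map_sub, axis_incl, sub_self]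
  rw [axis_eq_zero_iff (show (0 : Fin 2) ≠ 1 by decide)] at h1
  obtain ⟨w, hw⟩ := h1
  have h2 : PowerSeries.constantCoeff (axis 1 g) = 0 := by
    have : PowerSeries.constantCoeff (axis 1 g) = MvPowerSeries.coeff 0 (axis 1 g) := rfl
    rw [this, axis, coeff_killCompl]
    simpa using hg0
  have h3 : (PowerSeries.X : PowerSeries B) ∣ axis 1 g := by
    rw [PowerSeries.X_dvd_iff]; exact h2
  obtain ⟨u, hu⟩ := h3
  have : g = X 0 * w + X 1 * incl 1 u := by
    have h4 : incl 1 (axis 1 g) = X 1 * incl 1 u := by rw [hu, map_mul, incl_X]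
    rw [← h4, ← hw]; ring
  rw [this]
  exact Ideal.add_mem _ (Ideal.mul_mem_right _ _ (Ideal.subset_span (by simp)))
    (Ideal.mul_mem_right _ _ (Ideal.subset_span (by simp)))

end axis

end Groth.Agent.Lib.helper22.ArLefNode
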