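import Mathlib
import Groth.Prelude.Def_W4c2arithlefschetzNode
import Groth.Agent.Lib.Helper22.ArLefGen
import Groth.Agent.Lib.Helper22.ArLefNodeAxis

set_option autoImplicit false
universe u

namespace Groth.Agent.Lib.helper22.ArLefNode

open ArLef MvPowerSeries

section node
variable {B : Type u} [CommRing B] (π : B)

/-- the defining ideal of the node algebra -/
noncomputable abbrev Iπ : Ideal (MvPowerSeries (Fin 2) B) :=
  Ideal.span {(X 0 * X 1 - C π : MvPowerSeries (Fin 2) B)}

/-- the class of the variable `X i`: `v π 0 = t`, `v π 1 = e` -/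
noncomputable def v (i : Fin 2) : NodeAlg B π := Ideal.Quotient.mk (Iπ π) (X i)

lemma v_zero : v π 0 = NodeAlg.t π := rfl
lemma v_one : v π 1 = NodeAlg.e π := rfl

lemma algebraMap_eq_mk (b : B) :
    algebraMap B (NodeAlg B π) b = Ideal.Quotient.mk (Iπ π) (C b) := by
  rw [← Ideal.Quotient.mk_algebraMap, MvPowerSeries.algebraMap_apply]
  rfl

lemma t_mul_e : NodeAlg.t π * NodeAlg.e π = algebraMap B (NodeAlg B π) π := by
  rw [algebraMap_eq_mk]
  show Ideal.Quotient.mk (Iπ π) (X 0) * Ideal.Quotient.mk (Iπ π) (X 1) = _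
  rw [← map_mul, Ideal.Quotient.eq]
  exact Ideal.mem_span_singleton_self _

lemma v_mul_v {i j : Fin 2} (h : j ≠ i) : v π j * v π i = algebraMap B (NodeAlg B π) π := by
  have : (i = 0 ∧ j = 1) ∨ (i = 1 ∧ j = 0) := by
    fin_cases i <;> fin_cases j <;> simp_all
  rcases this with ⟨rfl, rfl⟩ | ⟨rfl, rfl⟩
  · rw [mul_comm]; exact t_mul_e π
  · exact t_mul_e π

/-- reduction to the `i`-th axis modulo `π` -/
noncomputable def axisK (i : Fin 2) :
    MvPowerSeries (Fin 2) B →+* PowerSeries (B ⧸ Ideal.span ({π} : Set B)) :=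
  (PowerSeries.map (Ideal.Quotient.mk (Ideal.span ({π} : Set B)))).comp (axis i).toRingHom

lemma axisK_apply (i : Fin 2) (f : MvPowerSeries (Fin 2) B) :
    axisK π i f = PowerSeries.map (Ideal.Quotient.mk (Ideal.span ({π} : Set B))) (axis i f) := rfl

lemma axisK_C_π (i : Fin 2) : axisK π i (C π) = 0 := by
  rw [axisK_apply, axis_C, PowerSeries.map_C,
    Ideal.Quotient.eq_zero_iff_mem.mpr (Ideal.mem_span_singleton_self π), map_zero]

lemma axis_rel (i : Fin 2) : axis i (X 0 * X 1 - C π : MvPowerSeries (Fin 2) B) = - PowerSeries.C π := by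
  have : axis (B := B) i (X 0) * axis i (X 1) = 0 := by
    by_cases hi : i = 0
    · subst hi; rw [axis_X_ne (i := 0) (j := 1) (by decide), mul_zero]
    · have hi1 : i = 1 := by fin_cases i <;> simp_all
      subst hi1; rw [axis_X_ne (i := 1) (j := 0) (by decide), zero_mul]
  rw [map_sub, map_mul, this, zero_sub, axis_C]

lemma axisK_rel (i : Fin 2) : axisK π i (X 0 * X 1 - C π) = 0 := by
  rw [axisK_apply, axis_rel, map_neg, PowerSeries.map_C,
    Ideal.Quotient.eq_zero_iff_mem.mpr (Ideal.mem_span_singleton_self π), map_zero, neg_zero]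

/-- the induced map on the node algebra -/
noncomputable def axisN (i : Fin 2) :
    NodeAlg B π →+* PowerSeries (B ⧸ Ideal.span ({π} : Set B)) :=
  Ideal.Quotient.lift _ (axisK π i) (by
    intro a ha
    rw [Ideal.mem_span_singleton] at ha
    obtain ⟨c, rfl⟩ := ha
    rw [map_mul, axisK_rel, zero_mul])

lemma axisN_mk (i : Fin 2) (f : MvPowerSeries (Fin 2) B) :
    axisN π i (Ideal.Quotient.mk (Iπ π) f) = axisK π i f := by
  unfold axisN
  rw [Ideal.Quotient.lift_mk]

lemma axisN_v_self (i : Fin 2) : axisN π i (v π i) = PowerSeries.X := by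
  rw [v, axisN_mk, axisK_apply, axis_X_self, PowerSeries.map_X]

lemma axisN_v_ne {i j : Fin 2} (h : j ≠ i) : axisN π i (v π j) = 0 := by
  rw [v, axisN_mk, axisK_apply, axis_X_ne h, map_zero]

lemma map_mk_eq_zero_iff (g : PowerSeries B) :
    PowerSeries.map (Ideal.Quotient.mk (Ideal.span ({π} : Set B))) g = 0 ↔ PowerSeries.C π ∣ g := by
  constructor
  · intro h
    have hc : ∀ n, ∃ c : B, PowerSeries.coeff n g = π * c := by
      intro n
      have h1 := congrArg (PowerSeries.coeff n) h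
      rw [PowerSeries.coeff_map, map_zero, Ideal.Quotient.eq_zero_iff_mem,
        Ideal.mem_span_singleton] at h1
      exact h1
    choose c hc using hc
    refine ⟨PowerSeries.mk c, ?_⟩
    ext n
    rw [PowerSeries.coeff_C_mul, PowerSeries.coeff_mk, hc]
  · rintro ⟨y, rfl⟩
    rw [map_mul, PowerSeries.map_C,
      Ideal.Quotient.eq_zero_iff_mem.mpr (Ideal.mem_span_singleton_self π), map_zero, zero_mul]

lemma axisN_eq_zero_iff {i j : Fin 2} (h : j ≠ i) (x : NodeAlg B π) :
    axisN π i x = 0 ↔ v π j ∣ x := by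
  constructor
  · intro h0
    obtain ⟨f, rfl⟩ := Ideal.Quotient.mk_surjective x
    rw [axisN_mk, axisK_apply, map_mk_eq_zero_iff] at h0
    obtain ⟨g, hg⟩ := h0
    obtain ⟨h', rfl⟩ := axis_surjective i g
    have h1 : axis i (f - C π * h') = 0 := by rw [map_sub, map_mul, axis_C, hg, sub_self]
    rw [axis_eq_zero_iff h] at h1
    obtain ⟨w, hw⟩ := h1
    refine ⟨v π i * Ideal.Quotient.mk (Iπ π) h' + Ideal.Quotient.mk (Iπ π) w, ?_⟩
    have : f = C π * h' + X j * w := by rw [← hw]; ring
    rw [this, map_add, map_mul, map_mul, mul_add, ← mul_assoc, v_mul_v π h, algebraMap_eq_mk]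
    rfl
  · rintro ⟨y, rfl⟩
    rw [map_mul, axisN_v_ne π h, zero_mul]

end node

end Groth.Agent.Lib.helper22.ArLefNode
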