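import Mathlib
import Groth.Prelude.Def_W4c2arithlefschetzNode
import Groth.Agent.Lib.Helper22.ArLefGen
import Groth.Agent.Lib.Helper22.ArLefNodeAxis
import Groth.Agent.Lib.Helper22.ArLefNodeBase

set_option autoImplicit false
universe u

namespace Groth.Agent.Lib.helper22.ArLefNode

open ArLef MvPowerSeries Groth.Agent.Lib.helper22.ArLefGen

section general
variable {A : Type u} [CommRing A] [IsDomain A]

lemma isSMulRegular_of_prime {p b : A} (hp : Prime p) (hb : ¬ p ∣ b) :
    IsSMulRegular (A ⧸ Ideal.span ({b} : Set A)) p := by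
  apply isSMulRegular_quot_of
  intro x y h
  have h1 : p ∣ b * y := ⟨x, h.symm⟩
  rcases hp.dvd_or_dvd h1 with h2 | ⟨y', rfl⟩
  · exact absurd h2 hb
  · refine ⟨y', ?_⟩
    have : p * x = p * (b * y') := by rw [h]; ring
    exact mul_left_cancel₀ hp.ne_zero this

end general

section node
variable {B : Type u} [CommRing B] (π : B)

lemma nontrivial_node (hne : Ideal.span ({π} : Set B) ≠ ⊤) : Nontrivial (NodeAlg B π) := by
  haveI : Nontrivial (B ⧸ Ideal.span ({π} : Set B)) := Ideal.Quotient.nontrivial_iff.mpr hne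
  exact RingHom.domain_nontrivial (axisN π 0)

lemma isLocalRing_node [IsLocalRing B] (hne : Ideal.span ({π} : Set B) ≠ ⊤) :
    IsLocalRing (NodeAlg B π) := by
  haveI := nontrivial_node π hne
  exact IsLocalRing.of_surjective' (Ideal.Quotient.mk (Iπ π)) Ideal.Quotient.mk_surjective

lemma v_dvd_mul (hp : (Ideal.span ({π} : Set B)).IsPrime) {i j : Fin 2} (h : j ≠ i)
    {x y : NodeAlg B π} (hxy : v π j ∣ x * y) : v π j ∣ x ∨ v π j ∣ y := by
  haveI := hp
  rw [← axisN_eq_zero_iff π h] at hxy ⊢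
  rw [← axisN_eq_zero_iff π h]
  rw [map_mul] at hxy
  exact mul_eq_zero.mp hxy

lemma not_v_dvd_v (hne : Ideal.span ({π} : Set B) ≠ ⊤) {i j : Fin 2} (h : j ≠ i) :
    ¬ v π j ∣ v π i := by
  haveI : Nontrivial (B ⧸ Ideal.span ({π} : Set B)) := Ideal.Quotient.nontrivial_iff.mpr hne
  rw [← axisN_eq_zero_iff π h, axisN_v_self]
  exact PowerSeries.X_ne_zero

lemma not_isUnit_v (hne : Ideal.span ({π} : Set B) ≠ ⊤) (j : Fin 2) : ¬ IsUnit (v π j) := by
  haveI : Nontrivial (B ⧸ Ideal.span ({π} : Set B)) := Ideal.Quotient.nontrivial_iff.mpr hne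
  intro hu
  obtain ⟨i, hi⟩ : ∃ i : Fin 2, j ≠ i := by
    fin_cases j
    · exact ⟨1, by decide⟩
    · exact ⟨0, by decide⟩
  have h1 : v π j ∣ 1 := hu.dvd
  rw [← axisN_eq_zero_iff π hi, map_one] at h1
  exact one_ne_zero h1

lemma exists_sub_mem_span (x : NodeAlg B π) :
    ∃ c : B, x - algebraMap B (NodeAlg B π) c ∈
      Ideal.span ({NodeAlg.t π, NodeAlg.e π} : Set (NodeAlg B π)) := by
  obtain ⟨f, rfl⟩ := Ideal.Quotient.mk_surjective x
  refine ⟨constantCoeff f, ?_⟩
  have h := sub_C_mem_span_pair f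
  obtain ⟨a, b, hab⟩ := Ideal.mem_span_pair.mp h
  rw [algebraMap_eq_mk, ← map_sub, ← hab, map_add, map_mul, map_mul]
  exact Ideal.add_mem _ (Ideal.mul_mem_left _ _ (Ideal.subset_span (by simp)))
    (Ideal.mul_mem_left _ _ (Ideal.subset_span (by simp)))

end node


section loc
variable {B : Type u} [CommRing B] [IsLocalRing B] (π : B)

lemma span_ne_top (hπm : IsLocalRing.maximalIdeal B = Ideal.span ({π} : Set B)) :
    Ideal.span ({π} : Set B) ≠ ⊤ := by
  rw [← hπm]; exact (IsLocalRing.maximalIdeal.isMaximal B).ne_top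

lemma span_isPrime (hπm : IsLocalRing.maximalIdeal B = Ideal.span ({π} : Set B)) :
    (Ideal.span ({π} : Set B)).IsPrime := by
  rw [← hπm]; exact (IsLocalRing.maximalIdeal.isMaximal B).isPrime

lemma v_mem_maximalIdeal [IsLocalRing (NodeAlg B π)]
    (hπm : IsLocalRing.maximalIdeal B = Ideal.span ({π} : Set B)) (j : Fin 2) :
    v π j ∈ IsLocalRing.maximalIdeal (NodeAlg B π) := by
  rw [IsLocalRing.mem_maximalIdeal, mem_nonunits_iff]
  exact not_isUnit_v π (span_ne_top π hπm) j

lemma maximalIdeal_node [IsLocalRing (NodeAlg B π)]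
    (hπm : IsLocalRing.maximalIdeal B = Ideal.span ({π} : Set B)) :
    IsLocalRing.maximalIdeal (NodeAlg B π) =
      Ideal.span ({NodeAlg.t π, NodeAlg.e π} : Set (NodeAlg B π)) := by
  apply le_antisymm
  · intro x hx
    obtain ⟨c, hc⟩ := exists_sub_mem_span π x
    have hle : Ideal.span ({NodeAlg.t π, NodeAlg.e π} : Set (NodeAlg B π)) ≤
        IsLocalRing.maximalIdeal (NodeAlg B π) := by
      rw [Ideal.span_le]
      rintro z (rfl | rfl)
      · exact v_mem_maximalIdeal π hπm 0
      · exact v_mem_maximalIdeal π hπm 1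
    have hc' : algebraMap B (NodeAlg B π) c ∈ IsLocalRing.maximalIdeal (NodeAlg B π) := by
      have : algebraMap B (NodeAlg B π) c = x - (x - algebraMap B (NodeAlg B π) c) := by ring
      rw [this]
      exact Ideal.sub_mem _ hx (hle hc)
    have hcm : c ∈ IsLocalRing.maximalIdeal B := by
      rw [IsLocalRing.mem_maximalIdeal, mem_nonunits_iff]
      intro hu
      rw [IsLocalRing.mem_maximalIdeal, mem_nonunits_iff] at hc'
      exact hc' (hu.map _)
    rw [hπm, Ideal.mem_span_singleton] at hcm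
    obtain ⟨d, rfl⟩ := hcm
    have : x = (x - algebraMap B (NodeAlg B π) (π * d)) +
        NodeAlg.t π * (NodeAlg.e π * algebraMap B (NodeAlg B π) d) := by
      rw [map_mul, ← t_mul_e]; ring
    rw [this]
    exact Ideal.add_mem _ hc (Ideal.mul_mem_right _ _ (Ideal.subset_span (by simp)))
  · rw [Ideal.span_le]
    rintro z (rfl | rfl)
    · exact v_mem_maximalIdeal π hπm 0
    · exact v_mem_maximalIdeal π hπm 1

lemma length_quot_t_e [IsLocalRing (NodeAlg B π)]
    (hπm : IsLocalRing.maximalIdeal B = Ideal.span ({π} : Set B)) :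
    Module.length (NodeAlg B π)
      (NodeAlg B π ⧸ Ideal.span ({NodeAlg.t π, NodeAlg.e π} : Set (NodeAlg B π))) = 1 := by
  rw [Module.length_eq_one_iff, isSimpleModule_iff_isCoatom, ← Ideal.isMaximal_def,
    ← maximalIdeal_node π hπm]
  exact IsLocalRing.maximalIdeal.isMaximal _

variable [IsNoetherianRing B]

/-- the continuity theorem for the node algebra -/
theorem node_fixIdeal_le [IsLocalRing (NodeAlg B π)]
    (hπm : IsLocalRing.maximalIdeal B = Ideal.span ({π} : Set B))
    (σ : NodeAlg B π ≃+* NodeAlg B π) (I : Ideal (NodeAlg B π))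
    (ht : σ (NodeAlg.t π) - NodeAlg.t π ∈ I) (he : σ (NodeAlg.e π) - NodeAlg.e π ∈ I)
    (hB : ∀ c : B, σ (algebraMap B (NodeAlg B π) c) - algebraMap B (NodeAlg B π) c ∈ I) :
    fixIdeal σ ≤ I := by
  refine fixIdeal_le' σ I (NodeAlg.t π) (NodeAlg.e π) (v_mem_maximalIdeal π hπm 0)
    (v_mem_maximalIdeal π hπm 1) ht he ?_
  intro x
  obtain ⟨c, hc⟩ := exists_sub_mem_span π x
  exact ⟨algebraMap B (NodeAlg B π) c, hB c, hc⟩

end loc


section dom
variable {B : Type u} [CommRing B] [IsDomain B] (π : B)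

lemma v_mul_eq_zero (hπ0 : π ≠ 0) {i j : Fin 2} (h : j ≠ i) (x : NodeAlg B π)
    (hx : v π j * x = 0) : x = 0 := by
  obtain ⟨f, rfl⟩ := Ideal.Quotient.mk_surjective x
  rw [v, ← map_mul, Ideal.Quotient.eq_zero_iff_mem, Ideal.mem_span_singleton] at hx
  obtain ⟨g, hg⟩ := hx
  have h1 := congrArg (axis i) hg
  rw [map_mul, map_mul, axis_X_ne h, zero_mul, axis_rel] at h1
  have h2 : axis i g = 0 := by
    have hC : (PowerSeries.C π : PowerSeries B) ≠ 0 := by
      intro h0
      apply hπ0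
      have := congrArg PowerSeries.constantCoeff h0
      simpa using this
    have : PowerSeries.C π * axis i g = 0 := by linear_combination h1
    exact (mul_eq_zero.mp this).resolve_left hC
  rw [axis_eq_zero_iff h] at h2
  obtain ⟨g', rfl⟩ := h2
  have h3 : f = (X 0 * X 1 - C π) * g' := by
    have hX : (X j : MvPowerSeries (Fin 2) B) ≠ 0 := by
      intro h0
      have := congrArg (MvPowerSeries.coeff (Finsupp.single j 1)) h0
      rw [MvPowerSeries.coeff_X, if_pos rfl, map_zero] at this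
      exact one_ne_zero this
    apply mul_left_cancel₀ hX
    rw [hg]; ring
  rw [Ideal.Quotient.eq_zero_iff_mem, Ideal.mem_span_singleton]
  exact ⟨g', h3⟩

lemma v_pow_mul_eq_zero (hπ0 : π ≠ 0) {i j : Fin 2} (h : j ≠ i) (n : ℕ) (x : NodeAlg B π)
    (hx : v π j ^ n * x = 0) : x = 0 := by
  induction n with
  | zero => simpa using hx
  | succ n ih =>
    apply ih
    apply v_mul_eq_zero π hπ0 h
    rw [← mul_assoc, ← pow_succ']
    exact hx

variable [IsLocalRing B] [IsNoetherianRing B]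

omit [IsDomain B] in
lemma exists_eq_pow_mul [IsLocalRing (NodeAlg B π)]
    (hπm : IsLocalRing.maximalIdeal B = Ideal.span ({π} : Set B)) (j : Fin 2)
    (x : NodeAlg B π) (hx : x ≠ 0) :
    ∃ (n : ℕ) (x' : NodeAlg B π), x = v π j ^ n * x' ∧ ¬ v π j ∣ x' := by
  have hfin : FiniteMultiplicity (v π j) x := by
    by_contra hnot
    apply hx
    have hall : ∀ n, v π j ^ n ∣ x := by
      intro n
      by_contra hn
      apply hnot
      refine ⟨n, fun hd => hn ((pow_dvd_pow _ (Nat.le_succ n)).trans hd)⟩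
    have hkr := Ideal.iInf_pow_eq_bot_of_isLocalRing (Ideal.span ({v π j} : Set (NodeAlg B π)))
      (by
        rw [Ne, Ideal.span_singleton_eq_top]
        exact not_isUnit_v π (span_ne_top π hπm) j)
    have : x ∈ ⨅ i, Ideal.span ({v π j} : Set (NodeAlg B π)) ^ i := by
      rw [Ideal.mem_iInf]
      intro n
      rw [Ideal.span_singleton_pow, Ideal.mem_span_singleton]
      exact hall n
    rw [hkr] at this
    exact this
  obtain ⟨c, hc1, hc2⟩ := hfin.exists_eq_pow_mul_and_not_dvd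
  exact ⟨_, c, hc1, hc2⟩

theorem isDomain_node [IsLocalRing (NodeAlg B π)] (hπ0 : π ≠ 0)
    (hπm : IsLocalRing.maximalIdeal B = Ideal.span ({π} : Set B)) :
    IsDomain (NodeAlg B π) := by
  haveI : Nontrivial (NodeAlg B π) := inferInstance
  have : NoZeroDivisors (NodeAlg B π) := by
    refine ⟨?_⟩
    intro x y hxy
    by_contra hne
    rw [not_or] at hne
    obtain ⟨a, x', rfl, hx'⟩ := exists_eq_pow_mul π hπm 0 x hne.1
    obtain ⟨b, y', rfl, hy'⟩ := exists_eq_pow_mul π hπm 0 y hne.2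
    have h1 : v π 0 ^ (a + b) * (x' * y') = 0 := by rw [← hxy, pow_add]; ring
    have h2 := v_pow_mul_eq_zero π hπ0 (show (0 : Fin 2) ≠ 1 by decide) _ _ h1
    have h3 : v π 0 ∣ x' * y' := by rw [h2]; exact dvd_zero _
    rcases v_dvd_mul π (span_isPrime π hπm) (show (0 : Fin 2) ≠ 1 by decide) h3 with h4 | h4
    · exact hx' h4
    · exact hy' h4
  exact NoZeroDivisors.to_isDomain _

omit [IsDomain B] [IsNoetherianRing B] in
lemma prime_v (hπm : IsLocalRing.maximalIdeal B = Ideal.span ({π} : Set B)) (j : Fin 2) :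
    Prime (v π j) := by
  obtain ⟨i, hi⟩ : ∃ i : Fin 2, j ≠ i := by
    fin_cases j
    · exact ⟨1, by decide⟩
    · exact ⟨0, by decide⟩
  refine ⟨?_, not_isUnit_v π (span_ne_top π hπm) j, fun a b h => v_dvd_mul π (span_isPrime π hπm) hi h⟩
  intro h0
  have h1 := axisN_v_self π j
  rw [h0, map_zero] at h1
  haveI : Nontrivial (B ⧸ Ideal.span ({π} : Set B)) :=
    Ideal.Quotient.nontrivial_iff.mpr (span_ne_top π hπm)
  exact PowerSeries.X_ne_zero h1.symm

end dom

end Groth.Agent.Lib.helper22.ArLefNode
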