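import Mathlib
import Groth.Prelude.Def_W4c2arithlefschetzNode
import Groth.Agent.Lib.Helper22.ArLefNode

set_option autoImplicit false
universe u

namespace Groth.Agent.Lib.helper22.ArLefLen

open ArLef Groth.Agent.Lib.helper22.ArLefGen Groth.Agent.Lib.helper22.ArLefNode

section gen
variable {A : Type u} [CommRing A]

lemma length_pair_comm (x y : A) :
    Module.length A (A ⧸ Ideal.span ({x, y} : Set A)) =
      Module.length A (A ⧸ Ideal.span ({y, x} : Set A)) :=
  length_quot_congr (by rw [Set.pair_comm])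

lemma length_quot_top {I : Ideal A} (h : I = ⊤) : Module.length A (A ⧸ I) = 0 := by
  subst h
  rw [Module.length_eq_zero_iff]
  exact Ideal.Quotient.subsingleton_iff.mpr rfl

variable [IsNoetherianRing A]

lemma length_quot_pow' (a b : A) (n : ℕ)
    (ha : 1 ≤ n → IsSMulRegular (A ⧸ Ideal.span ({b} : Set A)) a) :
    Module.length A (A ⧸ Ideal.span ({a ^ n, b} : Set A)) =
      (n : ℕ∞) * Module.length A (A ⧸ Ideal.span ({a, b} : Set A)) := by
  rcases Nat.eq_zero_or_pos n with rfl | hn
  · rw [length_quot_top (by rw [Ideal.eq_top_iff_one]; exact Ideal.subset_span (by simp))]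
    simp
  · exact length_quot_pow a b (ha hn) n

variable [IsDomain A]

/-- `len A/(pa, qb) = len A/(p,q) + len A/(p,b) + len A/(q,a) + len A/(a,b)` -/
lemma len_pq_mul {p q a b : A} (hp : Prime p) (hq : Prime q) (hpq : ¬ p ∣ q) (hqp : ¬ q ∣ p)
    (hpb : ¬ p ∣ b) (hqa : ¬ q ∣ a) :
    Module.length A (A ⧸ Ideal.span ({p * a, q * b} : Set A)) =
      Module.length A (A ⧸ Ideal.span ({p, q} : Set A)) +
      Module.length A (A ⧸ Ideal.span ({p, b} : Set A)) +
      Module.length A (A ⧸ Ideal.span ({q, a} : Set A)) +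
      Module.length A (A ⧸ Ideal.span ({a, b} : Set A)) := by
  have h1 : ¬ p ∣ q * b := fun h => (hp.dvd_or_dvd h).elim hpq hpb
  rw [length_quot_mul p a (q * b) (isSMulRegular_of_prime hp h1),
    length_pair_comm p (q * b), length_quot_mul q b p (isSMulRegular_of_prime hq hqp),
    length_pair_comm a (q * b), length_quot_mul q b a (isSMulRegular_of_prime hq hqa),
    length_pair_comm q p, length_pair_comm b p, length_pair_comm b a]
  ring

/-- `len A/(p^m q^n, a) = m len A/(p,a) + n len A/(q,a)` -/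
lemma len_pow_mul_pow {p q a : A} (hp : Prime p) (hq : Prime q) (m n : ℕ)
    (hpa : 1 ≤ m → ¬ p ∣ a) (hqa : 1 ≤ n → ¬ q ∣ a) :
    Module.length A (A ⧸ Ideal.span ({p ^ m * q ^ n, a} : Set A)) =
      (m : ℕ∞) * Module.length A (A ⧸ Ideal.span ({p, a} : Set A)) +
      (n : ℕ∞) * Module.length A (A ⧸ Ideal.span ({q, a} : Set A)) := by
  rcases Nat.eq_zero_or_pos m with rfl | hm
  · rw [pow_zero, one_mul, length_quot_pow' q a n (fun h => isSMulRegular_of_prime hq (hqa h))]
    simp
  · have hreg : IsSMulRegular (A ⧸ Ideal.span ({a} : Set A)) (p ^ m) :=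
      (isSMulRegular_of_prime hp (hpa hm)).pow m
    rw [length_quot_mul (p ^ m) (q ^ n) a hreg,
      length_quot_pow' p a m (fun _ => isSMulRegular_of_prime hp (hpa hm)),
      length_quot_pow' q a n (fun h => isSMulRegular_of_prime hq (hqa h))]

end gen


section node
variable {B : Type u} [CommRing B] [IsLocalRing B] [IsNoetherianRing B] (π : B)

theorem node_fixIdeal_eq [IsLocalRing (NodeAlg B π)]
    (hπm : IsLocalRing.maximalIdeal B = Ideal.span ({π} : Set B))
    (j : ℕ) (γ : B) (hγ : IsUnit γ) (σ : NodeAlg B π ≃+* NodeAlg B π)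
    (hσB : ∀ b : B, σ (algebraMap B (NodeAlg B π) b) - algebraMap B (NodeAlg B π) b ∈
      Ideal.span ({algebraMap B (NodeAlg B π) (π ^ j)} : Set (NodeAlg B π)))
    (hσπ : σ (algebraMap B (NodeAlg B π) π) = algebraMap B (NodeAlg B π) (π + γ * π ^ j)) :
    fixIdeal σ = Ideal.span ({algebraMap B (NodeAlg B π) (π ^ j),
      σ (NodeAlg.t π) - NodeAlg.t π, σ (NodeAlg.e π) - NodeAlg.e π} : Set (NodeAlg B π)) := by
  apply le_antisymm
  · refine node_fixIdeal_le π hπm σ _ (Ideal.subset_span (by simp)) (Ideal.subset_span (by simp)) ?_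
    intro c
    have := hσB c
    rw [Ideal.mem_span_singleton] at this
    obtain ⟨d, hd⟩ := this
    rw [hd]
    exact Ideal.mul_mem_right _ _ (Ideal.subset_span (by simp))
  · rw [Ideal.span_le]
    rintro z (rfl | rfl | rfl)
    · obtain ⟨u, rfl⟩ := hγ
      have h1 : σ (algebraMap B (NodeAlg B π) π) - algebraMap B (NodeAlg B π) π ∈ fixIdeal σ :=
        sub_mem_fixIdeal σ _
      rw [hσπ] at h1
      have h2 : algebraMap B (NodeAlg B π) (π ^ j) = algebraMap B (NodeAlg B π) ((u⁻¹ : Bˣ) : B) *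
          (algebraMap B (NodeAlg B π) (π + u * π ^ j) - algebraMap B (NodeAlg B π) π) := by
        rw [← map_sub, ← map_mul]
        congr 1
        have : ((u⁻¹ : Bˣ) : B) * (u : B) = 1 := by simp
        linear_combination (-(π ^ j)) * this
      rw [SetLike.mem_coe, h2]
      exact Ideal.mul_mem_left _ _ h1
    · exact sub_mem_fixIdeal σ _
    · exact sub_mem_fixIdeal σ _

omit [IsLocalRing B] [IsNoetherianRing B] in
lemma node_rel (j : ℕ) (γ : B) (σ : NodeAlg B π ≃+* NodeAlg B π)
    (hσπ : σ (algebraMap B (NodeAlg B π) π) = algebraMap B (NodeAlg B π) (π + γ * π ^ (j + 1))) :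
    σ (NodeAlg.t π) * σ (NodeAlg.e π) = NodeAlg.t π * NodeAlg.e π *
      (1 + algebraMap B (NodeAlg B π) γ * (NodeAlg.t π * NodeAlg.e π) ^ j) := by
  rw [← map_mul, t_mul_e, hσπ, map_add, map_mul, map_pow]
  ring

end node

end Groth.Agent.Lib.helper22.ArLefLen
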