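import Mathlib
import Groth.Agent.Lib.Helper22.ArLefLen

/-! helper22: colon ideal helper for the `ArLef` colon rows. -/

set_option autoImplicit false
universe u

namespace Groth.Agent.Lib.helper22.ArLefLen

section colon
variable {A : Type u} [CommRing A] [IsDomain A]

lemma colon_span_singleton_mul {D : A} (hD : D ≠ 0) (J : Ideal A) :
    (Ideal.span ({D} : Set A) * J).colon ({D} : Set A) = J := by
  ext x
  rw [Submodule.mem_colon_singleton, smul_eq_mul, Ideal.mem_span_singleton_mul]
  constructor
  · rintro ⟨z, hz, hzx⟩
    have : x = z := by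
      apply mul_left_cancel₀ hD
      rw [hzx]; ring
    rw [this]; exact hz
  · intro hx
    exact ⟨x, hx, mul_comm _ _⟩

end colon

end Groth.Agent.Lib.helper22.ArLefLen
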