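import Mathlib
import Groth.Agent.Lib.Helper22.ArLefLen

/-! helper22: `len A/J₁ + len A/J₂ = len A/(J₁ ⊓ J₂) + len A/(J₁ ⊔ J₂)` for ideals. -/

set_option autoImplicit false
universe u

namespace Groth.Agent.Lib.helper22.ArLefLen

section exact
variable {A : Type u} [CommRing A]

theorem length_quot_add_length_quot (J₁ J₂ : Ideal A) :
    Module.length A (A ⧸ J₁) + Module.length A (A ⧸ J₂) =
      Module.length A (A ⧸ (J₁ ⊓ J₂)) + Module.length A (A ⧸ (J₁ ⊔ J₂)) := by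
  let f₁ : (A ⧸ (J₁ ⊓ J₂)) →ₗ[A] (A ⧸ J₁) :=
    Submodule.mapQ (J₁ ⊓ J₂) J₁ LinearMap.id (by intro x hx; exact hx.1)
  let f₂ : (A ⧸ (J₁ ⊓ J₂)) →ₗ[A] (A ⧸ J₂) :=
    Submodule.mapQ (J₁ ⊓ J₂) J₂ LinearMap.id (by intro x hx; exact hx.2)
  let g₁ : (A ⧸ J₁) →ₗ[A] (A ⧸ (J₁ ⊔ J₂)) :=
    Submodule.mapQ J₁ (J₁ ⊔ J₂) LinearMap.id (by intro x hx; exact Ideal.mem_sup_left hx)
  let g₂ : (A ⧸ J₂) →ₗ[A] (A ⧸ (J₁ ⊔ J₂)) :=
    Submodule.mapQ J₂ (J₁ ⊔ J₂) LinearMap.id (by intro x hx; exact Ideal.mem_sup_right hx)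
  let f : (A ⧸ (J₁ ⊓ J₂)) →ₗ[A] (A ⧸ J₁) × (A ⧸ J₂) := f₁.prod f₂
  let g : (A ⧸ J₁) × (A ⧸ J₂) →ₗ[A] (A ⧸ (J₁ ⊔ J₂)) := g₁.coprod (-g₂)
  have hf₁ : ∀ x : A, f₁ (Ideal.Quotient.mk _ x) = Ideal.Quotient.mk _ x := fun x => rfl
  have hf₂ : ∀ x : A, f₂ (Ideal.Quotient.mk _ x) = Ideal.Quotient.mk _ x := fun x => rfl
  have hg₁ : ∀ x : A, g₁ (Ideal.Quotient.mk _ x) = Ideal.Quotient.mk _ x := fun x => rfl
  have hg₂ : ∀ x : A, g₂ (Ideal.Quotient.mk _ x) = Ideal.Quotient.mk _ x := fun x => rfl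
  have hf : Function.Injective f := by
    rw [injective_iff_map_eq_zero]
    intro z hz
    obtain ⟨x, rfl⟩ := Ideal.Quotient.mk_surjective z
    have h1 : f₁ (Ideal.Quotient.mk _ x) = 0 := congrArg Prod.fst hz
    have h2 : f₂ (Ideal.Quotient.mk _ x) = 0 := congrArg Prod.snd hz
    rw [hf₁, Ideal.Quotient.eq_zero_iff_mem] at h1
    rw [hf₂, Ideal.Quotient.eq_zero_iff_mem] at h2
    rw [Ideal.Quotient.eq_zero_iff_mem]
    exact ⟨h1, h2⟩
  have hg : Function.Surjective g := by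
    intro z
    obtain ⟨x, rfl⟩ := Ideal.Quotient.mk_surjective z
    refine ⟨(Ideal.Quotient.mk _ x, 0), ?_⟩
    simp [g, hg₁]
  have H : Function.Exact f g := by
    intro p
    constructor
    · intro hp
      obtain ⟨z₁, z₂⟩ := p
      obtain ⟨x, rfl⟩ := Ideal.Quotient.mk_surjective z₁
      obtain ⟨y, rfl⟩ := Ideal.Quotient.mk_surjective z₂
      have h0 : g₁ (Ideal.Quotient.mk _ x) - g₂ (Ideal.Quotient.mk _ y) = 0 := by
        have : g (Ideal.Quotient.mk _ x, Ideal.Quotient.mk _ y) =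
            g₁ (Ideal.Quotient.mk _ x) - g₂ (Ideal.Quotient.mk _ y) := by
          simp [g, sub_eq_add_neg]
        rw [← this]; exact hp
      rw [hg₁, hg₂, ← map_sub, Ideal.Quotient.eq_zero_iff_mem] at h0
      obtain ⟨j₁, hj₁, j₂, hj₂, hj⟩ := Submodule.mem_sup.mp h0
      refine ⟨Ideal.Quotient.mk _ (x - j₁), ?_⟩
      apply Prod.ext
      · change f₁ (Ideal.Quotient.mk _ (x - j₁)) = _
        rw [hf₁, Ideal.Quotient.eq]
        have : x - j₁ - x = -j₁ := by ring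
        rw [this]; exact J₁.neg_mem hj₁
      · change f₂ (Ideal.Quotient.mk _ (x - j₁)) = _
        rw [hf₂, Ideal.Quotient.eq]
        have : x - j₁ - y = j₂ := by linear_combination (-1 : A) * hj
        rw [this]; exact hj₂
    · rintro ⟨z, rfl⟩
      obtain ⟨x, rfl⟩ := Ideal.Quotient.mk_surjective z
      simp [f, g, hf₁, hf₂, hg₁, hg₂]
  have := Module.length_eq_add_of_exact f g hf hg H
  rw [Module.length_prod] at this
  exact this

end exact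

end Groth.Agent.Lib.helper22.ArLefLen
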