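import Mathlib

/-!
# Trivial inertia implies unramified (helper22)

Let a finite group `G` act on a commutative ring `B` with ring of invariants (the image of) `R`.
If the inertia group of a prime `P` of `B` is trivial, then `B` is unramified over `R` at `P`
(`isUnramifiedAt_of_inertia_eq_bot`).

The proof is elementary: one finds `b : B` with `σ b - b ∉ P` for all `σ ≠ 1`
(`exists_forall_smul_sub_notMem`, using a primitive element of the residue field extension), and then
Lagrange interpolation shows `f'(b) • B ⊆ R[b]` where `f` is the characteristic polynomial of `b`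
(`exists_aeval_eq_mul_prod`), so that `f'(b)^2` kills all Kähler differentials.
-/

namespace Groth.Agent.Lib.helper22.InertiaUnram

open Polynomial IntermediateField
open scoped Pointwise

/-- a finite group acting faithfully on a field has an element with trivial stabilizer -/
theorem exists_smul_ne_of_faithful (Γ : Type*) [Group Γ] [Finite Γ] (L : Type*) [Field L]
    [MulSemiringAction Γ L] [FaithfulSMul Γ L] :
    ∃ θ : L, θ ≠ 0 ∧ ∀ σ : Γ, σ ≠ 1 → σ • θ ≠ θ := by
  classical
  obtain ⟨θ, hθ⟩ := Field.exists_primitive_element (FixedPoints.subfield Γ L) L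
  have key : ∀ σ : Γ, σ • θ = θ → σ = 1 := by
    intro σ hσ
    have hle : (FixedPoints.subfield Γ L)⟮θ⟯ ≤
        FixedBy.intermediateField (FixedPoints.subfield Γ L) L σ := by
      rw [IntermediateField.adjoin_simple_le_iff]
      exact hσ
    have : ∀ x : L, σ • x = x := by
      intro x
      have hx : x ∈ (FixedPoints.subfield Γ L)⟮θ⟯ := by rw [hθ]; trivial
      exact hle hx
    exact FaithfulSMul.eq_of_smul_eq_smul (α := L) (by simpa using this)
  by_cases h0 : θ = 0
  · refine ⟨1, one_ne_zero, fun σ hσ h => hσ (key σ ?_)⟩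
    rw [h0, smul_zero]
  · exact ⟨θ, h0, fun σ hσ h => hσ (key σ h)⟩

section

variable {B : Type*} [CommRing B] (G : Type*) [Group G] [MulSemiringAction G B]
  (P : Ideal B)

/-- the action of the decomposition group on the quotient -/
@[instance_reducible]
noncomputable def stabAction : MulSemiringAction (MulAction.stabilizer G P) (B ⧸ P) :=
  MulSemiringAction.compHom (B ⧸ P)
    ((MulSemiringAction.toRingEquiv ((B ⧸ P) ≃ₐ[ℤ ⧸ P.under ℤ] (B ⧸ P)) (B ⧸ P)).comp
      (Ideal.Quotient.stabilizerHom P (P.under ℤ) G))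

theorem stabAction_smul_mk (g : MulAction.stabilizer G P) (x : B) :
    letI := stabAction G P
    g • (Ideal.Quotient.mk P x) = Ideal.Quotient.mk P (g.1 • x) := rfl

variable [Finite G] [P.IsPrime]

/-- an element of the quotient with trivial stabilizer in the decomposition group -/
theorem exists_quot_smul_ne (hI : P.inertia G = ⊥) :
    ∃ a : B, a ∉ P ∧ ∀ σ : G, σ • P = P → σ ≠ 1 → σ • a - a ∉ P := by
  classical
  letI := stabAction G P
  haveI : FaithfulSMul (MulAction.stabilizer G P) (B ⧸ P) := by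
    refine ⟨fun {g g'} h => ?_⟩
    have h1 : (g⁻¹ * g').1 ∈ P.inertia G := by
      intro x
      have := h (Ideal.Quotient.mk P x)
      rw [stabAction_smul_mk, stabAction_smul_mk, Ideal.Quotient.eq] at this
      have h2 : (g⁻¹).1 • (g.1 • x - g'.1 • x) ∈ P := by
        have hg : (g⁻¹).1 • P = P := (g⁻¹).2
        have h2' := Ideal.smul_mem_pointwise_smul (g⁻¹).1 _ _ this
        rwa [hg] at h2'
      have h3 : (g⁻¹ * g').1 • x - x = -((g⁻¹).1 • (g.1 • x - g'.1 • x)) := by
        rw [smul_sub, smul_smul, smul_smul]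
        simp
      show (g⁻¹ * g').1 • x - x ∈ P
      rw [h3]
      exact P.neg_mem h2
    rw [hI, Subgroup.mem_bot] at h1
    have : g⁻¹ * g' = 1 := Subtype.ext h1
    exact (inv_mul_eq_one.mp this)
  let L := FractionRing (B ⧸ P)
  letI := IsFractionRing.mulSemiringAction (MulAction.stabilizer G P) (B ⧸ P) L
  haveI : FaithfulSMul (MulAction.stabilizer G P) L :=
    IsFractionRing.faithfulSMul (MulAction.stabilizer G P) (B ⧸ P) L
  obtain ⟨θ, hθ0, hθ⟩ := exists_smul_ne_of_faithful (MulAction.stabilizer G P) L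
  obtain ⟨x, y, hy, rfl⟩ := IsFractionRing.div_surjective (B ⧸ P) θ
  cases nonempty_fintype (MulAction.stabilizer G P)
  have hy0 : y ≠ 0 := nonZeroDivisors.ne_zero hy
  set N' : B ⧸ P := ∏ δ ∈ (Finset.univ.erase (1 : MulAction.stabilizer G P)), δ • y with hN'
  set N : B ⧸ P := ∏ δ : MulAction.stabilizer G P, δ • y with hN
  have hNN' : N = y * N' := by
    rw [hN, hN', ← Finset.mul_prod_erase _ _ (Finset.mem_univ (1 : MulAction.stabilizer G P)),
      one_smul]
  have hNinv : ∀ σ : MulAction.stabilizer G P, σ • N = N := fun σ => by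
    rw [hN]; exact Finset.smul_prod_perm y σ
  have hN0 : N ≠ 0 := by
    rw [hN, Finset.prod_ne_zero_iff]
    intro δ _ h
    apply hy0
    have := congrArg (fun z => δ⁻¹ • z) h
    simpa using this
  have hinj : Function.Injective (algebraMap (B ⧸ P) L) := IsFractionRing.injective _ _
  have hyL : algebraMap (B ⧸ P) L y ≠ 0 := fun h => hy0 (hinj (by rw [h, map_zero]))
  have hNL : algebraMap (B ⧸ P) L N ≠ 0 := fun h => hN0 (hinj (by rw [h, map_zero]))
  have hkey : algebraMap (B ⧸ P) L (x * N') =
      (algebraMap (B ⧸ P) L x / algebraMap (B ⧸ P) L y) * algebraMap (B ⧸ P) L N := by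
    rw [hNN', map_mul, map_mul, ← mul_assoc, div_mul_cancel₀ _ hyL]
  obtain ⟨a, ha⟩ := Ideal.Quotient.mk_surjective (x * N')
  refine ⟨a, ?_, ?_⟩
  · intro haP
    have h0 : x * N' = 0 := by rw [← ha]; exact Ideal.Quotient.eq_zero_iff_mem.mpr haP
    rw [h0, map_zero] at hkey
    exact (mul_ne_zero hθ0 hNL) hkey.symm
  · intro σ hσP hσ1 hmem
    have hσ' : (⟨σ, hσP⟩ : MulAction.stabilizer G P) ≠ 1 := fun h => hσ1 (congrArg Subtype.val h)
    apply hθ _ hσ'
    have h1 : (⟨σ, hσP⟩ : MulAction.stabilizer G P) • (x * N') = x * N' := by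
      rw [← ha, stabAction_smul_mk, Ideal.Quotient.eq]
      exact hmem
    have hsm : ∀ (g : MulAction.stabilizer G P) (z : B ⧸ P),
        algebraMap (B ⧸ P) L (g • z) = g • algebraMap (B ⧸ P) L z := by
      intro g z
      rw [Algebra.algebraMap_eq_smul_one, Algebra.algebraMap_eq_smul_one, smul_distrib_smul,
        smul_one]
    have h2 := congrArg (algebraMap (B ⧸ P) L) h1
    rw [hsm, hkey, smul_mul', ← hsm, hNinv] at h2
    exact mul_right_cancel₀ hNL h2

/-- an element all of whose nontrivial conjugates differ from it modulo `P` -/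
theorem exists_forall_smul_sub_notMem (hI : P.inertia G = ⊥) :
    ∃ b : B, ∀ σ : G, σ ≠ 1 → σ • b - b ∉ P := by
  classical
  cases nonempty_fintype G
  obtain ⟨a, haP, ha⟩ := exists_quot_smul_ne G P hI
  let P' := Finset.inf (Finset.univ.filter (fun g : G => g • P ≠ P)) (fun g ↦ g • P)
  have h1 : ¬ P' ≤ P := by
    rw [Ideal.IsPrime.inf_le' inferInstance]
    rintro ⟨g, hg1, hg2⟩
    exact (Finset.mem_filter.mp hg1).2 (smul_eq_of_smul_le hg2)
  obtain ⟨c₀, hc₀P', hc₀P⟩ := SetLike.not_le_iff_exists.mp h1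
  have hc₀ : ∀ g : G, g • P ≠ P → c₀ ∈ g • P := fun g hg ↦
    (Finset.inf_le (Finset.mem_filter.mpr ⟨Finset.mem_univ g, hg⟩) : P' ≤ g • P) hc₀P'
  set D : Finset G := Finset.univ.filter (fun g => g • P = P) with hD
  set c := ∏ δ ∈ D, δ • c₀ with hc
  have hmemD : ∀ g : G, g ∈ D ↔ g • P = P := fun g => by simp [hD]
  have hcP : c ∉ P := by
    rw [hc, Ideal.IsPrime.prod_mem_iff]
    push Not
    intro δ hδ h
    apply hc₀P
    have hδ' : δ • P = P := (hmemD δ).mp hδ
    rw [← hδ'] at h
    exact (Ideal.smul_mem_pointwise_smul_iff).mp h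
  have hcinv : ∀ σ : G, σ • P = P → σ • c = c := by
    intro σ hσ
    rw [hc, Finset.smul_prod']
    refine Finset.prod_bij (fun δ _ => σ * δ) ?_ ?_ ?_ ?_
    · intro δ hδ
      rw [hmemD] at hδ ⊢
      rw [mul_smul, hδ, hσ]
    · intro δ _ δ' _ h
      exact mul_left_cancel h
    · intro δ hδ
      refine ⟨σ⁻¹ * δ, ?_, by simp⟩
      rw [hmemD] at hδ ⊢
      rw [mul_smul, hδ, inv_smul_eq_iff, hσ]
    · intro δ _
      rw [mul_smul]
  have hcmem : ∀ σ : G, σ • P ≠ P → σ • c ∈ P := by
    intro σ hσ
    have hσ' : σ⁻¹ • P ≠ P := by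
      intro h
      apply hσ
      rw [← h, smul_inv_smul]
      exact h.symm
    have h1 : c₀ ∈ σ⁻¹ • P := hc₀ _ hσ'
    have h2 : c ∈ σ⁻¹ • P := by
      have hd : c₀ ∣ c := by
        have : (1 : G) • c₀ ∣ c := Finset.dvd_prod_of_mem (fun δ => δ • c₀) ((hmemD 1).mpr (one_smul _ _))
        rwa [one_smul] at this
      obtain ⟨d, hd⟩ := hd
      rw [hd]
      exact Ideal.mul_mem_right _ _ h1
    rw [Ideal.mem_pointwise_smul_iff_inv_smul_mem, inv_inv] at h2
    exact h2
  refine ⟨a * c, fun σ hσ1 => ?_⟩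
  by_cases hσP : σ • P = P
  · have : σ • (a * c) - a * c = (σ • a - a) * c := by rw [smul_mul', hcinv σ hσP]; ring
    rw [this]
    intro h
    rcases Ideal.IsPrime.mem_or_mem inferInstance h with h | h
    · exact ha σ hσP hσ1 h
    · exact hcP h
  · intro h
    have h2 : σ • (a * c) ∈ P := by rw [smul_mul']; exact P.mul_mem_left _ (hcmem σ hσP)
    have h3 : a * c ∈ P := by
      have := P.sub_mem h2 h
      simpa using this
    rcases Ideal.IsPrime.mem_or_mem inferInstance h3 with h | h
    · exact haP h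
    · exact hcP h

end

section

variable {R B : Type*} [CommRing R] [CommRing B] [Algebra R B] (G : Type*) [Group G]
  [MulSemiringAction G B] [SMulCommClass G R B] [Algebra.IsInvariant R B G]

/-- Lagrange interpolation: `x * ∏_{τ ≠ 1} (b - τ b)` is a polynomial in `b` over the invariants. -/
theorem exists_aeval_eq_mul_prod [Fintype G] [DecidableEq G] (b x : B) :
    ∃ g : R[X], aeval b g = x * ∏ τ ∈ Finset.univ.erase (1 : G), (b - τ • b) := by
  set q₁ : B[X] := ∏ τ ∈ Finset.univ.erase (1 : G), (X - C (τ • b)) with hq₁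
  set T : B[X] := ∑ σ : G, σ • (C x * q₁) with hT
  have hTinv : ∀ ρ : G, ρ • T = T := by
    intro ρ
    rw [hT, Finset.smul_sum]
    refine Fintype.sum_equiv (Equiv.mulLeft ρ) _ _ (fun σ => ?_)
    rw [smul_smul]; rfl
  have hlift : T ∈ Polynomial.lifts (algebraMap R B) := by
    rw [Polynomial.lifts_iff_coeff_lifts]
    intro n
    apply Algebra.IsInvariant.isInvariant (A := R) (G := G)
    intro ρ
    rw [← Polynomial.coeff_smul, hTinv]
  obtain ⟨g, hg⟩ := (Polynomial.mem_lifts _).mp hlift
  refine ⟨g, ?_⟩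
  rw [Polynomial.aeval_def, ← Polynomial.eval_map, hg, hT, Polynomial.eval_finsetSum]
  rw [Finset.sum_eq_single (1 : G)]
  · rw [one_smul, Polynomial.eval_mul, Polynomial.eval_C, hq₁, Polynomial.eval_prod]
    simp
  · intro σ _ hσ
    rw [smul_mul', Polynomial.smul_C, Polynomial.eval_mul, hq₁, Finset.smul_prod',
      Polynomial.eval_prod]
    have hmem : σ⁻¹ ∈ Finset.univ.erase (1 : G) := by
      rw [Finset.mem_erase]
      exact ⟨inv_ne_one.mpr hσ, Finset.mem_univ _⟩
    rw [Finset.prod_eq_zero hmem, mul_zero]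
    rw [smul_sub, Polynomial.smul_X, Polynomial.smul_C, smul_smul, mul_inv_cancel, one_smul]
    simp
  · intro h; exact absurd (Finset.mem_univ _) h

theorem isUnramifiedAt_of_forall_smul_sub_notMem [Finite G] (P : Ideal B) [P.IsPrime] (b : B)
    (hb : ∀ σ : G, σ ≠ 1 → σ • b - b ∉ P) : Algebra.IsUnramifiedAt R P := by
  classical
  cases nonempty_fintype G
  set u : B := ∏ τ ∈ Finset.univ.erase (1 : G), (b - τ • b) with hu
  have huP : u ∉ P := by
    rw [hu, Ideal.IsPrime.prod_mem_iff]
    push Not
    intro τ hτ h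
    apply hb τ (Finset.ne_of_mem_erase hτ)
    have := P.neg_mem h
    simpa using this
  obtain ⟨F, hF⟩ := (Polynomial.mem_lifts _).mp (Algebra.IsInvariant.charpoly_mem_lifts R B G b)
  have hFb : aeval b F = 0 := by
    rw [aeval_def, ← eval_map, hF, MulSemiringAction.eval_charpoly]
  have hF'b : aeval b (derivative F) = u := by
    rw [aeval_def, ← eval_map, ← derivative_map, hF, MulSemiringAction.charpoly_eq,
      ← Finset.mul_prod_erase _ _ (Finset.mem_univ (1:G)), one_smul, derivative_mul]
    simp [eval_prod, hu]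
  let D := KaehlerDifferential.D R B
  have h1 : u • D b = 0 := by
    have := congrArg D hFb
    rw [Derivation.map_aeval, hF'b, map_zero] at this
    exact this
  have h2 : u • D u = 0 := by
    have h : D u = aeval b (derivative (derivative F)) • D b := by
      rw [← hF'b, Derivation.map_aeval]
    rw [h, smul_comm, h1, smul_zero]
  have h3 : ∀ x : B, (u * u) • D x = 0 := by
    intro x
    obtain ⟨g, hg⟩ := exists_aeval_eq_mul_prod (R := R) G b x
    rw [← hu] at hg
    have h4 : D (x * u) = aeval b (derivative g) • D b := by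
      rw [← hg, Derivation.map_aeval]
    have h5 : D (x * u) = x • D u + u • D x := Derivation.leibniz D x u
    have h6 : u • D x = D (x * u) - x • D u := by rw [h5]; abel
    rw [mul_smul, h6, smul_sub, h4, smul_comm u x, h2, smul_zero, smul_comm u _ (D b), h1,
      smul_zero, sub_zero]
  show (⟨P, inferInstance⟩ : PrimeSpectrum B) ∈ Algebra.unramifiedLocus R B
  rw [Algebra.unramifiedLocus_eq_compl_support, Set.mem_compl_iff, Module.notMem_support_iff,
    LocalizedModule.subsingleton_iff]
  intro ω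
  refine ⟨u * u, P.primeCompl.mul_mem huP huP, ?_⟩
  have hω : ω ∈ Submodule.span B (Set.range D) := by
    rw [KaehlerDifferential.span_range_derivation]; trivial
  induction hω using Submodule.span_induction with
  | mem y hy => obtain ⟨x, rfl⟩ := hy; exact h3 x
  | zero => simp
  | add y z _ _ hy hz => rw [smul_add, hy, hz, add_zero]
  | smul r y _ hy => rw [smul_comm, hy, smul_zero]


/-- **Trivial inertia implies unramified.** -/
theorem isUnramifiedAt_of_inertia_eq_bot [Finite G] (P : Ideal B) [P.IsPrime]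
    (hI : P.inertia G = ⊥) : Algebra.IsUnramifiedAt R P := by
  obtain ⟨b, hb⟩ := exists_forall_smul_sub_notMem G P hI
  exact isUnramifiedAt_of_forall_smul_sub_notMem G P b hb

end

end Groth.Agent.Lib.helper22.InertiaUnram
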