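import Mathlib
import Groth.Agent.S13359
import Groth.Agent.Lib.Helper22.InertiaUnram
import Groth.Agent.Lib.Helper22.PurityInd

/-!
# Generation of a Galois group by the inertia groups of height-one primes (helper22)

Let `R` be a regular local ring and `A` a normal local domain, finite over `R` with the same
residue field, and let a finite group `H` act faithfully on `A` with ring of invariants `R`.

* `eq_top_of_inertia_le`: a normal subgroup `N ≤ H` containing the inertia groups of all primes of
  `A` of height at most one is all of `H` (the fixed ring `A^N` is unramified in codimension one over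
  `R`, hence étale by Zariski–Nagata purity, hence equal to `R` as it is local with the same residue
  field; so `|N| = rank_R A = |H|`).
* `iSup_inertia_heightOne_eq_top`: `H` is generated by the inertia groups of height-one primes.
* `inertia_quotient_eq_bot`: the inertia group in `H ⧸ N` of a prime `Q` of `A^N` is trivial as
  soon as the inertia groups of the primes of `A` over `Q` lie in `N`.
-/

namespace Groth.Agent.Lib.helper22.InertiaGen

universe u v w

open IsLocalRing
open scoped Pointwise

/-- a subalgebra of an integrally closed domain which is closed under exact division is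
integrally closed -/
theorem isIntegrallyClosed_of_dvd_closed {R : Type*} [CommRing R] {A : Type*} [CommRing A]
    [IsDomain A] [IsIntegrallyClosed A] [Algebra R A] (S : Subalgebra R A)
    (hS : ∀ a b : S, (b : A) ≠ 0 → (∃ c : A, (a : A) = c * b) → ∃ c' : S, a = c' * b) :
    IsIntegrallyClosed S := by
  classical
  let K := FractionRing S
  rw [isIntegrallyClosed_iff K]
  intro x hx
  obtain ⟨G, hGm, hG⟩ := hx
  obtain ⟨a, b, hab⟩ := IsLocalization.exists_mk'_eq (nonZeroDivisors S) x
  have hinj : Function.Injective (algebraMap S K) := IsFractionRing.injective S K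
  have hb0 : (b : S) ≠ 0 := nonZeroDivisors.coe_ne_zero b
  have hbK : algebraMap S K b ≠ 0 := fun h => hb0 (hinj (h.trans (map_zero _).symm))
  have hxb : x * algebraMap S K b = algebraMap S K a := by
    rw [← hab]; exact IsLocalization.mk'_spec K a b
  set n := G.natDegree with hn
  have hrelS : ∑ j ∈ Finset.range (n + 1), G.coeff j * a ^ j * (b : S) ^ (n - j) = 0 := by
    apply hinj
    rw [map_zero, map_sum]
    have h1 : (∑ j ∈ Finset.range (n + 1), algebraMap S K (G.coeff j) * x ^ j) *
        (algebraMap S K b) ^ n = 0 := by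
      rw [Polynomial.eval₂_eq_sum_range] at hG
      rw [hG, zero_mul]
    rw [Finset.sum_mul] at h1
    refine Eq.trans ?_ h1
    apply Finset.sum_congr rfl
    intro j hj
    have hj' : j ≤ n := Nat.lt_succ_iff.mp (Finset.mem_range.mp hj)
    rw [map_mul, map_mul, map_pow, map_pow, ← hxb]
    have : (algebraMap S K b) ^ n = (algebraMap S K b) ^ j * (algebraMap S K b) ^ (n - j) := by
      rw [← pow_add]; congr 1; omega
    rw [this]; ring
  have hGR : (G.map S.val.toRingHom).Monic := hGm.map _
  have hnat : (G.map S.val.toRingHom).natDegree = n := hGm.natDegree_map _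
  have hbR : ((b : S) : A) ≠ 0 := fun h => hb0 (Subtype.ext h)
  obtain ⟨r, hr⟩ := Groth.Agent.S13359.comp_int (G.map S.val.toRingHom) hGR (a : A) ((b : S) : A)
    hbR (by
    rw [hnat]
    have h0 := congrArg (S.val) hrelS
    rw [map_zero, map_sum] at h0
    refine Eq.trans ?_ h0
    apply Finset.sum_congr rfl
    intro j _
    rw [Polynomial.coeff_map, map_mul, map_mul, map_pow, map_pow]
    rfl)
  obtain ⟨c', hc'⟩ := hS a b hbR ⟨r, hr⟩
  refine ⟨c', ?_⟩
  have : algebraMap S K c' * algebraMap S K b = x * algebraMap S K b := by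
    rw [hxb, ← map_mul, ← hc']
  exact mul_right_cancel₀ hbK this

theorem height_le_height_under_of_isIntegral {A' A : Type*} [CommRing A'] [CommRing A]
    [Algebra A' A] [Algebra.IsIntegral A' A] (P : Ideal A) [P.IsPrime] :
    P.height ≤ (P.under A').height := by
  have hstrict : StrictMono (PrimeSpectrum.comap (algebraMap A' A)) := by
    intro p q hpq
    have : p.asIdeal < q.asIdeal := hpq
    exact Ideal.IsIntegral.comap_lt_comap (R := A') this
  have h1 := PrimeSpectrum.height_eq_orderHeight (⟨P, inferInstance⟩ : PrimeSpectrum A)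
  have h2 := PrimeSpectrum.height_eq_orderHeight
    (PrimeSpectrum.comap (algebraMap A' A) ⟨P, inferInstance⟩)
  change P.height = _ at h1
  change (P.under A').height = _ at h2
  rw [h1, h2]
  exact Order.height_le_height_apply_of_strictMono _ hstrict _

section Fixed

variable {R : Type u} [CommRing R] {A : Type v} [CommRing A] [Algebra R A] {H : Type w} [Group H]
  [MulSemiringAction H A] [SMulCommClass H R A] (N : Subgroup H)

instance isInvariant_fixedPoints :
    Algebra.IsInvariant (FixedPoints.subalgebra R A N) A N where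
  isInvariant b hb := ⟨⟨b, hb⟩, rfl⟩

instance smulCommClass_fixedPoints : SMulCommClass N (FixedPoints.subalgebra R A N) A where
  smul_comm g a x := by
    rw [Algebra.smul_def, Algebra.smul_def, smul_mul']
    congr 1
    exact a.2 g

theorem isIntegrallyClosed_fixedPoints [IsDomain A] [IsIntegrallyClosed A] :
    IsIntegrallyClosed (FixedPoints.subalgebra R A N) := by
  apply isIntegrallyClosed_of_dvd_closed
  intro a b hb ⟨c, hc⟩
  have hcfix : ∀ g : N, g • c = c := by
    intro g
    have h1 : g • (a : A) = a := a.2 g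
    have h2 : g • (b : A) = b := b.2 g
    have h3 : g • c * (b : A) = c * b := by
      rw [← hc, ← h1, hc, smul_mul', h2]
    exact mul_right_cancel₀ hb h3
  exact ⟨⟨c, hcfix⟩, Subtype.ext hc⟩

variable [Finite H] [N.Normal]

omit [Finite H] in
theorem quotient_smul_val (σ : H) (x : FixedPoints.subalgebra R A N) :
    (((σ : H ⧸ N) • x : FixedPoints.subalgebra R A N) : A) = σ • (x : A) := rfl

/-- the inertia group in `H ⧸ N` of a prime `Q` of `A^N` is trivial as soon as the inertia groups
of the primes of `A` over `Q` lie in `N` -/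
theorem inertia_quotient_eq_bot (Q : Ideal (FixedPoints.subalgebra R A N)) [Q.IsPrime]
    (hN : ∀ P : Ideal A, P.IsPrime → P.under (FixedPoints.subalgebra R A N) = Q →
      P.inertia H ≤ N) : Q.inertia (H ⧸ N) = ⊥ := by
  rw [eq_bot_iff]
  intro g hg
  rw [Subgroup.mem_bot]
  obtain ⟨σ, rfl⟩ := QuotientGroup.mk_surjective g
  rw [QuotientGroup.eq_one_iff]
  have hσ : ∀ x : FixedPoints.subalgebra R A N, (σ : H ⧸ N) • x - x ∈ Q := hg
  haveI : Algebra.IsIntegral (FixedPoints.subalgebra R A N) A :=
    Algebra.IsInvariant.isIntegral (FixedPoints.subalgebra R A N) A N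
  have hinj : Function.Injective (algebraMap (FixedPoints.subalgebra R A N) A) :=
    Subtype.val_injective
  obtain ⟨P, -, hPprime, hPQ⟩ := Ideal.exists_ideal_over_prime_of_isIntegral
    (S := A) Q (⊥ : Ideal A) (by
      rw [← RingHom.ker_eq_comap_bot, (RingHom.injective_iff_ker_eq_bot _).mp hinj]
      exact bot_le)
  haveI := hPprime
  have hmemQ : ∀ x : FixedPoints.subalgebra R A N, x ∈ Q ↔ (x : A) ∈ P := by
    intro x
    rw [← hPQ]
    rfl
  -- `σ • P` also lies over `Q`
  have hunder : P.under (FixedPoints.subalgebra R A N) =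
      (σ • P).under (FixedPoints.subalgebra R A N) := by
    ext x
    rw [Ideal.under_def, Ideal.under_def, Ideal.mem_comap, Ideal.mem_comap,
      Ideal.mem_pointwise_smul_iff_inv_smul_mem]
    show (x : A) ∈ P ↔ σ⁻¹ • (x : A) ∈ P
    set y : FixedPoints.subalgebra R A N := ((σ⁻¹ : H) : H ⧸ N) • x with hy
    have hyv : (y : A) = σ⁻¹ • (x : A) := rfl
    have hxy : (σ : H ⧸ N) • y = x := by
      apply Subtype.ext
      rw [quotient_smul_val, hyv, smul_inv_smul]
    rw [← hyv, ← hmemQ, ← hmemQ]
    have h1 := hσ y
    rw [hxy] at h1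
    constructor
    · intro hx
      have := Q.sub_mem hx h1
      simpa using this
    · intro hy'
      have := Q.add_mem h1 hy'
      simpa using this
  obtain ⟨τ, hτ⟩ := Algebra.IsInvariant.exists_smul_of_under_eq
    (FixedPoints.subalgebra R A N) A N P (σ • P) hunder
  have hτ' : σ • P = (τ : H) • P := hτ
  set σ' : H := (τ : H)⁻¹ * σ with hσ'
  have hσ'P : σ' • P = P := by
    rw [hσ', mul_smul, hτ', inv_smul_smul]
  have hσ'x : ∀ x : FixedPoints.subalgebra R A N, σ' • (x : A) - (x : A) ∈ P := by
    intro x
    have h1 : σ' • (x : A) = σ • (x : A) := by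
      rw [hσ', mul_smul, ← quotient_smul_val N σ x]
      exact ((σ : H ⧸ N) • x).2 (τ⁻¹)
    rw [h1, ← quotient_smul_val N σ x]
    exact (hmemQ _).mp (hσ x)
  haveI : P.LiesOver Q := ⟨hPQ.symm⟩
  -- the automorphism of `A ⧸ P` over `A' ⧸ Q` induced by `σ'`
  let ψ : (A ⧸ P) ≃+* (A ⧸ P) :=
    (Ideal.Quotient.stabilizerHom P (P.under ℤ) H ⟨σ', hσ'P⟩).toRingEquiv
  have hψ : ∀ a : A, ψ (Ideal.Quotient.mk P a) = Ideal.Quotient.mk P (σ' • a) := fun a => rfl
  let φ : (A ⧸ P) ≃ₐ[(FixedPoints.subalgebra R A N) ⧸ Q] (A ⧸ P) :=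
    AlgEquiv.ofRingEquiv (f := ψ) (by
      intro z
      obtain ⟨x, rfl⟩ := Ideal.Quotient.mk_surjective z
      rw [Ideal.Quotient.algebraMap_mk_of_liesOver]
      show ψ (Ideal.Quotient.mk P (x : A)) = Ideal.Quotient.mk P (x : A)
      rw [hψ, Ideal.Quotient.eq]
      exact hσ'x x)
  obtain ⟨ρ, hρ⟩ := Ideal.Quotient.stabilizerHom_surjective N Q P φ
  have hρP : (ρ.1 : H) • P = P := ρ.2
  have hρa : ∀ a : A, (ρ.1 : H) • a - σ' • a ∈ P := by
    intro a
    have h1 : Ideal.Quotient.stabilizerHom P Q N ρ (Ideal.Quotient.mk P a) =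
        φ (Ideal.Quotient.mk P a) := by rw [hρ]
    rw [← Ideal.Quotient.eq]
    exact h1
  have hmem : (ρ.1 : H)⁻¹ * σ' ∈ P.inertia H := by
    intro a
    have h1 : ((ρ.1 : H)⁻¹ * σ') • a - a = -((ρ.1 : H)⁻¹ • ((ρ.1 : H) • a - σ' • a)) := by
      rw [smul_sub, inv_smul_smul, mul_smul]
      abel
    show ((ρ.1 : H)⁻¹ * σ') • a - a ∈ P
    rw [h1]
    apply P.neg_mem
    have h2 := Ideal.smul_mem_pointwise_smul (ρ.1 : H)⁻¹ _ P (hρa a)
    have h3 : (ρ.1 : H)⁻¹ • P = P := by
      rw [inv_smul_eq_iff, hρP]
    rwa [h3] at h2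
  have h4 : (ρ.1 : H)⁻¹ * σ' ∈ N := hN P hPprime hPQ hmem
  have h5 : σ' ∈ N := by
    have := N.mul_mem ρ.1.2 h4
    rwa [mul_inv_cancel_left] at this
  have h6 : σ = (τ : H) * σ' := by rw [hσ', mul_inv_cancel_left]
  rw [h6]
  exact N.mul_mem τ.2 h5

end Fixed

theorem eq_top_of_inertia_le
    (R : Type u) [CommRing R] [IsRegularLocalRing R]
    (A : Type v) [CommRing A] [IsDomain A] [IsIntegrallyClosed A] [IsLocalRing A]
    [Algebra R A] [Module.Finite R A] (hinj : Function.Injective (algebraMap R A))
    (hres : Function.Surjective (IsLocalRing.residue A ∘ algebraMap R A))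
    (H : Type w) [Group H] [Finite H] [MulSemiringAction H A] [SMulCommClass H R A]
    [FaithfulSMul H A]
    (hfix : ∀ a : A, (∀ h : H, h • a = a) → a ∈ Set.range (algebraMap R A))
    (N : Subgroup H) [N.Normal]
    (hN : ∀ P : Ideal A, P.IsPrime → P.height ≤ 1 → P.inertia H ≤ N) : N = ⊤ := by
  haveI : Algebra.IsInvariant R A H := ⟨fun a ha => hfix a ha⟩
  haveI : IsIntegrallyClosed (FixedPoints.subalgebra R A N) := isIntegrallyClosed_fixedPoints N
  haveI : Module.Finite R (FixedPoints.subalgebra R A N) :=
    Module.Finite.of_injective (FixedPoints.subalgebra R A N).val.toLinearMap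
      Subtype.val_injective
  have hinj' : Function.Injective (algebraMap R (FixedPoints.subalgebra R A N)) := by
    intro x y hxy
    apply hinj
    exact congrArg Subtype.val hxy
  haveI : Algebra.IsIntegral (FixedPoints.subalgebra R A N) A :=
    Algebra.IsInvariant.isIntegral (FixedPoints.subalgebra R A N) A N
  have hUn : PurityInd.UnramCodimOne R (FixedPoints.subalgebra R A N) := by
    intro Q _ hQ
    apply InertiaUnram.isUnramifiedAt_of_inertia_eq_bot (H ⧸ N) Q
    apply inertia_quotient_eq_bot N Q
    intro P hP hPQ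
    haveI := hP
    apply hN P hP
    refine le_trans (height_le_height_under_of_isIntegral
      (A' := FixedPoints.subalgebra R A N) P) ?_
    rw [hPQ]
    exact hQ
  haveI : Algebra.Etale R (FixedPoints.subalgebra R A N) :=
    PurityInd.etale_of_unramCodimOne hinj' hUn
  -- locality
  haveI : FaithfulSMul (FixedPoints.subalgebra R A N) A :=
    (faithfulSMul_iff_algebraMap_injective _ _).mpr Subtype.val_injective
  haveI : IsLocalRing (FixedPoints.subalgebra R A N) :=
    RingHom.domain_isLocalRing (algebraMap (FixedPoints.subalgebra R A N) A)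
  haveI : FaithfulSMul R A := (faithfulSMul_iff_algebraMap_injective R A).mpr hinj
  haveI : Algebra.IsIntegral R A := Algebra.IsIntegral.of_finite R A
  haveI : IsLocalHom (algebraMap R (FixedPoints.subalgebra R A N)) := by
    haveI : IsLocalHom ((algebraMap (FixedPoints.subalgebra R A N) A).comp
        (algebraMap R (FixedPoints.subalgebra R A N))) := by
      rw [← IsScalarTower.algebraMap_eq]
      infer_instance
    exact isLocalHom_of_comp _ (algebraMap (FixedPoints.subalgebra R A N) A)
  have hmap : (maximalIdeal R).map (algebraMap R (FixedPoints.subalgebra R A N)) =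
      maximalIdeal (FixedPoints.subalgebra R A N) :=
    Algebra.FormallyUnramified.map_maximalIdeal
  -- Nakayama
  have hsurj : ∀ a' : FixedPoints.subalgebra R A N,
      a' ∈ LinearMap.range (Algebra.linearMap R (FixedPoints.subalgebra R A N)) := by
    have hle : (⊤ : Submodule R (FixedPoints.subalgebra R A N)) ≤
        LinearMap.range (Algebra.linearMap R (FixedPoints.subalgebra R A N)) := by
      apply Submodule.le_of_le_smul_of_le_jacobson_bot (I := maximalIdeal R)
        Module.Finite.fg_top (IsLocalRing.maximalIdeal_le_jacobson _)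
      intro a' _
      obtain ⟨r, hr⟩ := hres (IsLocalRing.residue A (a' : A))
      have h1 : (a' : A) - algebraMap R A r ∈ maximalIdeal A := by
        rw [← Ideal.Quotient.eq]
        exact hr.symm
      have h2 : a' - algebraMap R (FixedPoints.subalgebra R A N) r ∈
          maximalIdeal (FixedPoints.subalgebra R A N) := by
        rw [IsLocalRing.mem_maximalIdeal, mem_nonunits_iff]
        intro hu
        have hu' := hu.map (algebraMap (FixedPoints.subalgebra R A N) A)
        rw [IsLocalRing.mem_maximalIdeal, mem_nonunits_iff] at h1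
        exact h1 hu'
      rw [← hmap] at h2
      have h3 : a' - algebraMap R (FixedPoints.subalgebra R A N) r ∈
          (maximalIdeal R • ⊤ : Submodule R (FixedPoints.subalgebra R A N)) := by
        rw [Ideal.smul_top_eq_map]
        exact h2
      have h4 : a' = algebraMap R (FixedPoints.subalgebra R A N) r +
          (a' - algebraMap R (FixedPoints.subalgebra R A N) r) := by ring
      rw [h4]
      exact Submodule.add_mem_sup ⟨r, rfl⟩ h3
    intro a'
    exact hle trivial
  -- Galois theory
  haveI hG1 : IsGaloisGroup H R A := ⟨inferInstance, inferInstance, inferInstance⟩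
  haveI hG2 : IsGaloisGroup N R A := by
    refine ⟨inferInstance, inferInstance, ⟨fun a ha => ?_⟩⟩
    obtain ⟨r, hr⟩ := hsurj ⟨a, ha⟩
    exact ⟨r, congrArg Subtype.val hr⟩
  have h1 := IsGaloisGroup.card_eq_finrank' H R A
  have h2 := IsGaloisGroup.card_eq_finrank' N R A
  exact (Subgroup.card_eq_iff_eq_top N).mp (h2.trans h1.symm)

theorem conj_mem_inertia_smul {A : Type*} [CommRing A] {H : Type*} [Group H]
    [MulSemiringAction H A] (P : Ideal A) (g σ : H) (hσ : σ ∈ P.inertia H) :
    g * σ * g⁻¹ ∈ (g • P).inertia H := by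
  intro x
  have h1 : (g * σ * g⁻¹) • x - x = g • (σ • (g⁻¹ • x) - g⁻¹ • x) := by
    rw [smul_sub, mul_smul, mul_smul, smul_inv_smul]
  show (g * σ * g⁻¹) • x - x ∈ g • P
  rw [h1]
  exact Ideal.smul_mem_pointwise_smul _ _ _ (hσ _)

theorem height_smul {A : Type*} [CommRing A] {H : Type*} [Group H]
    [MulSemiringAction H A] (P : Ideal A) (g : H) : (g • P).height = P.height := by
  rw [Ideal.pointwise_smul_eq_comap]
  exact RingEquiv.height_comap _ P

theorem inertia_bot_eq_bot {A : Type*} [CommRing A] {H : Type*} [Group H]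
    [MulSemiringAction H A] [FaithfulSMul H A] : (⊥ : Ideal A).inertia H = ⊥ := by
  rw [eq_bot_iff]
  intro σ hσ
  rw [Subgroup.mem_bot]
  apply FaithfulSMul.eq_of_smul_eq_smul (α := A)
  intro x
  have := hσ x
  rw [one_smul]
  exact sub_eq_zero.mp this

theorem iSup_inertia_heightOne_eq_top
    (R : Type u) [CommRing R] [IsRegularLocalRing R]
    (A : Type v) [CommRing A] [IsDomain A] [IsIntegrallyClosed A] [IsLocalRing A]
    [Algebra R A] [Module.Finite R A] (hinj : Function.Injective (algebraMap R A))
    (hres : Function.Surjective (IsLocalRing.residue A ∘ algebraMap R A))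
    (H : Type w) [Group H] [Finite H] [MulSemiringAction H A] [SMulCommClass H R A]
    [FaithfulSMul H A]
    (hfix : ∀ a : A, (∀ h : H, h • a = a) → a ∈ Set.range (algebraMap R A)) :
    (⨆ P : {P : Ideal A // P.IsPrime ∧ P.height = 1}, P.1.inertia H) = ⊤ := by
  set N := ⨆ P : {P : Ideal A // P.IsPrime ∧ P.height = 1}, P.1.inertia H with hNdef
  haveI : N.Normal := by
    refine ⟨fun n hn g => ?_⟩
    have hle : N.map (MulAut.conj g).toMonoidHom ≤ N := by
      rw [hNdef, Subgroup.map_iSup]
      apply iSup_le
      intro P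
      rintro _ ⟨σ, hσ, rfl⟩
      have hmem := conj_mem_inertia_smul P.1 g σ hσ
      have hP' : (g • P.1).IsPrime ∧ (g • P.1).height = 1 := by
        refine ⟨?_, by rw [height_smul]; exact P.2.2⟩
        haveI := P.2.1
        exact Ideal.IsPrime.smul g
      exact (le_iSup (fun Q : {P : Ideal A // P.IsPrime ∧ P.height = 1} => Q.1.inertia H)
        ⟨g • P.1, hP'⟩) hmem
    exact hle ⟨n, hn, rfl⟩
  apply eq_top_of_inertia_le R A hinj hres H hfix N
  intro P hP hht
  rcases lt_or_eq_of_le hht with h | h
  · have h0 : P.height = 0 := Order.lt_one_iff.mp h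
    haveI := hP
    have hPbot : P = ⊥ := by
      have hmin : P ∈ minimalPrimes A := Ideal.height_eq_zero_iff.mp h0
      rw [IsDomain.minimalPrimes_eq_singleton_bot] at hmin
      exact hmin
    rw [hPbot, inertia_bot_eq_bot]
    exact bot_le
  · exact le_iSup (fun Q : {P : Ideal A // P.IsPrime ∧ P.height = 1} => Q.1.inertia H) ⟨P, hP, h⟩

end Groth.Agent.Lib.helper22.InertiaGen
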