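import Mathlib
import Groth.Agent.Lib.Helper22.InertiaGen

/-!
# Localisations of rings of invariants (helper22)

`isIntegrallyClosed_away_of_fixed`: if `B ↪ A^σ ⊆ A` with `A` an integrally closed domain and
`A^σ[1/s] = B[1/s]`, then `B[1/s]` is integrally closed.
-/

set_option autoImplicit false

namespace Groth.Agent.Lib.helper22.AwayFix
universe u v w

variable {R : Type u} [CommRing R] {A : Type v} [CommRing A] [IsDomain A] [IsIntegrallyClosed A]
  [Algebra R A] {B : Type w} [CommRing B] [Algebra R B]

/-- the subalgebra of elements fixed by an algebra automorphism is integrally closed -/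
theorem isIntegrallyClosed_equalizer (σ : A ≃ₐ[R] A) :
    IsIntegrallyClosed (AlgHom.equalizer (σ : A →ₐ[R] A) (AlgHom.id R A)) := by
  apply InertiaGen.isIntegrallyClosed_of_dvd_closed
  intro a b hb ⟨c, hc⟩
  have h1 : σ (a : A) = a := a.2
  have h2 : σ (b : A) = b := b.2
  have h3 : σ c * (b : A) = c * b := by
    rw [← hc, ← h1, hc, map_mul, h2]
  have hcfix : σ c = c := mul_right_cancel₀ hb h3
  exact ⟨⟨c, hcfix⟩, Subtype.ext hc⟩

theorem isIntegrallyClosed_away_of_fixed (σ : A ≃ₐ[R] A) (φ : B →ₐ[R] A)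
    (hφ : Function.Injective φ) (hσφ : ∀ b, σ (φ b) = φ b) (s : R) (hs : algebraMap R A s ≠ 0)
    (hgen : ∀ t : A, σ t = t → ∃ N : ℕ, ∃ b : B, φ b = algebraMap R A s ^ N * t) :
    IsIntegrallyClosed (Localization.Away (algebraMap R B s)) := by
  let S : Subalgebra R A := AlgHom.equalizer (σ : A →ₐ[R] A) (AlgHom.id R A)
  haveI : IsIntegrallyClosed S := isIntegrallyClosed_equalizer σ
  let φ' : B →ₐ[R] S := φ.codRestrict S (fun b => hσφ b)
  have hφ'inj : Function.Injective φ' := by
    intro b b' h
    apply hφ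
    exact congrArg Subtype.val h
  set sB := algebraMap R B s with hsB
  set sS := algebraMap R S s with hsS
  have hφs : φ' sB = sS := φ'.commutes s
  have hsS0 : sS ≠ 0 := by
    intro h
    apply hs
    have := congrArg Subtype.val h
    exact this
  have hle : Submonoid.powers sB ≤ (Submonoid.powers sS).comap (φ' : B →+* S) := by
    rintro _ ⟨m, rfl⟩
    exact ⟨m, by simp [hφs]⟩
  have h0 : (0 : S) ∉ Submonoid.powers sS := by
    rintro ⟨m, hm⟩
    exact pow_ne_zero m hsS0 hm
  let F : Localization.Away sB →+* Localization.Away sS :=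
    IsLocalization.map (Localization.Away sS) (φ' : B →+* S) hle
  have hinj : Function.Injective F :=
    IsLocalization.map_injective_of_injective' (Submonoid.powers sB) S (Localization.Away sS) hle h0 hφ'inj
  have hsurj : Function.Surjective F := by
    intro y
    obtain ⟨t, ⟨_, ⟨m, rfl⟩⟩, rfl⟩ := IsLocalization.exists_mk'_eq (Submonoid.powers sS) y
    obtain ⟨N, b, hb⟩ := hgen (t : A) t.2
    refine ⟨IsLocalization.mk' _ b (⟨sB ^ (N + m), ⟨N + m, rfl⟩⟩ : Submonoid.powers sB), ?_⟩
    rw [IsLocalization.map_mk', IsLocalization.mk'_eq_iff_eq]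
    congr 1
    apply Subtype.ext
    simp only [RingHom.coe_coe, map_pow, hφs, Subalgebra.coe_mul, Subalgebra.coe_pow]
    have e1 : ((φ' b : S) : A) = φ b := rfl
    have e2 : ((sS : S) : A) = algebraMap R A s := rfl
    rw [e1, e2, hb, pow_add]
    ring
  haveI : IsIntegrallyClosed (Localization.Away sS) :=
    isIntegrallyClosed_of_isLocalization (Localization.Away sS) (Submonoid.powers sS)
      (powers_le_nonZeroDivisors_of_noZeroDivisors hsS0)
  exact IsIntegrallyClosed.of_equiv (RingEquiv.ofBijective F ⟨hinj, hsurj⟩).symm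

end Groth.Agent.Lib.helper22.AwayFix
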