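import Mathlib

/-!
# helper22: Ax's theorem, part A: residues mod `q - 1`, digit rotation and digit sums
-/

set_option autoImplicit false

open Finset

namespace Groth.Agent.Lib.helper22.Ax

/-- the representative in `{1, …, Q}` of a positive integer mod `Q`, and `0` for `0` -/
def rho (Q n : ℕ) : ℕ := if n = 0 then 0 else (n - 1) % Q + 1

theorem rho_zero (Q : ℕ) : rho Q 0 = 0 := by simp [rho]

theorem rho_pos {Q n : ℕ} (hn : n ≠ 0) : 1 ≤ rho Q n := by
  unfold rho
  rw [if_neg hn]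
  omega

theorem rho_eq_zero_iff {Q n : ℕ} : rho Q n = 0 ↔ n = 0 := by
  constructor
  · intro h
    by_contra hn
    have := rho_pos (Q := Q) hn
    omega
  · rintro rfl
    exact rho_zero Q

theorem rho_le (Q n : ℕ) : rho Q n ≤ n := by
  unfold rho
  split_ifs with h
  · exact Nat.zero_le _
  · have := Nat.mod_le (n - 1) Q
    omega

theorem rho_modEq {Q : ℕ} (n : ℕ) : rho Q n ≡ n [MOD Q] := by
  unfold rho
  split_ifs with h
  · rw [h]
  · have h1 : (n - 1) % Q ≡ n - 1 [MOD Q] := Nat.mod_modEq _ _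
    have h2 := Nat.ModEq.add_right 1 h1
    have h3 : n - 1 + 1 = n := by omega
    rwa [h3] at h2

theorem rho_congr {Q n m : ℕ} (hn : n ≠ 0) (hm : m ≠ 0) (h : n ≡ m [MOD Q]) :
    rho Q n = rho Q m := by
  unfold rho
  rw [if_neg hn, if_neg hm]
  have h1 : n - 1 ≡ m - 1 [MOD Q] := by
    have h2 : n - 1 + 1 ≡ m - 1 + 1 [MOD Q] := by
      have e1 : n - 1 + 1 = n := by omega
      have e2 : m - 1 + 1 = m := by omega
      rw [e1, e2]
      exact h
    exact Nat.ModEq.add_right_cancel' 1 h2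
  rw [h1]

theorem rho_le_of_modEq {Q n m : ℕ} (hm : m ≠ 0) (h : n ≡ m [MOD Q]) : rho Q n ≤ m := by
  by_cases hn : n = 0
  · rw [hn, rho_zero]
    exact Nat.zero_le _
  · rw [rho_congr hn hm h]
    exact rho_le Q m

theorem rho_add_le (Q n m : ℕ) : rho Q (n + m) ≤ rho Q n + rho Q m := by
  by_cases hn : n = 0
  · rw [hn, zero_add, rho_zero, zero_add]
  by_cases hm : m = 0
  · rw [hm, add_zero, rho_zero, add_zero]
  apply rho_le_of_modEq
  · have := rho_pos (Q := Q) hn
    omega
  · exact ((rho_modEq n).add (rho_modEq m)).symm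

theorem rho_sum_le {α : Type*} (Q : ℕ) (s : Finset α) (f : α → ℕ) :
    rho Q (∑ i ∈ s, f i) ≤ ∑ i ∈ s, rho Q (f i) := by
  classical
  induction s using Finset.induction_on with
  | empty => simp [rho_zero]
  | insert a s ha ih =>
    rw [Finset.sum_insert ha, Finset.sum_insert ha]
    exact (rho_add_le Q _ _).trans (Nat.add_le_add_left ih _)

/-- `Q ∣ n` and `n ≠ 0` imply `Q ≤ n`-type statement for `rho`: a positive multiple -/
theorem rho_mul_left {Q c n : ℕ} (hc : c ≡ 1 [MOD Q]) (hc0 : c ≠ 0) : rho Q (c * n) = rho Q n := by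
  by_cases hn : n = 0
  · rw [hn, mul_zero]
  · apply rho_congr (mul_ne_zero hc0 hn) hn
    have := hc.mul_right n
    rwa [one_mul] at this

section rot
variable (p a : ℕ)

/-- the sum over the rotations -/
def gsum (n : ℕ) : ℕ := ∑ u ∈ range a, rho (p ^ a - 1) (p ^ u * n)

theorem gsum_zero : gsum p a 0 = 0 := by
  simp [gsum, rho_zero]

theorem gsum_add_le (n m : ℕ) : gsum p a (n + m) ≤ gsum p a n + gsum p a m := by
  unfold gsum
  rw [← Finset.sum_add_distrib]
  refine Finset.sum_le_sum fun u _ => ?_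
  rw [mul_add]
  exact rho_add_le _ _ _

theorem pow_modEq_one (hp : 1 ≤ p) : p ^ a ≡ 1 [MOD (p ^ a - 1)] := by
  have h1 : 1 ≤ p ^ a := Nat.one_le_pow _ _ hp
  have : p ^ a = (p ^ a - 1) + 1 := by omega
  conv_lhs => rw [this]
  have h2 : (p ^ a - 1) ≡ 0 [MOD (p ^ a - 1)] := Nat.modEq_zero_iff_dvd.mpr dvd_rfl
  have h3 := h2.add_right 1
  rwa [zero_add] at h3

theorem gsum_mul (hp : 1 ≤ p) (n : ℕ) : gsum p a (p * n) = gsum p a n := by
  unfold gsum
  have h1 : ∀ u, rho (p ^ a - 1) (p ^ u * (p * n)) = rho (p ^ a - 1) (p ^ (u + 1) * n) := by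
    intro u
    rw [pow_succ, mul_assoc]
  simp only [h1]
  have h2 := Finset.sum_range_succ (fun u => rho (p ^ a - 1) (p ^ u * n)) a
  have h3 := Finset.sum_range_succ' (fun u => rho (p ^ a - 1) (p ^ u * n)) a
  have h4 : rho (p ^ a - 1) (p ^ a * n) = rho (p ^ a - 1) n :=
    rho_mul_left (pow_modEq_one p a hp) (by positivity)
  simp only [pow_zero, one_mul] at h3
  rw [h4] at h2
  omega

theorem gsum_le_mul (κ : ℕ) : gsum p a κ ≤ κ * ∑ u ∈ range a, p ^ u := by
  unfold gsum
  rw [Finset.mul_sum]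
  refine Finset.sum_le_sum fun u _ => ?_
  rw [mul_comm κ]
  exact rho_le _ _

theorem gsum_le_digits (hp : 2 ≤ p) (k : ℕ) :
    gsum p a k ≤ (Nat.digits p k).sum * ∑ u ∈ range a, p ^ u := by
  induction k using Nat.strong_induction_on with
  | _ k ih =>
    by_cases hk : k = 0
    · rw [hk, gsum_zero]
      exact Nat.zero_le _
    · rw [Nat.digits_def' hp (Nat.pos_of_ne_zero hk), List.sum_cons, add_mul]
      have h1 : k = k % p + p * (k / p) := (Nat.mod_add_div k p).symm
      have h2 : gsum p a k ≤ gsum p a (k % p) + gsum p a (p * (k / p)) := by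
        conv_lhs => rw [h1]
        exact gsum_add_le p a _ _
      rw [gsum_mul p a (by omega)] at h2
      have h3 := ih (k / p) (Nat.div_lt_self (Nat.pos_of_ne_zero hk) hp)
      have h4 := gsum_le_mul p a (k % p)
      omega

theorem sub_one_mul_geom (hp : 1 ≤ p) : (p - 1) * ∑ u ∈ range a, p ^ u = p ^ a - 1 := by
  induction a with
  | zero => simp
  | succ a ih =>
    rw [Finset.sum_range_succ, mul_add, ih, pow_succ]
    have h1 : 1 ≤ p ^ a := Nat.one_le_pow _ _ hp
    have h2 : (p - 1) * p ^ a = p ^ a * p - p ^ a := by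
      rw [Nat.sub_mul, one_mul, mul_comm]
    rw [h2]
    have h3 : p ^ a ≤ p ^ a * p := Nat.le_mul_of_pos_right _ hp
    omega

/-- digit sum of `p ^ a - 1` -/
theorem digits_sum_pow_sub_one (hp : 2 ≤ p) : (Nat.digits p (p ^ a - 1)).sum = a * (p - 1) := by
  induction a with
  | zero => simp
  | succ a ih =>
    have h1 : 1 ≤ p ^ a := Nat.one_le_pow _ _ (by omega)
    have h2 : p ^ (a + 1) - 1 = (p - 1) + p * (p ^ a - 1) := by
      rw [pow_succ, Nat.mul_sub, mul_one, mul_comm]
      have h3 : p ≤ p * p ^ a := Nat.le_mul_of_pos_right _ (by omega)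
      omega
    rw [h2, Nat.digits_add p (by omega) (p - 1) (p ^ a - 1) (by omega) (Or.inl (by omega)),
      List.sum_cons, ih]
    ring

theorem digits_sum_M (hp : 2 ≤ p) (ha : 1 ≤ a) (m : ℕ) :
    (Nat.digits p ((p ^ a - 1) * (p ^ a) ^ m)).sum = a * (p - 1) := by
  have h1 : 0 < p ^ a - 1 := by
    have : 2 ^ 1 ≤ p ^ a := (Nat.pow_le_pow_left hp 1).trans (Nat.pow_le_pow_right (by omega) ha)
    omega
  rw [mul_comm, ← pow_mul, Nat.digits_base_pow_mul (by omega) h1, List.sum_append,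
    List.sum_replicate, smul_zero, zero_add, digits_sum_pow_sub_one p a hp]

end rot

end Groth.Agent.Lib.helper22.Ax
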