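import Mathlib
import Groth.Agent.Lib.Helper22.AxA

/-!
# helper22: Ax's theorem, part B: `p`-adic valuation of the multinomial coefficients
-/

set_option autoImplicit false

open Finset

namespace Groth.Agent.Lib.helper22.Ax

theorem sum_modEq {α : Type*} (n : ℕ) (s : Finset α) (f g : α → ℕ)
    (h : ∀ i ∈ s, f i ≡ g i [MOD n]) : ∑ i ∈ s, f i ≡ ∑ i ∈ s, g i [MOD n] := by
  classical
  induction s using Finset.induction_on with
  | empty => rfl
  | insert a s ha ih =>
    rw [Finset.sum_insert ha, Finset.sum_insert ha]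
    exact (h a (Finset.mem_insert_self a s)).add
      (ih fun i hi => h i (Finset.mem_insert_of_mem hi))

theorem padicValNat_prod_factorial (p : ℕ) [Fact p.Prime] {α : Type*} (s : Finset α) (k : α → ℕ) :
    padicValNat p (∏ i ∈ s, (k i).factorial) = ∑ i ∈ s, padicValNat p (k i).factorial := by
  classical
  induction s using Finset.induction_on with
  | empty => simp
  | insert a s ha ih =>
    rw [Finset.prod_insert ha, Finset.sum_insert ha, padicValNat.mul (Nat.factorial_ne_zero _)
      (Finset.prod_ne_zero_iff.mpr fun i _ => Nat.factorial_ne_zero _), ih]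

/-- Legendre's formula for multinomial coefficients -/
theorem legendre_multinomial (p : ℕ) [Fact p.Prime] {α : Type*} (s : Finset α) (k : α → ℕ) :
    (p - 1) * padicValNat p (Nat.multinomial s k) + (Nat.digits p (∑ i ∈ s, k i)).sum =
      ∑ i ∈ s, (Nat.digits p (k i)).sum := by
  have h1 := Nat.multinomial_spec s k
  have h2 : padicValNat p (∏ i ∈ s, (k i).factorial) + padicValNat p (Nat.multinomial s k) =
      padicValNat p (∑ i ∈ s, k i).factorial := by
    rw [← h1, padicValNat.mul (Finset.prod_ne_zero_iff.mpr fun i _ => Nat.factorial_ne_zero _)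
      (Nat.multinomial_pos s k).ne']
  rw [padicValNat_prod_factorial] at h2
  have h3 : (p - 1) * ∑ i ∈ s, padicValNat p (k i).factorial =
      ∑ i ∈ s, (k i - (Nat.digits p (k i)).sum) := by
    rw [Finset.mul_sum]
    exact Finset.sum_congr rfl fun i _ => sub_one_mul_padicValNat_factorial (k i)
  have h4 := sub_one_mul_padicValNat_factorial (p := p) (∑ i ∈ s, k i)
  have h5 : ∑ i ∈ s, (k i - (Nat.digits p (k i)).sum) + ∑ i ∈ s, (Nat.digits p (k i)).sum =
      ∑ i ∈ s, k i := by
    rw [← Finset.sum_add_distrib]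
    exact Finset.sum_congr rfl fun i _ => Nat.sub_add_cancel (Nat.digit_sum_le p (k i))
  have h6 := Nat.digit_sum_le p (∑ i ∈ s, k i)
  have h7 : (p - 1) * (∑ i ∈ s, padicValNat p (k i).factorial +
      padicValNat p (Nat.multinomial s k)) = (p - 1) * padicValNat p (∑ i ∈ s, k i).factorial := by
    rw [h2]
  rw [mul_add, h3, h4] at h7
  omega

theorem main_val (p a : ℕ) [hp : Fact p.Prime] (ha : 1 ≤ a) {α : Type*}
    (s : Finset α) (k : α → ℕ) (N d : ℕ) (hd : 0 < d) (w : α → Fin N → ℕ)
    (hw : ∀ i ∈ s, ∑ l, w i l = d) (m : ℕ)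
    (hsum : ∑ i ∈ s, k i = (p ^ a - 1) * (p ^ a) ^ m)
    (hdiv : ∀ l, (p ^ a - 1) ∣ ∑ i ∈ s, k i * w i l)
    (j : ℕ) (hj : j * d < N) :
    p ^ (a * j) ∣ Nat.multinomial s k *
      (p ^ a) ^ (N - (Finset.univ.filter (fun l => ∑ i ∈ s, k i * w i l ≠ 0)).card) := by
  classical
  have hp2 : 2 ≤ p := hp.out.two_le
  set Q := p ^ a - 1 with hQ
  have hq2 : 2 ≤ p ^ a := by
    have : 2 ^ 1 ≤ p ^ a := (Nat.pow_le_pow_left hp2 1).trans (Nat.pow_le_pow_right (by omega) ha)
    omega
  have hQ1 : 1 ≤ Q := by omega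
  set G := ∑ u ∈ range a, p ^ u with hG
  have hG1 : 1 ≤ G := by
    have : p ^ 0 ≤ G := Finset.single_le_sum (f := fun u => p ^ u) (fun _ _ => Nat.zero_le _)
      (Finset.mem_range.mpr (by omega))
    simpa using this
  have hQG : (p - 1) * G = Q := sub_one_mul_geom p a (by omega)
  set S' := Finset.univ.filter (fun l : Fin N => ∑ i ∈ s, k i * w i l ≠ 0) with hS'
  set s' := S'.card with hs'
  have hs'N : s' ≤ N := by
    have := Finset.card_le_univ S'
    simpa using this
  set c := (s' + d - 1) / d with hc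
  have hcd : s' ≤ d * c := by
    have := Nat.lt_mul_div_succ (s' + d - 1) hd
    rw [← hc] at this
    have h2 : d * (c + 1) = d * c + d := by ring
    omega
  -- Step 1
  have step1 : ∀ u, c * Q ≤ ∑ i ∈ s, rho Q (p ^ u * k i) := by
    intro u
    set T := ∑ i ∈ s, rho Q (p ^ u * k i) with hT
    have hTdvd : Q ∣ T := by
      rw [← Nat.modEq_zero_iff_dvd]
      have h1 : T ≡ ∑ i ∈ s, p ^ u * k i [MOD Q] := sum_modEq Q s _ _ fun i _ => rho_modEq _
      refine h1.trans ?_
      rw [← Finset.mul_sum, hsum, Nat.modEq_zero_iff_dvd]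
      exact Dvd.dvd.mul_left (Dvd.intro _ rfl) _
    have hEl : ∀ l ∈ S', Q ≤ ∑ i ∈ s, rho Q (p ^ u * k i) * w i l := by
      intro l hl
      rw [hS', Finset.mem_filter] at hl
      apply Nat.le_of_dvd
      · obtain ⟨i, hi, hne⟩ := Finset.exists_ne_zero_of_sum_ne_zero hl.2
        have hk : k i ≠ 0 := fun h => hne (by rw [h, zero_mul])
        have hwl : w i l ≠ 0 := fun h => hne (by rw [h, mul_zero])
        have h1 : 1 ≤ rho Q (p ^ u * k i) := rho_pos (mul_ne_zero (by positivity) hk)
        have h2 : 1 ≤ rho Q (p ^ u * k i) * w i l :=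
          Nat.one_le_iff_ne_zero.mpr (mul_ne_zero (by omega) hwl)
        exact lt_of_lt_of_le h2 (Finset.single_le_sum
          (f := fun i => rho Q (p ^ u * k i) * w i l) (fun _ _ => Nat.zero_le _) hi)
      · rw [← Nat.modEq_zero_iff_dvd]
        have h1 : ∑ i ∈ s, rho Q (p ^ u * k i) * w i l ≡ ∑ i ∈ s, (p ^ u * k i) * w i l [MOD Q] :=
          sum_modEq Q s _ _ fun i _ => (rho_modEq _).mul_right _
        refine h1.trans ?_
        have h2 : ∑ i ∈ s, (p ^ u * k i) * w i l = p ^ u * ∑ i ∈ s, k i * w i l := by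
          rw [Finset.mul_sum]
          exact Finset.sum_congr rfl fun i _ => mul_assoc _ _ _
        rw [h2, Nat.modEq_zero_iff_dvd]
        exact Dvd.dvd.mul_left (hdiv l) _
    have hsumE : ∑ l : Fin N, ∑ i ∈ s, rho Q (p ^ u * k i) * w i l = d * T := by
      rw [Finset.sum_comm, hT, Finset.mul_sum]
      refine Finset.sum_congr rfl fun i hi => ?_
      rw [← Finset.mul_sum, hw i hi, mul_comm]
    have hge : s' * Q ≤ d * T := by
      rw [← hsumE]
      calc s' * Q = ∑ _l ∈ S', Q := by rw [Finset.sum_const, smul_eq_mul]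
        _ ≤ ∑ l ∈ S', ∑ i ∈ s, rho Q (p ^ u * k i) * w i l := Finset.sum_le_sum hEl
        _ ≤ ∑ l : Fin N, ∑ i ∈ s, rho Q (p ^ u * k i) * w i l :=
          Finset.sum_le_sum_of_subset (Finset.subset_univ _)
    obtain ⟨cu, hcu⟩ := hTdvd
    rw [hcu] at hge ⊢
    have h1 : s' ≤ d * cu := by
      have : s' * Q ≤ (d * cu) * Q := by
        calc s' * Q ≤ d * (Q * cu) := hge
          _ = (d * cu) * Q := by ring
      exact Nat.le_of_mul_le_mul_right this (by omega)
    have h2 : c ≤ cu := by
      rw [hc]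
      apply Nat.le_of_lt_succ
      rw [Nat.div_lt_iff_lt_mul hd]
      have : cu.succ * d = d * cu + d := by rw [Nat.succ_mul, mul_comm]
      omega
    calc c * Q ≤ cu * Q := Nat.mul_le_mul_right _ h2
      _ = Q * cu := mul_comm _ _
  -- Step 2
  set sig := ∑ i ∈ s, (Nat.digits p (k i)).sum with hsig
  have step2 : a * (c * Q) ≤ sig * G := by
    calc a * (c * Q) = ∑ _u ∈ range a, c * Q := by rw [Finset.sum_const, card_range, smul_eq_mul]
      _ ≤ ∑ u ∈ range a, ∑ i ∈ s, rho Q (p ^ u * k i) := Finset.sum_le_sum fun u _ => step1 u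
      _ = ∑ i ∈ s, gsum p a (k i) := by
        rw [Finset.sum_comm]
        rfl
      _ ≤ ∑ i ∈ s, (Nat.digits p (k i)).sum * G :=
        Finset.sum_le_sum fun i _ => gsum_le_digits p a hp2 (k i)
      _ = sig * G := by rw [Finset.sum_mul]
  have step2' : a * c * (p - 1) ≤ sig := by
    rw [← hQG] at step2
    have : (a * c * (p - 1)) * G ≤ sig * G := by
      calc (a * c * (p - 1)) * G = a * (c * ((p - 1) * G)) := by ring
        _ ≤ sig * G := step2
    exact Nat.le_of_mul_le_mul_right this (by omega)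
  -- Step 3
  have step3 := legendre_multinomial p s k
  rw [hsum, digits_sum_M p a hp2 ha m, ← hsig] at step3
  set v := padicValNat p (Nat.multinomial s k) with hv
  have hv1 : a * (c - 1) ≤ v := by
    have h1 : (p - 1) * (a * c) ≤ (p - 1) * v + (p - 1) * a := by
      calc (p - 1) * (a * c) = a * c * (p - 1) := by ring
        _ ≤ sig := step2'
        _ = (p - 1) * v + a * (p - 1) := step3.symm
        _ = (p - 1) * v + (p - 1) * a := by ring
    have h2 : a * c ≤ v + a := by
      rw [← mul_add] at h1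
      exact Nat.le_of_mul_le_mul_left h1 (by omega)
    rcases Nat.eq_zero_or_pos c with h0 | hpos
    · rw [h0]
      simp
    · have : a * (c - 1) + a = a * c := by
        rw [← Nat.mul_succ, Nat.succ_eq_add_one, Nat.sub_add_cancel hpos]
      omega
  -- Step 4
  have hfin : j ≤ (c - 1) + (N - s') := by
    rcases Nat.eq_zero_or_pos s' with h0 | hpos
    · rw [h0, Nat.sub_zero]
      have : j ≤ j * d := Nat.le_mul_of_pos_right _ hd
      omega
    · have hc1 : 1 ≤ c := by
        by_contra h
        have hc0 : c = 0 := Nat.lt_one_iff.mp (not_le.mp h)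
        rw [hc0, mul_zero] at hcd
        exact absurd hcd (by omega)
      have h1 : N ≤ d * (c + (N - s')) := by
        have h2 : N - s' ≤ d * (N - s') := Nat.le_mul_of_pos_left _ hd
        rw [mul_add]
        omega
      have h3 : j < c + (N - s') := by
        by_contra h
        rw [not_lt] at h
        have : d * (c + (N - s')) ≤ d * j := Nat.mul_le_mul_left _ h
        have h4 : d * j = j * d := mul_comm _ _
        omega
      omega
  -- Step 5
  have h1 : p ^ (a * (c - 1)) ∣ Nat.multinomial s k :=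
    (pow_dvd_pow p hv1).trans pow_padicValNat_dvd
  have h2 : (p ^ a) ^ (N - s') = p ^ (a * (N - s')) := by rw [pow_mul]
  rw [h2]
  have h3 : p ^ (a * (c - 1) + a * (N - s')) ∣ Nat.multinomial s k * p ^ (a * (N - s')) := by
    rw [pow_add]
    exact Nat.mul_dvd_mul h1 dvd_rfl
  refine (pow_dvd_pow p ?_).trans h3
  rw [← mul_add]
  exact Nat.mul_le_mul_left _ hfin

end Groth.Agent.Lib.helper22.Ax
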