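import Mathlib

/-!
# helper22: Ax's theorem, part C: Teichmüller power sums in the Witt vectors of a finite field
-/

set_option autoImplicit false

open Finset

namespace Groth.Agent.Lib.helper22.Ax

variable {p : ℕ} [hp : Fact p.Prime] {k : Type*} [Field k] [CharP k p]

section perfect
variable [PerfectRing k p]

theorem p_dvd_of_coeff_zero (x : WittVector p k) (hx : x.coeff 0 = 0) : (p : WittVector p k) ∣ x := by
  by_cases h0 : x = 0
  · rw [h0]
    exact dvd_zero _
  · obtain ⟨m, b, hb, rfl⟩ := WittVector.exists_eq_pow_p_mul x h0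
    cases m with
    | zero =>
      rw [pow_zero, one_mul] at hx
      exact absurd hx hb
    | succ m =>
      refine ⟨(p : WittVector p k) ^ m * b, ?_⟩
      rw [pow_succ]
      ring

theorem natCast_dvd_of_dvd (c n : ℕ) (h : ((p : WittVector p k)) ^ c ∣ (n : WittVector p k)) :
    p ^ c ∣ n := by
  induction c generalizing n with
  | zero => simp
  | succ c ih =>
    have h1 : (p : WittVector p k) ∣ (n : WittVector p k) :=
      (dvd_pow_self _ (Nat.succ_ne_zero c)).trans h
    have h2 : (n : k) = 0 := by
      obtain ⟨z, hz⟩ := h1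
      have := congrArg (WittVector.constantCoeff (p := p) (R := k)) hz
      rw [map_natCast, map_mul, map_natCast, CharP.cast_eq_zero k p, zero_mul] at this
      exact this
    obtain ⟨n', rfl⟩ := (CharP.cast_eq_zero_iff k p n).mp h2
    rw [pow_succ, mul_comm]
    refine Nat.mul_dvd_mul_left p (ih n' ?_)
    rw [pow_succ, Nat.cast_mul, mul_comm] at h
    exact (mul_dvd_mul_iff_left (WittVector.p_nonzero p k)).mp h

end perfect

/-- the Teichmüller power sums -/
theorem teich_injective : Function.Injective (WittVector.teichmuller p : k → WittVector p k) := by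
  intro x y h
  have := congrArg (fun z => z.coeff 0) h
  simpa [WittVector.teichmuller_coeff_zero] using this

variable [Fintype k]

theorem sum_teich_pow_zero :
    ∑ y : k, (WittVector.teichmuller p y) ^ 0 = (Fintype.card k : WittVector p k) := by
  simp

theorem sum_teich_pow_of_dvd (e : ℕ) (he : e ≠ 0) (hdvd : (Fintype.card k - 1) ∣ e) :
    ∑ y : k, (WittVector.teichmuller p y) ^ e = ((Fintype.card k - 1 : ℕ) : WittVector p k) := by
  classical
  have h1 : ∀ y : k, (WittVector.teichmuller p y) ^ e = if y = 0 then 0 else 1 := by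
    intro y
    split_ifs with hy
    · rw [hy, WittVector.teichmuller_zero, zero_pow he]
    · obtain ⟨c, rfl⟩ := hdvd
      rw [← map_pow, pow_mul, FiniteField.pow_card_sub_one_eq_one y hy, one_pow, map_one]
  rw [Finset.sum_congr rfl fun y _ => h1 y, Finset.sum_ite, Finset.sum_const_zero, zero_add,
    Finset.sum_const, nsmul_eq_mul, mul_one]
  congr 1
  rw [Finset.filter_not, Finset.card_sdiff_of_subset (Finset.subset_univ _), Finset.card_univ]
  congr 1
  exact Finset.card_eq_one.mpr ⟨0, by ext; simp⟩

theorem sum_teich_pow_of_not_dvd (e : ℕ) (hdvd : ¬ (Fintype.card k - 1) ∣ e) :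
    ∑ y : k, (WittVector.teichmuller p y) ^ e = 0 := by
  classical
  obtain ⟨g, hg⟩ := IsCyclic.exists_generator (α := kˣ)
  have hord : orderOf g = Fintype.card k - 1 := by
    rw [orderOf_eq_card_of_forall_mem_zpowers hg, Nat.card_eq_fintype_card, Fintype.card_units]
  have hge : (g : k) ^ e ≠ 1 := by
    intro h
    apply hdvd
    rw [← hord]
    apply orderOf_dvd_of_pow_eq_one
    ext
    simpa using h
  set S := ∑ y : k, (WittVector.teichmuller p y) ^ e with hS
  have h1 : WittVector.teichmuller p ((g : k) ^ e) * S = S := by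
    rw [hS, Finset.mul_sum]
    have : ∀ y : k, WittVector.teichmuller p ((g : k) ^ e) * (WittVector.teichmuller p y) ^ e =
        (WittVector.teichmuller p ((g : k) * y)) ^ e := by
      intro y
      rw [map_pow, ← mul_pow, ← map_mul]
    rw [Finset.sum_congr rfl fun y _ => this y]
    exact Fintype.sum_equiv (Equiv.mulLeft₀ (g : k) g.ne_zero) _ _ fun y => rfl
  have h2 : (WittVector.teichmuller p ((g : k) ^ e) - 1) * S = 0 := by
    rw [sub_mul, one_mul, h1, sub_self]
  rcases mul_eq_zero.mp h2 with h3 | h3
  · exfalso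
    apply hge
    apply teich_injective (p := p)
    rw [map_one]
    exact sub_eq_zero.mp h3
  · exact h3

section indicator
variable [PerfectRing k p]

theorem pow_M_unit (u : WittVector p k) (hu : u.coeff 0 ≠ 0) (a m : ℕ)
    (hq : Fintype.card k = p ^ a) :
    (p : WittVector p k) ^ (m + 1) ∣ u ^ ((Fintype.card k - 1) * (Fintype.card k) ^ m) - 1 := by
  have h1 : (p : WittVector p k) ∣ u ^ (Fintype.card k - 1) - 1 := by
    apply p_dvd_of_coeff_zero
    have : (u ^ (Fintype.card k - 1) - 1).coeff 0 =
        WittVector.constantCoeff (u ^ (Fintype.card k - 1) - 1) := rfl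
    rw [this, map_sub, map_pow, map_one]
    have : WittVector.constantCoeff u = u.coeff 0 := rfl
    rw [this, FiniteField.pow_card_sub_one_eq_one _ hu, sub_self]
  have h2 := dvd_sub_pow_of_dvd_sub h1 (a * m)
  rw [one_pow, ← pow_mul] at h2
  have h3 : (Fintype.card k) ^ m = p ^ (a * m) := by rw [hq, pow_mul]
  rw [h3]
  refine (pow_dvd_pow _ ?_).trans h2
  have : m ≤ a * m ∨ a = 0 := by
    rcases Nat.eq_zero_or_pos a with h | h
    · right; exact h
    · left; exact Nat.le_mul_of_pos_left m h
  rcases this with h | h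
  · omega
  · exfalso
    rw [h, pow_zero] at hq
    have := Fintype.one_lt_card (α := k)
    omega

theorem pow_M_nonunit (u : WittVector p k) (hu : u.coeff 0 = 0) (m : ℕ) :
    (p : WittVector p k) ^ (m + 1) ∣ u ^ ((Fintype.card k - 1) * (Fintype.card k) ^ m) := by
  obtain ⟨z, rfl⟩ := p_dvd_of_coeff_zero u hu
  rw [mul_pow]
  refine Dvd.dvd.mul_right (pow_dvd_pow _ ?_) _
  have h1 : 2 ≤ Fintype.card k := Fintype.one_lt_card
  have h2 : m + 1 ≤ 2 ^ m := by
    have := Nat.lt_two_pow_self (n := m)
    omega
  have h3 : 2 ^ m ≤ (Fintype.card k) ^ m := Nat.pow_le_pow_left h1 m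
  have h4 : (Fintype.card k) ^ m ≤ (Fintype.card k - 1) * (Fintype.card k) ^ m :=
    Nat.le_mul_of_pos_left _ (by omega)
  omega

end indicator

end Groth.Agent.Lib.helper22.Ax
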