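import Mathlib
import Groth.Agent.Lib.Helper22.AxB
import Groth.Agent.Lib.Helper22.AxC

/-!
# helper22: Ax's theorem, part D: Teichmüller lifting of a form and the count of zeros
-/

set_option autoImplicit false

open Finset

namespace Groth.Agent.Lib.helper22.Ax

variable {p : ℕ} [hp : Fact p.Prime] {k : Type*} [Field k] [CharP k p] [Fintype k]

section
variable {N : ℕ} (F : MvPolynomial (Fin N) k)

/-- the Teichmüller lift of the value of a monomial term -/
noncomputable def termLift (i : Fin N →₀ ℕ) (x : Fin N → k) : WittVector p k :=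
  WittVector.teichmuller p (F.coeff i * ∏ l, x l ^ i l)

/-- the lifted value of the form -/
noncomputable def evalLift (x : Fin N → k) : WittVector p k :=
  ∑ i ∈ F.support, termLift (p := p) F i x

theorem coeff_zero_evalLift (x : Fin N → k) :
    (evalLift (p := p) F x).coeff 0 = MvPolynomial.eval x F := by
  have h : (evalLift (p := p) F x).coeff 0 = WittVector.constantCoeff (evalLift (p := p) F x) := rfl
  rw [h, evalLift, map_sum, MvPolynomial.eval_eq']
  refine Finset.sum_congr rfl fun i _ => ?_
  show (termLift (p := p) F i x).coeff 0 = _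
  rw [termLift, WittVector.teichmuller_coeff_zero]

theorem termLift_eq (i : Fin N →₀ ℕ) (x : Fin N → k) :
    termLift (p := p) F i x = WittVector.teichmuller p (F.coeff i) *
      ∏ l, (WittVector.teichmuller p (x l)) ^ i l := by
  rw [termLift, map_mul, map_prod]
  congr 1
  exact Finset.prod_congr rfl fun l _ => map_pow _ _ _

theorem prod_termLift_pow (s : Finset (Fin N →₀ ℕ)) (κ : (Fin N →₀ ℕ) → ℕ) (x : Fin N → k) :
    ∏ i ∈ s, (termLift (p := p) F i x) ^ κ i =
      (∏ i ∈ s, (WittVector.teichmuller p (F.coeff i)) ^ κ i) *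
        ∏ l, (WittVector.teichmuller p (x l)) ^ (∑ i ∈ s, κ i * i l) := by
  have h1 : ∀ i ∈ s, (termLift (p := p) F i x) ^ κ i =
      (WittVector.teichmuller p (F.coeff i)) ^ κ i *
        ∏ l, (WittVector.teichmuller p (x l)) ^ (κ i * i l) := by
    intro i _
    rw [termLift_eq, mul_pow, ← Finset.prod_pow]
    congr 1
    refine Finset.prod_congr rfl fun l _ => ?_
    rw [← pow_mul, mul_comm]
  rw [Finset.prod_congr rfl h1, Finset.prod_mul_distrib, Finset.prod_comm]
  congr 1
  refine Finset.prod_congr rfl fun l _ => ?_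
  rw [Finset.prod_pow_eq_pow_sum]

theorem sum_prod_teich [DecidableEq k] (e : Fin N → ℕ) :
    ∑ x : Fin N → k, ∏ l, (WittVector.teichmuller p (x l)) ^ e l =
      ∏ l, ∑ y : k, (WittVector.teichmuller p y) ^ e l := by
  rw [Finset.prod_univ_sum, Fintype.piFinset_univ]

end

/-- the value of the power sum -/
theorem sval_cases (e : ℕ) :
    (∑ y : k, (WittVector.teichmuller p y) ^ e = 0) ∨
      ((Fintype.card k - 1) ∣ e ∧ ∑ y : k, (WittVector.teichmuller p y) ^ e =
        if e = 0 then (Fintype.card k : WittVector p k)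
        else ((Fintype.card k - 1 : ℕ) : WittVector p k)) := by
  by_cases hdvd : (Fintype.card k - 1) ∣ e
  · right
    refine ⟨hdvd, ?_⟩
    split_ifs with he
    · rw [he]
      exact sum_teich_pow_zero
    · exact sum_teich_pow_of_dvd e he hdvd
  · left
    exact sum_teich_pow_of_not_dvd e hdvd

variable [DecidableEq k]

/-- each term of the multinomial expansion, summed over the points, is divisible by `q ^ j` -/
theorem term_dvd {N : ℕ} (F : MvPolynomial (Fin N) k) (d : ℕ) (hd : 0 < d) (hF : F.IsHomogeneous d)
    (a : ℕ) (ha : 1 ≤ a) (hq : Fintype.card k = p ^ a) (j : ℕ) (hj : j * d < N) (m : ℕ)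
    (κ : (Fin N →₀ ℕ) → ℕ)
    (hκ : κ ∈ Finset.piAntidiag F.support ((p ^ a - 1) * (p ^ a) ^ m)) :
    (p : WittVector p k) ^ (a * j) ∣ (Nat.multinomial F.support κ : WittVector p k) *
      ∑ x : Fin N → k, ∏ i ∈ F.support, (termLift (p := p) F i x) ^ κ i := by
  classical
  rw [Finset.mem_piAntidiag] at hκ
  have h1 : ∑ x : Fin N → k, ∏ i ∈ F.support, (termLift (p := p) F i x) ^ κ i =
      (∏ i ∈ F.support, (WittVector.teichmuller p (F.coeff i)) ^ κ i) *
        ∏ l, ∑ y : k, (WittVector.teichmuller p y) ^ (∑ i ∈ F.support, κ i * i l) := by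
    rw [← sum_prod_teich, Finset.mul_sum]
    exact Finset.sum_congr rfl fun x _ => prod_termLift_pow F F.support κ x
  rw [h1]
  set e : Fin N → ℕ := fun l => ∑ i ∈ F.support, κ i * i l with he
  by_cases hz : ∃ l, ∑ y : k, (WittVector.teichmuller p y) ^ e l = 0
  · obtain ⟨l, hl⟩ := hz
    rw [Finset.prod_eq_zero (Finset.mem_univ l) hl, mul_zero, mul_zero]
    exact dvd_zero _
  · rw [not_exists] at hz
    have hall : ∀ l, (Fintype.card k - 1) ∣ e l ∧ ∑ y : k, (WittVector.teichmuller p y) ^ e l =
        if e l = 0 then (Fintype.card k : WittVector p k)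
        else ((Fintype.card k - 1 : ℕ) : WittVector p k) := fun l =>
      (sval_cases (p := p) (e l)).resolve_left (hz l)
    set S' := Finset.univ.filter (fun l : Fin N => e l ≠ 0) with hS'
    have hprod : ∏ l, ∑ y : k, (WittVector.teichmuller p y) ^ e l =
        ((Fintype.card k : ℕ) : WittVector p k) ^ (N - S'.card) *
          ((Fintype.card k - 1 : ℕ) : WittVector p k) ^ S'.card := by
      rw [Finset.prod_congr rfl fun l _ => (hall l).2, Finset.prod_ite, Finset.prod_const,
        Finset.prod_const]
      congr 2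
      rw [hS', Finset.filter_not, Finset.card_sdiff_of_subset (Finset.subset_univ _),
        Finset.card_univ, Fintype.card_fin]
      have hle : (Finset.univ.filter (fun l : Fin N => e l = 0)).card ≤ N := by
        have := Finset.card_le_univ (Finset.univ.filter (fun l : Fin N => e l = 0))
        simpa using this
      rw [Nat.sub_sub_self hle]
    have hval := main_val p a ha F.support κ N d hd (fun i l => i l)
      (fun i hi => by
        have h1 : Finsupp.weight (1 : Fin N → ℕ) i = d := hF (MvPolynomial.mem_support_iff.mp hi)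
        have h2 : Finsupp.degree i = d := by
          rw [Finsupp.degree_eq_weight_one]
          exact h1
        rwa [Finsupp.degree_eq_sum] at h2) m hκ.1
      (fun l => by
        have := (hall l).1
        rwa [hq] at this) j hj
    rw [hprod]
    have h2 : (Nat.multinomial F.support κ : WittVector p k) *
        ((∏ i ∈ F.support, (WittVector.teichmuller p (F.coeff i)) ^ κ i) *
          (((Fintype.card k : ℕ) : WittVector p k) ^ (N - S'.card) *
            ((Fintype.card k - 1 : ℕ) : WittVector p k) ^ S'.card)) =
        ((Nat.multinomial F.support κ * (p ^ a) ^ (N - S'.card) : ℕ) : WittVector p k) *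
          ((∏ i ∈ F.support, (WittVector.teichmuller p (F.coeff i)) ^ κ i) *
            ((Fintype.card k - 1 : ℕ) : WittVector p k) ^ S'.card) := by
      rw [hq]
      push_cast
      ring
    rw [h2]
    refine Dvd.dvd.mul_right ?_ _
    have h3 : ((p ^ (a * j) : ℕ) : WittVector p k) ∣
        ((Nat.multinomial F.support κ * (p ^ a) ^ (N - S'.card) : ℕ) : WittVector p k) :=
      Nat.cast_dvd_cast hval
    rwa [Nat.cast_pow] at h3

end Groth.Agent.Lib.helper22.Ax
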