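import Mathlib
import Groth.Agent.Lib.Helper22.AxD

/-!
# helper22: Ax's theorem: `q ^ j` divides the number of zeros of a form of degree `d` in `N > j d`
variables over `𝔽_q`
-/

set_option autoImplicit false

open Finset

namespace Groth.Agent.Lib.helper22.Ax

theorem ax_aux {p : ℕ} [hp : Fact p.Prime] {k : Type*} [Field k] [CharP k p] [Fintype k]
    [DecidableEq k] [PerfectRing k p] (N d j : ℕ) (hd : 0 < d) (F : MvPolynomial (Fin N) k)
    (hF : F.IsHomogeneous d) (hj : j * d < N) (a : ℕ) (ha : 1 ≤ a) (hq : Fintype.card k = p ^ a) :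
    p ^ (a * j) ∣ (Finset.univ.filter (fun x : Fin N → k => MvPolynomial.eval x F = 0)).card := by
  classical
  apply natCast_dvd_of_dvd (p := p) (k := k)
  set m := a * j with hm
  set M := (p ^ a - 1) * (p ^ a) ^ m with hM
  set L : (Fin N → k) → WittVector p k := fun x => evalLift (p := p) F x with hL
  -- the count as a sum of indicators
  have hcount : ((Finset.univ.filter (fun x : Fin N → k => MvPolynomial.eval x F = 0)).card :
      WittVector p k) = ∑ x : Fin N → k, if MvPolynomial.eval x F = 0 then 1 else 0 := by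
    rw [Finset.sum_boole]
  -- Claim A
  have hA : (p : WittVector p k) ^ (m + 1) ∣
      (∑ x : Fin N → k, if MvPolynomial.eval x F = 0 then (1 : WittVector p k) else 0) -
        ∑ x : Fin N → k, (1 - L x ^ M) := by
    rw [← Finset.sum_sub_distrib]
    refine Finset.dvd_sum fun x _ => ?_
    have hMq : M = (Fintype.card k - 1) * (Fintype.card k) ^ m := by rw [hM, hq]
    split_ifs with hx
    · have h1 : (1 : WittVector p k) - (1 - L x ^ M) = L x ^ M := by ring
      rw [h1, hMq]
      apply pow_M_nonunit
      rw [hL]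
      show (evalLift (p := p) F x).coeff 0 = 0
      rw [coeff_zero_evalLift, hx]
    · have h1 : (0 : WittVector p k) - (1 - L x ^ M) = L x ^ M - 1 := by ring
      rw [h1, hMq]
      apply pow_M_unit _ _ a m hq
      show (evalLift (p := p) F x).coeff 0 ≠ 0
      rw [coeff_zero_evalLift]
      exact hx
  -- Claim B
  have hB : (p : WittVector p k) ^ (a * j) ∣ ∑ x : Fin N → k, (1 - L x ^ M) := by
    rw [Finset.sum_sub_distrib]
    apply dvd_sub
    · rw [Finset.sum_const, Finset.card_univ, Fintype.card_fun, Fintype.card_fin, hq, nsmul_eq_mul,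
        mul_one, Nat.cast_pow, Nat.cast_pow, ← pow_mul]
      apply pow_dvd_pow
      have h1 : j ≤ j * d := Nat.le_mul_of_pos_right _ hd
      exact Nat.mul_le_mul_left _ (by omega)
    · have h1 : ∀ x : Fin N → k, L x ^ M = ∑ κ ∈ Finset.piAntidiag F.support M,
          (Nat.multinomial F.support κ : WittVector p k) *
            ∏ i ∈ F.support, (termLift (p := p) F i x) ^ κ i := by
        intro x
        rw [hL]
        show (evalLift (p := p) F x) ^ M = _
        rw [evalLift, Finset.sum_pow_eq_sum_piAntidiag]
      rw [Finset.sum_congr rfl fun x _ => h1 x, Finset.sum_comm]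
      refine Finset.dvd_sum fun κ hκ => ?_
      rw [← Finset.mul_sum]
      exact term_dvd F d hd hF a ha hq j hj m κ hκ
  rw [hcount]
  have h3 : (∑ x : Fin N → k, if MvPolynomial.eval x F = 0 then (1 : WittVector p k) else 0) =
      ((∑ x : Fin N → k, if MvPolynomial.eval x F = 0 then (1 : WittVector p k) else 0) -
        ∑ x : Fin N → k, (1 - L x ^ M)) + ∑ x : Fin N → k, (1 - L x ^ M) := by ring
  rw [h3]
  refine dvd_add ((pow_dvd_pow _ ?_).trans hA) hB
  omega

theorem ax_main (k : Type*) [Field k] [Fintype k] [DecidableEq k] (N d j : ℕ)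
    (hd : 0 < d) (F : MvPolynomial (Fin N) k) (hF : F.IsHomogeneous d) (hj : j * d < N) :
    Fintype.card k ^ j ∣ Fintype.card {x : Fin N → k // MvPolynomial.eval x F = 0} := by
  classical
  set p := ringChar k with hpdef
  have : CharP k p := ringChar.charP k
  have hprime : p.Prime := CharP.char_is_prime k p
  have : Fact p.Prime := ⟨hprime⟩
  have : ExpChar k p := ExpChar.prime hprime
  obtain ⟨n, -, hcard⟩ := FiniteField.card k p
  rw [Fintype.card_subtype, hcard, ← pow_mul]
  exact ax_aux N d j hd F hF hj n n.pos hcard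

end Groth.Agent.Lib.helper22.Ax
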