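import Mathlib

/-!
# Finitely generated submodules of free modules over a Bézout domain are free (helper22)
-/

set_option autoImplicit false
universe u v
open Module

namespace Groth.Agent.Lib.helper22.BezoutFree

variable {R : Type u} [CommRing R] [IsDomain R] [IsBezout R]

/-- a finitely generated ideal of a Bézout domain is a free module -/
theorem free_ideal_of_fg (J : Ideal R) (hJ : J.FG) : Module.Free R J := by
  have hp : J.IsPrincipal := IsBezout.isPrincipal_of_FG J hJ
  obtain ⟨a, rfl⟩ := hp.principal
  by_cases ha : a = 0
  · subst ha
    have : Subsingleton (Submodule.span R ({0} : Set R)) := by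
      rw [Submodule.span_zero_singleton]
      infer_instance
    exact Module.Free.of_subsingleton R _
  · exact Module.Free.of_equiv (LinearEquiv.toSpanNonzeroSingleton R R a ha)

/-- the restriction `(Fin (n+1) → R) → (Fin n → R)` -/
def initMap (n : ℕ) : (Fin (n + 1) → R) →ₗ[R] (Fin n → R) :=
  LinearMap.funLeft R R Fin.castSucc

omit [IsDomain R] [IsBezout R] in
theorem initMap_apply (n : ℕ) (x : Fin (n + 1) → R) (i : Fin n) :
    initMap n x i = x i.castSucc := rfl

/-- a finite module embedding into `R^n` is free -/
theorem free_of_injective_fin : ∀ (n : ℕ) (N : Type v) [AddCommGroup N] [Module R N]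
    [Module.Finite R N] (g : N →ₗ[R] (Fin n → R)), Function.Injective g → Module.Free R N := by
  intro n
  induction n with
  | zero =>
    intro N _ _ _ g hg
    have : Subsingleton N := hg.subsingleton
    exact Module.Free.of_subsingleton R _
  | succ n ih =>
    intro N _ _ _ g hg
    -- last coordinate
    let q : N →ₗ[R] R := (LinearMap.proj (Fin.last n)) ∘ₗ g
    have hJfg : (LinearMap.range q).FG := by
      have : Module.Finite R (LinearMap.range q) := Module.Finite.range q
      exact Module.Finite.iff_fg.1 this
    have hJfree : Module.Free R (LinearMap.range q) := free_ideal_of_fg (LinearMap.range q) hJfg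
    have hq' : Function.Surjective q.rangeRestrict := q.surjective_rangeRestrict
    obtain ⟨s, hs⟩ := Module.projective_lifting_property q.rangeRestrict LinearMap.id hq'
    have hex : Function.Exact (LinearMap.ker q.rangeRestrict).subtype q.rangeRestrict := by
      intro x
      constructor
      · intro hx
        exact ⟨⟨x, hx⟩, rfl⟩
      · rintro ⟨y, rfl⟩
        exact y.2
    have hinjK : Function.Injective (LinearMap.ker q.rangeRestrict).subtype :=
      Submodule.injective_subtype _
    have hsplit := (Function.Exact.splitSurjectiveEquiv hex hinjK) ⟨s, hs⟩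
    have e : N ≃ₗ[R] (LinearMap.ker q.rangeRestrict) × (LinearMap.range q) := hsplit.1
    have hKfin : Module.Finite R (LinearMap.ker q.rangeRestrict) := by
      have hsurj : Function.Surjective
          ((LinearMap.fst R (LinearMap.ker q.rangeRestrict) (LinearMap.range q)) ∘ₗ
            e.toLinearMap) := by
        intro k
        exact ⟨e.symm (k, 0), by simp⟩
      exact Module.Finite.of_surjective _ hsurj
    -- embed K into (Fin n → R)
    have hgK : Function.Injective
        ((initMap n) ∘ₗ g ∘ₗ (LinearMap.ker q.rangeRestrict).subtype) := by
      intro x y hxy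
      apply Subtype.ext
      apply hg
      have hx : q (x : N) = 0 := congrArg Subtype.val x.2
      have hy : q (y : N) = 0 := congrArg Subtype.val y.2
      funext i
      refine Fin.lastCases ?_ (fun j => ?_) i
      · exact hx.trans hy.symm
      · exact congrFun hxy j
    have hKfree : Module.Free R (LinearMap.ker q.rangeRestrict) := ih _ _ hgK
    exact Module.Free.of_equiv e.symm

/-- **finitely generated submodules of free modules over a Bézout domain are free** -/
theorem free_of_fg {F : Type v} [AddCommGroup F] [Module R F] [Module.Free R F]
    (N : Submodule R F) (hN : N.FG) : Module.Free R N := by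
  classical
  let b := Module.Free.chooseBasis R F
  obtain ⟨T, hT⟩ := hN
  let s : Finset (Module.Free.ChooseBasisIndex R F) := T.biUnion fun t => (b.repr t).support
  have hsupp : ∀ x ∈ N, ∀ i, i ∉ s → b.repr x i = 0 := by
    intro x hx
    rw [← hT] at hx
    induction hx using Submodule.span_induction with
    | mem t ht =>
      intro i hi
      by_contra hne
      exact hi (Finset.mem_biUnion.2 ⟨t, ht, Finsupp.mem_support_iff.2 hne⟩)
    | zero => intro i _; simp
    | add x y _ _ hx hy => intro i hi; simp [hx i hi, hy i hi]
    | smul a x _ hx => intro i hi; simp [hx i hi]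
  let π : F →ₗ[R] (s → R) :=
    { toFun := fun x i => b.repr x i
      map_add' := fun x y => by funext i; simp
      map_smul' := fun a x => by funext i; simp }
  have hπ : ∀ (x : F) (i : s), π x i = b.repr x i := fun _ _ => rfl
  have hNfin : Module.Finite R N := Module.Finite.iff_fg.2 ⟨T, hT⟩
  let ε : (s → R) ≃ₗ[R] (Fin (Fintype.card s) → R) :=
    LinearEquiv.funCongrLeft R R (Fintype.equivFin s).symm
  have hg' : Function.Injective (ε.toLinearMap ∘ₗ π ∘ₗ N.subtype) := by
    intro x y hxy
    have h1 : π (x : F) = π (y : F) := ε.injective hxy
    apply Subtype.ext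
    apply b.repr.injective
    ext i
    by_cases hi : i ∈ s
    · have := congrFun h1 ⟨i, hi⟩
      rw [hπ, hπ] at this
      exact this
    · rw [hsupp x x.2 i hi, hsupp y y.2 i hi]
  exact free_of_injective_fin _ _ _ hg'

end Groth.Agent.Lib.helper22.BezoutFree
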