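import Mathlib

/-!
# Bialgebra maps out of a quotient bialgebra (helper22)
-/

set_option autoImplicit false
universe u v w
open scoped TensorProduct

namespace Groth.Agent.Lib.helper22.BialgQuot

variable {R : Type u} [CommRing R] {B : Type v} [CommRing B] [Bialgebra R B]
  {A' : Type w} [CommRing A'] [Bialgebra R A']
  (I : Ideal B) [(I.restrictScalars R).IsCoideal]

/-- a bialgebra map killing a biideal descends to the quotient bialgebra -/
noncomputable def lift (ψ : B →ₐc[R] A') (h : ∀ b ∈ I, ψ b = 0) : (B ⧸ I) →ₐc[R] A' :=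
  BialgHom.ofAlgHom (Ideal.Quotient.liftₐ I (ψ : B →ₐ[R] A') h)
    (by
      refine Ideal.Quotient.algHom_ext R ?_
      ext b
      change Coalgebra.counit (ψ b) = Coalgebra.counit (R := R) (Ideal.Quotient.mk I b)
      rw [Bialgebra.Quotient.counit_mk, CoalgHomClass.counit_comp_apply])
    (by
      refine Ideal.Quotient.algHom_ext R ?_
      ext b
      change Algebra.TensorProduct.map (Ideal.Quotient.liftₐ I (ψ : B →ₐ[R] A') h)
          (Ideal.Quotient.liftₐ I (ψ : B →ₐ[R] A') h)
          (Coalgebra.comul (R := R) (Ideal.Quotient.mk I b)) = Coalgebra.comul (ψ b)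
      rw [Bialgebra.Quotient.comul_mk, ← CoalgHomClass.map_comp_comul_apply ψ b]
      have h2 : (Algebra.TensorProduct.map (Ideal.Quotient.liftₐ I (ψ : B →ₐ[R] A') h)
          (Ideal.Quotient.liftₐ I (ψ : B →ₐ[R] A') h)).toLinearMap ∘ₗ
          TensorProduct.map (Ideal.Quotient.mkₐ R I).toLinearMap
            (Ideal.Quotient.mkₐ R I).toLinearMap =
          TensorProduct.map (ψ : B →ₗ[R] A') (ψ : B →ₗ[R] A') := by
        apply TensorProduct.ext'
        intro x y
        rfl
      exact LinearMap.congr_fun h2 (Coalgebra.comul b))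

@[simp] theorem lift_mk (ψ : B →ₐc[R] A') (h : ∀ b ∈ I, ψ b = 0) (b : B) :
    lift I ψ h (Ideal.Quotient.mk I b) = ψ b := rfl

end Groth.Agent.Lib.helper22.BialgQuot
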