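import Mathlib

/-!
# Consecutive coefficients of `(X+1)^i (cX+1)^s`

Over a field of characteristic zero and `c ≠ 0`, the polynomial `(X+1)^i (cX+1)^s` has no two
consecutive vanishing coefficients below its degree (three-term recurrence from its first-order ODE).
-/

namespace Groth.Agent.Lib.Helper22.BinomZ
open Polynomial

variable {k : Type*} [Field k]

/-- `K = (X+1)^i (cX+1)^s`. -/
noncomputable def Kp (c : k) (i s : ℕ) : k[X] := (X + 1) ^ i * (C c * X + 1) ^ s

lemma mul_deriv_pow (P : k[X]) (n : ℕ) :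
    P * derivative (P ^ n) = (n : k[X]) * P ^ n * derivative P := by
  cases n with
  | zero => simp
  | succ n =>
    rw [derivative_pow_succ]
    simp only [map_add, map_natCast, map_one]
    push_cast
    ring

lemma Kp_ode (c : k) (i s : ℕ) :
    (X + 1) * (C c * X + 1) * derivative (Kp c i s) =
      ((i : k[X]) * (C c * X + 1) + (s : k[X]) * C c * (X + 1)) * Kp c i s := by
  have h1 := mul_deriv_pow (X + 1 : k[X]) i
  have h2 := mul_deriv_pow (C c * X + 1 : k[X]) s
  have d1 : derivative (X + 1 : k[X]) = 1 := by simp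
  have d2 : derivative (C c * X + 1 : k[X]) = C c := by simp
  rw [d1, mul_one] at h1
  rw [d2] at h2
  unfold Kp
  rw [derivative_mul]
  linear_combination (C c * X + 1) * (C c * X + 1) ^ s * h1 + (X + 1) * (X + 1) ^ i * h2

lemma coeff_X_mul_derivative (P : k[X]) (n : ℕ) :
    (X * derivative P).coeff n = (n : k) * P.coeff n := by
  cases n with
  | zero => simp
  | succ n => rw [coeff_X_mul, coeff_derivative]; push_cast; ring

lemma Kp_rec (c : k) (i s t : ℕ) :
    c * ((t : k) * (Kp c i s).coeff t) + (1 + c) * (((t : k) + 1) * (Kp c i s).coeff (t + 1)) +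
      (Kp c i s).coeff (t + 1 + 1) * ((t : k) + 1 + 1) =
    c * ((i : k) + s) * (Kp c i s).coeff t + ((i : k) + s * c) * (Kp c i s).coeff (t + 1) := by
  have hexp : C c * (X * (X * derivative (Kp c i s))) + C (1 + c) * (X * derivative (Kp c i s)) +
      derivative (Kp c i s) =
      C (c * ((i : k) + s)) * (X * Kp c i s) + C ((i : k) + s * c) * Kp c i s := by
    have := Kp_ode c i s
    simp only [map_add, map_mul, map_one, map_natCast]
    linear_combination this
  have h := congrArg (fun P => P.coeff (t + 1)) hexp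
  simp only [coeff_add, coeff_C_mul, coeff_X_mul, coeff_X_mul_derivative, coeff_derivative] at h
  push_cast at h
  linear_combination h

lemma Kp_step [CharZero k] (c : k) (i s t : ℕ) (h0 : (Kp c i s).coeff t = 0)
    (h1 : (Kp c i s).coeff (t + 1) = 0) : (Kp c i s).coeff (t + 1 + 1) = 0 := by
  have h := Kp_rec c i s t
  rw [h0, h1] at h
  simp only [mul_zero, add_zero, zero_add] at h
  have hne : ((t : k) + 1 + 1) ≠ 0 := by
    have := Nat.cast_add_one_ne_zero (R := k) (t + 1)
    push_cast at this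
    exact this
  rcases mul_eq_zero.1 h with h | h
  · exact h
  · exact absurd h hne

lemma Kp_all [CharZero k] (c : k) (i s t : ℕ) (h0 : (Kp c i s).coeff t = 0)
    (h1 : (Kp c i s).coeff (t + 1) = 0) :
    ∀ d : ℕ, (Kp c i s).coeff (t + d) = 0 ∧ (Kp c i s).coeff (t + d + 1) = 0 := by
  intro d
  induction d with
  | zero => exact ⟨h0, h1⟩
  | succ d ih =>
    have e1 : t + (d + 1) = t + d + 1 := by omega
    rw [e1]
    exact ⟨ih.2, Kp_step c i s (t + d) ih.1 ih.2⟩

lemma Kp_top (c : k) (hc : c ≠ 0) (i s : ℕ) : (Kp c i s).coeff (i + s) = c ^ s := by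
  have e1 : (X + 1 : k[X]) = X + C 1 := by rw [C_1]
  have e2 : (C c * X + 1 : k[X]) = C c * X + C 1 := by rw [C_1]
  have hP : ((X + C 1 : k[X]) ^ i).natDegree = i := by
    rw [(monic_X_add_C (1 : k)).natDegree_pow, natDegree_X_add_C, mul_one]
  have hQ : ((C c * X + C 1 : k[X]) ^ s).natDegree = s := by
    rw [natDegree_pow, natDegree_linear hc, mul_one]
  have := coeff_mul_degree_add_degree ((X + C 1 : k[X]) ^ i) ((C c * X + C 1 : k[X]) ^ s)
  rw [hP, hQ] at this
  rw [Kp, e1, e2, this, ((monic_X_add_C (1 : k)).pow i).leadingCoeff, leadingCoeff_pow,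
    leadingCoeff_linear hc, one_mul]

/-- No two consecutive coefficients of `(X+1)^i (cX+1)^s` in degrees `t, t+1` with `t ≤ i+s` vanish. -/
lemma Kp_no_consecutive_zeros [CharZero k] (c : k) (hc : c ≠ 0) (i s t : ℕ) (ht : t ≤ i + s)
    (h0 : (Kp c i s).coeff t = 0) (h1 : (Kp c i s).coeff (t + 1) = 0) : False := by
  have := (Kp_all c i s t h0 h1 (i + s - t)).1
  rw [Nat.add_sub_of_le ht, Kp_top c hc] at this
  exact pow_ne_zero _ hc this

lemma Kp_coeff (c : k) (i s m : ℕ) : (Kp c i s).coeff m =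
    ∑ l ∈ Finset.range (m + 1), ((i.choose l : k) * ((s.choose (m - l) : k) * c ^ (m - l))) := by
  have hQ : ∀ y, ((C c * X + 1 : k[X]) ^ s).coeff y = (s.choose y : k) * c ^ y := by
    intro y
    have : (C c * X + 1 : k[X]) ^ s = ((X + 1 : k[X]) ^ s).comp (C c * X) := by simp
    rw [this, comp_C_mul_X_coeff, coeff_X_add_one_pow]
  rw [Kp, coeff_mul, Finset.Nat.sum_antidiagonal_eq_sum_range_succ_mk]
  refine Finset.sum_congr rfl fun l _ => ?_
  rw [coeff_X_add_one_pow, hQ]

lemma Kp_succ_coeff (c : k) (i s m : ℕ) :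
    (Kp c i (s + 1)).coeff (m + 1) = (Kp c i s).coeff (m + 1) + c * (Kp c i s).coeff m := by
  have : Kp c i (s + 1) = Kp c i s + C c * (X * Kp c i s) := by
    unfold Kp; ring
  rw [this, coeff_add, coeff_C_mul, coeff_X_mul]

end Groth.Agent.Lib.Helper22.BinomZ
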