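import Mathlib

set_option autoImplicit false
open MvPolynomial

namespace Groth.Agent.Lib.helper22.CB

variable {k : Type*} [Field k]

local notation "V" => (Fin 4 → k)
local notation "PP" => Projectivization k (Fin 4 → k)

/-- the polynomial of a linear functional -/
noncomputable def formOf (f : Module.Dual k V) : MvPolynomial (Fin 4) k :=
  ∑ i, C (f (Pi.single i 1)) * X i

theorem formOf_isHomogeneous (f : Module.Dual k V) : (formOf f).IsHomogeneous 1 := by
  unfold formOf
  apply IsHomogeneous.sum
  intro i _
  have := (isHomogeneous_C (Fin 4) (f (Pi.single i 1))).mul (isHomogeneous_X k i)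
  simpa using this

theorem eval_formOf (f : Module.Dual k V) (w : V) : eval w (formOf f) = f w := by
  unfold formOf
  rw [map_sum]
  simp only [map_mul, eval_C, eval_X]
  conv_rhs => rw [pi_eq_sum_univ w]
  rw [map_sum]
  apply Finset.sum_congr rfl
  intro i _
  have h1 : (fun j => if i = j then (1 : k) else 0) = Pi.single i 1 := by
    funext j
    by_cases h : i = j
    · subst h; simp
    · simp [h, Ne.symm h]
  rw [map_smul, smul_eq_mul, mul_comm, h1]

/-- a linear form vanishing on a subspace and not at a vector outside it -/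
theorem exists_linear_form (P : Submodule k V) (v : V) (hv : v ∉ P) :
    ∃ p : MvPolynomial (Fin 4) k, p.IsHomogeneous 1 ∧ (∀ w ∈ P, eval w p = 0) ∧ eval v p ≠ 0 := by
  obtain ⟨f, hfv, hfP⟩ := Submodule.exists_dual_map_eq_bot_of_notMem hv inferInstance
  refine ⟨formOf f, formOf_isHomogeneous f, ?_, ?_⟩
  · intro w hw
    rw [eval_formOf]
    have : f w ∈ P.map f := Submodule.mem_map_of_mem hw
    rw [hfP] at this
    simpa using this
  · rwa [eval_formOf]

variable [DecidableEq (Projectivization k (Fin 4 → k))]

/-- `z` can be separated from `S` by a form of degree `n` -/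
def Coverable (z : PP) (S : Finset PP) (n : ℕ) : Prop :=
  ∃ p : MvPolynomial (Fin 4) k, p.IsHomogeneous n ∧ (∀ s ∈ S, eval s.rep p = 0) ∧ eval z.rep p ≠ 0

theorem Coverable.union {z : PP} {S S' : Finset PP} {a b : ℕ} (h : Coverable z S a)
    (h' : Coverable z S' b) : Coverable z (S ∪ S') (a + b) := by
  obtain ⟨p, hp, hpS, hpz⟩ := h
  obtain ⟨q, hq, hqS, hqz⟩ := h'
  refine ⟨p * q, hp.mul hq, ?_, ?_⟩
  · intro s hs
    rw [map_mul]
    rcases Finset.mem_union.mp hs with h | h
    · rw [hpS s h, zero_mul]
    · rw [hqS s h, mul_zero]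
  · rw [map_mul]
    exact mul_ne_zero hpz hqz

omit [DecidableEq (Projectivization k (Fin 4 → k))] in
theorem Coverable.mono {z : PP} {S S' : Finset PP} {a : ℕ} (h : Coverable z S a) (hS : S' ⊆ S) :
    Coverable z S' a := by
  obtain ⟨p, hp, hpS, hpz⟩ := h
  exact ⟨p, hp, fun s hs => hpS s (hS hs), hpz⟩

omit [DecidableEq (Projectivization k (Fin 4 → k))] in
theorem coverable_empty (z : PP) (n : ℕ) : Coverable z ∅ n := by
  obtain ⟨p, hp, -, hpz⟩ := exists_linear_form (⊥ : Submodule k V) z.rep
    (by simpa using z.rep_nonzero)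
  refine ⟨p ^ n, by simpa using hp.pow n, by simp, ?_⟩
  rw [map_pow]
  exact pow_ne_zero _ hpz

/-- the line through `z` and `s` -/
def lineOf (z s : PP) : Submodule k V := Submodule.span k {z.rep, s.rep}

omit [DecidableEq (Projectivization k (Fin 4 → k))] in
theorem rep_mem_lineOf_left (z s : PP) : z.rep ∈ lineOf z s :=
  Submodule.subset_span (by simp)

omit [DecidableEq (Projectivization k (Fin 4 → k))] in
theorem rep_mem_lineOf_right (z s : PP) : s.rep ∈ lineOf z s :=
  Submodule.subset_span (by simp)

theorem coverable_pair {z s s' : PP} (hs : s ≠ z) (hs' : s' ≠ z) (hL : lineOf z s ≠ lineOf z s') :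
    Coverable z {s, s'} 1 := by
  have hz : z.rep ∉ Submodule.span k {s.rep, s'.rep} := by
    intro hmem
    rw [Submodule.mem_span_pair] at hmem
    obtain ⟨a, b, hab⟩ := hmem
    have ha : a ≠ 0 := by
      rintro rfl
      rw [zero_smul, zero_add] at hab
      apply hs'
      have hb : b ≠ 0 := by
        rintro rfl
        rw [zero_smul] at hab
        exact z.rep_nonzero hab.symm
      rw [← Projectivization.mk_rep s', ← Projectivization.mk_rep z,
        Projectivization.mk_eq_mk_iff']
      exact ⟨b⁻¹, by rw [← hab, smul_smul, inv_mul_cancel₀ hb, one_smul]⟩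
    have hb : b ≠ 0 := by
      rintro rfl
      rw [zero_smul, add_zero] at hab
      apply hs
      rw [← Projectivization.mk_rep s, ← Projectivization.mk_rep z,
        Projectivization.mk_eq_mk_iff']
      exact ⟨a⁻¹, by rw [← hab, smul_smul, inv_mul_cancel₀ ha, one_smul]⟩
    apply hL
    have e1 : s'.rep = b⁻¹ • z.rep - (b⁻¹ * a) • s.rep := by
      rw [← hab, smul_add, smul_smul, smul_smul, inv_mul_cancel₀ hb, one_smul]
      abel
    have e2 : s.rep = a⁻¹ • z.rep - (a⁻¹ * b) • s'.rep := by
      rw [← hab, smul_add, smul_smul, smul_smul, inv_mul_cancel₀ ha, one_smul]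
      abel
    apply le_antisymm
    · rw [lineOf, Submodule.span_le]
      intro x hx
      rcases hx with rfl | rfl
      · exact rep_mem_lineOf_left z s'
      · rw [e2]
        exact Submodule.sub_mem _ (Submodule.smul_mem _ _ (rep_mem_lineOf_left z s'))
          (Submodule.smul_mem _ _ (rep_mem_lineOf_right z s'))
    · rw [lineOf, Submodule.span_le]
      intro x hx
      rcases hx with rfl | rfl
      · exact rep_mem_lineOf_left z s
      · rw [e1]
        exact Submodule.sub_mem _ (Submodule.smul_mem _ _ (rep_mem_lineOf_left z s))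
          (Submodule.smul_mem _ _ (rep_mem_lineOf_right z s))
  obtain ⟨p, hp, hpP, hpz⟩ := exists_linear_form _ _ hz
  refine ⟨p, hp, ?_, hpz⟩
  intro t ht
  rw [Finset.mem_insert, Finset.mem_singleton] at ht
  rcases ht with rfl | rfl
  · exact hpP _ (Submodule.subset_span (by simp))
  · exact hpP _ (Submodule.subset_span (by simp))

omit [DecidableEq (Projectivization k (Fin 4 → k))] in
theorem coverable_single {z s : PP} (hs : s ≠ z) : Coverable z {s} 1 := by
  have hz : z.rep ∉ Submodule.span k {s.rep} := by
    intro hmem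
    rw [Submodule.mem_span_singleton] at hmem
    obtain ⟨a, ha⟩ := hmem
    apply hs
    symm
    rw [← Projectivization.mk_rep z, ← Projectivization.mk_rep s,
      Projectivization.mk_eq_mk_iff']
    exact ⟨a, ha⟩
  obtain ⟨p, hp, hpP, hpz⟩ := exists_linear_form _ _ hz
  refine ⟨p, hp, ?_, hpz⟩
  intro t ht
  rw [Finset.mem_singleton] at ht
  subst ht
  exact hpP _ (Submodule.subset_span (by simp))

/-- few points are separated one plane each -/
theorem coverable_of_card_le (z : PP) (S : Finset PP) (hzS : z ∉ S) (n : ℕ) (h : S.card ≤ n) :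
    Coverable z S n := by
  induction S using Finset.induction_on generalizing n with
  | empty => exact coverable_empty z n
  | insert s S hs ih =>
    rw [Finset.card_insert_of_notMem hs] at h
    obtain ⟨n', rfl⟩ : ∃ n', n = n' + 1 := ⟨n - 1, by omega⟩
    have hz' : z ∉ S := fun hh => hzS (Finset.mem_insert_of_mem hh)
    have hsz : s ≠ z := fun hh => hzS (by rw [← hh]; exact Finset.mem_insert_self _ _)
    have h1 := (ih hz' n' (by omega)).union (coverable_single hsz)
    refine h1.mono ?_
    intro t ht
    rw [Finset.mem_insert] at ht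
    rcases ht with rfl | ht
    · simp
    · simp [ht]

end Groth.Agent.Lib.helper22.CB
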