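import Groth.Agent.Lib.Helper22.CB1

set_option autoImplicit false
open MvPolynomial
open scoped Classical

namespace Groth.Agent.Lib.helper22.CB

variable {k : Type*} [Field k]

local notation "V" => (Fin 4 → k)
local notation "PP" => Projectivization k (Fin 4 → k)

/-- the points of `S` on a given line through `z` -/
noncomputable def cls (z : PP) (S : Finset PP) (W : Submodule k V) : Finset PP :=
  S.filter (fun s => lineOf z s = W)

theorem mem_cls {z : PP} {S : Finset PP} {W : Submodule k V} {s : PP} :
    s ∈ cls z S W ↔ s ∈ S ∧ lineOf z s = W := by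
  simp [cls]

theorem cls_subset (z : PP) (S : Finset PP) (W : Submodule k V) : cls z S W ⊆ S :=
  Finset.filter_subset _ _

theorem cls_disjoint (z : PP) (S : Finset PP) {W W' : Submodule k V} (h : W ≠ W') :
    Disjoint (cls z S W) (cls z S W') := by
  rw [Finset.disjoint_left]
  intro s hs hs'
  exact h ((mem_cls.mp hs).2.symm.trans (mem_cls.mp hs').2)

theorem card_three_cls_le (z : PP) (S : Finset PP) {W W₁ W₂ : Submodule k V} (h1 : W ≠ W₁)
    (h2 : W ≠ W₂) (h12 : W₁ ≠ W₂) :
    (cls z S W).card + (cls z S W₁).card + (cls z S W₂).card ≤ S.card := by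
  have hd1 : Disjoint (cls z S W) (cls z S W₁) := cls_disjoint z S h1
  have hd2 : Disjoint (cls z S W ∪ cls z S W₁) (cls z S W₂) := by
    rw [Finset.disjoint_union_left]
    exact ⟨cls_disjoint z S h2, cls_disjoint z S h12⟩
  rw [← Finset.card_union_of_disjoint hd1, ← Finset.card_union_of_disjoint hd2]
  apply Finset.card_le_card
  intro s hs
  simp only [Finset.mem_union] at hs
  rcases hs with (hs | hs) | hs <;> exact cls_subset _ _ _ hs

theorem coverable_main (z : PP) : ∀ (n : ℕ) (S : Finset PP), z ∉ S → S.card ≤ 2 * n →
    (∀ W : Submodule k V, (cls z S W).card ≤ n) → Coverable z S n := by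
  intro n
  induction n with
  | zero =>
    intro S _ hc _
    have : S = ∅ := Finset.card_eq_zero.mp (by omega)
    subst this
    exact coverable_empty z 0
  | succ n ih =>
    intro S hz hc hW
    by_cases hS : S = ∅
    · subst hS
      exact coverable_empty z _
    obtain ⟨s₁, hs₁, hmax₁⟩ := Finset.exists_max_image S
      (fun s => (cls z S (lineOf z s)).card) (Finset.nonempty_of_ne_empty hS)
    by_cases hT : ∀ t ∈ S, lineOf z t = lineOf z s₁
    · -- all in one class
      have hall : cls z S (lineOf z s₁) = S := by
        apply Finset.filter_true_of_mem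
        exact hT
      have hcard : S.card ≤ n + 1 := by
        have := hW (lineOf z s₁)
        rwa [hall] at this
      exact coverable_of_card_le z S hz (n + 1) hcard
    · push Not at hT
      set T : Finset PP := S.filter (fun t => lineOf z t ≠ lineOf z s₁) with hTdef
      have hTne : T.Nonempty := by
        obtain ⟨t, ht, hne⟩ := hT
        exact ⟨t, Finset.mem_filter.mpr ⟨ht, hne⟩⟩
      obtain ⟨s₂, hs₂T, hmax₂⟩ := Finset.exists_max_image T
        (fun s => (cls z S (lineOf z s)).card) hTne
      have hs₂ : s₂ ∈ S := (Finset.mem_filter.mp hs₂T).1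
      have hne : lineOf z s₂ ≠ lineOf z s₁ := (Finset.mem_filter.mp hs₂T).2
      have hs₁₂ : s₁ ≠ s₂ := fun h => hne (by rw [h])
      have hs₁z : s₁ ≠ z := fun h => hz (h ▸ hs₁)
      have hs₂z : s₂ ≠ z := fun h => hz (h ▸ hs₂)
      set S' : Finset PP := (S.erase s₁).erase s₂ with hS'def
      have hS'sub : S' ⊆ S := fun t ht => Finset.mem_of_mem_erase (Finset.mem_of_mem_erase ht)
      have hS'card : S'.card ≤ 2 * n := by
        have h1 : (S.erase s₁).card = S.card - 1 := Finset.card_erase_of_mem hs₁
        have h2 : S'.card = (S.erase s₁).card - 1 :=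
          Finset.card_erase_of_mem (Finset.mem_erase.mpr ⟨hs₁₂.symm, hs₂⟩)
        omega
      have hS'cls : ∀ W : Submodule k V, (cls z S' W).card ≤ n := by
        intro W
        by_cases hW1 : W = lineOf z s₁
        · have hsub : cls z S' W ⊆ (cls z S W).erase s₁ := by
            intro t ht
            rw [mem_cls] at ht
            rw [Finset.mem_erase, mem_cls]
            refine ⟨?_, hS'sub ht.1, ht.2⟩
            rintro rfl
            exact (Finset.mem_erase.mp (Finset.mem_of_mem_erase ht.1)).1 rfl
          have hmem : s₁ ∈ cls z S W := mem_cls.mpr ⟨hs₁, hW1.symm⟩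
          have := Finset.card_le_card hsub
          rw [Finset.card_erase_of_mem hmem] at this
          have := hW W
          omega
        by_cases hW2 : W = lineOf z s₂
        · have hsub : cls z S' W ⊆ (cls z S W).erase s₂ := by
            intro t ht
            rw [mem_cls] at ht
            rw [Finset.mem_erase, mem_cls]
            refine ⟨?_, hS'sub ht.1, ht.2⟩
            rintro rfl
            exact (Finset.mem_erase.mp ht.1).1 rfl
          have hmem : s₂ ∈ cls z S W := mem_cls.mpr ⟨hs₂, hW2.symm⟩
          have := Finset.card_le_card hsub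
          rw [Finset.card_erase_of_mem hmem] at this
          have := hW W
          omega
        · have hsub : cls z S' W ⊆ cls z S W := by
            intro t ht
            rw [mem_cls] at ht ⊢
            exact ⟨hS'sub ht.1, ht.2⟩
          refine (Finset.card_le_card hsub).trans ?_
          by_cases hC : cls z S W = ∅
          · rw [hC]; simp
          obtain ⟨s, hs⟩ := Finset.nonempty_of_ne_empty hC
          rw [mem_cls] at hs
          have hsT : s ∈ T := Finset.mem_filter.mpr ⟨hs.1, by rw [hs.2]; exact hW1⟩
          have h1 := hmax₂ s hsT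
          have h2 := hmax₁ s₂ hs₂
          simp only [hs.2] at h1
          have h3 := card_three_cls_le z S hW1 hW2 (Ne.symm hne)
          omega
      have hzS' : z ∉ S' := fun h => hz (hS'sub h)
      have hcov := (ih S' hzS' hS'card hS'cls).union (coverable_pair hs₁z hs₂z (Ne.symm hne))
      refine hcov.mono ?_
      intro t ht
      by_cases h1 : t = s₁
      · simp [h1]
      by_cases h2 : t = s₂
      · simp [h2]
      · rw [Finset.mem_union]
        left
        exact Finset.mem_erase.mpr ⟨h2, Finset.mem_erase.mpr ⟨h1, ht⟩⟩

end Groth.Agent.Lib.helper22.CB
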