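import Groth.Agent.Lib.Helper22.CB2

set_option autoImplicit false
open MvPolynomial
open scoped Classical

namespace Groth.Agent.Lib.helper22.CB

universe u

variable {k : Type u} [Field k]

local notation "V" => (Fin 4 → k)
local notation "PP" => Projectivization k (Fin 4 → k)

theorem finrank_span_pair {a b : PP} (h : a ≠ b) :
    Module.finrank k (Submodule.span k ({a.rep, b.rep} : Set V)) = 2 := by
  have hli := Projectivization.linearIndependent_pair_iff_ne.mpr h
  have h1 := finrank_span_eq_card hli
  have h2 : Set.range ![a.rep, b.rep] = ({a.rep, b.rep} : Set V) := by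
    ext x
    simp only [Matrix.range_cons, Matrix.range_empty, Set.union_empty, Set.mem_union,
      Set.mem_singleton_iff, Set.mem_insert_iff]
  rw [h2] at h1
  simpa using h1

theorem submodule_le_iff (a : PP) (W : Submodule k V) : a.submodule ≤ W ↔ a.rep ∈ W := by
  rw [Projectivization.submodule_eq, Submodule.span_singleton_le_iff_mem]

/-- a line contains two distinct points: it is determined by them -/
theorem eq_of_two_points {a b : PP} (h : a ≠ b) {W W' : Submodule k V}
    (hW : Module.finrank k W = 2) (hW' : Module.finrank k W' = 2)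
    (ha : a.submodule ≤ W) (hb : b.submodule ≤ W) (ha' : a.submodule ≤ W')
    (hb' : b.submodule ≤ W') : W = W' := by
  rw [submodule_le_iff] at ha hb ha' hb'
  have h1 : Submodule.span k ({a.rep, b.rep} : Set V) ≤ W := by
    rw [Submodule.span_le]
    intro x hx
    rcases hx with rfl | rfl
    · exact ha
    · exact hb
  have h2 : Submodule.span k ({a.rep, b.rep} : Set V) ≤ W' := by
    rw [Submodule.span_le]
    intro x hx
    rcases hx with rfl | rfl
    · exact ha'
    · exact hb'
  have e1 := Submodule.eq_of_le_of_finrank_eq h1 (by rw [finrank_span_pair h, hW])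
  have e2 := Submodule.eq_of_le_of_finrank_eq h2 (by rw [finrank_span_pair h, hW'])
  rw [← e1, ← e2]

theorem main (Z : Finset PP) (hZ : Z.Nonempty) (n : ℕ) (hn : 1 ≤ n)
    (hCB : (∀ z ∈ Z, ∀ p : MvPolynomial (Fin 4) k, p.IsHomogeneous n →
      (∀ z' ∈ Z, z' ≠ z → MvPolynomial.eval z'.rep p = 0) → MvPolynomial.eval z.rep p = 0)) :
    n + 2 ≤ Z.card ∧
      (Z.card ≤ 2 * n + 1 → ∃ W : Submodule k (Fin 4 → k), Module.finrank k ↥W = 2 ∧
        ∀ z ∈ Z, z.submodule ≤ W) := by
  have hnot : ∀ z ∈ Z, ¬ Coverable z (Z.erase z) n := by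
    rintro z hz ⟨p, hp, hpS, hpz⟩
    exact hpz (hCB z hz p hp fun z' hz' hne => hpS z' (Finset.mem_erase.mpr ⟨hne, hz'⟩))
  have part1 : n + 2 ≤ Z.card := by
    by_contra hlt
    push Not at hlt
    obtain ⟨z, hz⟩ := hZ
    apply hnot z hz
    apply coverable_of_card_le z _ (Finset.notMem_erase z Z)
    rw [Finset.card_erase_of_mem hz]
    omega
  refine ⟨part1, fun hcard => ?_⟩
  -- every point lies on a line with many points
  have key : ∀ z ∈ Z, ∃ W : Submodule k V, Module.finrank k W = 2 ∧
      n + 2 ≤ (Z.filter (fun t => t.submodule ≤ W)).card ∧ z.submodule ≤ W := by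
    intro z hz
    have h1 : ∃ W : Submodule k V, n + 1 ≤ (cls z (Z.erase z) W).card := by
      by_contra hcon
      push Not at hcon
      apply hnot z hz
      apply coverable_main z n _ (Finset.notMem_erase z Z)
      · rw [Finset.card_erase_of_mem hz]
        omega
      · intro W
        have := hcon W
        omega
    obtain ⟨W, hWc⟩ := h1
    have hne : (cls z (Z.erase z) W).Nonempty := by
      rw [← Finset.card_pos]
      omega
    obtain ⟨s, hs⟩ := hne
    rw [mem_cls] at hs
    have hsz : s ≠ z := (Finset.mem_erase.mp hs.1).1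
    have hzW : z.submodule ≤ W := by
      rw [submodule_le_iff, ← hs.2]
      exact rep_mem_lineOf_left z s
    refine ⟨W, ?_, ?_, hzW⟩
    · rw [← hs.2, lineOf]
      exact finrank_span_pair (Ne.symm hsz)
    · have hsub : insert z (cls z (Z.erase z) W) ⊆ Z.filter (fun t => t.submodule ≤ W) := by
        intro t ht
        rw [Finset.mem_insert] at ht
        rw [Finset.mem_filter]
        rcases ht with rfl | ht
        · exact ⟨hz, hzW⟩
        · rw [mem_cls] at ht
          refine ⟨Finset.mem_of_mem_erase ht.1, ?_⟩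
          rw [submodule_le_iff, ← ht.2]
          exact rep_mem_lineOf_right z t
      have hznot : z ∉ cls z (Z.erase z) W := fun h =>
        Finset.notMem_erase z Z (cls_subset _ _ _ h)
      have := Finset.card_le_card hsub
      rw [Finset.card_insert_of_notMem hznot] at this
      omega
  have uniq : ∀ W W' : Submodule k V, Module.finrank k W = 2 →
      n + 2 ≤ (Z.filter (fun t => t.submodule ≤ W)).card → Module.finrank k W' = 2 →
      n + 2 ≤ (Z.filter (fun t => t.submodule ≤ W')).card → W = W' := by
    intro W W' hW hWc hW' hWc'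
    set P := Z.filter (fun t => t.submodule ≤ W) with hP
    set P' := Z.filter (fun t => t.submodule ≤ W') with hP'
    have h1 := Finset.card_union_add_card_inter P P'
    have h2 : (P ∪ P').card ≤ Z.card := by
      apply Finset.card_le_card
      intro t ht
      rcases Finset.mem_union.mp ht with h | h
      · exact (Finset.mem_filter.mp h).1
      · exact (Finset.mem_filter.mp h).1
    have h3 : 1 < (P ∩ P').card := by omega
    obtain ⟨a, ha, b, hb, hab⟩ := Finset.one_lt_card.mp h3
    rw [Finset.mem_inter, hP, hP', Finset.mem_filter, Finset.mem_filter] at ha hb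
    exact eq_of_two_points hab hW hW' ha.1.2 hb.1.2 ha.2.2 hb.2.2
  obtain ⟨z₀, hz₀⟩ := hZ
  obtain ⟨W₀, hW₀, hW₀c, -⟩ := key z₀ hz₀
  refine ⟨W₀, hW₀, ?_⟩
  intro z hz
  obtain ⟨W, hW, hWc, hzW⟩ := key z hz
  rw [uniq W₀ W hW₀ hW₀c hW hWc]
  exact hzW

end Groth.Agent.Lib.helper22.CB
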