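import Groth.Agent.Lib.Helper22.CB3

set_option autoImplicit false
open MvPolynomial
open scoped Classical

namespace Groth.Agent.Lib.helper22.CB

universe u

variable {k : Type u} [Field k]

local notation "V" => (Fin 4 → k)
local notation "PP" => Projectivization k (Fin 4 → k)

/-- the Cayley–Bacharach property in degree `n` -/
def CBP (n : ℕ) (Z : Finset PP) : Prop :=
  ∀ z ∈ Z, ∀ p : MvPolynomial (Fin 4) k, p.IsHomogeneous n →
    (∀ z' ∈ Z, z' ≠ z → MvPolynomial.eval z'.rep p = 0) → MvPolynomial.eval z.rep p = 0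

theorem CBP.not_coverable {n : ℕ} {Z : Finset PP} (h : CBP n Z) {z : PP} (hz : z ∈ Z) :
    ¬ Coverable z (Z.erase z) n := by
  rintro ⟨p, hp, hpS, hpz⟩
  exact hpz (h z hz p hp fun z' hz' hne => hpS z' (Finset.mem_erase.mpr ⟨hne, hz'⟩))

/-- lower bound, valid for all `n` -/
theorem CBP.card_ge {n : ℕ} {Z : Finset PP} (h : CBP n Z) (hZ : Z.Nonempty) : n + 2 ≤ Z.card := by
  by_contra hlt
  push Not at hlt
  obtain ⟨z, hz⟩ := hZ
  apply h.not_coverable hz
  apply coverable_of_card_le z _ (Finset.notMem_erase z Z)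
  rw [Finset.card_erase_of_mem hz]
  omega

theorem CBP.collinear {n : ℕ} {Z : Finset PP} (h : CBP n Z) (hZ : Z.Nonempty) (hn : 1 ≤ n)
    (hcard : Z.card ≤ 2 * n + 1) :
    ∃ W : Submodule k V, Module.finrank k W = 2 ∧ ∀ z ∈ Z, z.rep ∈ W := by
  obtain ⟨W, hW, hZW⟩ := (main Z hZ n hn h).2 hcard
  exact ⟨W, hW, fun z hz => (submodule_le_iff z W).mp (hZW z hz)⟩

/-- the residual of a Cayley–Bacharach set with respect to a plane -/
theorem CBP.residual {n : ℕ} {Z : Finset PP} (h : CBP (n + 1) Z) (f : Module.Dual k V) :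
    CBP n (Z.filter (fun z => f z.rep ≠ 0)) := by
  intro z hz p hp hvan
  rw [Finset.mem_filter] at hz
  have h1 := h z hz.1 (p * formOf f) (hp.mul (formOf_isHomogeneous f)) ?_
  · rw [map_mul, eval_formOf] at h1
    exact (mul_eq_zero.mp h1).resolve_right hz.2
  · intro z' hz' hne
    rw [map_mul, eval_formOf]
    by_cases hf : f z'.rep = 0
    · rw [hf, mul_zero]
    · rw [hvan z' (Finset.mem_filter.mpr ⟨hz', hf⟩) hne, zero_mul]

/-- a plane through a proper subspace -/
theorem exists_plane (P : Submodule k V) (hP : Module.finrank k P ≤ 3) :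
    ∃ g : Module.Dual k V, g ≠ 0 ∧ ∀ v ∈ P, g v = 0 := by
  have hlt : P < ⊤ := by
    rw [lt_top_iff_ne_top]
    rintro rfl
    rw [finrank_top] at hP
    simp at hP
  have hx : ∃ x : V, x ∉ P := by
    by_contra hcon
    push Not at hcon
    exact hlt.ne (eq_top_iff.mpr fun x _ => hcon x)
  obtain ⟨x, hx⟩ := hx
  obtain ⟨g, hg, hgP⟩ := Submodule.exists_dual_map_eq_bot_of_notMem hx inferInstance
  have hg0 : g ≠ 0 := by
    rintro rfl
    exact hg rfl
  refine ⟨g, hg0, fun v hv => ?_⟩
  have : g v ∈ P.map g := Submodule.mem_map_of_mem hv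
  rw [hgP] at this
  exact (Submodule.mem_bot k).mp this

theorem finrank_sup_span_le (L : Submodule k V) (hL : Module.finrank k L = 2) (v : V) :
    Module.finrank k (L ⊔ Submodule.span k {v} : Submodule k V) ≤ 3 := by
  have h1 := Submodule.finrank_add_le_finrank_add_finrank L (Submodule.span k {v})
  have h2 : Module.finrank k (Submodule.span k ({v} : Set V)) ≤ 1 := by
    have := finrank_span_le_card (R := k) ({v} : Set V)
    simpa using this
  omega

/-- a plane through a line and a point -/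
theorem exists_plane_line_point (L : Submodule k V) (hL : Module.finrank k L = 2) (v : V) :
    ∃ g : Module.Dual k V, g ≠ 0 ∧ (∀ w ∈ L, g w = 0) ∧ g v = 0 := by
  obtain ⟨g, hg, hgP⟩ := exists_plane _ (finrank_sup_span_le L hL v)
  refine ⟨g, hg, fun w hw => hgP w (Submodule.mem_sup_left hw), hgP v ?_⟩
  exact Submodule.mem_sup_right (Submodule.mem_span_singleton_self v)

theorem sup_eq_top_of_inf_eq_bot {L L' : Submodule k V} (hL : Module.finrank k L = 2)
    (hL' : Module.finrank k L' = 2) (h : L ⊓ L' = ⊥) : L ⊔ L' = ⊤ := by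
  have h1 := Submodule.finrank_sup_add_finrank_inf_eq L L'
  rw [h, finrank_bot, hL, hL'] at h1
  apply Submodule.eq_top_of_finrank_eq
  rw [Module.finrank_fin_fun]
  omega

theorem finrank_sup_le_of_inf_ne_bot {L L' : Submodule k V} (hL : Module.finrank k L = 2)
    (hL' : Module.finrank k L' = 2) (h : L ⊓ L' ≠ ⊥) :
    Module.finrank k (L ⊔ L' : Submodule k V) ≤ 3 := by
  have h1 := Submodule.finrank_sup_add_finrank_inf_eq L L'
  have h2 : 0 < Module.finrank k (L ⊓ L' : Submodule k V) := by
    rw [Module.finrank_pos_iff_exists_ne_zero]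
    obtain ⟨x, hx, hx0⟩ := (Submodule.ne_bot_iff _).mp h
    exact ⟨⟨x, hx⟩, fun hh => hx0 (congrArg Subtype.val hh)⟩
  rw [hL, hL'] at h1
  omega

/-- the plane of a nonzero functional -/
theorem finrank_ker_of_ne_zero {g : Module.Dual k V} (hg : g ≠ 0) :
    Module.finrank k (LinearMap.ker g) = 3 := by
  have := Module.Dual.finrank_ker_add_one_of_ne_zero hg
  rw [Module.finrank_fin_fun] at this
  omega

end Groth.Agent.Lib.helper22.CB
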