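import Groth.Agent.Lib.Helper22.CB4

set_option autoImplicit false
open MvPolynomial
open scoped Classical

namespace Groth.Agent.Lib.helper22.CB

universe u

variable {k : Type u} [Field k]

local notation "V" => (Fin 4 → k)
local notation "PP" => Projectivization k (Fin 4 → k)

/-- all points on one plane -/
def Coplanar (Z : Finset PP) : Prop :=
  ∃ g : Module.Dual k V, g ≠ 0 ∧ ∀ z ∈ Z, g z.rep = 0

/-- the points on a plane -/
noncomputable def onP (Z : Finset PP) (g : Module.Dual k V) : Finset PP :=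
  Z.filter (fun z => g z.rep = 0)

/-- the points off a plane -/
noncomputable def offP (Z : Finset PP) (g : Module.Dual k V) : Finset PP :=
  Z.filter (fun z => g z.rep ≠ 0)

theorem mem_onP {Z : Finset PP} {g : Module.Dual k V} {z : PP} :
    z ∈ onP Z g ↔ z ∈ Z ∧ g z.rep = 0 := by
  simp [onP]

theorem mem_offP {Z : Finset PP} {g : Module.Dual k V} {z : PP} :
    z ∈ offP Z g ↔ z ∈ Z ∧ g z.rep ≠ 0 := by
  simp [offP]

theorem card_onP_add_card_offP (Z : Finset PP) (g : Module.Dual k V) :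
    (onP Z g).card + (offP Z g).card = Z.card := by
  have hd : Disjoint (onP Z g) (offP Z g) := by
    rw [Finset.disjoint_left]
    intro z hz hz'
    exact (mem_offP.mp hz').2 (mem_onP.mp hz).2
  rw [← Finset.card_union_of_disjoint hd]
  congr 1
  ext z
  rw [Finset.mem_union, mem_onP, mem_offP]
  constructor
  · rintro (h | h) <;> exact h.1
  · intro h
    by_cases hg : g z.rep = 0
    · exact Or.inl ⟨h, hg⟩
    · exact Or.inr ⟨h, hg⟩

theorem coplanar_of_subset_line {Z : Finset PP} {L : Submodule k V}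
    (hL : Module.finrank k L = 2) (h : ∀ z ∈ Z, z.rep ∈ L) : Coplanar Z := by
  obtain ⟨g, hg, hgL, -⟩ := exists_plane_line_point L hL 0
  exact ⟨g, hg, fun z hz => hgL _ (h z hz)⟩

theorem exists_off_line {Z : Finset PP} (hnc : ¬ Coplanar Z) {L : Submodule k V}
    (hL : Module.finrank k L = 2) : ∃ q ∈ Z, q.rep ∉ L := by
  by_contra hcon
  push Not at hcon
  exact hnc (coplanar_of_subset_line hL hcon)

theorem offP_nonempty {Z : Finset PP} (hnc : ¬ Coplanar Z) {g : Module.Dual k V} (hg : g ≠ 0) :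
    (offP Z g).Nonempty := by
  by_contra hcon
  rw [Finset.not_nonempty_iff_eq_empty] at hcon
  apply hnc
  refine ⟨g, hg, fun z hz => ?_⟩
  by_contra hne
  have : z ∈ offP Z g := mem_offP.mpr ⟨hz, hne⟩
  rw [hcon] at this
  simp at this

/-- a plane with many points has collinear residual -/
theorem star {n : ℕ} {Z : Finset PP} (h : CBP n Z) (hcard : Z.card ≤ 3 * n + 1)
    (hnc : ¬ Coplanar Z) {g : Module.Dual k V} (hg : g ≠ 0) (hc : n + 2 ≤ (onP Z g).card) :
    2 ≤ n ∧ n + 1 ≤ (offP Z g).card ∧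
      ∃ L : Submodule k V, Module.finrank k L = 2 ∧ ∀ a ∈ offP Z g, a.rep ∈ L := by
  have hsplit := card_onP_add_card_offP Z g
  have hne := offP_nonempty hnc hg
  rcases n with _ | m
  · exfalso
    have := Finset.card_pos.mpr hne
    omega
  have hres : CBP m (offP Z g) := h.residual g
  have h1 := hres.card_ge hne
  have hm : 1 ≤ m := by omega
  obtain ⟨L, hL, hZL⟩ := hres.collinear hne hm (by omega)
  exact ⟨by omega, by omega, L, hL, hZL⟩

theorem eq_of_rep_smul {a b : PP} (c : k) (h : a.rep = c • b.rep) : a = b := by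
  rw [← Projectivization.mk_rep a, ← Projectivization.mk_rep b, Projectivization.mk_eq_mk_iff']
  exact ⟨c, h.symm⟩

/-- on two skew lines, each line carries at least `n + 2` points -/
theorem skew_count {n : ℕ} {Z : Finset PP} (hn : 1 ≤ n) (h : CBP n Z) {W₁ W₂ : Submodule k V}
    (hW : W₁ ⊓ W₂ = ⊥) (hZ : ∀ z ∈ Z, z.rep ∈ W₁ ∨ z.rep ∈ W₂) {z : PP} (hz : z ∈ Z)
    (hz1 : z.rep ∈ W₁) : n + 2 ≤ (Z.filter (fun t => t.rep ∈ W₁)).card := by
  by_contra hlt
  push Not at hlt
  obtain ⟨m, rfl⟩ : ∃ m, n = m + 1 := ⟨n - 1, by omega⟩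
  set Z₁ := Z.filter (fun t => t.rep ∈ W₁) with hZ₁
  have hzZ₁ : z ∈ Z₁ := Finset.mem_filter.mpr ⟨hz, hz1⟩
  set R := Z₁.erase z with hR
  have hRcard : R.card ≤ m + 1 := by
    rw [hR, Finset.card_erase_of_mem hzZ₁]
    omega
  have hzW₂ : z.rep ∉ W₂ := by
    intro hz2
    have : z.rep ∈ W₁ ⊓ W₂ := ⟨hz1, hz2⟩
    rw [hW] at this
    exact z.rep_nonzero ((Submodule.mem_bot k).mp this)
  apply h.not_coverable hz
  by_cases hRe : R = ∅
  · obtain ⟨p, hp, hpW, hpz⟩ := exists_linear_form W₂ z.rep hzW₂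
    have hc1 : Coverable z (Z.filter (fun t => t.rep ∈ W₂)) 1 :=
      ⟨p, hp, fun s hs => hpW _ (Finset.mem_filter.mp hs).2, hpz⟩
    have hc2 := hc1.union (coverable_empty z m)
    rw [add_comm] at hc2
    refine hc2.mono ?_
    intro t ht
    rw [Finset.mem_erase] at ht
    rw [Finset.mem_union]
    left
    rw [Finset.mem_filter]
    refine ⟨ht.2, ?_⟩
    rcases hZ t ht.2 with h1 | h2
    · exfalso
      have : t ∈ R := Finset.mem_erase.mpr ⟨ht.1, Finset.mem_filter.mpr ⟨ht.2, h1⟩⟩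
      rw [hRe] at this
      simp at this
    · exact h2
  · obtain ⟨z₁, hz₁R⟩ := Finset.nonempty_of_ne_empty hRe
    have hz₁ne : z₁ ≠ z := (Finset.mem_erase.mp hz₁R).1
    have hz₁W : z₁.rep ∈ W₁ := (Finset.mem_filter.mp (Finset.mem_erase.mp hz₁R).2).2
    have hzP : z.rep ∉ W₂ ⊔ Submodule.span k {z₁.rep} := by
      intro hmem
      obtain ⟨w, hw, y, hy, hwy⟩ := Submodule.mem_sup.mp hmem
      obtain ⟨c, rfl⟩ := Submodule.mem_span_singleton.mp hy
      have hw1 : w ∈ W₁ := by
        have : w = z.rep - c • z₁.rep := by rw [← hwy]; abel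
        rw [this]
        exact Submodule.sub_mem _ hz1 (Submodule.smul_mem _ _ hz₁W)
      have hw0 : w = 0 := by
        have : w ∈ W₁ ⊓ W₂ := ⟨hw1, hw⟩
        rw [hW] at this
        exact (Submodule.mem_bot k).mp this
      rw [hw0, zero_add] at hwy
      exact hz₁ne (eq_of_rep_smul c hwy.symm).symm
    obtain ⟨p, hp, hpP, hpz⟩ := exists_linear_form _ z.rep hzP
    have hc1 : Coverable z (Z.filter (fun t => t.rep ∈ W₂ ⊔ Submodule.span k {z₁.rep})) 1 :=
      ⟨p, hp, fun s hs => hpP _ (Finset.mem_filter.mp hs).2, hpz⟩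
    have hzR' : z ∉ R.erase z₁ := fun hh =>
      Finset.notMem_erase z Z₁ (Finset.mem_of_mem_erase hh)
    have hc2 : Coverable z (R.erase z₁) m := by
      apply coverable_of_card_le z _ hzR'
      rw [Finset.card_erase_of_mem hz₁R]
      omega
    have hc3 := hc1.union hc2
    rw [add_comm] at hc3
    refine hc3.mono ?_
    intro t ht
    rw [Finset.mem_erase] at ht
    rw [Finset.mem_union, Finset.mem_filter]
    by_cases ht1 : t = z₁
    · left
      refine ⟨ht.2, ?_⟩
      rw [ht1]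
      exact Submodule.mem_sup_right (Submodule.mem_span_singleton_self _)
    rcases hZ t ht.2 with h1 | h2
    · right
      exact Finset.mem_erase.mpr ⟨ht1, Finset.mem_erase.mpr ⟨ht.1, Finset.mem_filter.mpr ⟨ht.2, h1⟩⟩⟩
    · left
      exact ⟨ht.2, Submodule.mem_sup_left h2⟩

end Groth.Agent.Lib.helper22.CB
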