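import Groth.Agent.Lib.Helper22.CB5

set_option autoImplicit false
open MvPolynomial
open scoped Classical

namespace Groth.Agent.Lib.helper22.CB

universe u

variable {k : Type u} [Field k]

local notation "V" => (Fin 4 → k)
local notation "PP" => Projectivization k (Fin 4 → k)

/-- all points on two skew lines, each with at least `n + 2` points -/
def TwoSkew (n : ℕ) (Z : Finset PP) : Prop :=
  ∃ W₁ W₂ : Submodule k V, Module.finrank k W₁ = 2 ∧ Module.finrank k W₂ = 2 ∧ W₁ ⊓ W₂ = ⊥ ∧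
    (∀ z ∈ Z, z.rep ∈ W₁ ∨ z.rep ∈ W₂) ∧
    n + 2 ≤ (Z.filter (fun z => z.rep ∈ W₁)).card ∧ n + 2 ≤ (Z.filter (fun z => z.rep ∈ W₂)).card

/-- the span of two distinct points on a line is the line -/
theorem span_pair_eq_line {a b : PP} (hab : a ≠ b) {L : Submodule k V}
    (hL : Module.finrank k L = 2) (ha : a.rep ∈ L) (hb : b.rep ∈ L) :
    Submodule.span k ({a.rep, b.rep} : Set V) = L := by
  have h1 : Submodule.span k ({a.rep, b.rep} : Set V) ≤ L := by
    rw [Submodule.span_le]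
    intro x hx
    rcases hx with rfl | rfl
    · exact ha
    · exact hb
  exact Submodule.eq_of_le_of_finrank_eq h1 (by rw [finrank_span_pair hab, hL])

theorem line_eq_of_two_points {a b : PP} (hab : a ≠ b) {L L' : Submodule k V}
    (hL : Module.finrank k L = 2) (hL' : Module.finrank k L' = 2) (ha : a.rep ∈ L)
    (hb : b.rep ∈ L) (ha' : a.rep ∈ L') (hb' : b.rep ∈ L') : L = L' := by
  rw [← span_pair_eq_line hab hL ha hb, span_pair_eq_line hab hL' ha' hb']

/-- a plane with many points meeting a line with many points off it: case (I) -/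
theorem case_one {n : ℕ} {Z : Finset PP} (hn : 1 ≤ n) (h : CBP n Z) (hcard : Z.card ≤ 3 * n + 1)
    (hnc : ¬ Coplanar Z) {g₀ : Module.Dual k V} (hg₀ : g₀ ≠ 0)
    (hc₀ : n + 2 ≤ (onP Z g₀).card) : TwoSkew n Z := by
  obtain ⟨hn2, hb, L, hL, hoffL⟩ := star h hcard hnc hg₀ hc₀
  obtain ⟨q, hqZ, hqL⟩ := exists_off_line hnc hL
  obtain ⟨g₁, hg₁, hg₁L, hg₁q⟩ := exists_plane_line_point L hL q.rep
  have hc₁ : n + 2 ≤ (onP Z g₁).card := by
    have hsub : insert q (offP Z g₀) ⊆ onP Z g₁ := by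
      intro t ht
      rw [Finset.mem_insert] at ht
      rcases ht with rfl | ht
      · exact mem_onP.mpr ⟨hqZ, hg₁q⟩
      · exact mem_onP.mpr ⟨(mem_offP.mp ht).1, hg₁L _ (hoffL t ht)⟩
    have hq : q ∉ offP Z g₀ := fun hh => hqL (hoffL q hh)
    have := Finset.card_le_card hsub
    rw [Finset.card_insert_of_notMem hq] at this
    omega
  obtain ⟨-, hb₁, L₂, hL₂, hoffL₂⟩ := star h hcard hnc hg₁ hc₁
  have hdisj : Disjoint (offP Z g₀) (offP Z g₁) := by
    rw [Finset.disjoint_left]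
    intro t ht ht'
    exact (mem_offP.mp ht').2 (hg₁L _ (hoffL t ht))
  by_cases hinf : L ⊓ L₂ = ⊥
  · -- the skew case
    have htop := sup_eq_top_of_inf_eq_bot hL hL₂ hinf
    have aux : ∀ z' ∈ offP Z g₀, ∃ g' : Module.Dual k V, g' z'.rep = 0 ∧
        (∀ w ∈ L₂, g' w = 0) ∧ (∀ z'' ∈ offP Z g₀, z'' ≠ z' → g' z''.rep ≠ 0) ∧
        (∀ a ∈ Z, a.rep ∉ L → g' a.rep = 0) := by
      intro z' hz'
      obtain ⟨g', hg', hg'L, hg'z⟩ := exists_plane_line_point L₂ hL₂ z'.rep
      have hz'L : z'.rep ∈ L := hoffL z' hz'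
      have hi : ∀ z'' ∈ offP Z g₀, z'' ≠ z' → g' z''.rep ≠ 0 := by
        intro z'' hz'' hne hzero
        apply hg'
        have hspan := span_pair_eq_line hne hL (hoffL z'' hz'') hz'L
        have hvanL : ∀ w ∈ L, g' w = 0 := by
          intro w hw
          rw [← hspan, Submodule.mem_span_pair] at hw
          obtain ⟨α, β, rfl⟩ := hw
          rw [map_add, map_smul, map_smul, hzero, hg'z, smul_zero, smul_zero, add_zero]
        apply LinearMap.ext
        intro v
        have hv : v ∈ L ⊔ L₂ := by rw [htop]; trivial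
        obtain ⟨u, hu, w, hw, rfl⟩ := Submodule.mem_sup.mp hv
        rw [map_add, hvanL u hu, hg'L w hw, add_zero]
        rfl
      have hc' : n + 2 ≤ (onP Z g').card := by
        have hsub : insert z' (offP Z g₁) ⊆ onP Z g' := by
          intro t ht
          rw [Finset.mem_insert] at ht
          rcases ht with rfl | ht
          · exact mem_onP.mpr ⟨(mem_offP.mp hz').1, hg'z⟩
          · exact mem_onP.mpr ⟨(mem_offP.mp ht).1, hg'L _ (hoffL₂ t ht)⟩
        have hz'not : z' ∉ offP Z g₁ := fun hh => (mem_offP.mp hh).2 (hg₁L _ hz'L)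
        have := Finset.card_le_card hsub
        rw [Finset.card_insert_of_notMem hz'not] at this
        omega
      obtain ⟨-, -, L₃, hL₃, hoffL₃⟩ := star h hcard hnc hg' hc'
      -- two distinct points of `offP Z g₀` other than `z'`
      have hcard2 : 1 < ((offP Z g₀).erase z').card := by
        rw [Finset.card_erase_of_mem hz']
        omega
      obtain ⟨a, ha, b, hb', hab⟩ := Finset.one_lt_card.mp hcard2
      rw [Finset.mem_erase] at ha hb'
      have haoff : a ∈ offP Z g' := mem_offP.mpr ⟨(mem_offP.mp ha.2).1, hi a ha.2 ha.1⟩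
      have hboff : b ∈ offP Z g' := mem_offP.mpr ⟨(mem_offP.mp hb'.2).1, hi b hb'.2 hb'.1⟩
      have hLL₃ : L = L₃ := line_eq_of_two_points hab hL hL₃ (hoffL a ha.2) (hoffL b hb'.2)
        (hoffL₃ a haoff) (hoffL₃ b hboff)
      refine ⟨g', hg'z, hg'L, hi, ?_⟩
      intro x hxZ hxL
      by_contra hne
      apply hxL
      rw [hLL₃]
      exact hoffL₃ x (mem_offP.mpr ⟨hxZ, hne⟩)
    -- two distinct points on `L`
    have hcard2 : 1 < (offP Z g₀).card := by omega
    obtain ⟨z₁, hz₁, z₂, hz₂, hz₁₂⟩ := Finset.one_lt_card.mp hcard2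
    obtain ⟨g'₁, hg'₁z, hg'₁L, hg'₁i, hg'₁a⟩ := aux z₁ hz₁
    obtain ⟨g'₂, hg'₂z, hg'₂L, hg'₂i, hg'₂a⟩ := aux z₂ hz₂
    have hspan := span_pair_eq_line hz₁₂ hL (hoffL z₁ hz₁) (hoffL z₂ hz₂)
    have hall : ∀ a ∈ Z, a.rep ∈ L ∨ a.rep ∈ L₂ := by
      intro a haZ
      by_cases haL : a.rep ∈ L
      · exact Or.inl haL
      right
      have h1 := hg'₁a a haZ haL
      have h2 := hg'₂a a haZ haL
      have hv : a.rep ∈ L ⊔ L₂ := by rw [htop]; trivial
      obtain ⟨u, hu, w, hw, huw⟩ := Submodule.mem_sup.mp hv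
      have hu' := hu
      rw [← hspan, Submodule.mem_span_pair] at hu'
      obtain ⟨α, β, hαβ⟩ := hu'
      rw [← huw, map_add, hg'₁L w hw, add_zero, ← hαβ, map_add, map_smul, map_smul, hg'₁z,
        smul_zero, zero_add, smul_eq_mul] at h1
      rw [← huw, map_add, hg'₂L w hw, add_zero, ← hαβ, map_add, map_smul, map_smul, hg'₂z,
        smul_zero, add_zero, smul_eq_mul] at h2
      have hβ : β = 0 := (mul_eq_zero.mp h1).resolve_right (hg'₁i z₂ hz₂ (Ne.symm hz₁₂))
      have hα : α = 0 := (mul_eq_zero.mp h2).resolve_right (hg'₂i z₁ hz₁ hz₁₂)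
      rw [hα, hβ, zero_smul, zero_smul, add_zero] at hαβ
      rw [← huw, ← hαβ, zero_add]
      exact hw
    obtain ⟨y, hy⟩ : (offP Z g₁).Nonempty := by
      rw [← Finset.card_pos]
      omega
    refine ⟨L, L₂, hL, hL₂, hinf, hall, ?_, ?_⟩
    · exact skew_count hn h hinf hall (mem_offP.mp hz₁).1 (hoffL z₁ hz₁)
    · exact skew_count hn h (by rw [inf_comm]; exact hinf) (fun a ha => (hall a ha).symm)
        (mem_offP.mp hy).1 (hoffL₂ y hy)
  · -- the two lines meet: too many points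
    exfalso
    obtain ⟨g₃, hg₃, hg₃P⟩ := exists_plane _ (finrank_sup_le_of_inf_ne_bot hL hL₂ hinf)
    have hsub : offP Z g₀ ∪ offP Z g₁ ⊆ onP Z g₃ := by
      intro t ht
      rcases Finset.mem_union.mp ht with ht | ht
      · exact mem_onP.mpr ⟨(mem_offP.mp ht).1, hg₃P _ (Submodule.mem_sup_left (hoffL t ht))⟩
      · exact mem_onP.mpr ⟨(mem_offP.mp ht).1, hg₃P _ (Submodule.mem_sup_right (hoffL₂ t ht))⟩
    have hc₃ : n + 2 ≤ (onP Z g₃).card := by
      have := Finset.card_le_card hsub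
      rw [Finset.card_union_of_disjoint hdisj] at this
      omega
    obtain ⟨-, hb₃, -⟩ := star h hcard hnc hg₃ hc₃
    have hsplit := card_onP_add_card_offP Z g₃
    have := Finset.card_le_card hsub
    rw [Finset.card_union_of_disjoint hdisj] at this
    omega

end Groth.Agent.Lib.helper22.CB
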