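import Groth.Agent.Lib.Helper22.CB6

set_option autoImplicit false
open MvPolynomial
open scoped Classical

namespace Groth.Agent.Lib.helper22.CB

universe u

variable {k : Type u} [Field k]

local notation "V" => (Fin 4 → k)
local notation "PP" => Projectivization k (Fin 4 → k)

/-- a line with `n + 1` points and a point off it give a plane with `n + 2` points -/
theorem exists_big_plane {n : ℕ} {Z T : Finset PP} (hTZ : T ⊆ Z) {L : Submodule k V}
    (hL : Module.finrank k L = 2) (hTL : ∀ t ∈ T, t.rep ∈ L) (hT : n + 1 ≤ T.card) {q : PP}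
    (hq : q ∈ Z) (hqL : q.rep ∉ L) :
    ∃ g : Module.Dual k V, g ≠ 0 ∧ n + 2 ≤ (onP Z g).card := by
  obtain ⟨g, hg, hgL, hgq⟩ := exists_plane_line_point L hL q.rep
  refine ⟨g, hg, ?_⟩
  have hsub : insert q T ⊆ onP Z g := by
    intro t ht
    rw [Finset.mem_insert] at ht
    rcases ht with rfl | ht
    · exact mem_onP.mpr ⟨hq, hgq⟩
    · exact mem_onP.mpr ⟨hTZ ht, hgL _ (hTL t ht)⟩
  have hqT : q ∉ T := fun hh => hqL (hTL q hh)
  have := Finset.card_le_card hsub
  rw [Finset.card_insert_of_notMem hqT] at this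
  omega

theorem finrank_span_three_le (a b c : V) :
    Module.finrank k (Submodule.span k ({a, b, c} : Set V)) ≤ 3 := by
  have h := finrank_span_finset_le_card (R := k) ({a, b, c} : Finset V)
  have h2 : (({a, b, c} : Finset V) : Set V) = {a, b, c} := by
    ext x; simp
  rw [h2] at h
  exact h.trans (Finset.card_le_three)

theorem main2 : ∀ n : ℕ, 1 ≤ n → ∀ Z : Finset PP, CBP n Z → Z.card ≤ 3 * n + 1 →
    Coplanar Z ∨ TwoSkew n Z := by
  intro n
  induction n with
  | zero => intro h; omega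
  | succ m ih =>
    intro hn Z h hcard
    by_cases hnc : Coplanar Z
    · exact Or.inl hnc
    right
    by_cases hI : ∃ g : Module.Dual k V, g ≠ 0 ∧ (m + 1) + 2 ≤ (onP Z g).card
    · obtain ⟨g₀, hg₀, hc₀⟩ := hI
      exact case_one hn h hcard hnc hg₀ hc₀
    exfalso
    push Not at hI
    -- `Z` is nonempty with at least three points
    have hZne : Z.Nonempty := by
      by_contra hcon
      rw [Finset.not_nonempty_iff_eq_empty] at hcon
      apply hnc
      obtain ⟨g, hg, -⟩ := exists_plane (⊥ : Submodule k V) (by simp)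
      exact ⟨g, hg, fun z hz => by rw [hcon] at hz; simp at hz⟩
    have hZ3 := h.card_ge hZne
    obtain ⟨a, ha, b, hb, c, hc, hab, hac, hbc⟩ := Finset.two_lt_card.mp (by omega : 2 < Z.card)
    obtain ⟨g₀, hg₀, hg₀P⟩ := exists_plane _ (finrank_span_three_le a.rep b.rep c.rep)
    have hc₀ : 3 ≤ (onP Z g₀).card := by
      have hsub : ({a, b, c} : Finset PP) ⊆ onP Z g₀ := by
        intro t ht
        simp only [Finset.mem_insert, Finset.mem_singleton] at ht
        rcases ht with rfl | rfl | rfl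
        · exact mem_onP.mpr ⟨ha, hg₀P _ (Submodule.subset_span (by simp))⟩
        · exact mem_onP.mpr ⟨hb, hg₀P _ (Submodule.subset_span (by simp))⟩
        · exact mem_onP.mpr ⟨hc, hg₀P _ (Submodule.subset_span (by simp))⟩
      have h3 : ({a, b, c} : Finset PP).card = 3 := by
        rw [Finset.card_insert_of_notMem (by simp [hab, hac]),
          Finset.card_insert_of_notMem (by simp [hbc]), Finset.card_singleton]
      have := Finset.card_le_card hsub
      omega
    have hsplit := card_onP_add_card_offP Z g₀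
    have hres : CBP m (offP Z g₀) := h.residual g₀
    have hne := offP_nonempty hnc hg₀
    have hge := hres.card_ge hne
    have hm : 1 ≤ m := by omega
    have hoffsub : offP Z g₀ ⊆ Z := Finset.filter_subset _ _
    -- a line with many points and a point off it
    have key : ∃ (T : Finset PP) (L : Submodule k V) (q : PP), T ⊆ Z ∧ Module.finrank k L = 2 ∧
        (∀ t ∈ T, t.rep ∈ L) ∧ (m + 1) + 1 ≤ T.card ∧ q ∈ Z ∧ q.rep ∉ L := by
      rcases ih hm (offP Z g₀) hres (by omega) with hcop | htwo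
      · obtain ⟨g', hg', hg'Z⟩ := hcop
        have hle : (offP Z g₀).card ≤ (onP Z g').card := by
          apply Finset.card_le_card
          intro t ht
          exact mem_onP.mpr ⟨hoffsub ht, hg'Z t ht⟩
        have := hI g' hg'
        obtain ⟨L, hL, hZL⟩ := hres.collinear hne hm (by omega)
        obtain ⟨q, hqZ, hqL⟩ := exists_off_line hnc hL
        exact ⟨offP Z g₀, L, q, hoffsub, hL, hZL, by omega, hqZ, hqL⟩
      · obtain ⟨W₁, W₂, hW₁, hW₂, hinf, hall, hc1, hc2⟩ := htwo
        obtain ⟨q, hq⟩ : ((offP Z g₀).filter (fun z => z.rep ∈ W₂)).Nonempty := by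
          rw [← Finset.card_pos]
          omega
        rw [Finset.mem_filter] at hq
        refine ⟨(offP Z g₀).filter (fun z => z.rep ∈ W₁), W₁, q,
          (Finset.filter_subset _ _).trans hoffsub, hW₁,
          fun t ht => (Finset.mem_filter.mp ht).2, by omega, hoffsub hq.1, ?_⟩
        intro hq1
        have : q.rep ∈ W₁ ⊓ W₂ := ⟨hq1, hq.2⟩
        rw [hinf] at this
        exact q.rep_nonzero ((Submodule.mem_bot k).mp this)
    obtain ⟨T, L, q, hTZ, hL, hTL, hT, hq, hqL⟩ := key
    obtain ⟨g, hg, hgc⟩ := exists_big_plane hTZ hL hTL hT hq hqL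
    have := hI g hg
    omega

theorem main3 (Z : Finset (Projectivization k (Fin 4 → k))) (n : ℕ) (hn : 1 ≤ n)
    (hCB : (∀ z ∈ Z, ∀ p : MvPolynomial (Fin 4) k, p.IsHomogeneous n →
      (∀ z' ∈ Z, z' ≠ z → MvPolynomial.eval z'.rep p = 0) → MvPolynomial.eval z.rep p = 0))
    (hcard : Z.card ≤ 3 * n + 1) :
    (∃ W : Submodule k (Fin 4 → k), Module.finrank k ↥W = 3 ∧ ∀ z ∈ Z, z.submodule ≤ W) ∨
      (∃ W₁ W₂ : Submodule k (Fin 4 → k), Module.finrank k ↥W₁ = 2 ∧ Module.finrank k ↥W₂ = 2 ∧
        W₁ ⊓ W₂ = ⊥ ∧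
        (∀ z ∈ Z, z.submodule ≤ W₁ ∨ z.submodule ≤ W₂) ∧
        n + 1 ≤ Set.ncard {z : Projectivization k (Fin 4 → k) | z ∈ Z ∧ z.submodule ≤ W₁} ∧
        n + 1 ≤ Set.ncard {z : Projectivization k (Fin 4 → k) | z ∈ Z ∧ z.submodule ≤ W₂} ∧
        2 * n + 3 ≤ Z.card) := by
  rcases main2 n hn Z hCB hcard with hcop | htwo
  · left
    obtain ⟨g, hg, hgZ⟩ := hcop
    refine ⟨LinearMap.ker g, finrank_ker_of_ne_zero hg, fun z hz => ?_⟩
    rw [submodule_le_iff]
    exact hgZ z hz
  · right
    obtain ⟨W₁, W₂, hW₁, hW₂, hinf, hall, hc1, hc2⟩ := htwo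
    have e1 : {z : Projectivization k (Fin 4 → k) | z ∈ Z ∧ z.submodule ≤ W₁} =
        ((Z.filter (fun z => z.rep ∈ W₁) : Finset PP) : Set PP) := by
      ext z
      simp [submodule_le_iff]
    have e2 : {z : Projectivization k (Fin 4 → k) | z ∈ Z ∧ z.submodule ≤ W₂} =
        ((Z.filter (fun z => z.rep ∈ W₂) : Finset PP) : Set PP) := by
      ext z
      simp [submodule_le_iff]
    refine ⟨W₁, W₂, hW₁, hW₂, hinf, ?_, ?_, ?_, ?_⟩
    · intro z hz
      rw [submodule_le_iff, submodule_le_iff]
      exact hall z hz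
    · rw [e1, Set.ncard_coe_finset]
      omega
    · rw [e2, Set.ncard_coe_finset]
      omega
    · have hd : Disjoint (Z.filter (fun z => z.rep ∈ W₁)) (Z.filter (fun z => z.rep ∈ W₂)) := by
        rw [Finset.disjoint_left]
        intro t ht ht'
        have : t.rep ∈ W₁ ⊓ W₂ := ⟨(Finset.mem_filter.mp ht).2, (Finset.mem_filter.mp ht').2⟩
        rw [hinf] at this
        exact t.rep_nonzero ((Submodule.mem_bot k).mp this)
      have hsub : Z.filter (fun z => z.rep ∈ W₁) ∪ Z.filter (fun z => z.rep ∈ W₂) ⊆ Z := by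
        intro t ht
        rcases Finset.mem_union.mp ht with ht | ht <;> exact (Finset.mem_filter.mp ht).1
      have := Finset.card_le_card hsub
      rw [Finset.card_union_of_disjoint hd] at this
      omega

end Groth.Agent.Lib.helper22.CB
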