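import Mathlib
import Groth.Prelude.Def_W4sga3xiixivxvCartan

set_option autoImplicit false
universe u
open scoped TensorProduct

namespace Groth.Agent.Lib.helper22

namespace CartanRel

section Nil

variable {A : Type u} [CommRing A]

/-- an endomorphism of a finite free module which is nilpotent on all fibres is nilpotent -/
theorem isNilpotent_of_fibrewise_free {n : ℕ} (Φ : Module.End A (Fin n → A))
    (h : ∀ p : PrimeSpectrum A, IsNilpotent (Φ.baseChange p.asIdeal.ResidueField)) :
    IsNilpotent Φ := by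
  classical
  set r : Polynomial A := Φ.charpoly - Polynomial.X ^ n with hr
  have hcoef : ∀ i, IsNilpotent (r.coeff i) := by
    intro i
    rw [← mem_nilradical, nilradical_eq_sInf, Ideal.mem_sInf]
    intro P hP
    have : P.IsPrime := hP
    haveI : Nontrivial A := (algebraMap A P.ResidueField).domain_nontrivial
    have h1 := (h ⟨P, hP⟩).charpoly_eq_X_pow_finrank
    rw [LinearMap.charpoly_baseChange] at h1
    have h2 : Module.finrank P.ResidueField (P.ResidueField ⊗[A] (Fin n → A)) = n := by
      rw [Module.finrank_baseChange]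
      simp
    rw [h2] at h1
    have h3 := congrArg (fun q => q.coeff i) h1
    simp only [Polynomial.coeff_map, Polynomial.coeff_X_pow] at h3
    rw [← Ideal.ker_algebraMap_residueField P, RingHom.mem_ker, hr, Polynomial.coeff_sub,
      Polynomial.coeff_X_pow, map_sub, h3]
    split_ifs <;> simp
  have hrn : IsNilpotent r := (Polynomial.isNilpotent_iff).mpr hcoef
  have h4 : IsNilpotent (Polynomial.aeval Φ r) := hrn.map (Polynomial.aeval Φ)
  have h5 : Polynomial.aeval Φ r = - Φ ^ n := by
    rw [hr, map_sub, LinearMap.aeval_self_charpoly, map_pow, Polynomial.aeval_X, zero_sub]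
  rw [h5, isNilpotent_neg_iff] at h4
  exact h4.of_pow

/-- an endomorphism of a finite projective module which is nilpotent on all fibres is nilpotent -/
theorem isNilpotent_of_fibrewise {P : Type u} [AddCommGroup P] [Module A P] [Module.Finite A P]
    [Module.Projective A P] (φ : Module.End A P)
    (h : ∀ p : PrimeSpectrum A, IsNilpotent (φ.baseChange p.asIdeal.ResidueField)) :
    IsNilpotent φ := by
  obtain ⟨n, π, hπ⟩ := Module.Finite.exists_fin' A P
  obtain ⟨s, hs⟩ := π.exists_rightInverse_of_surjective (LinearMap.range_eq_top.mpr hπ)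
  have hs' : ∀ x, π (s x) = x := fun x => LinearMap.congr_fun hs x
  set Φ : Module.End A (Fin n → A) := s ∘ₗ φ ∘ₗ π with hΦdef
  have hpow : ∀ k : ℕ, Φ ^ (k + 1) = s ∘ₗ (φ ^ (k + 1)) ∘ₗ π := by
    intro k
    induction k with
    | zero => simp [hΦdef]
    | succ k ih =>
      rw [pow_succ, ih]
      apply LinearMap.ext
      intro x
      simp only [Module.End.mul_apply, LinearMap.comp_apply, hΦdef, hs']
      rw [pow_succ (n := k + 1), Module.End.mul_apply]
  have hΦ : IsNilpotent Φ := by
    apply isNilpotent_of_fibrewise_free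
    intro p
    obtain ⟨k, hk⟩ := h p
    refine ⟨k + 1, ?_⟩
    rw [← LinearMap.baseChange_pow, hpow, LinearMap.baseChange_comp, LinearMap.baseChange_comp,
      LinearMap.baseChange_pow, pow_succ, hk]
    simp
  obtain ⟨k, hk⟩ := hΦ
  refine ⟨k + 1, ?_⟩
  have h1 : φ ^ (k + 1) = π ∘ₗ (Φ ^ (k + 1)) ∘ₗ s := by
    rw [hpow]
    apply LinearMap.ext
    intro x
    simp only [LinearMap.comp_apply, hs']
  rw [h1, pow_succ, hk]
  simp

end Nil

section Fibre

variable {A : Type u} [CommRing A] {L : Type u} [LieRing L] [LieAlgebra A L] [Module.Finite A L]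
variable (H : LieSubalgebra A L) (c : L) (hc : c ∈ H) (p : PrimeSpectrum A)

include hc in
theorem fibre_le_engel (hnil : LieRing.IsNilpotent (p.asIdeal.ResidueField ⊗[A] H)) :
    SGA3t2b.fibreSubmodule p H ≤
      (LieSubalgebra.engel p.asIdeal.ResidueField
        ((1 : p.asIdeal.ResidueField) ⊗ₜ[A] c)).toSubmodule := by
  rw [SGA3t2b.fibreSubmodule, Submodule.baseChange_eq_span]
  apply Submodule.span_le.mpr
  rintro _ ⟨h, hh, rfl⟩
  change (1 : p.asIdeal.ResidueField) ⊗ₜ[A] h ∈
    LieSubalgebra.engel p.asIdeal.ResidueField ((1 : p.asIdeal.ResidueField) ⊗ₜ[A] c)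
  rw [LieSubalgebra.mem_engel_iff]
  obtain ⟨k, hk⟩ := LieAlgebra.nilpotent_ad_of_nilpotent_algebra p.asIdeal.ResidueField
    (p.asIdeal.ResidueField ⊗[A] H)
  refine ⟨k, ?_⟩
  set ι := LieAlgebra.ExtendScalars.map (AlgHom.id A p.asIdeal.ResidueField) H.incl with hι
  set c' : H := ⟨c, hc⟩ with hc'
  have hιc : ι ((1 : p.asIdeal.ResidueField) ⊗ₜ[A] c') = (1 : p.asIdeal.ResidueField) ⊗ₜ[A] c := rfl
  have key : ∀ (j : ℕ) (z : p.asIdeal.ResidueField ⊗[A] H),
      ι ((LieAlgebra.ad p.asIdeal.ResidueField (p.asIdeal.ResidueField ⊗[A] H)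
        ((1 : p.asIdeal.ResidueField) ⊗ₜ[A] c') ^ j) z) =
      (LieAlgebra.ad p.asIdeal.ResidueField (p.asIdeal.ResidueField ⊗[A] L)
        ((1 : p.asIdeal.ResidueField) ⊗ₜ[A] c) ^ j) (ι z) := by
    intro j
    induction j with
    | zero => intro z; simp
    | succ j ih =>
      intro z
      rw [pow_succ', pow_succ', Module.End.mul_apply, Module.End.mul_apply, LieAlgebra.ad_apply,
        LieAlgebra.ad_apply, LieHom.map_lie, hιc, ih]
  have h1 : ι ((1 : p.asIdeal.ResidueField) ⊗ₜ[A] (⟨h, hh⟩ : H)) =
      (1 : p.asIdeal.ResidueField) ⊗ₜ[A] h := rfl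
  rw [← h1, ← key, hk, LinearMap.zero_apply, map_zero]

include hc in
theorem fibre_eq_engel (hnil : LieRing.IsNilpotent (p.asIdeal.ResidueField ⊗[A] H))
    (hreg : LieAlgebra.IsRegular p.asIdeal.ResidueField ((1 : p.asIdeal.ResidueField) ⊗ₜ[A] c))
    (hrank : Module.finrank p.asIdeal.ResidueField (SGA3t2b.fibreSubmodule p H) =
      LieAlgebra.rank p.asIdeal.ResidueField (p.asIdeal.ResidueField ⊗[A] L)) :
    SGA3t2b.fibreSubmodule p H =
      (LieSubalgebra.engel p.asIdeal.ResidueField
        ((1 : p.asIdeal.ResidueField) ⊗ₜ[A] c)).toSubmodule := by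
  apply Submodule.eq_of_le_of_finrank_eq (fibre_le_engel H c hc p hnil)
  rw [hrank]
  exact ((LieAlgebra.isRegular_iff_finrank_engel_eq_rank p.asIdeal.ResidueField _).mp hreg).symm

theorem fibre_surj
    (heq : SGA3t2b.fibreSubmodule p H =
      (LieSubalgebra.engel p.asIdeal.ResidueField
        ((1 : p.asIdeal.ResidueField) ⊗ₜ[A] c)).toSubmodule)
    (y : p.asIdeal.ResidueField ⊗[A] L) :
    ∃ x : p.asIdeal.ResidueField ⊗[A] L,
      y - ⁅(1 : p.asIdeal.ResidueField) ⊗ₜ[A] c, x⁆ ∈ SGA3t2b.fibreSubmodule p H := by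
  rw [heq]
  set cp := (1 : p.asIdeal.ResidueField) ⊗ₜ[A] c with hcp
  set E := (LieSubalgebra.engel p.asIdeal.ResidueField cp).toSubmodule with hE
  set adp := LieAlgebra.ad p.asIdeal.ResidueField (p.asIdeal.ResidueField ⊗[A] L) cp with hadp
  have hle : E ≤ E.comap adp := by
    intro x hx
    rw [Submodule.mem_comap, hadp, LieAlgebra.ad_apply]
    exact (LieSubalgebra.engel p.asIdeal.ResidueField cp).lie_mem
      (LieSubalgebra.self_mem_engel _ cp) hx
  set T := E.mapQ E adp hle with hT
  have hinj : Function.Injective T := by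
    rw [injective_iff_map_eq_zero]
    intro q hq
    obtain ⟨x, rfl⟩ := Submodule.Quotient.mk_surjective E q
    rw [hT, Submodule.mapQ_apply, Submodule.Quotient.mk_eq_zero] at hq
    rw [Submodule.Quotient.mk_eq_zero]
    change x ∈ LieSubalgebra.engel p.asIdeal.ResidueField cp
    change adp x ∈ LieSubalgebra.engel p.asIdeal.ResidueField cp at hq
    rw [LieSubalgebra.mem_engel_iff] at hq ⊢
    obtain ⟨n, hn⟩ := hq
    exact ⟨n + 1, by rw [pow_succ, Module.End.mul_apply]; exact hn⟩
  have hsurj : Function.Surjective T := LinearMap.surjective_of_injective hinj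
  obtain ⟨q, hq⟩ := hsurj (Submodule.Quotient.mk y)
  obtain ⟨x, rfl⟩ := Submodule.Quotient.mk_surjective E q
  refine ⟨x, ?_⟩
  rw [hT, Submodule.mapQ_apply] at hq
  have := (Submodule.Quotient.eq E).mp hq
  rw [hadp, LieAlgebra.ad_apply] at this
  have h2 := E.neg_mem this
  rwa [neg_sub] at h2

end Fibre

section Global

variable {A : Type u} [CommRing A] {L : Type u} [LieRing L] [LieAlgebra A L] [Module.Finite A L]
variable (H : LieSubalgebra A L) (c : L) (hc : c ∈ H)

include hc in
/-- the generalized nilspace of `ad c` is contained in `H` as soon as fibrewise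
`L(p) = [c, L(p)] + H(p)`. -/
theorem engel_le
    (hsurj : ∀ (p : PrimeSpectrum A) (y : p.asIdeal.ResidueField ⊗[A] L),
      ∃ x : p.asIdeal.ResidueField ⊗[A] L,
        y - ⁅(1 : p.asIdeal.ResidueField) ⊗ₜ[A] c, x⁆ ∈ SGA3t2b.fibreSubmodule p H) :
    LieSubalgebra.engel A c ≤ H := by
  set N : Submodule A L := H.toSubmodule ⊔ LinearMap.range (LieAlgebra.ad A L c) with hN
  have hNtop : N = ⊤ := by
    rw [← Submodule.Quotient.subsingleton_iff]
    rw [← Module.support_eq_empty_iff (R := A)]
    apply Set.eq_empty_iff_forall_notMem.mpr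
    intro p hp
    rw [Module.mem_support_iff_nontrivial_residueField_tensorProduct] at hp
    rw [← not_subsingleton_iff_nontrivial] at hp
    apply hp
    set g := (N.mkQ).baseChange p.asIdeal.ResidueField with hg
    have hgs : Function.Surjective g := by
      rw [hg, LinearMap.baseChange_eq_ltensor]
      exact LinearMap.lTensor_surjective _ (Submodule.mkQ_surjective N)
    have hg0 : ∀ y, g y = 0 := by
      intro y
      obtain ⟨x, hx⟩ := hsurj p y
      have h1 : g ⁅(1 : p.asIdeal.ResidueField) ⊗ₜ[A] c, x⁆ = 0 := by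
        have h2 : ⁅(1 : p.asIdeal.ResidueField) ⊗ₜ[A] c, x⁆ =
            (LieAlgebra.ad A L c).baseChange p.asIdeal.ResidueField x := by
          have := LieModule.toEnd_baseChange (R := A) (A := p.asIdeal.ResidueField) (L := L)
            (M := L) c
          rw [← LieAlgebra.ad_apply (R := p.asIdeal.ResidueField)]
          exact LinearMap.congr_fun this x
        rw [h2, hg, ← LinearMap.comp_apply, ← LinearMap.baseChange_comp]
        have h3 : N.mkQ ∘ₗ LieAlgebra.ad A L c = 0 := by
          apply LinearMap.ext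
          intro z
          rw [LinearMap.comp_apply, LinearMap.zero_apply, Submodule.mkQ_apply,
            Submodule.Quotient.mk_eq_zero]
          exact Submodule.mem_sup_right (LinearMap.mem_range_self _ z)
        rw [h3, LinearMap.baseChange_zero, LinearMap.zero_apply]
      have h4 : ∀ e ∈ SGA3t2b.fibreSubmodule p H, g e = 0 := by
        intro e he
        rw [SGA3t2b.fibreSubmodule, Submodule.baseChange_eq_span] at he
        induction he using Submodule.span_induction with
        | mem e he =>
          obtain ⟨h, hh, rfl⟩ := he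
          change g ((1 : p.asIdeal.ResidueField) ⊗ₜ[A] h) = 0
          rw [hg, LinearMap.baseChange_tmul, Submodule.mkQ_apply,
            (Submodule.Quotient.mk_eq_zero N).mpr (Submodule.mem_sup_left hh),
            TensorProduct.tmul_zero]
        | zero => exact map_zero g
        | add x y _ _ hx hy => rw [map_add, hx, hy, add_zero]
        | smul a x _ hx => rw [map_smul, hx, smul_zero]
      have h5 := h4 _ hx
      rw [map_sub, h1, sub_zero] at h5
      exact h5
    constructor
    intro a b
    obtain ⟨a', rfl⟩ := hgs a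
    obtain ⟨b', rfl⟩ := hgs b
    rw [hg0, hg0]
  have hle : H.toSubmodule ≤ H.toSubmodule.comap (LieAlgebra.ad A L c) := by
    intro x hx
    rw [Submodule.mem_comap, LieAlgebra.ad_apply]
    exact H.lie_mem hc hx
  set T := H.toSubmodule.mapQ H.toSubmodule (LieAlgebra.ad A L c) hle with hT
  have hTs : Function.Surjective T := by
    intro q
    obtain ⟨y, rfl⟩ := Submodule.Quotient.mk_surjective _ q
    have hy : y ∈ N := by rw [hNtop]; trivial
    rw [hN, Submodule.mem_sup] at hy
    obtain ⟨h, hh, z, ⟨x, rfl⟩, rfl⟩ := hy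
    refine ⟨Submodule.Quotient.mk x, ?_⟩
    rw [hT, Submodule.mapQ_apply, Submodule.Quotient.eq]
    simpa using H.toSubmodule.neg_mem hh
  have hTi : Function.Injective T := OrzechProperty.injective_of_surjective_endomorphism T hTs
  have key : ∀ (n : ℕ) (x : L), (LieAlgebra.ad A L c ^ n) x ∈ H → x ∈ H := by
    intro n
    induction n with
    | zero => intro x hx; simpa using hx
    | succ n ih =>
      intro x hx
      rw [pow_succ, Module.End.mul_apply] at hx
      have h1 := ih _ hx
      have h2 : T (Submodule.Quotient.mk x) = 0 := by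
        rw [hT, Submodule.mapQ_apply, Submodule.Quotient.mk_eq_zero]
        exact h1
      have h3 := hTi (h2.trans (map_zero T).symm)
      exact (Submodule.Quotient.mk_eq_zero _).mp h3
  intro x hx
  rw [LieSubalgebra.mem_engel_iff] at hx
  obtain ⟨n, hn⟩ := hx
  exact key n x (by rw [hn]; exact H.zero_mem)

include hc in
theorem le_engel [Module.Projective A L] (hproj : Module.Projective A (L ⧸ H.toSubmodule))
    (hnil : ∀ p : PrimeSpectrum A, LieRing.IsNilpotent (p.asIdeal.ResidueField ⊗[A] H)) :
    H ≤ LieSubalgebra.engel A c := by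
  obtain ⟨σ, hσ⟩ := (H.toSubmodule.mkQ).exists_rightInverse_of_surjective (Submodule.range_mkQ _)
  have hσ' : ∀ q, H.toSubmodule.mkQ (σ q) = q := LinearMap.congr_fun hσ
  have hmem : ∀ x : L, x - σ (H.toSubmodule.mkQ x) ∈ H := by
    intro x
    have : H.toSubmodule.mkQ (x - σ (H.toSubmodule.mkQ x)) = 0 := by rw [map_sub, hσ', sub_self]
    exact (Submodule.Quotient.mk_eq_zero _).mp this
  let r : L →ₗ[A] H :=
    { toFun := fun x => ⟨x - σ (H.toSubmodule.mkQ x), hmem x⟩
      map_add' := by
        intro x y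
        apply Subtype.ext
        change (x + y) - σ (H.toSubmodule.mkQ (x + y)) =
          (x - σ (H.toSubmodule.mkQ x)) + (y - σ (H.toSubmodule.mkQ y))
        rw [map_add, map_add]
        abel
      map_smul' := by
        intro a x
        apply Subtype.ext
        change a • x - σ (H.toSubmodule.mkQ (a • x)) = a • (x - σ (H.toSubmodule.mkQ x))
        rw [map_smul, map_smul, smul_sub] }
  have hr : ∀ h : H, r (h : L) = h := by
    intro h
    apply Subtype.ext
    change (h : L) - σ (H.toSubmodule.mkQ (h : L)) = h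
    have : H.toSubmodule.mkQ (h : L) = 0 := by
      rw [Submodule.mkQ_apply, Submodule.Quotient.mk_eq_zero]
      exact h.2
    rw [this, map_zero, sub_zero]
  haveI : Module.Projective A H :=
    Module.Projective.of_split (H.incl : H →ₗ[A] L) r (LinearMap.ext hr)
  haveI : Module.Finite A H := Module.Finite.of_surjective r (fun h => ⟨h, hr h⟩)
  set c' : H := ⟨c, hc⟩ with hc'
  have hn : IsNilpotent (LieAlgebra.ad A H c') := by
    apply isNilpotent_of_fibrewise
    intro p
    have h1 := LieModule.toEnd_baseChange (R := A) (A := p.asIdeal.ResidueField) (L := H)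
      (M := H) c'
    rw [show LieAlgebra.ad A H c' = LieModule.toEnd A H H c' from rfl, ← h1]
    haveI := hnil p
    exact LieModule.isNilpotent_toEnd_of_isNilpotent p.asIdeal.ResidueField
      (p.asIdeal.ResidueField ⊗[A] H) (p.asIdeal.ResidueField ⊗[A] H) _
  obtain ⟨k, hk⟩ := hn
  have key : ∀ (j : ℕ) (z : H),
      ((LieAlgebra.ad A L c) ^ j) (z : L) = (((LieAlgebra.ad A H c') ^ j) z : L) := by
    intro j
    induction j with
    | zero => intro z; simp
    | succ j ih =>
      intro z
      rw [pow_succ', pow_succ', Module.End.mul_apply, Module.End.mul_apply, ih,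
        LieAlgebra.ad_apply, LieAlgebra.ad_apply, LieSubalgebra.coe_bracket]
  intro h hh
  rw [LieSubalgebra.mem_engel_iff]
  refine ⟨k, ?_⟩
  have := key k ⟨h, hh⟩
  rw [hk, LinearMap.zero_apply] at this
  simpa using this

end Global

section Equiv

theorem engel_map_equiv {R : Type*} [CommRing R] {L L' : Type*} [LieRing L] [LieAlgebra R L]
    [LieRing L'] [LieAlgebra R L'] (e : L ≃ₗ[R] L') (he : ∀ x y, e ⁅x, y⁆ = ⁅e x, e y⁆) (a : L) :
    (LieSubalgebra.engel R (e a)).toSubmodule =
      (LieSubalgebra.engel R a).toSubmodule.map (e : L →ₗ[R] L') := by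
  have key : ∀ (n : ℕ) (z : L),
      (LieAlgebra.ad R L' (e a) ^ n) (e z) = e ((LieAlgebra.ad R L a ^ n) z) := by
    intro n
    induction n with
    | zero => intro z; simp
    | succ n ih =>
      intro z
      rw [pow_succ', pow_succ', Module.End.mul_apply, Module.End.mul_apply, ih,
        LieAlgebra.ad_apply, LieAlgebra.ad_apply, he]
  ext y
  constructor
  · intro hy
    change y ∈ LieSubalgebra.engel R (e a) at hy
    rw [LieSubalgebra.mem_engel_iff] at hy
    obtain ⟨n, hn⟩ := hy
    refine ⟨e.symm y, ?_, by simp⟩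
    change e.symm y ∈ LieSubalgebra.engel R a
    rw [LieSubalgebra.mem_engel_iff]
    refine ⟨n, ?_⟩
    apply e.injective
    rw [← key, e.apply_symm_apply, hn, map_zero]
  · rintro ⟨z, hz, rfl⟩
    change z ∈ LieSubalgebra.engel R a at hz
    change e z ∈ LieSubalgebra.engel R (e a)
    rw [LieSubalgebra.mem_engel_iff] at hz ⊢
    obtain ⟨n, hn⟩ := hz
    exact ⟨n, by rw [key, hn, map_zero]⟩

end Equiv

section Main

variable {A : Type u} [CommRing A] {L : Type u} [LieRing L] [LieAlgebra A L] [Module.Finite A L]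
  [Module.Projective A L]

theorem eq_engel (H : LieSubalgebra A L) (c : L) (hc : c ∈ H) (hH : SGA3t2b.IsCartanRel H)
    (hq : SGA3t2b.IsQuasiRegular A L c) : H = LieSubalgebra.engel A c := by
  apply le_antisymm
  · exact le_engel H c hc hH.1 (fun p => (hH.2 p).1)
  · apply engel_le H c hc
    intro p y
    exact fibre_surj H c p (fibre_eq_engel H c hc p (hH.2 p).1 (hq p) (hH.2 p).2.2) y

theorem isQuasiRegular_map (u : L ≃ₗ⁅A⁆ L) (a : L) (ha : SGA3t2b.IsQuasiRegular A L a) :
    SGA3t2b.IsQuasiRegular A L (u a) := by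
  intro p
  have h1 := ha p
  rw [LieAlgebra.isRegular_iff_finrank_engel_eq_rank] at h1 ⊢
  rw [← h1]
  set U := (u.toLinearEquiv).baseChange A p.asIdeal.ResidueField L L with hU
  have hUm : ∀ z, U z =
      LieAlgebra.ExtendScalars.map (AlgHom.id A p.asIdeal.ResidueField) u.toLieHom z := by
    intro z
    induction z with
    | zero => simp
    | add x y hx hy => rw [map_add, map_add, hx, hy]
    | tmul k x => rfl
  have hUl : ∀ x y, U ⁅x, y⁆ = ⁅U x, U y⁆ := by
    intro x y
    rw [hUm, hUm, hUm, LieHom.map_lie]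
  have h2 : U ((1 : p.asIdeal.ResidueField) ⊗ₜ[A] a) = (1 : p.asIdeal.ResidueField) ⊗ₜ[A] u a :=
    rfl
  have h3 := engel_map_equiv U hUl ((1 : p.asIdeal.ResidueField) ⊗ₜ[A] a)
  rw [h2] at h3
  change Module.finrank p.asIdeal.ResidueField
    (LieSubalgebra.engel p.asIdeal.ResidueField
      ((1 : p.asIdeal.ResidueField) ⊗ₜ[A] u a)).toSubmodule = _
  rw [h3]
  exact LinearEquiv.finrank_map_eq U _

theorem main (H : LieSubalgebra A L) (hH : SGA3t2b.IsCartanRel H) (a : L) (haH : a ∈ H)
    (ha : SGA3t2b.IsQuasiRegular A L a) (u : L ≃ₗ⁅A⁆ L) :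
    H.map u.toLieHom = H ↔ u a ∈ H := by
  constructor
  · intro h
    rw [← h]
    exact ⟨a, haH, rfl⟩
  · intro hb
    have h1 := eq_engel H a haH hH ha
    have h2 := eq_engel H (u a) hb hH (isQuasiRegular_map u a ha)
    have h3 := engel_map_equiv u.toLinearEquiv (fun x y => u.map_lie x y) a
    apply SetLike.coe_injective
    have h4 : ((H.map u.toLieHom : LieSubalgebra A L) : Set L) = u '' (H : Set L) := rfl
    rw [h4]
    have h5 : (H : Set L) = ((LieSubalgebra.engel A a).toSubmodule : Set L) := by
      conv_lhs => rw [h1]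
      rfl
    have h6 : (H : Set L) = ((LieSubalgebra.engel A (u a)).toSubmodule : Set L) := by
      conv_lhs => rw [h2]
      rfl
    have h7 : u.toLinearEquiv a = u a := rfl
    rw [h7] at h3
    have h8 : u '' ((LieSubalgebra.engel A a).toSubmodule : Set L) =
        ((LieSubalgebra.engel A (u a)).toSubmodule : Set L) := by
      rw [h3]
      rfl
    exact (congrArg (fun S => u '' S) h5).trans (h8.trans h6.symm)

end Main

end CartanRel

end Groth.Agent.Lib.helper22
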