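import Groth.Agent.Lib.Helper22.CartanRel

set_option autoImplicit false
universe u
open scoped TensorProduct

namespace Groth.Agent.Lib.helper22

namespace CartanRel

section Poly

theorem natTrailingDegree_map_of_injective {R S : Type*} [Semiring R] [Semiring S] (f : R →+* S)
    (hf : Function.Injective f) (p : Polynomial R) :
    (p.map f).natTrailingDegree = p.natTrailingDegree := by
  by_cases hp : p = 0
  · rw [hp, Polynomial.map_zero, Polynomial.natTrailingDegree_zero, Polynomial.natTrailingDegree_zero]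
  have hp' : p.map f ≠ 0 := by
    rwa [Ne, Polynomial.map_eq_zero_iff hf]
  apply le_antisymm
  · apply Polynomial.natTrailingDegree_le_of_ne_zero
    rw [Polynomial.coeff_map]
    intro h
    rw [← map_zero f] at h
    exact (Polynomial.coeff_natTrailingDegree_ne_zero.mpr hp) (hf h)
  · apply Polynomial.le_natTrailingDegree hp'
    intro m hm
    rw [Polynomial.coeff_map, Polynomial.coeff_eq_zero_of_lt_natTrailingDegree hm, map_zero]

end Poly

section Field

variable (K : Type*) [Field K] (K' : Type*) [Field K'] [Algebra K K']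
variable (L : Type*) [LieRing L] [LieAlgebra K L] [Module.Finite K L]

attribute [local instance 100] LieRing.ofAssociativeRing

theorem ad_baseChange_eq :
    (LieAlgebra.ad K' (K' ⊗[K] L)).toLinearMap =
      LinearMap.tensorProduct K K' L L ∘ₗ (LieAlgebra.ad K L).toLinearMap.baseChange K' := by
  apply TensorProduct.AlgebraTensorModule.curry_injective
  apply LinearMap.ext
  intro k
  apply LinearMap.ext
  intro x
  apply LinearMap.ext
  intro z
  simp only [TensorProduct.AlgebraTensorModule.curry_apply, TensorProduct.curry_apply,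
    LinearMap.coe_restrictScalars, LieHom.coe_toLinearMap, LinearMap.comp_apply,
    LinearMap.baseChange_tmul, LinearMap.tensorProduct_apply, LieAlgebra.ad_apply]
  induction z with
  | zero => simp
  | add a b ha hb => rw [lie_add, ha, hb, map_add]
  | tmul k' y =>
    rw [LieAlgebra.ExtendScalars.bracket_tmul]
    change (k * k') ⊗ₜ[K] ⁅x, y⁆ = k • ((LieAlgebra.ad K L x).baseChange K' (k' ⊗ₜ[K] y))
    rw [LinearMap.baseChange_tmul, TensorProduct.smul_tmul', smul_eq_mul, LieAlgebra.ad_apply]

theorem rank_baseChange :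
    LieAlgebra.rank K' (K' ⊗[K] L) = LieAlgebra.rank K L := by
  classical
  let b := Module.Free.chooseBasis K L
  rw [LieAlgebra.rank_eq_natTrailingDegree K' (K' ⊗[K] L) (Algebra.TensorProduct.basis K' b),
    LieAlgebra.rank_eq_natTrailingDegree K L b, ad_baseChange_eq, LinearMap.polyCharpoly_baseChange]
  exact natTrailingDegree_map_of_injective _
    (MvPolynomial.map_injective _ (algebraMap K K').injective) _

variable {L} in
theorem isRegular_baseChange (a : L) (ha : LieAlgebra.IsRegular K a) :
    LieAlgebra.IsRegular K' ((1 : K') ⊗ₜ[K] a) := by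
  rw [LieAlgebra.isRegular_iff_natTrailingDegree_charpoly_eq_rank] at ha ⊢
  rw [rank_baseChange, ← ha]
  have h1 : LieAlgebra.ad K' (K' ⊗[K] L) ((1 : K') ⊗ₜ[K] a) = (LieAlgebra.ad K L a).baseChange K' :=
    LieModule.toEnd_baseChange (R := K) (A := K') (L := L) (M := L) a
  rw [h1, LinearMap.charpoly_baseChange]
  exact natTrailingDegree_map_of_injective _ (algebraMap K K').injective _

variable {L} in
open Cardinal in
theorem engel_isNilpotent_of_card (h : Module.finrank K L ≤ #K) (x : L)
    (hx : LieAlgebra.IsRegular K x) : LieRing.IsNilpotent (LieSubalgebra.engel K x) := by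
  apply LieSubalgebra.isNilpotent_of_forall_le_engel
  intro y hy
  set Ex : {LieSubalgebra.engel K z | z ∈ LieSubalgebra.engel K x} :=
    ⟨LieSubalgebra.engel K x, x, LieSubalgebra.self_mem_engel _ _, rfl⟩
  suffices IsBot Ex from @this ⟨LieSubalgebra.engel K y, y, hy, rfl⟩
  apply LieAlgebra.engel_isBot_of_isMin h (LieSubalgebra.engel K x) Ex le_rfl
  rintro ⟨_, y, hy, rfl⟩ hyx
  suffices Module.finrank K (LieSubalgebra.engel K x) ≤ Module.finrank K (LieSubalgebra.engel K y) by
    suffices LieSubalgebra.engel K y = LieSubalgebra.engel K x from this.ge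
    apply LieSubalgebra.toSubmodule_injective
    exact Submodule.eq_of_le_of_finrank_le hyx this
  rw [(LieAlgebra.isRegular_iff_finrank_engel_eq_rank K x).mp hx]
  apply LieAlgebra.rank_le_finrank_engel

variable {L} in
/-- over any field, the Engel subalgebra of a regular element is nilpotent -/
theorem engel_isNilpotent (x : L) (hx : LieAlgebra.IsRegular K x) :
    LieRing.IsNilpotent (LieSubalgebra.engel K x) := by
  set F := AlgebraicClosure K with hF
  have hx' := isRegular_baseChange K F x hx
  have hcard : (Module.finrank F (F ⊗[K] L) : Cardinal) ≤ Cardinal.mk F :=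
    (Cardinal.natCast_le_aleph0).trans (Cardinal.infinite_iff.mp inferInstance)
  haveI := engel_isNilpotent_of_card F hcard _ hx'
  obtain ⟨k, hk⟩ := LieAlgebra.nilpotent_ad_of_nilpotent_algebra F
    (LieSubalgebra.engel F ((1 : F) ⊗ₜ[K] x))
  have hmem : ∀ e ∈ LieSubalgebra.engel K x,
      (1 : F) ⊗ₜ[K] e ∈ LieSubalgebra.engel F ((1 : F) ⊗ₜ[K] x) := by
    intro e he
    rw [LieSubalgebra.mem_engel_iff] at he ⊢
    obtain ⟨n, hn⟩ := he
    refine ⟨n, ?_⟩
    have h1 : LieAlgebra.ad F (F ⊗[K] L) ((1 : F) ⊗ₜ[K] x) = (LieAlgebra.ad K L x).baseChange F :=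
      LieModule.toEnd_baseChange (R := K) (A := F) (L := L) (M := L) x
    rw [h1, ← LinearMap.baseChange_pow, LinearMap.baseChange_tmul, hn, TensorProduct.tmul_zero]
  apply LieSubalgebra.isNilpotent_of_forall_le_engel
  intro y hy e he
  rw [LieSubalgebra.mem_engel_iff]
  refine ⟨k, ?_⟩
  set w : LieSubalgebra.engel F ((1 : F) ⊗ₜ[K] x) := ⟨(1 : F) ⊗ₜ[K] y, hmem y hy⟩ with hw
  set z : LieSubalgebra.engel F ((1 : F) ⊗ₜ[K] x) := ⟨(1 : F) ⊗ₜ[K] e, hmem e he⟩ with hz
  have key : ∀ (j : ℕ) (z : LieSubalgebra.engel F ((1 : F) ⊗ₜ[K] x)),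
      ((LieAlgebra.ad F (F ⊗[K] L) ((1 : F) ⊗ₜ[K] y)) ^ j) (z : F ⊗[K] L) =
        (((LieAlgebra.ad F (LieSubalgebra.engel F ((1 : F) ⊗ₜ[K] x)) w) ^ j) z : F ⊗[K] L) := by
    intro j
    induction j with
    | zero => intro z; simp
    | succ j ih =>
      intro z
      rw [pow_succ', pow_succ', Module.End.mul_apply, Module.End.mul_apply, ih,
        LieAlgebra.ad_apply, LieAlgebra.ad_apply, LieSubalgebra.coe_bracket]
  have h2 := key k z
  rw [hk, LinearMap.zero_apply] at h2
  have h1 : LieAlgebra.ad F (F ⊗[K] L) ((1 : F) ⊗ₜ[K] y) = (LieAlgebra.ad K L y).baseChange F :=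
    LieModule.toEnd_baseChange (R := K) (A := F) (L := L) (M := L) y
  rw [h1, ← LinearMap.baseChange_pow] at h2
  change ((LieAlgebra.ad K L y ^ k).baseChange F) ((1 : F) ⊗ₜ[K] e) = 0 at h2
  rw [LinearMap.baseChange_tmul] at h2
  have h3 := Module.Flat.tensorProduct_mk_injective K L F
  apply h3
  rw [map_zero]
  exact h2

end Field

section Rel

variable {A : Type u} [CommRing A] {L : Type u} [LieRing L] [LieAlgebra A L] [Module.Finite A L]

omit [Module.Finite A L] in
theorem exists_retraction (H : LieSubalgebra A L)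
    (hproj : Module.Projective A (L ⧸ H.toSubmodule)) :
    ∃ r : L →ₗ[A] H, ∀ h : H, r (h : L) = h := by
  obtain ⟨σ, hσ⟩ := (H.toSubmodule.mkQ).exists_rightInverse_of_surjective (Submodule.range_mkQ _)
  have hσ' : ∀ q, H.toSubmodule.mkQ (σ q) = q := LinearMap.congr_fun hσ
  have hmem : ∀ x : L, x - σ (H.toSubmodule.mkQ x) ∈ H := by
    intro x
    have : H.toSubmodule.mkQ (x - σ (H.toSubmodule.mkQ x)) = 0 := by rw [map_sub, hσ', sub_self]
    exact (Submodule.Quotient.mk_eq_zero _).mp this
  let r : L →ₗ[A] H :=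
    { toFun := fun x => ⟨x - σ (H.toSubmodule.mkQ x), hmem x⟩
      map_add' := by
        intro x y
        apply Subtype.ext
        change (x + y) - σ (H.toSubmodule.mkQ (x + y)) =
          (x - σ (H.toSubmodule.mkQ x)) + (y - σ (H.toSubmodule.mkQ y))
        rw [map_add, map_add]
        abel
      map_smul' := by
        intro a x
        apply Subtype.ext
        change a • x - σ (H.toSubmodule.mkQ (a • x)) = a • (x - σ (H.toSubmodule.mkQ x))
        rw [map_smul, map_smul, smul_sub] }
  refine ⟨r, ?_⟩
  intro h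
  apply Subtype.ext
  change (h : L) - σ (H.toSubmodule.mkQ (h : L)) = h
  have : H.toSubmodule.mkQ (h : L) = 0 := by
    rw [Submodule.mkQ_apply, Submodule.Quotient.mk_eq_zero]
    exact h.2
  rw [this, map_zero, sub_zero]

/-- the Engel subalgebra of a quasi-regular element is a relative Cartan subalgebra as soon as it
is a direct summand on whose quotient `ad a` is bijective -/
theorem isCartanRel_engel (a : L) (ha : SGA3t2b.IsQuasiRegular A L a)
    (hproj : Module.Projective A (L ⧸ (LieSubalgebra.engel A a).toSubmodule))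
    (hinj : ∀ z : L, ⁅a, z⁆ ∈ LieSubalgebra.engel A a → z ∈ LieSubalgebra.engel A a)
    (hsurj : ∀ y : L, ∃ z : L, ⁅a, z⁆ - y ∈ LieSubalgebra.engel A a) :
    SGA3t2b.IsCartanRel (LieSubalgebra.engel A a) := by
  refine ⟨hproj, fun p => ?_⟩
  set E := LieSubalgebra.engel A a with hE
  set ap : p.asIdeal.ResidueField ⊗[A] L := (1 : p.asIdeal.ResidueField) ⊗ₜ[A] a with hap
  set Ep := LieSubalgebra.engel p.asIdeal.ResidueField ap with hEp
  have had : LieAlgebra.ad p.asIdeal.ResidueField (p.asIdeal.ResidueField ⊗[A] L) ap =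
      (LieAlgebra.ad A L a).baseChange p.asIdeal.ResidueField :=
    LieModule.toEnd_baseChange (R := A) (A := p.asIdeal.ResidueField) (L := L) (M := L) a
  have hle : E.toSubmodule ≤ E.toSubmodule.comap (LieAlgebra.ad A L a) := fun x hx =>
    E.lie_mem (LieSubalgebra.self_mem_engel A a) hx
  set T := E.toSubmodule.mapQ E.toSubmodule (LieAlgebra.ad A L a) hle with hT
  have hTbij : Function.Bijective T := by
    constructor
    · rw [injective_iff_map_eq_zero]
      intro q hq
      obtain ⟨z, rfl⟩ := Submodule.Quotient.mk_surjective _ q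
      rw [hT, Submodule.mapQ_apply, Submodule.Quotient.mk_eq_zero, LieAlgebra.ad_apply] at hq
      exact (Submodule.Quotient.mk_eq_zero _).mpr (hinj z hq)
    · intro q
      obtain ⟨y, rfl⟩ := Submodule.Quotient.mk_surjective _ q
      obtain ⟨z, hz⟩ := hsurj y
      refine ⟨Submodule.Quotient.mk z, ?_⟩
      rw [hT, Submodule.mapQ_apply, LieAlgebra.ad_apply, Submodule.Quotient.eq]
      exact hz
  set Te := LinearEquiv.ofBijective T hTbij with hTe
  set Tp := T.baseChange p.asIdeal.ResidueField with hTp
  have hTpinj : Function.Injective Tp :=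
    (Te.baseChange A p.asIdeal.ResidueField _ _).injective
  set g := (E.toSubmodule.mkQ).baseChange p.asIdeal.ResidueField with hg
  have hcomm : ∀ x, g (LieAlgebra.ad p.asIdeal.ResidueField _ ap x) = Tp (g x) := by
    intro x
    rw [had, hg, hTp, ← LinearMap.comp_apply, ← LinearMap.comp_apply, ← LinearMap.baseChange_comp,
      ← LinearMap.baseChange_comp]
    rfl
  have hker : ∀ x, g x = 0 ↔ x ∈ SGA3t2b.fibreSubmodule p E := by
    intro x
    have hex := lTensor_exact p.asIdeal.ResidueField (LinearMap.exact_subtype_mkQ E.toSubmodule)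
      (Submodule.mkQ_surjective _)
    have h1 := hex x
    rw [SGA3t2b.fibreSubmodule, Submodule.baseChange, LinearMap.mem_range]
    rw [hg, LinearMap.baseChange_eq_ltensor]
    rw [h1, Set.mem_range]
    constructor
    · rintro ⟨y, hy⟩
      exact ⟨y, by rw [← hy, LinearMap.baseChange_eq_ltensor]⟩
    · rintro ⟨y, hy⟩
      exact ⟨y, by rw [← hy, LinearMap.baseChange_eq_ltensor]⟩
  have hfib : SGA3t2b.fibreSubmodule p E = Ep.toSubmodule := by
    apply le_antisymm
    · rw [SGA3t2b.fibreSubmodule, Submodule.baseChange_eq_span]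
      apply Submodule.span_le.mpr
      rintro _ ⟨e, he, rfl⟩
      change (1 : p.asIdeal.ResidueField) ⊗ₜ[A] e ∈ Ep
      change e ∈ LieSubalgebra.engel A a at he
      rw [hEp, LieSubalgebra.mem_engel_iff] at *
      obtain ⟨n, hn⟩ := he
      refine ⟨n, ?_⟩
      rw [had, ← LinearMap.baseChange_pow, LinearMap.baseChange_tmul, hn, TensorProduct.tmul_zero]
    · intro x hx
      change x ∈ Ep at hx
      rw [hEp, LieSubalgebra.mem_engel_iff] at hx
      obtain ⟨n, hn⟩ := hx
      rw [← hker]
      have key : ∀ (j : ℕ) (x : p.asIdeal.ResidueField ⊗[A] L),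
          g ((LieAlgebra.ad p.asIdeal.ResidueField _ ap ^ j) x) = 0 → g x = 0 := by
        intro j
        induction j with
        | zero => intro x hx; simpa using hx
        | succ j ih =>
          intro x hx
          rw [pow_succ, Module.End.mul_apply] at hx
          have h1 := ih _ hx
          rw [hcomm] at h1
          exact hTpinj (h1.trans (map_zero Tp).symm)
      exact key n x (by rw [hn, map_zero])
  refine ⟨?_, ?_, ?_⟩
  · -- nilpotency
    haveI : LieRing.IsNilpotent Ep := engel_isNilpotent p.asIdeal.ResidueField ap (ha p)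
    set ι := LieAlgebra.ExtendScalars.map (AlgHom.id A p.asIdeal.ResidueField) E.incl with hι
    have hιmem : ∀ z, ι z ∈ Ep := by
      intro z
      change ι z ∈ Ep.toSubmodule
      rw [← hfib]
      induction z with
      | zero => rw [map_zero]; exact zero_mem _
      | add x y hx hy => rw [map_add]; exact add_mem hx hy
      | tmul k e => exact Submodule.tmul_mem_baseChange_of_mem k e.2
    have hιsmul : ∀ (k : p.asIdeal.ResidueField) z, ι (k • z) = k • ι z := by
      intro k z
      induction z with
      | zero => rw [smul_zero, map_zero, smul_zero]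
      | add x y hx hy => rw [smul_add, map_add, map_add, hx, hy, smul_add]
      | tmul k' e => rfl
    obtain ⟨r, hr⟩ := exists_retraction E hproj
    have hιinj : Function.Injective ι := by
      have h1 : ∀ z, (r.baseChange p.asIdeal.ResidueField) (ι z) = z := by
        intro z
        induction z with
        | zero => rw [map_zero, map_zero]
        | add x y hx hy => rw [map_add, map_add, hx, hy]
        | tmul k e =>
          change (r.baseChange p.asIdeal.ResidueField) (k ⊗ₜ[A] (e : L)) = k ⊗ₜ[A] e
          rw [LinearMap.baseChange_tmul, hr]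
      intro z w hzw
      rw [← h1 z, ← h1 w, hzw]
    let j : (p.asIdeal.ResidueField ⊗[A] E) →ₗ⁅p.asIdeal.ResidueField⁆ Ep :=
      { toFun := fun z => ⟨ι z, hιmem z⟩
        map_add' := fun x y => Subtype.ext (map_add ι x y)
        map_smul' := fun k z => Subtype.ext (hιsmul k z)
        map_lie' := fun {x y} => Subtype.ext (LieHom.map_lie ι x y) }
    have hjinj : Function.Injective j := by
      intro z w hzw
      exact hιinj (congrArg Subtype.val hzw)
    exact hjinj.lieAlgebra_isNilpotent
  · intro x hx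
    rw [hfib] at hx ⊢
    have h1 : x ∈ Ep.normalizer := (Ep.mem_normalizer_iff x).mpr hx
    rw [hEp, LieSubalgebra.normalizer_engel] at h1
    exact h1
  · rw [hfib]
    exact (LieAlgebra.isRegular_iff_finrank_engel_eq_rank p.asIdeal.ResidueField ap).mp (ha p)

theorem sup_range_eq_top (H : LieSubalgebra A L) (c : L)
    (hsurj : ∀ (p : PrimeSpectrum A) (y : p.asIdeal.ResidueField ⊗[A] L),
      ∃ x : p.asIdeal.ResidueField ⊗[A] L,
        y - ⁅(1 : p.asIdeal.ResidueField) ⊗ₜ[A] c, x⁆ ∈ SGA3t2b.fibreSubmodule p H) :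
    H.toSubmodule ⊔ LinearMap.range (LieAlgebra.ad A L c) = ⊤ := by
  set N : Submodule A L := H.toSubmodule ⊔ LinearMap.range (LieAlgebra.ad A L c) with hN
  rw [← Submodule.Quotient.subsingleton_iff]
  rw [← Module.support_eq_empty_iff (R := A)]
  apply Set.eq_empty_iff_forall_notMem.mpr
  intro p hp
  rw [Module.mem_support_iff_nontrivial_residueField_tensorProduct] at hp
  rw [← not_subsingleton_iff_nontrivial] at hp
  apply hp
  set g := (N.mkQ).baseChange p.asIdeal.ResidueField with hg
  have hgs : Function.Surjective g := by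
    rw [hg, LinearMap.baseChange_eq_ltensor]
    exact LinearMap.lTensor_surjective _ (Submodule.mkQ_surjective N)
  have hg0 : ∀ y, g y = 0 := by
    intro y
    obtain ⟨x, hx⟩ := hsurj p y
    have h1 : g ⁅(1 : p.asIdeal.ResidueField) ⊗ₜ[A] c, x⁆ = 0 := by
      have h2 : ⁅(1 : p.asIdeal.ResidueField) ⊗ₜ[A] c, x⁆ =
          (LieAlgebra.ad A L c).baseChange p.asIdeal.ResidueField x := by
        have := LieModule.toEnd_baseChange (R := A) (A := p.asIdeal.ResidueField) (L := L)
          (M := L) c
        rw [← LieAlgebra.ad_apply (R := p.asIdeal.ResidueField)]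
        exact LinearMap.congr_fun this x
      rw [h2, hg, ← LinearMap.comp_apply, ← LinearMap.baseChange_comp]
      have h3 : N.mkQ ∘ₗ LieAlgebra.ad A L c = 0 := by
        apply LinearMap.ext
        intro z
        rw [LinearMap.comp_apply, LinearMap.zero_apply, Submodule.mkQ_apply,
          Submodule.Quotient.mk_eq_zero]
        exact Submodule.mem_sup_right (LinearMap.mem_range_self _ z)
      rw [h3, LinearMap.baseChange_zero, LinearMap.zero_apply]
    have h4 : ∀ e ∈ SGA3t2b.fibreSubmodule p H, g e = 0 := by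
      intro e he
      rw [SGA3t2b.fibreSubmodule, Submodule.baseChange_eq_span] at he
      induction he using Submodule.span_induction with
      | mem e he =>
        obtain ⟨h, hh, rfl⟩ := he
        change g ((1 : p.asIdeal.ResidueField) ⊗ₜ[A] h) = 0
        rw [hg, LinearMap.baseChange_tmul, Submodule.mkQ_apply,
          (Submodule.Quotient.mk_eq_zero N).mpr (Submodule.mem_sup_left hh),
          TensorProduct.tmul_zero]
      | zero => exact map_zero g
      | add x y _ _ hx hy => rw [map_add, hx, hy, add_zero]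
      | smul a x _ hx => rw [map_smul, hx, smul_zero]
    have h5 := h4 _ hx
    rw [map_sub, h1, sub_zero] at h5
    exact h5
  constructor
  intro a b
  obtain ⟨a', rfl⟩ := hgs a
  obtain ⟨b', rfl⟩ := hgs b
  rw [hg0, hg0]

theorem s8372 [Module.Projective A L] (a : L) (ha : SGA3t2b.IsQuasiRegular A L a) :
    (∀ H : LieSubalgebra A L, SGA3t2b.IsCartanRel H → a ∈ H → H = LieSubalgebra.engel A a) ∧
    ((∃ H : LieSubalgebra A L, SGA3t2b.IsCartanRel H ∧ a ∈ H) ↔
      (Module.Projective A (L ⧸ (LieSubalgebra.engel A a).toSubmodule) ∧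
        (∀ z : L, ⁅a, z⁆ ∈ LieSubalgebra.engel A a → z ∈ LieSubalgebra.engel A a) ∧
        (∀ y : L, ∃ z : L, ⁅a, z⁆ - y ∈ LieSubalgebra.engel A a))) := by
  refine ⟨fun H hH haH => eq_engel H a haH hH ha, ?_, ?_⟩
  · rintro ⟨H, hH, haH⟩
    have hEq := eq_engel H a haH hH ha
    refine ⟨?_, ?_, ?_⟩
    · rw [← hEq]
      exact hH.1
    · intro z hz
      rw [LieSubalgebra.mem_engel_iff] at hz ⊢
      obtain ⟨n, hn⟩ := hz
      exact ⟨n + 1, by rw [pow_succ, Module.End.mul_apply, LieAlgebra.ad_apply]; exact hn⟩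
    · intro y
      have htop := sup_range_eq_top H a (fun p y =>
        fibre_surj H a p (fibre_eq_engel H a haH p (hH.2 p).1 (ha p) (hH.2 p).2.2) y)
      have hy : y ∈ H.toSubmodule ⊔ LinearMap.range (LieAlgebra.ad A L a) := by
        rw [htop]; trivial
      rw [Submodule.mem_sup] at hy
      obtain ⟨h, hh, w, ⟨z, rfl⟩, rfl⟩ := hy
      refine ⟨z, ?_⟩
      rw [← hEq, LieAlgebra.ad_apply]
      have : ⁅a, z⁆ - (h + ⁅a, z⁆) = -h := by abel
      rw [this]
      exact H.neg_mem hh
  · rintro ⟨hproj, hinj, hsurj⟩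
    exact ⟨LieSubalgebra.engel A a, isCartanRel_engel a ha hproj hinj hsurj,
      LieSubalgebra.self_mem_engel A a⟩

end Rel

end CartanRel

end Groth.Agent.Lib.helper22
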