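import Groth.Agent.Lib.Helper22.CartanRelB

set_option autoImplicit false
universe u
open scoped TensorProduct

namespace Groth.Agent.Lib.helper22

namespace CartanRel

section FieldCartan

variable (K : Type*) [Field K] {L : Type*} [LieRing L] [LieAlgebra K L] [Module.Finite K L]

omit [Module.Finite K L] in
theorem le_engel_of_isNilpotent (U : LieSubalgebra K L) [LieRing.IsNilpotent U] (z : L)
    (hz : z ∈ U) : U ≤ LieSubalgebra.engel K z := by
  obtain ⟨k, hk⟩ := LieAlgebra.nilpotent_ad_of_nilpotent_algebra K U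
  set z' : U := ⟨z, hz⟩
  have key : ∀ (j : ℕ) (w : U),
      ((LieAlgebra.ad K L z) ^ j) (w : L) = (((LieAlgebra.ad K U z') ^ j) w : L) := by
    intro j
    induction j with
    | zero => intro w; simp
    | succ j ih =>
      intro w
      rw [pow_succ', pow_succ', Module.End.mul_apply, Module.End.mul_apply, ih,
        LieAlgebra.ad_apply, LieAlgebra.ad_apply, LieSubalgebra.coe_bracket]
  intro u hu
  rw [LieSubalgebra.mem_engel_iff]
  refine ⟨k, ?_⟩
  have := key k ⟨u, hu⟩
  rw [hk, LinearMap.zero_apply] at this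
  simpa using this

open Cardinal in
/-- a Cartan subalgebra whose dimension is the rank is the Engel subalgebra of one of its elements,
which is then regular (over a large enough field) -/
theorem exists_regular_of_cartan (hLK : Module.finrank K L ≤ #K) (U : LieSubalgebra K L)
    [U.IsCartanSubalgebra] (hrank : Module.finrank K U = LieAlgebra.rank K L) :
    ∃ x ∈ U, LieAlgebra.IsRegular K x := by
  classical
  have hex : ∃ n : ℕ, ∃ z ∈ U, Module.finrank K (LieSubalgebra.engel K z) = n :=
    ⟨_, 0, U.zero_mem, rfl⟩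
  obtain ⟨x, hxU, hxn⟩ := Nat.find_spec hex
  have hmin : ∀ z ∈ U, Module.finrank K (LieSubalgebra.engel K x) ≤
      Module.finrank K (LieSubalgebra.engel K z) := by
    intro z hz
    rw [hxn]
    exact Nat.find_min' hex ⟨z, hz, rfl⟩
  set Ex : {LieSubalgebra.engel K z | z ∈ U} := ⟨LieSubalgebra.engel K x, x, hxU, rfl⟩ with hEx
  have hUle : U ≤ (Ex : LieSubalgebra K L) := le_engel_of_isNilpotent K U x hxU
  have hIsMin : IsMin Ex := by
    rintro ⟨_, y, hy, rfl⟩ hyx
    have h1 := hmin y hy
    have h2 : LieSubalgebra.engel K y = LieSubalgebra.engel K x := by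
      apply LieSubalgebra.toSubmodule_injective
      exact Submodule.eq_of_le_of_finrank_le hyx h1
    exact h2.ge
  have hbot := LieAlgebra.engel_isBot_of_isMin hLK U Ex hUle hIsMin
  have h3 : LieSubalgebra.engel K x ≤ LieAlgebra.zeroRootSubalgebra K L U := by
    intro w hw
    rw [LieAlgebra.mem_zeroRootSubalgebra]
    intro y
    have h4 : LieSubalgebra.engel K x ≤ LieSubalgebra.engel K (y : L) :=
      @hbot ⟨LieSubalgebra.engel K (y : L), y, y.2, rfl⟩
    have h5 := h4 hw
    rw [LieSubalgebra.mem_engel_iff] at h5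
    exact h5
  rw [LieAlgebra.zeroRootSubalgebra_eq_of_is_cartan] at h3
  have h6 : LieSubalgebra.engel K x = U := le_antisymm h3 hUle
  refine ⟨x, hxU, ?_⟩
  rw [LieAlgebra.isRegular_iff_finrank_engel_eq_rank, h6, hrank]

end FieldCartan

section FibreAlg

variable {A : Type u} [CommRing A] {L : Type u} [LieRing L] [LieAlgebra A L]
variable (H : LieSubalgebra A L) (p : PrimeSpectrum A)

theorem lie_mem_fibre (x y : p.asIdeal.ResidueField ⊗[A] L)
    (hx : x ∈ SGA3t2b.fibreSubmodule p H) (hy : y ∈ SGA3t2b.fibreSubmodule p H) :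
    ⁅x, y⁆ ∈ SGA3t2b.fibreSubmodule p H := by
  rw [SGA3t2b.fibreSubmodule, Submodule.baseChange_eq_span] at hx hy ⊢
  induction hy using Submodule.span_induction with
  | mem y hy =>
    obtain ⟨h, hh, rfl⟩ := hy
    induction hx using Submodule.span_induction with
    | mem x hx =>
      obtain ⟨h', hh', rfl⟩ := hx
      apply Submodule.subset_span
      refine ⟨⁅h', h⁆, H.lie_mem hh' hh, ?_⟩
      change (1 : p.asIdeal.ResidueField) ⊗ₜ[A] ⁅h', h⁆ =
        ⁅(1 : p.asIdeal.ResidueField) ⊗ₜ[A] h', (1 : p.asIdeal.ResidueField) ⊗ₜ[A] h⁆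
      rw [LieAlgebra.ExtendScalars.bracket_tmul, mul_one]
    | zero => rw [zero_lie]; exact zero_mem _
    | add x1 x2 _ _ h1 h2 => rw [add_lie]; exact add_mem h1 h2
    | smul k x _ h1 => rw [smul_lie]; exact Submodule.smul_mem _ _ h1
  | zero => rw [lie_zero]; exact zero_mem _
  | add y1 y2 _ _ h1 h2 => rw [lie_add]; exact add_mem h1 h2
  | smul k y _ h1 => rw [lie_smul]; exact Submodule.smul_mem _ _ h1

/-- the fibre of a Lie subalgebra as a Lie subalgebra of the fibre -/
noncomputable def fibreAlg : LieSubalgebra p.asIdeal.ResidueField (p.asIdeal.ResidueField ⊗[A] L) :=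
  { SGA3t2b.fibreSubmodule p H with
    lie_mem' := fun {x y} hx hy => lie_mem_fibre H p x y hx hy }

theorem fibreAlg_toSubmodule : (fibreAlg H p).toSubmodule = SGA3t2b.fibreSubmodule p H := rfl

theorem mem_fibreAlg (x : p.asIdeal.ResidueField ⊗[A] L) :
    x ∈ fibreAlg H p ↔ x ∈ SGA3t2b.fibreSubmodule p H := Iff.rfl

theorem fibreAlg_isCartan [Module.Finite A L] (hH : SGA3t2b.IsCartanRel H) :
    (fibreAlg H p).IsCartanSubalgebra := by
  obtain ⟨hnil, hnorm, -⟩ := hH.2 p
  constructor
  · -- nilpotent: image of the nilpotent Lie ring κ ⊗ H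
    set ι := LieAlgebra.ExtendScalars.map (AlgHom.id A p.asIdeal.ResidueField) H.incl with hι
    have hιmem : ∀ z, ι z ∈ fibreAlg H p := by
      intro z
      rw [mem_fibreAlg]
      induction z with
      | zero => rw [map_zero]; exact zero_mem _
      | add x y hx hy => rw [map_add]; exact add_mem hx hy
      | tmul k e => exact Submodule.tmul_mem_baseChange_of_mem k e.2
    have hιsmul : ∀ (k : p.asIdeal.ResidueField) z, ι (k • z) = k • ι z := by
      intro k z
      induction z with
      | zero => rw [smul_zero, map_zero, smul_zero]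
      | add x y hx hy => rw [smul_add, map_add, map_add, hx, hy, smul_add]
      | tmul k' e => rfl
    let j : (p.asIdeal.ResidueField ⊗[A] H) →ₗ⁅p.asIdeal.ResidueField⁆ fibreAlg H p :=
      { toFun := fun z => ⟨ι z, hιmem z⟩
        map_add' := fun x y => Subtype.ext (map_add ι x y)
        map_smul' := fun k z => Subtype.ext (hιsmul k z)
        map_lie' := fun {x y} => Subtype.ext (LieHom.map_lie ι x y) }
    have hιsurj : ∀ y ∈ SGA3t2b.fibreSubmodule p H, ∃ z, ι z = y := by
      intro y hy
      rw [SGA3t2b.fibreSubmodule, Submodule.baseChange_eq_span] at hy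
      induction hy using Submodule.span_induction with
      | mem y hy =>
        obtain ⟨h, hh, rfl⟩ := hy
        exact ⟨(1 : p.asIdeal.ResidueField) ⊗ₜ[A] (⟨h, hh⟩ : H), rfl⟩
      | zero => exact ⟨0, map_zero ι⟩
      | add y1 y2 _ _ h1 h2 =>
        obtain ⟨z1, hz1⟩ := h1
        obtain ⟨z2, hz2⟩ := h2
        exact ⟨z1 + z2, by rw [map_add, hz1, hz2]⟩
      | smul k y _ h1 =>
        obtain ⟨z1, hz1⟩ := h1
        exact ⟨k • z1, by rw [hιsmul, hz1]⟩
    have hjsurj : Function.Surjective j := by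
      rintro ⟨y, hy⟩
      obtain ⟨z, hz⟩ := hιsurj y hy
      exact ⟨z, Subtype.ext hz⟩
    haveI := hnil
    exact hjsurj.lieAlgebra_isNilpotent
  · apply le_antisymm
    · intro x hx
      rw [LieSubalgebra.mem_normalizer_iff] at hx
      exact hnorm x hx
    · exact LieSubalgebra.le_normalizer _

theorem exists_regular_in_fibre [Module.Finite A L] (hH : SGA3t2b.IsCartanRel H)
    (hp : Infinite p.asIdeal.ResidueField) :
    ∃ x ∈ SGA3t2b.fibreSubmodule p H, LieAlgebra.IsRegular p.asIdeal.ResidueField x := by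
  haveI := fibreAlg_isCartan H p hH
  have hcard : (Module.finrank p.asIdeal.ResidueField (p.asIdeal.ResidueField ⊗[A] L) : Cardinal) ≤
      Cardinal.mk p.asIdeal.ResidueField :=
    (Cardinal.natCast_le_aleph0).trans (Cardinal.infinite_iff.mp hp)
  exact exists_regular_of_cartan p.asIdeal.ResidueField hcard (fibreAlg H p) (hH.2 p).2.2

end FibreAlg

section Clear

variable {A : Type u} [CommRing A] {L : Type u} [LieRing L] [LieAlgebra A L]
variable (H : LieSubalgebra A L) (p : PrimeSpectrum A)

theorem exists_frac (k : p.asIdeal.ResidueField) :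
    ∃ d : A, d ∉ p.asIdeal ∧ ∃ n : A,
      algebraMap A p.asIdeal.ResidueField d * k = algebraMap A p.asIdeal.ResidueField n := by
  obtain ⟨⟨n, d⟩, hnd⟩ := IsLocalization.surj (nonZeroDivisors (A ⧸ p.asIdeal)) k
  obtain ⟨n', rfl⟩ := Ideal.Quotient.mk_surjective n
  obtain ⟨d', hd'⟩ := Ideal.Quotient.mk_surjective (d : A ⧸ p.asIdeal)
  refine ⟨d', ?_, n', ?_⟩
  · intro hmem
    have h0 : (d : A ⧸ p.asIdeal) = 0 := by
      rw [← hd']; exact Ideal.Quotient.eq_zero_iff_mem.mpr hmem
    exact nonZeroDivisors.coe_ne_zero d h0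
  · simp only at hnd
    rw [← hd', Ideal.algebraMap_quotient_residueField_mk, Ideal.algebraMap_quotient_residueField_mk]
      at hnd
    rw [mul_comm]
    exact hnd

theorem exists_clear_denominators (x : p.asIdeal.ResidueField ⊗[A] L)
    (hx : x ∈ SGA3t2b.fibreSubmodule p H) :
    ∃ s : A, s ∉ p.asIdeal ∧ ∃ a ∈ H,
      algebraMap A p.asIdeal.ResidueField s • x = (1 : p.asIdeal.ResidueField) ⊗ₜ[A] a := by
  rw [SGA3t2b.fibreSubmodule, Submodule.baseChange_eq_span] at hx
  induction hx using Submodule.span_induction with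
  | mem x hx =>
    obtain ⟨h, hh, rfl⟩ := hx
    exact ⟨1, p.asIdeal.one_notMem, h, hh, by rw [map_one, one_smul]; rfl⟩
  | zero => exact ⟨1, p.asIdeal.one_notMem, 0, H.zero_mem, by rw [smul_zero, TensorProduct.tmul_zero]⟩
  | add x1 x2 _ _ h1 h2 =>
    obtain ⟨s1, hs1, a1, ha1, e1⟩ := h1
    obtain ⟨s2, hs2, a2, ha2, e2⟩ := h2
    refine ⟨s1 * s2, ?_, s2 • a1 + s1 • a2, ?_, ?_⟩
    · intro hmem
      rcases p.isPrime.mem_or_mem hmem with h | h
      · exact hs1 h
      · exact hs2 h
    · exact H.add_mem (H.smul_mem _ ha1) (H.smul_mem _ ha2)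
    · have h1 : (algebraMap A p.asIdeal.ResidueField s1 * algebraMap A p.asIdeal.ResidueField s2) • x1
          = algebraMap A p.asIdeal.ResidueField s2 • (algebraMap A p.asIdeal.ResidueField s1 • x1) := by
        rw [mul_comm, mul_smul]
      have h2 : (algebraMap A p.asIdeal.ResidueField s1 * algebraMap A p.asIdeal.ResidueField s2) • x2
          = algebraMap A p.asIdeal.ResidueField s1 • (algebraMap A p.asIdeal.ResidueField s2 • x2) := by
        rw [mul_smul]
      rw [map_mul, smul_add, h1, h2, e1, e2, TensorProduct.tmul_add, TensorProduct.tmul_smul,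
        TensorProduct.tmul_smul, algebraMap_smul, algebraMap_smul]
  | smul k x _ h1 =>
    obtain ⟨s1, hs1, a1, ha1, e1⟩ := h1
    obtain ⟨d, hd, n, hdn⟩ := exists_frac p k
    refine ⟨d * s1, ?_, n • a1, H.smul_mem _ ha1, ?_⟩
    · intro hmem
      rcases p.isPrime.mem_or_mem hmem with h | h
      · exact hd h
      · exact hs1 h
    · have h1 : (algebraMap A p.asIdeal.ResidueField d * algebraMap A p.asIdeal.ResidueField s1) •
          k • x = (algebraMap A p.asIdeal.ResidueField d * k) •
            (algebraMap A p.asIdeal.ResidueField s1 • x) := by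
        rw [smul_smul, smul_smul]
        congr 1
        ring
      rw [map_mul, h1, hdn, e1, TensorProduct.tmul_smul, algebraMap_smul]

end Clear

section Scale

variable (K : Type*) [Field K] {L : Type*} [LieRing L] [LieAlgebra K L] [Module.Finite K L]

theorem isRegular_smul (c : K) (hc : c ≠ 0) (x : L) (hx : LieAlgebra.IsRegular K x) :
    LieAlgebra.IsRegular K (c • x) := by
  rw [LieAlgebra.isRegular_iff_finrank_engel_eq_rank] at hx ⊢
  rw [← hx]
  have h1 : LieSubalgebra.engel K (c • x) = LieSubalgebra.engel K x := by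
    ext y
    rw [LieSubalgebra.mem_engel_iff, LieSubalgebra.mem_engel_iff, map_smul]
    have h2 : ∀ n : ℕ, (c • LieAlgebra.ad K L x) ^ n = c ^ n • (LieAlgebra.ad K L x) ^ n := by
      intro n
      rw [smul_pow]
    constructor
    · rintro ⟨n, hn⟩
      refine ⟨n, ?_⟩
      rw [h2, LinearMap.smul_apply] at hn
      exact (smul_eq_zero.mp hn).resolve_left (pow_ne_zero n hc)
    · rintro ⟨n, hn⟩
      exact ⟨n, by rw [h2, LinearMap.smul_apply, hn, smul_zero]⟩
  rw [h1]

end Scale

section RankLC

variable {A : Type u} [CommRing A] {L : Type u} [LieRing L] [LieAlgebra A L] [Module.Finite A L]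
  [Module.Projective A L]

omit [LieRing L] [LieAlgebra A L] [Module.Finite A L] [Module.Projective A L] in
theorem exists_retraction_sub {L : Type u} [AddCommGroup L] [Module A L] (N : Submodule A L)
    (hproj : Module.Projective A (L ⧸ N)) :
    ∃ r : L →ₗ[A] N, ∀ n : N, r (n : L) = n := by
  obtain ⟨σ, hσ⟩ := (N.mkQ).exists_rightInverse_of_surjective (Submodule.range_mkQ _)
  have hσ' : ∀ q, N.mkQ (σ q) = q := LinearMap.congr_fun hσ
  have hmem : ∀ x : L, x - σ (N.mkQ x) ∈ N := by
    intro x
    have : N.mkQ (x - σ (N.mkQ x)) = 0 := by rw [map_sub, hσ', sub_self]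
    exact (Submodule.Quotient.mk_eq_zero _).mp this
  refine ⟨LinearMap.codRestrict N (LinearMap.id - σ ∘ₗ N.mkQ) hmem, ?_⟩
  intro n
  apply Subtype.ext
  change (n : L) - σ (N.mkQ (n : L)) = n
  have : N.mkQ (n : L) = 0 := by
    rw [Submodule.mkQ_apply, Submodule.Quotient.mk_eq_zero]
    exact n.2
  rw [this, map_zero, sub_zero]

theorem hC0_of_cartanRel (H : LieSubalgebra A L) (hH : SGA3t2b.IsCartanRel H) :
    ∀ p : PrimeSpectrum A, ∃ f : A, f ∉ p.asIdeal ∧ ∀ q : PrimeSpectrum A, f ∉ q.asIdeal →
      LieAlgebra.rank q.asIdeal.ResidueField (q.asIdeal.ResidueField ⊗[A] L) =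
        LieAlgebra.rank p.asIdeal.ResidueField (p.asIdeal.ResidueField ⊗[A] L) := by
  obtain ⟨r, hr⟩ := exists_retraction_sub H.toSubmodule hH.1
  haveI : Module.Projective A H.toSubmodule :=
    Module.Projective.of_split H.toSubmodule.subtype r (LinearMap.ext hr)
  haveI : Module.Finite A H.toSubmodule := Module.Finite.of_surjective r (fun h => ⟨h, hr h⟩)
  haveI : Module.FinitePresentation A H.toSubmodule := Module.finitePresentation_of_projective _ _
  have hrk : ∀ q : PrimeSpectrum A,
      LieAlgebra.rank q.asIdeal.ResidueField (q.asIdeal.ResidueField ⊗[A] L) =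
        Module.rankAtStalk (R := A) H.toSubmodule q := by
    intro q
    rw [← (hH.2 q).2.2, Module.rankAtStalk_eq]
    have hinj : Function.Injective (H.toSubmodule.subtype.baseChange q.asIdeal.ResidueField) := by
      have h1 : (r.baseChange q.asIdeal.ResidueField) ∘ₗ
          (H.toSubmodule.subtype.baseChange q.asIdeal.ResidueField) = LinearMap.id := by
        rw [← LinearMap.baseChange_comp]
        have : r ∘ₗ H.toSubmodule.subtype = LinearMap.id := LinearMap.ext hr
        rw [this, LinearMap.baseChange_id]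
      intro z w hzw
      have := congrArg (r.baseChange q.asIdeal.ResidueField) hzw
      rw [← LinearMap.comp_apply, ← LinearMap.comp_apply, h1] at this
      exact this
    exact LinearMap.finrank_range_of_inj hinj
  intro p
  have hlc := Module.isLocallyConstant_rankAtStalk (R := A) (M := H.toSubmodule)
  have hopen : IsOpen {q : PrimeSpectrum A | Module.rankAtStalk (R := A) H.toSubmodule q =
      Module.rankAtStalk (R := A) H.toSubmodule p} := hlc.isOpen_fiber _
  obtain ⟨v, ⟨f, rfl⟩, hpv, hvU⟩ :=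
    PrimeSpectrum.isTopologicalBasis_basic_opens.exists_subset_of_mem_open
      (show p ∈ {q : PrimeSpectrum A | Module.rankAtStalk (R := A) H.toSubmodule q =
        Module.rankAtStalk (R := A) H.toSubmodule p} from rfl) hopen
  refine ⟨f, (PrimeSpectrum.mem_basicOpen f p).mp hpv, ?_⟩
  intro q hq
  rw [hrk q, hrk p]
  exact hvU ((PrimeSpectrum.mem_basicOpen f q).mpr hq)

end RankLC

section FPow

variable {A : Type u} [CommRing A] {L : Type u} [LieRing L] [LieAlgebra A L] [Module.Finite A L]
variable (H : LieSubalgebra A L) (c : L)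

theorem fibre_quot_subsingleton (p : PrimeSpectrum A)
    (hsurj : ∀ (y : p.asIdeal.ResidueField ⊗[A] L),
      ∃ x : p.asIdeal.ResidueField ⊗[A] L,
        y - ⁅(1 : p.asIdeal.ResidueField) ⊗ₜ[A] c, x⁆ ∈ SGA3t2b.fibreSubmodule p H) :
    Subsingleton (p.asIdeal.ResidueField ⊗[A]
      (L ⧸ (H.toSubmodule ⊔ LinearMap.range (LieAlgebra.ad A L c)))) := by
  set N : Submodule A L := H.toSubmodule ⊔ LinearMap.range (LieAlgebra.ad A L c) with hN
  set g := (N.mkQ).baseChange p.asIdeal.ResidueField with hg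
  have hgs : Function.Surjective g := by
    rw [hg, LinearMap.baseChange_eq_ltensor]
    exact LinearMap.lTensor_surjective _ (Submodule.mkQ_surjective N)
  have hg0 : ∀ y, g y = 0 := by
    intro y
    obtain ⟨x, hx⟩ := hsurj y
    have h1 : g ⁅(1 : p.asIdeal.ResidueField) ⊗ₜ[A] c, x⁆ = 0 := by
      have h2 : ⁅(1 : p.asIdeal.ResidueField) ⊗ₜ[A] c, x⁆ =
          (LieAlgebra.ad A L c).baseChange p.asIdeal.ResidueField x := by
        have := LieModule.toEnd_baseChange (R := A) (A := p.asIdeal.ResidueField) (L := L)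
          (M := L) c
        rw [← LieAlgebra.ad_apply (R := p.asIdeal.ResidueField)]
        exact LinearMap.congr_fun this x
      rw [h2, hg, ← LinearMap.comp_apply, ← LinearMap.baseChange_comp]
      have h3 : N.mkQ ∘ₗ LieAlgebra.ad A L c = 0 := by
        apply LinearMap.ext
        intro z
        rw [LinearMap.comp_apply, LinearMap.zero_apply, Submodule.mkQ_apply,
          Submodule.Quotient.mk_eq_zero]
        exact Submodule.mem_sup_right (LinearMap.mem_range_self _ z)
      rw [h3, LinearMap.baseChange_zero, LinearMap.zero_apply]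
    have h4 : ∀ e ∈ SGA3t2b.fibreSubmodule p H, g e = 0 := by
      intro e he
      rw [SGA3t2b.fibreSubmodule, Submodule.baseChange_eq_span] at he
      induction he using Submodule.span_induction with
      | mem e he =>
        obtain ⟨h, hh, rfl⟩ := he
        change g ((1 : p.asIdeal.ResidueField) ⊗ₜ[A] h) = 0
        rw [hg, LinearMap.baseChange_tmul, Submodule.mkQ_apply,
          (Submodule.Quotient.mk_eq_zero N).mpr (Submodule.mem_sup_left hh),
          TensorProduct.tmul_zero]
      | zero => exact map_zero g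
      | add x y _ _ hx hy => rw [map_add, hx, hy, add_zero]
      | smul a x _ hx => rw [map_smul, hx, smul_zero]
    have h5 := h4 _ hx
    rw [map_sub, h1, sub_zero] at h5
    exact h5
  constructor
  intro a b
  obtain ⟨a', rfl⟩ := hgs a
  obtain ⟨b', rfl⟩ := hgs b
  rw [hg0, hg0]

theorem exists_pow_smul_mem_sup (f : A)
    (hsurj : ∀ (q : PrimeSpectrum A), f ∉ q.asIdeal → ∀ (y : q.asIdeal.ResidueField ⊗[A] L),
      ∃ x : q.asIdeal.ResidueField ⊗[A] L,
        y - ⁅(1 : q.asIdeal.ResidueField) ⊗ₜ[A] c, x⁆ ∈ SGA3t2b.fibreSubmodule q H) :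
    ∃ n : ℕ, ∀ y : L, f ^ n • y ∈ H.toSubmodule ⊔ LinearMap.range (LieAlgebra.ad A L c) := by
  set N : Submodule A L := H.toSubmodule ⊔ LinearMap.range (LieAlgebra.ad A L c) with hN
  have h1 : Module.support A (L ⧸ N) ⊆ PrimeSpectrum.zeroLocus {f} := by
    intro q hq
    rw [Module.mem_support_iff_nontrivial_residueField_tensorProduct] at hq
    rw [PrimeSpectrum.mem_zeroLocus, Set.singleton_subset_iff]
    by_contra hf
    have := fibre_quot_subsingleton H c q (hsurj q hf)
    exact not_subsingleton _ this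
  rw [Module.support_eq_zeroLocus, ← PrimeSpectrum.zeroLocus_span {f},
    PrimeSpectrum.zeroLocus_subset_zeroLocus_iff, Ideal.span_le, Set.singleton_subset_iff] at h1
  obtain ⟨n, hn⟩ := h1
  refine ⟨n, fun y => ?_⟩
  rw [Module.mem_annihilator] at hn
  have := hn (Submodule.Quotient.mk y)
  rw [← Submodule.Quotient.mk_smul, Submodule.Quotient.mk_eq_zero] at this
  exact this

include c in
theorem exists_pow_smul_mem_of_lie_mem (hc : c ∈ H) (f : A) (n : ℕ)
    (hn : ∀ y : L, f ^ n • y ∈ H.toSubmodule ⊔ LinearMap.range (LieAlgebra.ad A L c))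
    (x : L) (hx : ⁅c, x⁆ ∈ H) : ∃ m : ℕ, f ^ m • x ∈ H := by
  have hle : H.toSubmodule ≤ H.toSubmodule.comap (LieAlgebra.ad A L c) := by
    intro x hx
    rw [Submodule.mem_comap, LieAlgebra.ad_apply]
    exact H.lie_mem hc hx
  set T := H.toSubmodule.mapQ H.toSubmodule (LieAlgebra.ad A L c) hle with hT
  set S := Submonoid.powers f with hS
  set Tf := LocalizedModule.map S T with hTf
  have hfn : f ^ n ∈ S := ⟨n, rfl⟩
  have hsurj : Function.Surjective Tf := by
    intro z
    induction z using LocalizedModule.induction_on with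
    | h m s =>
      obtain ⟨y, rfl⟩ := Submodule.Quotient.mk_surjective _ m
      have hy := hn y
      rw [Submodule.mem_sup] at hy
      obtain ⟨h, hh, w', ⟨w, rfl⟩, hsum⟩ := hy
      refine ⟨LocalizedModule.mk (Submodule.Quotient.mk w) (⟨f ^ n, hfn⟩ * s), ?_⟩
      rw [hTf, LocalizedModule.map_mk, hT, Submodule.mapQ_apply]
      have h2 : (Submodule.Quotient.mk (LieAlgebra.ad A L c w) : L ⧸ H.toSubmodule) =
          (⟨f ^ n, hfn⟩ : S) • (Submodule.Quotient.mk y : L ⧸ H.toSubmodule) := by
        change _ = f ^ n • (Submodule.Quotient.mk y : L ⧸ H.toSubmodule)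
        rw [← Submodule.Quotient.mk_smul, ← hsum, Submodule.Quotient.eq]
        simpa using H.toSubmodule.neg_mem hh
      rw [h2, LocalizedModule.mk_cancel_common_left]
  have hinj : Function.Injective Tf := OrzechProperty.injective_of_surjective_endomorphism Tf hsurj
  have h0 : Tf (LocalizedModule.mk (Submodule.Quotient.mk x) 1) = 0 := by
    rw [hTf, LocalizedModule.map_mk, hT, Submodule.mapQ_apply,
      (Submodule.Quotient.mk_eq_zero _).mpr (by rw [LieAlgebra.ad_apply]; exact hx),
      LocalizedModule.zero_mk]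
  have h1 := hinj (h0.trans (map_zero Tf).symm)
  rw [← LocalizedModule.zero_mk (1 : S), LocalizedModule.mk_eq] at h1
  obtain ⟨⟨u, m, rfl⟩, hu⟩ := h1
  refine ⟨m, ?_⟩
  simp only [one_smul, smul_zero] at hu
  change f ^ m • (Submodule.Quotient.mk x : L ⧸ H.toSubmodule) = 0 at hu
  rw [← Submodule.Quotient.mk_smul, Submodule.Quotient.mk_eq_zero] at hu
  exact hu

include c in
theorem exists_pow_smul_mem_of_engel (hc : c ∈ H) (f : A) (n : ℕ)
    (hn : ∀ y : L, f ^ n • y ∈ H.toSubmodule ⊔ LinearMap.range (LieAlgebra.ad A L c))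
    (y : L) (hy : y ∈ LieSubalgebra.engel A c) : ∃ m : ℕ, f ^ m • y ∈ H := by
  rw [LieSubalgebra.mem_engel_iff] at hy
  obtain ⟨k, hk⟩ := hy
  have key : ∀ (k : ℕ) (y : L), (LieAlgebra.ad A L c ^ k) y ∈ H → ∃ m : ℕ, f ^ m • y ∈ H := by
    intro k
    induction k with
    | zero => intro y hy; exact ⟨0, by simpa using hy⟩
    | succ k ih =>
      intro y hy
      rw [pow_succ, Module.End.mul_apply] at hy
      obtain ⟨m1, hm1⟩ := ih _ hy
      rw [LieAlgebra.ad_apply, ← lie_smul] at hm1
      obtain ⟨m2, hm2⟩ := exists_pow_smul_mem_of_lie_mem H c hc f n hn _ hm1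
      exact ⟨m2 + m1, by rw [pow_add, mul_smul]; exact hm2⟩
  exact key k y (by rw [hk]; exact H.zero_mem)

end FPow

end CartanRel

end Groth.Agent.Lib.helper22
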