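import Groth.Agent.Lib.Helper22.CartanRelC

set_option autoImplicit false
universe u
open scoped TensorProduct

namespace Groth.Agent.Lib.helper22

namespace CartanRel

section EquivRank

variable (K : Type*) [Field K] {L₁ L₂ : Type*} [LieRing L₁] [LieAlgebra K L₁] [Module.Finite K L₁]
  [LieRing L₂] [LieAlgebra K L₂] [Module.Finite K L₂]

theorem ad_conj (e : L₁ ≃ₗ[K] L₂) (he : ∀ x y, e ⁅x, y⁆ = ⁅e x, e y⁆) (x : L₁) :
    LieAlgebra.ad K L₂ (e x) = e.conj (LieAlgebra.ad K L₁ x) := by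
  apply LinearMap.ext
  intro y
  rw [LinearEquiv.conj_apply, LinearMap.comp_apply, LinearMap.comp_apply, LieAlgebra.ad_apply,
    LinearEquiv.coe_coe, LinearEquiv.coe_coe, LieAlgebra.ad_apply, he, e.apply_symm_apply]

theorem rank_le_of_equiv_infinite [Infinite K] (e : L₁ ≃ₗ[K] L₂)
    (he : ∀ x y, e ⁅x, y⁆ = ⁅e x, e y⁆) : LieAlgebra.rank K L₂ ≤ LieAlgebra.rank K L₁ := by
  obtain ⟨x, hx⟩ := LieAlgebra.exists_isRegular K L₁
  rw [LieAlgebra.isRegular_iff_natTrailingDegree_charpoly_eq_rank] at hx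
  rw [← hx, ← e.charpoly_conj, ← ad_conj K e he]
  exact LieAlgebra.rank_le_natTrailingDegree_charpoly_ad K (e x)

theorem rank_eq_of_equiv_infinite [Infinite K] (e : L₁ ≃ₗ[K] L₂)
    (he : ∀ x y, e ⁅x, y⁆ = ⁅e x, e y⁆) : LieAlgebra.rank K L₂ = LieAlgebra.rank K L₁ := by
  apply le_antisymm (rank_le_of_equiv_infinite K e he)
  apply rank_le_of_equiv_infinite K e.symm
  intro x y
  apply e.injective
  rw [he, e.apply_symm_apply, e.apply_symm_apply, e.apply_symm_apply]

theorem baseChange_lie {F : Type*} [Field F] [Algebra K F] (e : L₁ ≃ₗ[K] L₂)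
    (he : ∀ x y, e ⁅x, y⁆ = ⁅e x, e y⁆) (x y : F ⊗[K] L₁) :
    e.baseChange K F L₁ L₂ ⁅x, y⁆ = ⁅e.baseChange K F L₁ L₂ x, e.baseChange K F L₁ L₂ y⁆ := by
  let eL : L₁ →ₗ⁅K⁆ L₂ := { (e : L₁ →ₗ[K] L₂) with map_lie' := fun {x y} => he x y }
  have hUm : ∀ z, e.baseChange K F L₁ L₂ z =
      LieAlgebra.ExtendScalars.map (AlgHom.id K F) eL z := by
    intro z
    induction z with
    | zero => simp
    | add x y hx hy => rw [map_add, map_add, hx, hy]
    | tmul k x => rfl
  rw [hUm, hUm, hUm, LieHom.map_lie]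

theorem rank_eq_of_equiv (e : L₁ ≃ₗ[K] L₂) (he : ∀ x y, e ⁅x, y⁆ = ⁅e x, e y⁆) :
    LieAlgebra.rank K L₂ = LieAlgebra.rank K L₁ := by
  rw [← rank_baseChange K (AlgebraicClosure K) L₁, ← rank_baseChange K (AlgebraicClosure K) L₂]
  exact rank_eq_of_equiv_infinite (AlgebraicClosure K) (e.baseChange K (AlgebraicClosure K) L₁ L₂)
    (baseChange_lie K e he)

theorem isRegular_of_equiv (e : L₁ ≃ₗ[K] L₂) (he : ∀ x y, e ⁅x, y⁆ = ⁅e x, e y⁆) (x : L₁)
    (hx : LieAlgebra.IsRegular K x) : LieAlgebra.IsRegular K (e x) := by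
  rw [LieAlgebra.isRegular_iff_finrank_engel_eq_rank] at hx ⊢
  rw [rank_eq_of_equiv K e he, ← hx]
  have h3 := engel_map_equiv e he x
  change Module.finrank K (LieSubalgebra.engel K (e x)).toSubmodule = _
  rw [h3]
  exact LinearEquiv.finrank_map_eq e _

end EquivRank

section Cancel

variable {A : Type*} [CommRing A] {L : Type*} [LieRing L] [LieAlgebra A L]
variable (R : Type*) [CommRing R] [Algebra A R] (K' : Type*) [CommRing K'] [Algebra A K']
  [Algebra R K'] [IsScalarTower A R K']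

theorem cancel_lie (x y : K' ⊗[R] (R ⊗[A] L)) :
    TensorProduct.AlgebraTensorModule.cancelBaseChange A R K' K' L ⁅x, y⁆ =
      ⁅TensorProduct.AlgebraTensorModule.cancelBaseChange A R K' K' L x,
        TensorProduct.AlgebraTensorModule.cancelBaseChange A R K' K' L y⁆ := by
  induction x with
  | zero =>
    rw [show ⁅(0 : K' ⊗[R] (R ⊗[A] L)), y⁆ = 0 from zero_lie y, map_zero]
    exact (zero_lie _).symm
  | add x1 x2 h1 h2 =>
    rw [show ⁅x1 + x2, y⁆ = ⁅x1, y⁆ + ⁅x2, y⁆ from add_lie x1 x2 y, map_add, map_add, h1, h2]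
    exact (add_lie _ _ _).symm
  | tmul k1 u1 =>
    induction u1 with
    | zero =>
      rw [TensorProduct.tmul_zero, show ⁅(0 : K' ⊗[R] (R ⊗[A] L)), y⁆ = 0 from zero_lie y, map_zero]
      exact (zero_lie _).symm
    | add a b ha hb =>
      rw [TensorProduct.tmul_add,
        show ⁅k1 ⊗ₜ[R] a + k1 ⊗ₜ[R] b, y⁆ = ⁅k1 ⊗ₜ[R] a, y⁆ + ⁅k1 ⊗ₜ[R] b, y⁆ from add_lie _ _ y,
        map_add, map_add, ha, hb]
      exact (add_lie _ _ _).symm
    | tmul r1 x1 =>
      induction y with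
      | zero =>
        rw [show ⁅k1 ⊗ₜ[R] (r1 ⊗ₜ[A] x1), (0 : K' ⊗[R] (R ⊗[A] L))⁆ = 0 from
            lie_zero (k1 ⊗ₜ[R] (r1 ⊗ₜ[A] x1)), map_zero]
        exact (lie_zero _).symm
      | add y1 y2 h1 h2 =>
        rw [show ⁅k1 ⊗ₜ[R] (r1 ⊗ₜ[A] x1), y1 + y2⁆ = ⁅k1 ⊗ₜ[R] (r1 ⊗ₜ[A] x1), y1⁆ +
          ⁅k1 ⊗ₜ[R] (r1 ⊗ₜ[A] x1), y2⁆ from lie_add (k1 ⊗ₜ[R] (r1 ⊗ₜ[A] x1)) y1 y2, map_add, map_add,
          h1, h2]
        exact (lie_add _ _ _).symm
      | tmul k2 u2 =>
        induction u2 with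
        | zero =>
          rw [TensorProduct.tmul_zero,
            show ⁅k1 ⊗ₜ[R] (r1 ⊗ₜ[A] x1), (0 : K' ⊗[R] (R ⊗[A] L))⁆ = 0 from
            lie_zero (k1 ⊗ₜ[R] (r1 ⊗ₜ[A] x1)), map_zero]
          exact (lie_zero _).symm
        | add a b ha hb =>
          rw [TensorProduct.tmul_add,
            show ⁅k1 ⊗ₜ[R] (r1 ⊗ₜ[A] x1), k2 ⊗ₜ[R] a + k2 ⊗ₜ[R] b⁆ =
              ⁅k1 ⊗ₜ[R] (r1 ⊗ₜ[A] x1), k2 ⊗ₜ[R] a⁆ + ⁅k1 ⊗ₜ[R] (r1 ⊗ₜ[A] x1), k2 ⊗ₜ[R] b⁆
              from lie_add (k1 ⊗ₜ[R] (r1 ⊗ₜ[A] x1)) (k2 ⊗ₜ[R] a) (k2 ⊗ₜ[R] b), map_add, map_add,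
            ha, hb]
          exact (lie_add _ _ _).symm
        | tmul r2 x2 =>
          rw [LieAlgebra.ExtendScalars.bracket_tmul, LieAlgebra.ExtendScalars.bracket_tmul,
            TensorProduct.AlgebraTensorModule.cancelBaseChange_tmul,
            TensorProduct.AlgebraTensorModule.cancelBaseChange_tmul,
            TensorProduct.AlgebraTensorModule.cancelBaseChange_tmul,
            LieAlgebra.ExtendScalars.bracket_tmul]
          congr 1
          rw [Algebra.smul_def, Algebra.smul_def, Algebra.smul_def, map_mul]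
          ring

end Cancel

section GRGL

variable {A : Type*} [CommRing A] {L : Type*} [LieRing L] [LieAlgebra A L] [Module.Finite A L]
variable (K : Type*) [Field K] [Algebra A K] (B : Type*) [CommRing B] [Algebra A B]
  (K' : Type*) [Field K'] [Algebra A K'] [Algebra K K'] [IsScalarTower A K K']
  [Algebra B K'] [IsScalarTower A B K']

theorem rank_fibre_eq :
    LieAlgebra.rank K' (K' ⊗[B] (B ⊗[A] L)) = LieAlgebra.rank K (K ⊗[A] L) := by
  rw [← rank_baseChange K K' (K ⊗[A] L)]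
  have h1 := rank_eq_of_equiv K'
    (TensorProduct.AlgebraTensorModule.cancelBaseChange A B K' K' L) (cancel_lie B K')
  have h2 := rank_eq_of_equiv K'
    (TensorProduct.AlgebraTensorModule.cancelBaseChange A K K' K' L) (cancel_lie K K')
  rw [← h1, h2]

theorem isRegular_fibre (b' : B ⊗[A] L) (a : L)
    (hb : TensorProduct.AlgebraTensorModule.cancelBaseChange A B K' K' L ((1 : K') ⊗ₜ[B] b') =
      (1 : K') ⊗ₜ[A] a)
    (ha : LieAlgebra.IsRegular K ((1 : K) ⊗ₜ[A] a)) :
    LieAlgebra.IsRegular K' ((1 : K') ⊗ₜ[B] b') := by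
  have h1 := isRegular_baseChange K K' _ ha
  have h2 := isRegular_of_equiv K'
    (TensorProduct.AlgebraTensorModule.cancelBaseChange A K K' K' L) (cancel_lie K K') _ h1
  rw [TensorProduct.AlgebraTensorModule.cancelBaseChange_tmul, one_smul] at h2
  have h3 := isRegular_of_equiv K'
    (TensorProduct.AlgebraTensorModule.cancelBaseChange A B K' K' L).symm (by
      intro x y
      apply (TensorProduct.AlgebraTensorModule.cancelBaseChange A B K' K' L).injective
      rw [cancel_lie B K', LinearEquiv.apply_symm_apply, LinearEquiv.apply_symm_apply,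
        LinearEquiv.apply_symm_apply]) _ h2
  rw [← hb, LinearEquiv.symm_apply_apply] at h3
  exact h3

end GRGL

section Residue

variable {A : Type u} [CommRing A] {L : Type u} [LieRing L] [LieAlgebra A L] [Module.Finite A L]
variable (B : Type u) [CommRing B] [Algebra A B] (q' : PrimeSpectrum B)

theorem rank_residue :
    LieAlgebra.rank q'.asIdeal.ResidueField (q'.asIdeal.ResidueField ⊗[B] (B ⊗[A] L)) =
      LieAlgebra.rank (PrimeSpectrum.comap (algebraMap A B) q').asIdeal.ResidueField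
        ((PrimeSpectrum.comap (algebraMap A B) q').asIdeal.ResidueField ⊗[A] L) := by
  letI : Algebra (PrimeSpectrum.comap (algebraMap A B) q').asIdeal.ResidueField
      q'.asIdeal.ResidueField :=
    (Ideal.ResidueField.map (PrimeSpectrum.comap (algebraMap A B) q').asIdeal q'.asIdeal
      (algebraMap A B) rfl).toAlgebra
  haveI : IsScalarTower A (PrimeSpectrum.comap (algebraMap A B) q').asIdeal.ResidueField
      q'.asIdeal.ResidueField := by
    apply IsScalarTower.of_algebraMap_eq'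
    apply RingHom.ext
    intro a
    rw [RingHom.comp_apply, RingHom.algebraMap_toAlgebra, Ideal.ResidueField.map_algebraMap,
      ← IsScalarTower.algebraMap_apply]
  exact rank_fibre_eq (PrimeSpectrum.comap (algebraMap A B) q').asIdeal.ResidueField B
    q'.asIdeal.ResidueField

theorem isRegular_residue (b' : B ⊗[A] L) (a : L)
    (hb : TensorProduct.AlgebraTensorModule.cancelBaseChange A B q'.asIdeal.ResidueField
      q'.asIdeal.ResidueField L ((1 : q'.asIdeal.ResidueField) ⊗ₜ[B] b') =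
      (1 : q'.asIdeal.ResidueField) ⊗ₜ[A] a)
    (ha : LieAlgebra.IsRegular (PrimeSpectrum.comap (algebraMap A B) q').asIdeal.ResidueField
      ((1 : (PrimeSpectrum.comap (algebraMap A B) q').asIdeal.ResidueField) ⊗ₜ[A] a)) :
    LieAlgebra.IsRegular q'.asIdeal.ResidueField ((1 : q'.asIdeal.ResidueField) ⊗ₜ[B] b') := by
  letI : Algebra (PrimeSpectrum.comap (algebraMap A B) q').asIdeal.ResidueField
      q'.asIdeal.ResidueField :=
    (Ideal.ResidueField.map (PrimeSpectrum.comap (algebraMap A B) q').asIdeal q'.asIdeal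
      (algebraMap A B) rfl).toAlgebra
  haveI : IsScalarTower A (PrimeSpectrum.comap (algebraMap A B) q').asIdeal.ResidueField
      q'.asIdeal.ResidueField := by
    apply IsScalarTower.of_algebraMap_eq'
    apply RingHom.ext
    intro a
    rw [RingHom.comp_apply, RingHom.algebraMap_toAlgebra, Ideal.ResidueField.map_algebraMap,
      ← IsScalarTower.algebraMap_apply]
  exact isRegular_fibre (PrimeSpectrum.comap (algebraMap A B) q').asIdeal.ResidueField B
    q'.asIdeal.ResidueField b' a hb ha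

end Residue

end CartanRel

end Groth.Agent.Lib.helper22
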