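import Groth.Agent.Lib.Helper22.CartanRelD

set_option autoImplicit false
universe u
open scoped TensorProduct

namespace Groth.Agent.Lib.helper22
namespace CartanRel

section Lift

variable {A : Type u} [CommRing A] {L : Type u} [LieRing L] [LieAlgebra A L]

/-- every element of the fibre is, up to a unit, of the form `1 ⊗ a`. -/
theorem exists_clear_denominators_top (p : PrimeSpectrum A) (x : p.asIdeal.ResidueField ⊗[A] L) :
    ∃ s : A, s ∉ p.asIdeal ∧ ∃ a : L,
      algebraMap A p.asIdeal.ResidueField s • x = (1 : p.asIdeal.ResidueField) ⊗ₜ[A] a := by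
  obtain ⟨s, hs, a, -, h⟩ := exists_clear_denominators (⊤ : LieSubalgebra A L) p x (by
    rw [SGA3t2b.fibreSubmodule]
    have : (⊤ : LieSubalgebra A L).toSubmodule = ⊤ := rfl
    rw [this, Submodule.baseChange_top]
    trivial)
  exact ⟨s, hs, a, h⟩

theorem algebraMap_residue_ne_zero (p : PrimeSpectrum A) (s : A) (hs : s ∉ p.asIdeal) :
    algebraMap A p.asIdeal.ResidueField s ≠ 0 := by
  intro h
  apply hs
  rwa [Ideal.algebraMap_residueField_eq_zero] at h

variable [Module.Finite A L]

/-- a regular element of the fibre lifts, up to a unit, to a global element regular at `p`. -/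
theorem exists_lift_regular (p : PrimeSpectrum A)
    (hp : ∃ x : p.asIdeal.ResidueField ⊗[A] L, LieAlgebra.IsRegular p.asIdeal.ResidueField x) :
    ∃ a : L, LieAlgebra.IsRegular p.asIdeal.ResidueField ((1 : p.asIdeal.ResidueField) ⊗ₜ[A] a) := by
  obtain ⟨x, hx⟩ := hp
  obtain ⟨s, hs, a, hsa⟩ := exists_clear_denominators_top p x
  refine ⟨a, ?_⟩
  rw [← hsa]
  exact isRegular_smul _ _ (algebraMap_residue_ne_zero p s hs) x hx

end Lift

section Away

variable {A : Type u} [CommRing A] {L : Type u} [LieRing L] [LieAlgebra A L] [Module.Finite A L]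

/-- if `a` is fibrewise regular on `D(f)`, then `1 ⊗ a` is quasi-regular over `A_f`. -/
theorem isQuasiRegular_away (f : A) (a : L)
    (h : ∀ q : PrimeSpectrum A, f ∉ q.asIdeal →
      LieAlgebra.IsRegular q.asIdeal.ResidueField ((1 : q.asIdeal.ResidueField) ⊗ₜ[A] a)) :
    SGA3t2b.IsQuasiRegular (Localization.Away f) (Localization.Away f ⊗[A] L)
      ((1 : Localization.Away f) ⊗ₜ[A] a) := by
  intro q'
  apply isRegular_residue (Localization.Away f) q' _ a
  · rw [TensorProduct.AlgebraTensorModule.cancelBaseChange_tmul, one_smul]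
  · apply h
    intro hmem
    have h1 : algebraMap A (Localization.Away f) f ∈ q'.asIdeal := hmem
    exact q'.isPrime.ne_top (Ideal.eq_top_of_isUnit_mem _ h1
      (IsLocalization.Away.algebraMap_isUnit f))

end Away

end CartanRel
end Groth.Agent.Lib.helper22

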