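import Groth.Agent.Lib.Helper22.CartanRelE

set_option autoImplicit false
universe u
open scoped TensorProduct

namespace Groth.Agent.Lib.helper22
namespace CartanRel

section PiCover

variable {A : Type u} [CommRing A] {L : Type u} [LieRing L] [LieAlgebra A L] [Module.Finite A L]

/-- a finite Zariski cover `∏ A_f` is faithfully flat. -/
theorem faithfullyFlat_pi_away (s : Finset A) (hs : Ideal.span (s : Set A) = ⊤) :
    Module.FaithfullyFlat A (∀ i : s, Localization.Away (i : A)) := by
  apply Module.FaithfullyFlat.of_comap_surjective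
  intro p
  have hex : ∃ i : s, (i : A) ∉ p.asIdeal := by
    by_contra hcon
    push Not at hcon
    have hle : Ideal.span (s : Set A) ≤ p.asIdeal := Ideal.span_le.mpr (fun x hx => hcon ⟨x, hx⟩)
    rw [hs] at hle
    exact p.isPrime.ne_top (top_le_iff.mp hle)
  obtain ⟨i, hi⟩ := hex
  have hmem : p ∈ Set.range (PrimeSpectrum.comap (algebraMap A (Localization.Away (i : A)))) := by
    rw [PrimeSpectrum.localization_away_comap_range (Localization.Away (i : A)) (i : A)]
    exact hi
  obtain ⟨q, hq⟩ := hmem
  refine ⟨PrimeSpectrum.comap (Pi.evalRingHom _ i) q, ?_⟩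
  rw [← hq]
  rfl

open Classical in
/-- glueing fibrewise regular elements on a finite Zariski cover gives a quasi-regular element over
the product of the localisations. -/
theorem isQuasiRegular_pi_away (s : Finset A) (a : A → L)
    (ha : ∀ i ∈ s, ∀ q : PrimeSpectrum A, i ∉ q.asIdeal →
      LieAlgebra.IsRegular q.asIdeal.ResidueField ((1 : q.asIdeal.ResidueField) ⊗ₜ[A] a i)) :
    SGA3t2b.IsQuasiRegular (∀ i : s, Localization.Away (i : A))
      ((∀ i : s, Localization.Away (i : A)) ⊗[A] L)
      (∑ i : s, (Pi.single i 1 : ∀ i : s, Localization.Away (i : A)) ⊗ₜ[A] a i) := by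
  classical
  intro q'
  have hsum : ∑ i : s, (Pi.single i 1 : ∀ i : s, Localization.Away (i : A)) = 1 :=
    Finset.univ_sum_single 1
  obtain ⟨i, hi⟩ : ∃ i : s, (Pi.single i 1 : ∀ i : s, Localization.Away (i : A)) ∉ q'.asIdeal := by
    by_contra hcon
    push Not at hcon
    have h1 : (1 : ∀ i : s, Localization.Away (i : A)) ∈ q'.asIdeal := by
      rw [← hsum]
      exact Ideal.sum_mem _ (fun i _ => hcon i)
    exact q'.isPrime.ne_top ((Ideal.eq_top_iff_one _).mpr h1)
  have hj : ∀ j : s, j ≠ i →
      (Pi.single j 1 : ∀ i : s, Localization.Away (i : A)) ∈ q'.asIdeal := by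
    intro j hji
    have h0 : (Pi.single i 1 : ∀ i : s, Localization.Away (i : A)) * Pi.single j 1 = 0 := by
      rw [← Pi.single_mul_left, Pi.single_eq_of_ne hji.symm, mul_zero, Pi.single_zero]
    have h1 : (Pi.single i 1 : ∀ i : s, Localization.Away (i : A)) * Pi.single j 1 ∈ q'.asIdeal := by
      rw [h0]; exact q'.asIdeal.zero_mem
    exact (q'.isPrime.mem_or_mem h1).resolve_left hi
  have hzero : ∀ j : s, j ≠ i → algebraMap (∀ i : s, Localization.Away (i : A))
      q'.asIdeal.ResidueField (Pi.single j 1) = 0 := fun j hji =>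
    (Ideal.algebraMap_residueField_eq_zero).mpr (hj j hji)
  have hone : algebraMap (∀ i : s, Localization.Away (i : A)) q'.asIdeal.ResidueField
      (Pi.single i 1) = 1 := by
    have h1 := congrArg (algebraMap (∀ i : s, Localization.Away (i : A)) q'.asIdeal.ResidueField) hsum
    rw [map_sum, map_one] at h1
    rw [← h1]
    symm
    apply Finset.sum_eq_single i
    · intro j _ hji
      exact hzero j hji
    · intro h
      exact absurd (Finset.mem_univ i) h
  apply isRegular_residue (∀ i : s, Localization.Away (i : A)) q' _ (a i)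
  · rw [TensorProduct.tmul_sum, map_sum, Finset.sum_eq_single i]
    · rw [TensorProduct.AlgebraTensorModule.cancelBaseChange_tmul, Algebra.smul_def, mul_one, hone]
    · intro j _ hji
      rw [TensorProduct.AlgebraTensorModule.cancelBaseChange_tmul, Algebra.smul_def, mul_one,
        hzero j hji, TensorProduct.zero_tmul]
    · intro h
      exact absurd (Finset.mem_univ i) h
  · apply ha (i : A) i.2
    intro hmem
    apply hi
    have h1 : algebraMap A (∀ i : s, Localization.Away (i : A)) (i : A) ∈ q'.asIdeal := hmem
    have h2 : (Pi.single i 1 : ∀ i : s, Localization.Away (i : A)) =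
        Pi.single i (IsLocalization.Away.invSelf (i : A)) *
          algebraMap A (∀ i : s, Localization.Away (i : A)) (i : A) := by
      rw [← Pi.single_mul_left]
      congr 1
      rw [Pi.algebraMap_apply, mul_comm]
      exact (IsLocalization.Away.mul_invSelf (i : A)).symm
    rw [h2]
    exact Ideal.mul_mem_left _ _ h1

end PiCover

end CartanRel
end Groth.Agent.Lib.helper22

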