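import Groth.Agent.Lib.Helper22.CartanRelF

set_option autoImplicit false
universe u
open scoped TensorProduct

namespace Groth.Agent.Lib.helper22
namespace CartanRel

section Fitting

variable {R : Type*} [CommRing R] {M : Type*} [AddCommGroup M] [Module R M]

/-- `φ ^ N * (1 - φ * h) = 0` with `h` commuting with `φ`: kernels of powers stabilise at `N`. -/
theorem fitting_ker_stab (φ h : Module.End R M) (hc : Commute φ h) (N : ℕ)
    (hN : φ ^ N * (1 - φ * h) = 0) (n : ℕ) (y : M) (hy : (φ ^ n) y = 0) : (φ ^ N) y = 0 := by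
  have hθ : Commute φ (φ * h) := (Commute.refl φ).mul_right hc
  have h1 : (φ * h) ^ n = h ^ n * φ ^ n := by
    rw [hc.mul_pow, (hc.pow_pow n n).eq]
  have h2 : ((φ * h) ^ n) y = 0 := by
    rw [h1, Module.End.mul_apply, hy, map_zero]
  have h3 : (1 : Module.End R M) - (φ * h) ^ n = (1 - φ * h) * ∑ i ∈ Finset.range n, (φ * h) ^ i :=
    (mul_neg_geom_sum (φ * h) n).symm
  have h4 : φ ^ N * (1 - (φ * h) ^ n) = 0 := by
    rw [h3, ← mul_assoc, hN, zero_mul]
  have h5 : (φ ^ N) y = (φ ^ N * (1 - (φ * h) ^ n)) y + (φ ^ N) (((φ * h) ^ n) y) := by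
    rw [Module.End.mul_apply, LinearMap.sub_apply, Module.End.one_apply, map_sub, sub_add_cancel]
  rw [h5, h4, h2, map_zero, LinearMap.zero_apply, zero_add]

theorem fitting_surj (φ h : Module.End R M) (N : ℕ)
    (hN : φ ^ N * (1 - φ * h) = 0) (y : M) : (φ ^ N) (φ (h y) - y) = 0 := by
  have h1 : φ (h y) - y = - ((1 - φ * h) y) := by
    rw [LinearMap.sub_apply, Module.End.one_apply, Module.End.mul_apply, neg_sub]
  rw [h1, map_neg, ← Module.End.mul_apply, hN, LinearMap.zero_apply, neg_zero]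

/-- the idempotent `(φ h)^N` whose kernel is `ker φ^N`. -/
theorem fitting_idem (φ h : Module.End R M) (hc : Commute φ h) (N : ℕ)
    (hN : φ ^ N * (1 - φ * h) = 0) :
    ∃ ε : Module.End R M, ε * ε = ε ∧ ∀ y, ε y = 0 ↔ (φ ^ N) y = 0 := by
  have h1 : (φ * h) ^ N = h ^ N * φ ^ N := by
    rw [hc.mul_pow, (hc.pow_pow N N).eq]
  have h3 : (1 : Module.End R M) - (φ * h) ^ N = (1 - φ * h) * ∑ i ∈ Finset.range N, (φ * h) ^ i :=
    (mul_neg_geom_sum (φ * h) N).symm
  have h4 : φ ^ N * (1 - (φ * h) ^ N) = 0 := by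
    rw [h3, ← mul_assoc, hN, zero_mul]
  refine ⟨(φ * h) ^ N, ?_, ?_⟩
  · have h5 : (φ * h) ^ N * (1 - (φ * h) ^ N) = 0 := by
      nth_rewrite 1 [h1]
      rw [mul_assoc, h4, mul_zero]
    rw [mul_sub, mul_one, sub_eq_zero] at h5
    exact h5.symm
  · intro y
    constructor
    · intro hy
      have h5 : (φ ^ N) y = (φ ^ N * (1 - (φ * h) ^ N)) y + (φ ^ N) (((φ * h) ^ N) y) := by
        rw [Module.End.mul_apply, LinearMap.sub_apply, Module.End.one_apply, map_sub, sub_add_cancel]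
      rw [h5, h4, hy, map_zero, LinearMap.zero_apply, zero_add]
    · intro hy
      rw [h1, Module.End.mul_apply, hy, map_zero]

/-- a submodule that is the kernel of an idempotent has projective quotient. -/
theorem projective_quotient_of_idem [Module.Projective R M] (E : Submodule R M)
    (ε : Module.End R M) (hε : ε * ε = ε) (hE : ∀ y, y ∈ E ↔ ε y = 0) :
    Module.Projective R (M ⧸ E) := by
  have hle : E ≤ LinearMap.ker ε := fun y hy => (hE y).mp hy
  refine Module.Projective.of_split (E.liftQ ε hle) E.mkQ ?_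
  apply LinearMap.ext
  intro q
  obtain ⟨y, rfl⟩ := E.mkQ_surjective q
  rw [LinearMap.comp_apply, LinearMap.id_apply, Submodule.mkQ_apply, Submodule.mkQ_apply,
    Submodule.liftQ_apply, Submodule.Quotient.eq, hE, map_sub, ← Module.End.mul_apply, hε, sub_self]

/-- the set of `w` admitting a local Fitting datum is an ideal. -/
def fittingIdeal (φ : Module.End R M) : Ideal R where
  carrier := {w | ∃ (N : ℕ) (h : Module.End R M), Commute φ h ∧ φ ^ N * (w • 1 - φ * h) = 0}
  zero_mem' := ⟨0, 0, Commute.zero_right φ, by simp⟩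
  add_mem' := by
    rintro w1 w2 ⟨N1, h1, hc1, e1⟩ ⟨N2, h2, hc2, e2⟩
    refine ⟨N1 + N2, h1 + h2, hc1.add_right hc2, ?_⟩
    have : (w1 + w2) • (1 : Module.End R M) - φ * (h1 + h2) =
        (w1 • 1 - φ * h1) + (w2 • 1 - φ * h2) := by
      rw [add_smul, mul_add]; abel
    rw [this, mul_add]
    nth_rewrite 1 [add_comm N1 N2]
    rw [pow_add, mul_assoc, e1, mul_zero, pow_add, mul_assoc, e2, mul_zero, add_zero]
  smul_mem' := by
    rintro c w ⟨N, h, hc, e⟩
    refine ⟨N, c • h, hc.smul_right c, ?_⟩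
    have : (c • w) • (1 : Module.End R M) - φ * (c • h) = c • (w • 1 - φ * h) := by
      rw [smul_sub, smul_smul, mul_smul_comm, smul_eq_mul]
    rw [this, mul_smul_comm, e, smul_zero]

theorem mem_fittingIdeal (φ : Module.End R M) (w : R) :
    w ∈ fittingIdeal φ ↔
      ∃ (N : ℕ) (h : Module.End R M), Commute φ h ∧ φ ^ N * (w • 1 - φ * h) = 0 := Iff.rfl

theorem exists_fitting_of_local (φ : Module.End R M)
    (hloc : ∀ q : PrimeSpectrum R, ∃ w ∈ fittingIdeal φ, w ∉ q.asIdeal) :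
    ∃ (N : ℕ) (h : Module.End R M), Commute φ h ∧ φ ^ N * (1 - φ * h) = 0 := by
  have htop : fittingIdeal φ = ⊤ := by
    by_contra hne
    obtain ⟨m, hm, hle⟩ := Ideal.exists_le_maximal _ hne
    obtain ⟨w, hw, hwm⟩ := hloc ⟨m, hm.isPrime⟩
    exact hwm (hle hw)
  have h1 : (1 : R) ∈ fittingIdeal φ := by rw [htop]; trivial
  obtain ⟨N, h, hc, e⟩ := h1
  rw [one_smul] at e
  exact ⟨N, h, hc, e⟩

end Fitting

end CartanRel
end Groth.Agent.Lib.helper22
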