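import Groth.Agent.Lib.Helper22.CartanRelF

set_option autoImplicit false
universe u
open scoped TensorProduct

namespace Groth.Agent.Lib.helper22
namespace CartanRel

section Intertwine

variable {R : Type*} [CommRing R] {V W : Type*} [AddCommGroup V] [Module R V]
  [AddCommGroup W] [Module R W]

theorem pow_intertwine (Ψ : Module.End R V) (φ : Module.End R W) (S : W →ₗ[R] V)
    (h : ∀ w, Ψ (S w) = S (φ w)) (k : ℕ) (w : W) : (Ψ ^ k) (S w) = S ((φ ^ k) w) := by
  induction k generalizing w with
  | zero => simp
  | succ k ih => rw [pow_succ, pow_succ, Module.End.mul_apply, Module.End.mul_apply, h, ih]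

theorem aeval_intertwine (Ψ : Module.End R V) (φ : Module.End R W) (S : W →ₗ[R] V)
    (h : ∀ w, Ψ (S w) = S (φ w)) (G : Polynomial R) (w : W) :
    (Polynomial.aeval Ψ G) (S w) = S ((Polynomial.aeval φ G) w) := by
  induction G using Polynomial.induction_on' with
  | add p q hp hq => rw [map_add, map_add, LinearMap.add_apply, LinearMap.add_apply, hp, hq, map_add]
  | monomial k c =>
    rw [Polynomial.aeval_monomial, Polynomial.aeval_monomial, ← Algebra.smul_def, ← Algebra.smul_def,
      LinearMap.smul_apply, LinearMap.smul_apply, pow_intertwine Ψ φ S h, map_smul]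

end Intertwine

section UnivMat

variable {A : Type u} [CommRing A] {L : Type u} [LieRing L] [LieAlgebra A L]
variable {n : ℕ} (s : L →ₗ[A] (Fin n → A)) (π : (Fin n → A) →ₗ[A] L)

/-- the generators of `L` given by the presentation `π`. -/
noncomputable def gen (j : Fin n) : L := π (Pi.single j 1)

variable (R : Type*) [CommRing R] [Algebra A R]

/-- the element of `R ⊗ L` with coordinates `x`. -/
noncomputable def elt (x : Fin n → R) : R ⊗[A] L := ∑ j, x j ⊗ₜ[A] gen π j

/-- coordinates of an element of `R ⊗ L`. -/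
noncomputable def coord : R ⊗[A] L →ₗ[R] (Fin n → R) :=
  (TensorProduct.piScalarRightHom A R R (Fin n)) ∘ₗ (s.baseChange R)

theorem coord_tmul (r : R) (l : L) (i : Fin n) : coord s R (r ⊗ₜ[A] l) i = s l i • r := by
  rw [coord, LinearMap.comp_apply, LinearMap.baseChange_tmul, TensorProduct.piScalarRightHom_tmul]

/-- the combination map `v ↦ ∑ v_k ⊗ l_k`. -/
noncomputable def comb : (Fin n → R) →ₗ[R] R ⊗[A] L :=
  Fintype.linearCombination R (fun k => (1 : R) ⊗ₜ[A] gen π k)

theorem comb_apply (v : Fin n → R) : comb π R v = ∑ k, v k ⊗ₜ[A] gen π k := by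
  rw [comb, Fintype.linearCombination_apply]
  apply Finset.sum_congr rfl
  intro k _
  rw [TensorProduct.smul_tmul', smul_eq_mul, mul_one]

theorem comb_eq_elt (v : Fin n → R) : comb π R v = elt π R v := comb_apply π R v

theorem comb_single (k : Fin n) : comb π R (Pi.single k 1) = (1 : R) ⊗ₜ[A] gen π k := by
  rw [comb, Fintype.linearCombination_apply_single, one_smul]

variable (hπs : ∀ x, π (s x) = x)

include hπs in
theorem comb_coord (a : R ⊗[A] L) : comb π R (coord s R a) = a := by
  induction a with
  | zero => simp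
  | add a b ha hb => rw [map_add, map_add, ha, hb]
  | tmul r l =>
    rw [comb_apply]
    have h1 : ∀ k : Fin n, coord s R (r ⊗ₜ[A] l) k ⊗ₜ[A] gen π k = r ⊗ₜ[A] (s l k • gen π k) := by
      intro k
      rw [coord_tmul, TensorProduct.tmul_smul, TensorProduct.smul_tmul']
    rw [Finset.sum_congr rfl (fun k _ => h1 k), ← TensorProduct.tmul_sum]
    congr 1
    conv_rhs => rw [← hπs l, LinearMap.pi_apply_eq_sum_univ π (s l)]
    apply Finset.sum_congr rfl
    intro k _
    rw [gen]
    congr 2
    funext j
    rw [Pi.single_apply]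
    simp only [eq_comm]

include hπs in
theorem coord_injective : Function.Injective (coord s R (L := L)) :=
  Function.LeftInverse.injective (comb_coord s π R hπs)

/-- the universal matrix: `coord ∘ ad(elt x) ∘ comb + (1 - coord ∘ comb)`. -/
noncomputable def mat (x : Fin n → R) : Matrix (Fin n) (Fin n) R := fun i k =>
  ∑ j, s ⁅gen π j, gen π k⁆ i • x j + (if i = k then 1 else 0) - algebraMap A R (s (gen π k) i)

theorem mat_map {R' : Type*} [CommRing R'] [Algebra A R'] (f : R →ₐ[A] R') (x : Fin n → R) :
    (mat s π R x).map f = mat s π R' (fun j => f (x j)) := by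
  ext i k
  rw [Matrix.map_apply, mat, mat, map_sub, map_add, map_sum]
  congr 2
  · apply Finset.sum_congr rfl
    intro j _
    rw [map_smul]
  · split_ifs <;> simp
  · exact f.commutes _

theorem lie_elt_single (x : Fin n → R) (k : Fin n) :
    ⁅elt π R x, (1 : R) ⊗ₜ[A] gen π k⁆ = ∑ j, x j ⊗ₜ[A] ⁅gen π j, gen π k⁆ := by
  rw [elt, sum_lie]
  apply Finset.sum_congr rfl
  intro j _
  rw [LieAlgebra.ExtendScalars.bracket_tmul, mul_one]

theorem toLin'_mat (x : Fin n → R) :
    Matrix.toLin' (mat s π R x) =
      coord s R ∘ₗ (LieAlgebra.ad R (R ⊗[A] L) (elt π R x) : Module.End R (R ⊗[A] L)) ∘ₗ comb π R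
        + LinearMap.id - coord s R ∘ₗ comb π R := by
  apply LinearMap.pi_ext'
  intro k
  apply LinearMap.ext_ring
  apply funext
  intro i
  rw [LinearMap.comp_apply, LinearMap.comp_apply, LinearMap.single_apply, Matrix.toLin'_apply,
    Matrix.mulVec_single_one, LinearMap.sub_apply, LinearMap.add_apply, LinearMap.comp_apply,
    LinearMap.comp_apply, LinearMap.comp_apply, comb_single, LieAlgebra.ad_apply, lie_elt_single,
    map_sum, LinearMap.id_apply]
  rw [Pi.sub_apply, Pi.add_apply, Finset.sum_apply, coord_tmul, Matrix.col_apply, mat]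
  have e1 : ∑ j, s ⁅gen π j, gen π k⁆ i • x j = ∑ c, coord s R (x c ⊗ₜ[A] ⁅gen π c, gen π k⁆) i := by
    apply Finset.sum_congr rfl
    intro j _
    rw [coord_tmul]
  have e2 : (if i = k then (1 : R) else 0) = (Pi.single k (1 : R) : Fin n → R) i := by
    rw [Pi.single_apply]
  have e3 : algebraMap A R (s (gen π k) i) = s (gen π k) i • (1 : R) := by
    rw [Algebra.smul_def, mul_one]
  rw [e1, e2, e3]

include hπs in
/-- `Ψ ∘ coord = coord ∘ ad(elt x)`. -/
theorem toLin'_mat_coord (x : Fin n → R) (a : R ⊗[A] L) :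
    Matrix.toLin' (mat s π R x) (coord s R a) = coord s R ⁅elt π R x, a⁆ := by
  rw [toLin'_mat, LinearMap.sub_apply, LinearMap.add_apply, LinearMap.comp_apply,
    LinearMap.comp_apply, LinearMap.comp_apply, comb_coord s π R hπs, LinearMap.id_apply,
    add_sub_cancel_right, LieAlgebra.ad_apply]

include hπs in
/-- `(1 - P) ∘ Ψ = 1 - P` where `P = coord ∘ comb`. -/
theorem toLin'_mat_compl (x : Fin n → R) (v : Fin n → R) :
    Matrix.toLin' (mat s π R x) v - coord s R (comb π R (Matrix.toLin' (mat s π R x) v)) =
      v - coord s R (comb π R v) := by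
  have h1 : comb π R (Matrix.toLin' (mat s π R x) v) = ⁅elt π R x, comb π R v⁆ := by
    rw [toLin'_mat, LinearMap.sub_apply, LinearMap.add_apply, LinearMap.comp_apply,
      LinearMap.comp_apply, LinearMap.comp_apply, LinearMap.id_apply, map_sub, map_add,
      comb_coord s π R hπs, comb_coord s π R hπs, add_sub_cancel_right, LieAlgebra.ad_apply]
  rw [h1]
  rw [toLin'_mat, LinearMap.sub_apply, LinearMap.add_apply, LinearMap.comp_apply,
    LinearMap.comp_apply, LinearMap.comp_apply, LinearMap.id_apply, LieAlgebra.ad_apply]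
  abel

include hπs in
theorem toLin'_mat_pow_compl (x : Fin n → R) (k : ℕ) (v : Fin n → R) :
    (Matrix.toLin' (mat s π R x) ^ k) v -
      coord s R (comb π R ((Matrix.toLin' (mat s π R x) ^ k) v)) =
      v - coord s R (comb π R v) := by
  induction k with
  | zero => simp
  | succ k ih =>
    rw [pow_succ', Module.End.mul_apply, toLin'_mat_compl s π R hπs, ih]

include hπs in
/-- Cayley–Hamilton for `ad (elt x)` with the characteristic polynomial of the universal matrix. -/
theorem aeval_ad_charpoly (x : Fin n → R) :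
    Polynomial.aeval (LieAlgebra.ad R (R ⊗[A] L) (elt π R x) : Module.End R (R ⊗[A] L))
      (mat s π R x).charpoly = 0 := by
  apply LinearMap.ext
  intro a
  apply coord_injective s π R hπs
  rw [← aeval_intertwine (Matrix.toLin' (mat s π R x)) _ (coord s R)
    (fun w => by rw [toLin'_mat_coord s π R hπs, LieAlgebra.ad_apply]),
    ← Matrix.charpoly_toLin', LinearMap.aeval_self_charpoly, LinearMap.zero_apply,
    LinearMap.zero_apply, map_zero]

end UnivMat

end CartanRel
end Groth.Agent.Lib.helper22
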