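import Groth.Agent.Lib.Helper22.CartanRelF
import Groth.Agent.Lib.Helper22.CartanRelH2

set_option autoImplicit false
universe u
open scoped TensorProduct

namespace Groth.Agent.Lib.helper22
namespace CartanRel

section FieldCase

variable {A : Type u} [CommRing A] {L : Type u} [LieRing L] [LieAlgebra A L] [Module.Finite A L]
variable {n : ℕ} (s : L →ₗ[A] (Fin n → A)) (π : (Fin n → A) →ₗ[A] L) (hπs : ∀ x, π (s x) = x)
variable (K : Type*) [Field K] [Algebra A K]

include hπs in
theorem map_coord_engel (x : Fin n → K) :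
    Submodule.map (coord s K) (LieSubalgebra.engel K (elt π K x)).toSubmodule =
      Module.End.maxGenEigenspace (Matrix.toLin' (mat s π K x)) 0 := by
  have hint : ∀ w, Matrix.toLin' (mat s π K x) (coord s K w) =
      coord s K ((LieAlgebra.ad K (K ⊗[A] L) (elt π K x) : Module.End K (K ⊗[A] L)) w) :=
    fun w => by rw [toLin'_mat_coord s π K hπs, LieAlgebra.ad_apply]
  apply le_antisymm
  · rintro _ ⟨y, hy, rfl⟩
    rw [SetLike.mem_coe, LieSubalgebra.mem_toSubmodule, LieSubalgebra.mem_engel_iff] at hy
    obtain ⟨k, hk⟩ := hy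
    rw [Module.End.mem_maxGenEigenspace]
    refine ⟨k, ?_⟩
    rw [zero_smul, sub_zero, pow_intertwine _ _ (coord s K) hint, hk, map_zero]
  · intro v hv
    rw [Module.End.mem_maxGenEigenspace] at hv
    obtain ⟨k, hk⟩ := hv
    rw [zero_smul, sub_zero] at hk
    have h1 := toLin'_mat_pow_compl s π K hπs x k v
    rw [hk, map_zero, map_zero, sub_zero] at h1
    have h2 : v = coord s K (comb π K v) := (sub_eq_zero.mp h1.symm)
    refine ⟨comb π K v, ?_, h2.symm⟩
    rw [SetLike.mem_coe, LieSubalgebra.mem_toSubmodule, LieSubalgebra.mem_engel_iff]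
    refine ⟨k, ?_⟩
    apply coord_injective s π K hπs
    rw [← pow_intertwine _ _ (coord s K) hint, ← h2, hk, map_zero]

include hπs in
theorem natTrailingDegree_charpoly_mat (x : Fin n → K) :
    (mat s π K x).charpoly.natTrailingDegree =
      Module.finrank K (LieSubalgebra.engel K (elt π K x)) := by
  rw [← Matrix.charpoly_toLin', ← LinearMap.finrank_maxGenEigenspace_zero_eq,
    ← map_coord_engel s π hπs K x]
  exact (Submodule.equivMapOfInjective (coord s K) (coord_injective s π K hπs) _).finrank_eq.symm

include hπs in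
theorem rank_le_natTrailingDegree_charpoly_mat (x : Fin n → K) :
    LieAlgebra.rank K (K ⊗[A] L) ≤ (mat s π K x).charpoly.natTrailingDegree := by
  rw [natTrailingDegree_charpoly_mat s π hπs K x]
  exact LieAlgebra.rank_le_finrank_engel K (elt π K x)

include hπs in
theorem natTrailingDegree_charpoly_mat_of_isRegular (x : Fin n → K)
    (hx : LieAlgebra.IsRegular K (elt π K x)) :
    (mat s π K x).charpoly.natTrailingDegree = LieAlgebra.rank K (K ⊗[A] L) := by
  rw [natTrailingDegree_charpoly_mat s π hπs K x]
  exact (LieAlgebra.isRegular_iff_finrank_engel_eq_rank K (elt π K x)).mp hx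

end FieldCase

end CartanRel
end Groth.Agent.Lib.helper22
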