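import Groth.Agent.Lib.Helper22.CartanRelH3

set_option autoImplicit false
universe u
open scoped TensorProduct

namespace Groth.Agent.Lib.helper22
namespace CartanRel

section RankExt

variable {A : Type*} [CommRing A] {L : Type*} [LieRing L] [LieAlgebra A L] [Module.Finite A L]

theorem rank_field_ext (K K' : Type*) [Field K] [Field K'] [Algebra A K] [Algebra A K']
    [Algebra K K'] [IsScalarTower A K K'] :
    LieAlgebra.rank K' (K' ⊗[A] L) = LieAlgebra.rank K (K ⊗[A] L) := by
  rw [← rank_baseChange K K' (K ⊗[A] L)]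
  exact rank_eq_of_equiv K'
    (TensorProduct.AlgebraTensorModule.cancelBaseChange A K K' K' L) (cancel_lie K K')

end RankExt

section RankResidue

variable {A : Type u} [CommRing A] {L : Type u} [LieRing L] [LieAlgebra A L] [Module.Finite A L]
variable (B : Type u) [CommRing B] [Algebra A B] (q' : PrimeSpectrum B)

theorem rank_residue' :
    LieAlgebra.rank q'.asIdeal.ResidueField (q'.asIdeal.ResidueField ⊗[A] L) =
      LieAlgebra.rank (PrimeSpectrum.comap (algebraMap A B) q').asIdeal.ResidueField
        ((PrimeSpectrum.comap (algebraMap A B) q').asIdeal.ResidueField ⊗[A] L) := by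
  letI : Algebra (PrimeSpectrum.comap (algebraMap A B) q').asIdeal.ResidueField
      q'.asIdeal.ResidueField :=
    (Ideal.ResidueField.map (PrimeSpectrum.comap (algebraMap A B) q').asIdeal q'.asIdeal
      (algebraMap A B) rfl).toAlgebra
  haveI : IsScalarTower A (PrimeSpectrum.comap (algebraMap A B) q').asIdeal.ResidueField
      q'.asIdeal.ResidueField := by
    apply IsScalarTower.of_algebraMap_eq'
    apply RingHom.ext
    intro a
    rw [RingHom.comp_apply, RingHom.algebraMap_toAlgebra, Ideal.ResidueField.map_algebraMap,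
      ← IsScalarTower.algebraMap_apply]
  exact rank_field_ext (PrimeSpectrum.comap (algebraMap A B) q').asIdeal.ResidueField
    q'.asIdeal.ResidueField

end RankResidue

section Universal

variable {A : Type u} [CommRing A] [IsReduced A] {L : Type u} [LieRing L] [LieAlgebra A L]
  [Module.Finite A L]
variable {n : ℕ} (s : L →ₗ[A] (Fin n → A)) (π : (Fin n → A) →ₗ[A] L) (hπs : ∀ x, π (s x) = x)

omit [IsReduced A] [Module.Finite A L] in
theorem charpoly_mat_map {R R' : Type*} [CommRing R] [Algebra A R] [CommRing R'] [Algebra A R']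
    (f : R →ₐ[A] R') (x : Fin n → R) :
    (mat s π R' (fun j => f (x j))).charpoly = (mat s π R x).charpoly.map (f : R →+* R') := by
  rw [← Matrix.charpoly_map, ← mat_map]
  rfl

include hπs in
/-- over a reduced base, the low coefficients of the universal characteristic polynomial vanish
where the rank is at least `r`. -/
theorem univ_coeff_vanish (r : ℕ) (g₀ : A)
    (hg : ∀ q : PrimeSpectrum A, g₀ ∉ q.asIdeal →
      LieAlgebra.rank q.asIdeal.ResidueField (q.asIdeal.ResidueField ⊗[A] L) = r)
    (i : ℕ) (hi : i < r) :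
    algebraMap A (MvPolynomial (Fin n) A) g₀ *
      (mat s π (MvPolynomial (Fin n) A) MvPolynomial.X).charpoly.coeff i = 0 := by
  apply IsNilpotent.eq_zero
  rw [nilpotent_iff_mem_prime]
  intro J hJ
  by_cases hgJ : algebraMap A (MvPolynomial (Fin n) A) g₀ ∈ J
  · exact Ideal.mul_mem_right _ _ hgJ
  apply Ideal.mul_mem_left
  let Q : PrimeSpectrum (MvPolynomial (Fin n) A) := ⟨J, hJ⟩
  have hgq : g₀ ∉ (PrimeSpectrum.comap (algebraMap A (MvPolynomial (Fin n) A)) Q).asIdeal := hgJ
  have hrank := hg _ hgq
  rw [← rank_residue' (MvPolynomial (Fin n) A) Q] at hrank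
  let f : MvPolynomial (Fin n) A →ₐ[A] Q.asIdeal.ResidueField :=
    IsScalarTower.toAlgHom A (MvPolynomial (Fin n) A) Q.asIdeal.ResidueField
  have h1 := charpoly_mat_map s π f MvPolynomial.X
  have h2 := rank_le_natTrailingDegree_charpoly_mat s π hπs Q.asIdeal.ResidueField
    (fun j => f (MvPolynomial.X j))
  rw [hrank, h1] at h2
  have h3 : ((mat s π (MvPolynomial (Fin n) A) MvPolynomial.X).charpoly.map
      (f : MvPolynomial (Fin n) A →+* Q.asIdeal.ResidueField)).coeff i = 0 :=
    Polynomial.coeff_eq_zero_of_lt_natTrailingDegree (lt_of_lt_of_le hi h2)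
  rw [Polynomial.coeff_map] at h3
  exact (Ideal.algebraMap_residueField_eq_zero).mp h3

end Universal

end CartanRel
end Groth.Agent.Lib.helper22
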