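import Groth.Agent.Lib.Helper22.CartanRelH1
import Groth.Agent.Lib.Helper22.CartanRelH4

set_option autoImplicit false
universe u
open scoped TensorProduct

namespace Groth.Agent.Lib.helper22
namespace CartanRel

section Local

variable {A : Type u} [CommRing A] [IsReduced A] {L : Type u} [LieRing L] [LieAlgebra A L]
  [Module.Finite A L]
variable {n : ℕ} (s : L →ₗ[A] (Fin n → A)) (π : (Fin n → A) →ₗ[A] L) (hπs : ∀ x, π (s x) = x)
variable (A' : Type u) [CommRing A'] [Algebra A A']

omit [IsReduced A] [Module.Finite A L] in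
theorem commute_aeval {R : Type*} [CommRing R] {M : Type*} [AddCommGroup M] [Module R M]
    (φ : Module.End R M) (G : Polynomial R) : Commute φ (Polynomial.aeval φ G) := by
  have h1 : φ * Polynomial.aeval φ G = Polynomial.aeval φ (Polynomial.X * G) := by
    rw [map_mul, Polynomial.aeval_X]
  have h2 : Polynomial.aeval φ G * φ = Polynomial.aeval φ (G * Polynomial.X) := by
    rw [map_mul, Polynomial.aeval_X]
  rw [Commute, SemiconjBy, h1, h2, mul_comm]

omit [IsReduced A] [Module.Finite A L] in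
/-- from a polynomial `P = X^r * Q` killing `φ`, a Fitting datum with `w = Q(0)`. -/
theorem mem_fittingIdeal_of_aeval {R : Type*} [CommRing R] {M : Type*} [AddCommGroup M] [Module R M]
    (φ : Module.End R M) (r : ℕ) (Q : Polynomial R)
    (h : Polynomial.aeval φ (Polynomial.X ^ r * Q) = 0) : Q.coeff 0 ∈ fittingIdeal φ := by
  rw [mem_fittingIdeal]
  refine ⟨r, - Polynomial.aeval φ Q.divX, (commute_aeval φ _).neg_right, ?_⟩
  have h1 : Polynomial.aeval φ Q = Polynomial.aeval φ Q.divX * φ + Q.coeff 0 • 1 := by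
    conv_lhs => rw [← Polynomial.divX_mul_X_add Q]
    rw [map_add, map_mul, Polynomial.aeval_X, Polynomial.aeval_C, Algebra.algebraMap_eq_smul_one]
  rw [map_mul, map_pow, Polynomial.aeval_X, h1] at h
  rw [mul_neg, sub_neg_eq_add, (commute_aeval φ Q.divX).eq, add_comm]
  exact h

include hπs in
theorem local_datum
    (hC0 : ∀ p : PrimeSpectrum A, ∃ f : A, f ∉ p.asIdeal ∧ ∀ q : PrimeSpectrum A, f ∉ q.asIdeal →
        LieAlgebra.rank q.asIdeal.ResidueField (q.asIdeal.ResidueField ⊗[A] L) =
          LieAlgebra.rank p.asIdeal.ResidueField (p.asIdeal.ResidueField ⊗[A] L))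
    (x : Fin n → A') (q' : PrimeSpectrum A')
    (hreg : LieAlgebra.IsRegular q'.asIdeal.ResidueField
      ((1 : q'.asIdeal.ResidueField) ⊗ₜ[A'] elt π A' x)) :
    ∃ w ∈ fittingIdeal (LieAlgebra.ad A' (A' ⊗[A] L) (elt π A' x) : Module.End A' (A' ⊗[A] L)),
      w ∉ q'.asIdeal := by
  obtain ⟨g₀, hg₀, hrank⟩ := hC0 (PrimeSpectrum.comap (algebraMap A A') q')
  set r := LieAlgebra.rank (PrimeSpectrum.comap (algebraMap A A') q').asIdeal.ResidueField
    ((PrimeSpectrum.comap (algebraMap A A') q').asIdeal.ResidueField ⊗[A] L) with hr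
  set χ := (mat s π A' x).charpoly with hχ
  -- the universal polynomial specialises to χ
  have hev : χ = (mat s π (MvPolynomial (Fin n) A) MvPolynomial.X).charpoly.map
      ((MvPolynomial.aeval x : MvPolynomial (Fin n) A →ₐ[A] A') : MvPolynomial (Fin n) A →+* A') := by
    rw [← charpoly_mat_map s π (MvPolynomial.aeval x) MvPolynomial.X, hχ]
    congr 2
    funext j
    rw [MvPolynomial.aeval_X]
  have hlow : ∀ i < r, algebraMap A A' g₀ * χ.coeff i = 0 := by
    intro i hi
    have h1 := univ_coeff_vanish s π hπs r g₀ hrank i hi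
    have h2 := congrArg (MvPolynomial.aeval x : MvPolynomial (Fin n) A →ₐ[A] A') h1
    rw [map_mul, AlgHom.commutes, map_zero] at h2
    rw [hev, Polynomial.coeff_map]
    exact h2
  -- the coefficient in degree r is a unit at q'
  have hc : χ.coeff r ∉ q'.asIdeal := by
    let f : A' →ₐ[A] q'.asIdeal.ResidueField := IsScalarTower.toAlgHom A A' q'.asIdeal.ResidueField
    have h1 := charpoly_mat_map s π f x
    have h2 := isRegular_of_equiv q'.asIdeal.ResidueField
      (TensorProduct.AlgebraTensorModule.cancelBaseChange A A' q'.asIdeal.ResidueField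
        q'.asIdeal.ResidueField L) (cancel_lie A' q'.asIdeal.ResidueField) _ hreg
    have h3 : TensorProduct.AlgebraTensorModule.cancelBaseChange A A' q'.asIdeal.ResidueField
        q'.asIdeal.ResidueField L ((1 : q'.asIdeal.ResidueField) ⊗ₜ[A'] elt π A' x) =
        elt π q'.asIdeal.ResidueField (fun j => f (x j)) := by
      rw [elt, elt, TensorProduct.tmul_sum, map_sum]
      apply Finset.sum_congr rfl
      intro j _
      rw [TensorProduct.AlgebraTensorModule.cancelBaseChange_tmul, Algebra.smul_def, mul_one]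
      rfl
    rw [h3] at h2
    have h4 := natTrailingDegree_charpoly_mat_of_isRegular s π hπs q'.asIdeal.ResidueField _ h2
    rw [rank_residue' A' q', ← hr, h1] at h4
    have h5 : (χ.map (f : A' →+* q'.asIdeal.ResidueField)) ≠ 0 := by
      have hm : (χ.map (f : A' →+* q'.asIdeal.ResidueField)).Monic :=
        (Matrix.charpoly_monic _).map _
      exact hm.ne_zero
    have h6 := Polynomial.trailingCoeff_nonzero_iff_nonzero.mpr h5
    rw [Polynomial.trailingCoeff, h4, Polynomial.coeff_map] at h6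
    intro hmem
    exact h6 ((Ideal.algebraMap_residueField_eq_zero).mpr hmem)
  have hg₀' : algebraMap A A' g₀ ∉ q'.asIdeal := hg₀
  refine ⟨algebraMap A A' g₀ * χ.coeff r, ?_, fun hmem =>
    (q'.isPrime.mem_or_mem hmem).elim hg₀' hc⟩
  -- factor C g₀ * χ = X^r * Q
  have hdvd : Polynomial.X ^ r ∣ Polynomial.C (algebraMap A A' g₀) * χ := by
    rw [Polynomial.X_pow_dvd_iff]
    intro d hd
    rw [Polynomial.coeff_C_mul]
    exact hlow d hd
  obtain ⟨Q, hQ⟩ := hdvd
  have hQ0 : Q.coeff 0 = algebraMap A A' g₀ * χ.coeff r := by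
    have h1 := congrArg (fun P => Polynomial.coeff P r) hQ
    simp only [Polynomial.coeff_C_mul] at h1
    rw [h1]
    have := Polynomial.coeff_X_pow_mul Q r 0
    rw [zero_add] at this
    exact this.symm
  rw [← hQ0]
  apply mem_fittingIdeal_of_aeval _ r Q
  rw [← hQ, map_mul, Polynomial.aeval_C, hχ, aeval_ad_charpoly s π A' hπs, mul_zero]

end Local

section Main

variable {A : Type u} [CommRing A] [IsReduced A] {L : Type u} [LieRing L] [LieAlgebra A L]
  [Module.Finite A L] [Module.Projective A L]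

theorem isRegularRel_of_reduced
    (hC0 : ∀ p : PrimeSpectrum A, ∃ f : A, f ∉ p.asIdeal ∧ ∀ q : PrimeSpectrum A, f ∉ q.asIdeal →
        LieAlgebra.rank q.asIdeal.ResidueField (q.asIdeal.ResidueField ⊗[A] L) =
          LieAlgebra.rank p.asIdeal.ResidueField (p.asIdeal.ResidueField ⊗[A] L))
    (A' : Type u) [CommRing A'] [Algebra A A'] (a' : A' ⊗[A] L)
    (ha' : SGA3t2b.IsQuasiRegular A' (A' ⊗[A] L) a') :
    SGA3t2b.IsRegularRel A' (A' ⊗[A] L) a' := by
  obtain ⟨n, π, hπ⟩ := Module.Finite.exists_fin' A L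
  obtain ⟨s, hs⟩ := π.exists_rightInverse_of_surjective (LinearMap.range_eq_top.mpr hπ)
  have hπs : ∀ x, π (s x) = x := fun x => LinearMap.congr_fun hs x
  have hx : elt π A' (coord s A' a') = a' := by
    rw [← comb_eq_elt, comb_coord s π A' hπs]
  obtain ⟨N, h, hc, hN⟩ := exists_fitting_of_local
    (LieAlgebra.ad A' (A' ⊗[A] L) a' : Module.End A' (A' ⊗[A] L)) (fun q' => by
      have := local_datum s π hπs A' hC0 (coord s A' a') q' (by rw [hx]; exact ha' q')
      rw [hx] at this
      exact this)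
  have hE : ∀ y, y ∈ (LieSubalgebra.engel A' a').toSubmodule ↔
      ((LieAlgebra.ad A' (A' ⊗[A] L) a' : Module.End A' (A' ⊗[A] L)) ^ N) y = 0 := by
    intro y
    rw [LieSubalgebra.mem_toSubmodule, LieSubalgebra.mem_engel_iff]
    exact ⟨fun ⟨k, hk⟩ => fitting_ker_stab _ h hc N hN k y hk, fun hy => ⟨N, hy⟩⟩
  obtain ⟨ε, hε, hker⟩ := fitting_idem _ h hc N hN
  have hproj : Module.Projective A' ((A' ⊗[A] L) ⧸ (LieSubalgebra.engel A' a').toSubmodule) :=
    projective_quotient_of_idem _ ε hε (fun y => (hE y).trans (hker y).symm)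
  refine ⟨ha', LieSubalgebra.engel A' a', isCartanRel_engel a' ha' hproj ?_ ?_,
    LieSubalgebra.self_mem_engel A' a'⟩
  · intro z hz
    rw [LieSubalgebra.mem_engel_iff] at hz ⊢
    obtain ⟨k, hk⟩ := hz
    refine ⟨k + 1, ?_⟩
    rw [pow_succ, Module.End.mul_apply, LieAlgebra.ad_apply]
    exact hk
  · intro y
    refine ⟨h y, ?_⟩
    rw [← LieSubalgebra.mem_toSubmodule, hE]
    have := fitting_surj _ h N hN y
    rw [LieAlgebra.ad_apply] at this
    exact this

end Main

end CartanRel
end Groth.Agent.Lib.helper22
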