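import Mathlib
import Groth.Agent.Lib.Helper22.WeakCB

/-!
# Cauchy–Binet formula (sum over subsets)
-/

namespace Groth.Agent.Lib.helper22.CauchyBinet

open Matrix Groth.Agent.Lib.helper22.WeakCB

variable {R : Type*} [CommRing R]

/-- the map `(L, σ) ↦ emb_L ∘ σ` onto injective functions. -/
noncomputable def Psi (e r : ℕ) :
    (Σ _L : {s : Finset (Fin r) // s.card = e}, Equiv.Perm (Fin e)) →
      {φ : Fin e → Fin r // Function.Injective φ} :=
  fun p => ⟨fun i => p.1.1.orderEmbOfFin p.1.2 (p.2 i),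
    (p.1.1.orderEmbOfFin p.1.2).injective.comp p.2.injective⟩

theorem Psi_bijective (e r : ℕ) : Function.Bijective (Psi e r) := by
  classical
  constructor
  · rintro ⟨L, σ⟩ ⟨L', σ'⟩ h
    have hfun : (fun i => L.1.orderEmbOfFin L.2 (σ i)) = fun i => L'.1.orderEmbOfFin L'.2 (σ' i) :=
      congrArg Subtype.val h
    have hrange : (L.1 : Set (Fin r)) = (L'.1 : Set (Fin r)) := by
      rw [← Finset.range_orderEmbOfFin L.1 L.2, ← Finset.range_orderEmbOfFin L'.1 L'.2]
      have h1 : Set.range (fun i => L.1.orderEmbOfFin L.2 (σ i))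
          = Set.range (L.1.orderEmbOfFin L.2) := by
        rw [show (fun i => L.1.orderEmbOfFin L.2 (σ i)) = (L.1.orderEmbOfFin L.2) ∘ σ from rfl,
          Set.range_comp, σ.surjective.range_eq, Set.image_univ]
      have h2 : Set.range (fun i => L'.1.orderEmbOfFin L'.2 (σ' i))
          = Set.range (L'.1.orderEmbOfFin L'.2) := by
        rw [show (fun i => L'.1.orderEmbOfFin L'.2 (σ' i)) = (L'.1.orderEmbOfFin L'.2) ∘ σ' from rfl,
          Set.range_comp, σ'.surjective.range_eq, Set.image_univ]
      rw [← h1, ← h2, hfun]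
    obtain rfl : L = L' := Subtype.ext (Finset.coe_injective hrange)
    congr 1
    ext i
    have := congrFun hfun i
    exact congrArg Fin.val ((L.1.orderEmbOfFin L.2).injective this)
  · rintro ⟨φ, hφ⟩
    have hcard : (Finset.univ.image φ).card = e := by
      rw [Finset.card_image_of_injective _ hφ, Finset.card_univ, Fintype.card_fin]
    let L : {s : Finset (Fin r) // s.card = e} := ⟨Finset.univ.image φ, hcard⟩
    let τ : Fin e → Fin e := fun i =>
      (L.1.orderIsoOfFin L.2).symm ⟨φ i, Finset.mem_image_of_mem _ (Finset.mem_univ i)⟩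
    have hτinj : Function.Injective τ := by
      intro i j hij
      have := (L.1.orderIsoOfFin L.2).symm.injective hij
      exact hφ (congrArg Subtype.val this)
    have hτbij : Function.Bijective τ := Finite.injective_iff_bijective.1 hτinj
    refine ⟨⟨L, Equiv.ofBijective τ hτbij⟩, ?_⟩
    apply Subtype.ext
    funext i
    show L.1.orderEmbOfFin L.2 (τ i) = φ i
    rw [← Finset.coe_orderIsoOfFin_apply, OrderIso.apply_symm_apply]

/-- Cauchy–Binet. -/
theorem det_mul_eq_sum_subsets {e r : ℕ} (P : Matrix (Fin e) (Fin r) R)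
    (Q : Matrix (Fin r) (Fin e) R) :
    (P * Q).det = ∑ L : {s : Finset (Fin r) // s.card = e},
      (P.submatrix id (L.1.orderEmbOfFin L.2)).det *
        (Q.submatrix (L.1.orderEmbOfFin L.2) id).det := by
  classical
  rw [det_mul_eq_sum]
  have hzero : ∀ φ : Fin e → Fin r, ¬ Function.Injective φ →
      (∏ i, P i (φ i)) * (Q.submatrix φ id).det = 0 := by
    intro φ hφ
    rw [Function.Injective] at hφ
    push Not at hφ
    obtain ⟨i, j, hij, hne⟩ := hφ
    rw [Matrix.det_zero_of_row_eq hne (by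
      funext x; simp only [Matrix.submatrix_apply, hij]), mul_zero]
  have h1 : ∑ φ : Fin e → Fin r, (∏ i, P i (φ i)) * (Q.submatrix φ id).det
      = ∑ φ : {φ : Fin e → Fin r // Function.Injective φ},
          (∏ i, P i (φ.1 i)) * (Q.submatrix φ.1 id).det := by
    rw [← Finset.sum_filter_of_ne (p := fun φ : Fin e → Fin r => Function.Injective φ)
      (fun φ _ hne => by by_contra hφ; exact hne (hzero φ hφ))]
    exact Finset.sum_subtype _ (by simp) _
  rw [h1, ← Fintype.sum_bijective (Psi e r) (Psi_bijective e r)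
    (fun p => (∏ i, P i ((Psi e r p).1 i)) * (Q.submatrix (Psi e r p).1 id).det) _ (fun _ => rfl),
    Fintype.sum_sigma]
  refine Finset.sum_congr rfl (fun L _ => ?_)
  have h2 : ∀ σ : Equiv.Perm (Fin e),
      (∏ i, P i ((Psi e r ⟨L, σ⟩).1 i)) * (Q.submatrix (Psi e r ⟨L, σ⟩).1 id).det
      = (((Equiv.Perm.sign σ : ℤˣ) : ℤ) : R) *
          (∏ i, (P.submatrix id (L.1.orderEmbOfFin L.2))ᵀ (σ i) i) *
          (Q.submatrix (L.1.orderEmbOfFin L.2) id).det := by
    intro σ
    have e1 : Q.submatrix (Psi e r ⟨L, σ⟩).1 id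
        = (Q.submatrix (L.1.orderEmbOfFin L.2) id).submatrix σ id := by
      ext a b; rfl
    rw [e1, Matrix.det_permute]
    simp only [Psi, Matrix.transpose_apply, Matrix.submatrix_apply, id_eq]
    ring
  rw [Finset.sum_congr rfl (fun σ _ => h2 σ), ← Finset.sum_mul, ← Matrix.det_apply',
    Matrix.det_transpose]

end Groth.Agent.Lib.helper22.CauchyBinet
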