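import Groth.Prelude.Def_ComodTens

/-!
R-points of an affine group acting on comodules: `g · (v ⊗ v') = (g · v)(g · v')`, and the
stabilizer of `W ⊗ W'`.
-/

set_option autoImplicit false
universe u u' v v'
open scoped TensorProduct

namespace Groth.Agent.Lib.helper22

section

variable {k : Type u} {A : Type u'} [Field k] [CommRing A] [HopfAlgebra k A]
variable {V : Type v} [AddCommGroup V] [Module k V]
variable {V' : Type v'} [AddCommGroup V'] [Module k V']
variable {R : Type*} [CommRing R] [Algebra k R]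

/-- `g · v` for an `R`-point `g` -/
noncomputable def ga (c : HopfRep.Comod k A V) (g : A →ₐ[k] R) : V →ₗ[k] V ⊗[k] R :=
  LinearMap.lTensor V g.toLinearMap ∘ₗ c.coact

variable (k V V' R) in
/-- the product `(V ⊗ R) ⊗ (V' ⊗ R) → (V ⊗ V') ⊗ R` -/
noncomputable def gM : (V ⊗[k] R) ⊗[k] (V' ⊗[k] R) →ₗ[k] (V ⊗[k] V') ⊗[k] R :=
  TensorProduct.map LinearMap.id (LinearMap.mul' k R) ∘ₗ
    (TensorProduct.AlgebraTensorModule.tensorTensorTensorComm k k k k V R V' R).toLinearMap

@[simp] theorem gM_tmul (v : V) (r : R) (v' : V') (r' : R) :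
    gM k V V' R ((v ⊗ₜ[k] r) ⊗ₜ[k] (v' ⊗ₜ[k] r')) = (v ⊗ₜ[k] v') ⊗ₜ[k] (r * r') := by
  simp [gM]

theorem ga_tensor (c : HopfRep.Comod k A V) (c' : HopfRep.Comod k A V') (g : A →ₐ[k] R)
    (v : V) (v' : V') :
    ga (ComodTens.Comod.tensor c c') g (v ⊗ₜ[k] v') = gM k V V' R (ga c g v ⊗ₜ[k] ga c' g v') := by
  unfold ga
  simp only [LinearMap.comp_apply]
  rw [ComodTens.tensor_coact_tmul]
  generalize c.coact v = a
  generalize c'.coact v' = b
  induction a using TensorProduct.induction_on with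
  | zero => simp
  | tmul x α =>
    induction b using TensorProduct.induction_on with
    | zero => simp
    | tmul y β => simp
    | add b₁ b₂ h₁ h₂ => simp only [TensorProduct.tmul_add, map_add, h₁, h₂]
  | add a₁ a₂ h₁ h₂ => simp only [TensorProduct.add_tmul, map_add, h₁, h₂]

/-- the product of `W ⊗ R` and `W' ⊗ R` lies in `(W ⊗ W') ⊗ R` -/
theorem gM_mem (W : Submodule k V) (W' : Submodule k V') {a : V ⊗[k] R} {b : V' ⊗[k] R}
    (ha : a ∈ LinearMap.range (W.subtype.rTensor R)) (hb : b ∈ LinearMap.range (W'.subtype.rTensor R)) :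
    gM k V V' R (a ⊗ₜ[k] b) ∈
      LinearMap.range ((LinearMap.range (TensorProduct.mapIncl W W')).subtype.rTensor R) := by
  obtain ⟨a₀, rfl⟩ := ha
  obtain ⟨b₀, rfl⟩ := hb
  induction a₀ using TensorProduct.induction_on with
  | zero => simp
  | tmul w r =>
    induction b₀ using TensorProduct.induction_on with
    | zero => simp
    | tmul w' r' =>
      rw [LinearMap.rTensor_tmul, LinearMap.rTensor_tmul, gM_tmul]
      exact ⟨(⟨(w : V) ⊗ₜ[k] (w' : V'), ⟨w ⊗ₜ[k] w', rfl⟩⟩ :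
        LinearMap.range (TensorProduct.mapIncl W W')) ⊗ₜ[k] (r * r'), rfl⟩
    | add b₁ b₂ h₁ h₂ =>
      rw [map_add, TensorProduct.tmul_add, map_add]
      exact add_mem h₁ h₂
  | add a₁ a₂ h₁ h₂ =>
    rw [map_add, TensorProduct.add_tmul, map_add]
    exact add_mem h₁ h₂

/-- `v' ↦ Σ ℓ(v'₀) g(S v'₁)` -/
noncomputable def lam₀ (c' : HopfRep.Comod k A V') (g : A →ₐ[k] R) (ℓ : Module.Dual k V') :
    V' →ₗ[k] R :=
  LinearMap.mul' k R ∘ₗ
    TensorProduct.map (Algebra.linearMap k R ∘ₗ ℓ)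
      (g.toLinearMap ∘ₗ HopfAlgebra.antipode k (A := A)) ∘ₗ c'.coact

/-- `v' ⊗ r ↦ λ₀(v') r` -/
noncomputable def gmu (c' : HopfRep.Comod k A V') (g : A →ₐ[k] R) (ℓ : Module.Dual k V') :
    V' ⊗[k] R →ₗ[k] R :=
  LinearMap.mul' k R ∘ₗ (lam₀ c' g ℓ).rTensor R

@[simp] theorem gmu_tmul (c' : HopfRep.Comod k A V') (g : A →ₐ[k] R) (ℓ : Module.Dual k V')
    (v' : V') (r : R) : gmu c' g ℓ (v' ⊗ₜ[k] r) = lam₀ c' g ℓ v' * r := by
  simp [gmu]

/-- `(v ⊗ v') ⊗ r ↦ v ⊗ μ(v' ⊗ r)` -/
noncomputable def gPsi (V : Type v) [AddCommGroup V] [Module k V]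
    (c' : HopfRep.Comod k A V') (g : A →ₐ[k] R) (ℓ : Module.Dual k V') :
    (V ⊗[k] V') ⊗[k] R →ₗ[k] V ⊗[k] R :=
  LinearMap.lTensor V (gmu c' g ℓ) ∘ₗ (TensorProduct.assoc k V V' R).toLinearMap

@[simp] theorem gPsi_tmul (c' : HopfRep.Comod k A V') (g : A →ₐ[k] R) (ℓ : Module.Dual k V')
    (v : V) (v' : V') (r : R) :
    gPsi V c' g ℓ ((v ⊗ₜ[k] v') ⊗ₜ[k] r) = v ⊗ₜ[k] (lam₀ c' g ℓ v' * r) := by
  simp [gPsi]

/-- right multiplication by a scalar of `R` on `V ⊗ R` -/
noncomputable def rsmul (V : Type v) [AddCommGroup V] [Module k V] :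
    (V ⊗[k] R) ⊗[k] R →ₗ[k] V ⊗[k] R :=
  LinearMap.lTensor V (LinearMap.mul' k R) ∘ₗ (TensorProduct.assoc k V R R).toLinearMap

theorem rsmul_one (a : V ⊗[k] R) : rsmul (k := k) (R := R) V (a ⊗ₜ[k] (1 : R)) = a := by
  induction a using TensorProduct.induction_on with
  | zero => simp
  | tmul v r => simp [rsmul]
  | add a₁ a₂ h₁ h₂ => rw [TensorProduct.add_tmul, map_add, h₁, h₂]

theorem gPsi_gM (c' : HopfRep.Comod k A V') (g : A →ₐ[k] R) (ℓ : Module.Dual k V')
    (a : V ⊗[k] R) (b : V' ⊗[k] R) :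
    gPsi V c' g ℓ (gM k V V' R (a ⊗ₜ[k] b)) = rsmul V (a ⊗ₜ[k] gmu c' g ℓ b) := by
  induction a using TensorProduct.induction_on with
  | zero => simp
  | tmul v r =>
    induction b using TensorProduct.induction_on with
    | zero => simp
    | tmul v' r' =>
      simp only [gM_tmul, gPsi_tmul, gmu_tmul, rsmul, LinearMap.comp_apply, LinearEquiv.coe_coe,
        TensorProduct.assoc_tmul, LinearMap.lTensor_tmul, LinearMap.mul'_apply]
      congr 1
      ring
    | add b₁ b₂ h₁ h₂ => simp only [TensorProduct.tmul_add, map_add, h₁, h₂]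
  | add a₁ a₂ h₁ h₂ => simp only [TensorProduct.add_tmul, map_add, h₁, h₂]

theorem gPsi_mem (c' : HopfRep.Comod k A V') (g : A →ₐ[k] R) (ℓ : Module.Dual k V')
    (W : Submodule k V) (W' : Submodule k V') {z : (V ⊗[k] V') ⊗[k] R}
    (hz : z ∈ LinearMap.range ((LinearMap.range (TensorProduct.mapIncl W W')).subtype.rTensor R)) :
    gPsi V c' g ℓ z ∈ LinearMap.range (W.subtype.rTensor R) := by
  obtain ⟨y, rfl⟩ := hz
  induction y using TensorProduct.induction_on with
  | zero => simp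
  | tmul n r =>
    obtain ⟨n, t, rfl⟩ := n
    rw [LinearMap.rTensor_tmul, Submodule.subtype_apply]
    simp only
    induction t using TensorProduct.induction_on with
    | zero => simp
    | tmul w w' =>
      rw [TensorProduct.mapIncl, TensorProduct.map_tmul, Submodule.subtype_apply,
        Submodule.subtype_apply, gPsi_tmul]
      exact ⟨w ⊗ₜ[k] (lam₀ c' g ℓ w' * r), rfl⟩
    | add t₁ t₂ h₁ h₂ =>
      rw [map_add, TensorProduct.add_tmul, map_add]
      exact add_mem h₁ h₂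
  | add y₁ y₂ h₁ h₂ =>
    rw [map_add, map_add]
    exact add_mem h₁ h₂

theorem gmu_ga (c' : HopfRep.Comod k A V') (g : A →ₐ[k] R) (ℓ : Module.Dual k V') (w' : V') :
    gmu c' g ℓ (ga c' g w') = algebraMap k R (ℓ w') := by
  let T : (V' ⊗[k] A) ⊗[k] A →ₗ[k] R :=
    LinearMap.mul' k R ∘ₗ TensorProduct.map
      (LinearMap.mul' k R ∘ₗ TensorProduct.map (Algebra.linearMap k R ∘ₗ ℓ)
        (g.toLinearMap ∘ₗ HopfAlgebra.antipode k (A := A))) g.toLinearMap
  let T' : V' ⊗[k] (A ⊗[k] A) →ₗ[k] R :=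
    LinearMap.mul' k R ∘ₗ TensorProduct.map (Algebra.linearMap k R ∘ₗ ℓ)
      (g.toLinearMap ∘ₗ LinearMap.mul' k A ∘ₗ (HopfAlgebra.antipode k (A := A)).rTensor A)
  have h1 : ∀ y : V' ⊗[k] A, gmu c' g ℓ (LinearMap.lTensor V' g.toLinearMap y) =
      T (c'.coact.rTensor A y) := by
    intro y
    induction y using TensorProduct.induction_on with
    | zero => simp
    | tmul x b =>
      rw [LinearMap.lTensor_tmul, gmu_tmul, LinearMap.rTensor_tmul]
      rfl
    | add y₁ y₂ h₁ h₂ => simp only [map_add, h₁, h₂]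
  have h2 : T = T' ∘ₗ (TensorProduct.assoc k V' A A).toLinearMap := by
    apply TensorProduct.ext_threefold
    intro x a b
    simp [T, T', mul_assoc]
  have h3 := LinearMap.congr_fun (c'.coassoc) w'
  simp only [LinearMap.comp_apply, LinearEquiv.coe_coe] at h3
  have h4 : ∀ y : V' ⊗[k] A, T' ((CoalgebraStruct.comul (R := k) (A := A)).lTensor V' y) =
      LinearMap.mul' k R (TensorProduct.map (Algebra.linearMap k R ∘ₗ ℓ) (Algebra.linearMap k R)
        ((CoalgebraStruct.counit (R := k) (A := A)).lTensor V' y)) := by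
    intro y
    induction y using TensorProduct.induction_on with
    | zero => simp
    | tmul x b =>
      simp only [T', LinearMap.lTensor_tmul, LinearMap.comp_apply, TensorProduct.map_tmul,
        LinearMap.mul'_apply, AlgHom.toLinearMap_apply, Algebra.linearMap_apply]
      rw [HopfAlgebra.mul_antipode_rTensor_comul_apply, AlgHom.commutes]
    | add y₁ y₂ h₁ h₂ => simp only [map_add, h₁, h₂]
  have h5 := LinearMap.congr_fun (c'.counit_comp) w'
  simp only [LinearMap.comp_apply] at h5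
  unfold ga
  rw [LinearMap.comp_apply, h1, h2, LinearMap.comp_apply, LinearEquiv.coe_coe, h3, h4, h5]
  simp

/-- if `g` stabilizes `W ⊗ W'` and `W' ≠ 0` then `g` stabilizes `W` -/
theorem ga_mem_left (c : HopfRep.Comod k A V) (c' : HopfRep.Comod k A V') (g : A →ₐ[k] R)
    (W : Submodule k V) (W' : Submodule k V') (hW' : W' ≠ ⊥)
    (H : ∀ x ∈ LinearMap.range (TensorProduct.mapIncl W W'),
      ga (ComodTens.Comod.tensor c c') g x ∈
        LinearMap.range ((LinearMap.range (TensorProduct.mapIncl W W')).subtype.rTensor R))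
    (w : V) (hw : w ∈ W) : ga c g w ∈ LinearMap.range (W.subtype.rTensor R) := by
  obtain ⟨w', hw', hne⟩ := (Submodule.ne_bot_iff _).mp hW'
  obtain ⟨ℓ, hℓ⟩ := Module.Projective.exists_dual_eq_one k hne
  have hx : w ⊗ₜ[k] w' ∈ LinearMap.range (TensorProduct.mapIncl W W') :=
    ⟨(⟨w, hw⟩ : W) ⊗ₜ[k] (⟨w', hw'⟩ : W'), rfl⟩
  have h1 := gPsi_mem c' g ℓ W W' (H _ hx)
  rw [ga_tensor, gPsi_gM, gmu_ga, hℓ, map_one, rsmul_one] at h1
  exact h1

theorem rTensor_comm_gM (a : V ⊗[k] R) (b : V' ⊗[k] R) :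
    (TensorProduct.comm k V V').toLinearMap.rTensor R (gM k V V' R (a ⊗ₜ[k] b)) =
      gM k V' V R (b ⊗ₜ[k] a) := by
  induction a using TensorProduct.induction_on with
  | zero => simp
  | tmul v r =>
    induction b using TensorProduct.induction_on with
    | zero => simp
    | tmul v' r' =>
      simp only [gM_tmul, LinearMap.rTensor_tmul, LinearEquiv.coe_coe, TensorProduct.comm_tmul]
      rw [mul_comm]
    | add b₁ b₂ h₁ h₂ => simp only [TensorProduct.tmul_add, TensorProduct.add_tmul, map_add, h₁, h₂]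
  | add a₁ a₂ h₁ h₂ => simp only [TensorProduct.tmul_add, TensorProduct.add_tmul, map_add, h₁, h₂]

theorem rTensor_comm_mem (W : Submodule k V) (W' : Submodule k V') {z : (V ⊗[k] V') ⊗[k] R}
    (hz : z ∈ LinearMap.range ((LinearMap.range (TensorProduct.mapIncl W W')).subtype.rTensor R)) :
    (TensorProduct.comm k V V').toLinearMap.rTensor R z ∈
      LinearMap.range ((LinearMap.range (TensorProduct.mapIncl W' W)).subtype.rTensor R) := by
  obtain ⟨y, rfl⟩ := hz
  induction y using TensorProduct.induction_on with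
  | zero => simp
  | tmul n r =>
    obtain ⟨n, t, rfl⟩ := n
    rw [LinearMap.rTensor_tmul, Submodule.subtype_apply, LinearMap.rTensor_tmul]
    simp only
    have : (TensorProduct.comm k V V').toLinearMap (TensorProduct.mapIncl W W' t) ∈
        LinearMap.range (TensorProduct.mapIncl W' W) := by
      induction t using TensorProduct.induction_on with
      | zero => simp
      | tmul w w' =>
        exact ⟨w' ⊗ₜ[k] w, by simp [TensorProduct.mapIncl]⟩
      | add t₁ t₂ h₁ h₂ =>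
        rw [map_add, map_add]
        exact add_mem h₁ h₂
    exact ⟨(⟨_, this⟩ : LinearMap.range (TensorProduct.mapIncl W' W)) ⊗ₜ[k] r, rfl⟩
  | add y₁ y₂ h₁ h₂ =>
    rw [map_add, map_add]
    exact add_mem h₁ h₂

/-- if `g` stabilizes `W ⊗ W'` and `W ≠ 0` then `g` stabilizes `W'` -/
theorem ga_mem_right (c : HopfRep.Comod k A V) (c' : HopfRep.Comod k A V') (g : A →ₐ[k] R)
    (W : Submodule k V) (W' : Submodule k V') (hW : W ≠ ⊥)
    (H : ∀ x ∈ LinearMap.range (TensorProduct.mapIncl W W'),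
      ga (ComodTens.Comod.tensor c c') g x ∈
        LinearMap.range ((LinearMap.range (TensorProduct.mapIncl W W')).subtype.rTensor R))
    (w' : V') (hw' : w' ∈ W') : ga c' g w' ∈ LinearMap.range (W'.subtype.rTensor R) := by
  obtain ⟨w, hw, hne⟩ := (Submodule.ne_bot_iff _).mp hW
  obtain ⟨ℓ, hℓ⟩ := Module.Projective.exists_dual_eq_one k hne
  have hx : w ⊗ₜ[k] w' ∈ LinearMap.range (TensorProduct.mapIncl W W') :=
    ⟨(⟨w, hw⟩ : W) ⊗ₜ[k] (⟨w', hw'⟩ : W'), rfl⟩
  have h1 := gPsi_mem c g ℓ W' W (rTensor_comm_mem W W' (H _ hx))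
  rw [ga_tensor, rTensor_comm_gM, gPsi_gM, gmu_ga, hℓ, map_one, rsmul_one] at h1
  exact h1

/-- the stabilizer of `W ⊗ W'` is the intersection of the stabilizers -/
theorem ga_tensor_mem_iff (c : HopfRep.Comod k A V) (c' : HopfRep.Comod k A V') (g : A →ₐ[k] R)
    (W : Submodule k V) (W' : Submodule k V') (hW : W ≠ ⊥) (hW' : W' ≠ ⊥) :
    (∀ x ∈ LinearMap.range (TensorProduct.mapIncl W W'),
      ga (ComodTens.Comod.tensor c c') g x ∈
        LinearMap.range ((LinearMap.range (TensorProduct.mapIncl W W')).subtype.rTensor R)) ↔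
    (∀ x ∈ W, ga c g x ∈ LinearMap.range (W.subtype.rTensor R)) ∧
      (∀ x ∈ W', ga c' g x ∈ LinearMap.range (W'.subtype.rTensor R)) := by
  constructor
  · intro H
    exact ⟨ga_mem_left c c' g W W' hW' H, ga_mem_right c c' g W W' hW H⟩
  · rintro ⟨h1, h2⟩ x ⟨t, rfl⟩
    induction t using TensorProduct.induction_on with
    | zero => simp
    | tmul w w' =>
      rw [TensorProduct.mapIncl, TensorProduct.map_tmul, Submodule.subtype_apply,
        Submodule.subtype_apply, ga_tensor]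
      exact gM_mem W W' (h1 _ w.2) (h2 _ w'.2)
    | add t₁ t₂ h₁ h₂ =>
      rw [map_add, map_add]
      exact add_mem h₁ h₂

end

end Groth.Agent.Lib.helper22
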