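import Groth.Prelude.Def_HopfRep
import Groth.Prelude.Def_Hoch
import Mathlib

/-!
Comodules over a coalgebra over a field: slice maps, a membership criterion for `W ⊗ C`, kernels and
ranges of comodule maps, local finiteness.
-/

set_option autoImplicit false
universe u v w w'
open scoped TensorProduct

namespace Groth.Agent.Lib.helper22

section Slice

variable {k : Type u} [Field k] {C : Type v} [AddCommGroup C] [Module k C]
variable {V : Type w} [AddCommGroup V] [Module k V]

/-- the slice map `id ⊗ f : V ⊗ C → V` for a functional `f` on `C` -/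
noncomputable def slice (f : Module.Dual k C) : V ⊗[k] C →ₗ[k] V :=
  (TensorProduct.rid k V).toLinearMap ∘ₗ f.lTensor V

@[simp] theorem slice_tmul (f : Module.Dual k C) (v : V) (c : C) :
    slice f (v ⊗ₜ[k] c) = f c • v := by
  simp [slice]

theorem slice_rTensor {V' : Type w'} [AddCommGroup V'] [Module k V'] (f : Module.Dual k C)
    (g : V →ₗ[k] V') (x : V ⊗[k] C) : slice f (g.rTensor C x) = g (slice f x) := by
  induction x using TensorProduct.induction_on with
  | zero => simp
  | tmul v c => simp
  | add y z hy hz => simp only [map_add, hy, hz]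

theorem slice_lTensor {C' : Type w'} [AddCommGroup C'] [Module k C'] (g : Module.Dual k C')
    (i : C →ₗ[k] C') (x : V ⊗[k] C) : slice g (i.lTensor V x) = slice (g ∘ₗ i) x := by
  induction x using TensorProduct.induction_on with
  | zero => simp
  | tmul v c => simp
  | add y z hy hz => simp only [map_add, hy, hz]

/-- over a field, membership in `W ⊗ C ⊆ V ⊗ C` can be tested by slicing with all functionals -/
theorem mem_range_rTensor_iff (W : Submodule k V) (x : V ⊗[k] C) :
    x ∈ LinearMap.range (W.subtype.rTensor C) ↔ ∀ f : Module.Dual k C, slice f x ∈ W := by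
  classical
  constructor
  · rintro ⟨y, rfl⟩ f
    rw [slice_rTensor]
    exact (slice f y).2
  · intro h
    let b := Module.Free.chooseBasis k C
    obtain ⟨c, rfl⟩ := TensorProduct.eq_repr_basis_right b x
    have hc : ∀ i, c i ∈ W := by
      intro i
      have := h (b.coord i)
      rw [Finsupp.sum, map_sum] at this
      simp only [slice_tmul, Module.Basis.coord_apply, Module.Basis.repr_self] at this
      rw [Finset.sum_eq_single i] at this
      · simpa using this
      · intro j _ hji
        rw [Finsupp.single_eq_of_ne hji.symm, zero_smul]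
      · intro hi
        rw [Finsupp.notMem_support_iff.mp hi, smul_zero]
    rw [Finsupp.sum]
    apply Submodule.sum_mem
    intro i _
    exact ⟨(⟨c i, hc i⟩ : W) ⊗ₜ[k] b i, by simp⟩

/-- an element of `V ⊗ C` all of whose slices vanish is zero -/
theorem eq_zero_of_slice_eq_zero (x : V ⊗[k] C) (h : ∀ f : Module.Dual k C, slice f x = 0) : x = 0 := by
  have := (mem_range_rTensor_iff (⊥ : Submodule k V) x).mpr (fun f => by rw [h f]; exact zero_mem _)
  obtain ⟨y, rfl⟩ := this
  have hy : y = 0 := Subsingleton.elim _ _
  rw [hy, map_zero]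

/-- an element of `V ⊗ C` whose slices along a separating family of functionals vanish is zero -/
theorem eq_zero_of_slice_eq_zero_of_separating (S : Set (Module.Dual k C))
    (hS : ∀ c : C, (∀ f ∈ S, f c = 0) → c = 0) (x : V ⊗[k] C) (h : ∀ f ∈ S, slice f x = 0) :
    x = 0 := by
  classical
  let b := Module.Free.chooseBasis k V
  obtain ⟨c, rfl⟩ := TensorProduct.eq_repr_basis_left b x
  have hc : ∀ i, c i = 0 := by
    intro i
    apply hS
    intro f hf
    have h1 := h f hf
    rw [Finsupp.sum, map_sum] at h1
    simp only [slice_tmul] at h1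
    have h2 := congrArg (fun v => b.repr v i) h1
    simp only [map_sum, map_smul, Module.Basis.repr_self, Finsupp.coe_finsetSum, Finsupp.coe_smul,
      Finset.sum_apply, Pi.smul_apply, smul_eq_mul, map_zero, Finsupp.coe_zero, Pi.zero_apply] at h2
    rw [Finset.sum_eq_single i] at h2
    · simpa using h2
    · intro j _ hji
      rw [Finsupp.single_eq_of_ne hji.symm, mul_zero]
    · intro hi
      rw [Finsupp.notMem_support_iff.mp hi, map_zero, zero_mul]
  have : c = 0 := Finsupp.ext hc
  rw [this]
  simp

/-- membership in `W ⊗ C ⊆ V ⊗ C` can be tested by slicing along a separating family of functionals -/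
theorem mem_range_rTensor_of_separating (S : Set (Module.Dual k C))
    (hS : ∀ c : C, (∀ f ∈ S, f c = 0) → c = 0) (W : Submodule k V) (x : V ⊗[k] C)
    (h : ∀ f ∈ S, slice f x ∈ W) : x ∈ LinearMap.range (W.subtype.rTensor C) := by
  have hex := rTensor_exact C (LinearMap.exact_subtype_mkQ W) (Submodule.mkQ_surjective W)
  rw [← LinearMap.exact_iff.mp hex, LinearMap.mem_ker]
  apply eq_zero_of_slice_eq_zero_of_separating S hS
  intro f hf
  rw [slice_rTensor, Submodule.mkQ_apply, Submodule.Quotient.mk_eq_zero]
  exact h f hf

end Slice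

section Comod

variable {k : Type u} [Field k] {C : Type v} [AddCommGroup C] [Module k C] [Coalgebra k C]
variable {V : Type w} [AddCommGroup V] [Module k V] [HopfRep.Comod k C V]

variable (V) in
/-- the action of a functional on a comodule: `v ↦ (id ⊗ f)(ρ v)` -/
noncomputable def actDual (f : Module.Dual k C) : V →ₗ[k] V :=
  slice f ∘ₗ HopfRep.Comod.coact (k := k) (A := C)

theorem actDual_apply (f : Module.Dual k C) (v : V) :
    actDual V f v = slice f (HopfRep.Comod.coact (k := k) (A := C) v) := rfl

/-- convolution of functionals -/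
noncomputable def conv (f g : Module.Dual k C) : Module.Dual k C :=
  LinearMap.mul' k k ∘ₗ TensorProduct.map f g ∘ₗ Coalgebra.comul (R := k) (A := C)

theorem isSubcomod_iff (W : Submodule k V) :
    HopfRep.IsSubcomod (k := k) (A := C) W ↔ ∀ (f : Module.Dual k C), ∀ w ∈ W, actDual V f w ∈ W := by
  unfold HopfRep.IsSubcomod
  constructor
  · intro h f w hw
    exact (mem_range_rTensor_iff W _).mp (h w hw) f
  · intro h w hw
    exact (mem_range_rTensor_iff W _).mpr (fun f => h f w hw)

theorem actDual_counit (v : V) : actDual V (Coalgebra.counit (R := k) (A := C)) v = v := by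
  have h := LinearMap.congr_fun (HopfRep.Comod.counit_comp (k := k) (A := C) (V := V)) v
  simp only [LinearMap.comp_apply] at h
  rw [actDual_apply, slice, LinearMap.comp_apply]
  change (TensorProduct.rid k V) ((Coalgebra.counit (R := k) (A := C)).lTensor V
    (HopfRep.Comod.coact (k := k) (A := C) v)) = v
  rw [h]
  simp

omit [HopfRep.Comod k C V] in
theorem slice_slice_assoc (f g : Module.Dual k C) (y : V ⊗[k] C) :
    slice f (slice g ((TensorProduct.assoc k V C C).symm
      ((Coalgebra.comul (R := k) (A := C)).lTensor V y))) = slice (conv f g) y := by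
  induction y using TensorProduct.induction_on with
  | zero => simp
  | tmul v c =>
    rw [LinearMap.lTensor_tmul, slice_tmul]
    have key : ∀ z : C ⊗[k] C, slice f (slice g ((TensorProduct.assoc k V C C).symm (v ⊗ₜ[k] z))) =
        (LinearMap.mul' k k (TensorProduct.map f g z)) • v := by
      intro z
      induction z using TensorProduct.induction_on with
      | zero => simp
      | tmul a b => simp [mul_smul, smul_comm (g b) (f a) v]
      | add a b ha hb => simp only [TensorProduct.tmul_add, map_add, add_smul, ha, hb]
    rw [key]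
    rfl
  | add a b ha hb => simp only [map_add, ha, hb]

theorem actDual_actDual (f g : Module.Dual k C) (v : V) :
    actDual V f (actDual V g v) = actDual V (conv f g) v := by
  have hco := LinearMap.congr_fun (HopfRep.Comod.coassoc (k := k) (A := C) (V := V)) v
  simp only [LinearMap.comp_apply, LinearEquiv.coe_coe] at hco
  rw [actDual_apply, actDual_apply, ← slice_rTensor, actDual_apply, ← slice_slice_assoc]
  congr 2
  change _ = (TensorProduct.assoc k V C C).symm ((CoalgebraStruct.comul (R := k) (A := C)).lTensor V
    (HopfRep.Comod.coact (k := k) (A := C) v))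
  rw [← hco, LinearEquiv.symm_apply_apply]

section Hom
variable {W : Type w'} [AddCommGroup W] [Module k W] [HopfRep.Comod k C W]

theorem actDual_comm_of_isComodHom (φ : V →ₗ[k] W) (hφ : Hoch.IsComodHom C φ) (f : Module.Dual k C)
    (v : V) : φ (actDual V f v) = actDual W f (φ v) := by
  have h := LinearMap.congr_fun hφ v
  simp only [LinearMap.comp_apply] at h
  rw [actDual_apply, actDual_apply, h, slice_rTensor]

theorem isSubcomod_ker (φ : V →ₗ[k] W) (hφ : Hoch.IsComodHom C φ) :
    HopfRep.IsSubcomod (k := k) (A := C) (LinearMap.ker φ) := by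
  rw [isSubcomod_iff]
  intro f v hv
  rw [LinearMap.mem_ker] at hv ⊢
  rw [actDual_comm_of_isComodHom φ hφ, hv, map_zero]

theorem isSubcomod_range (φ : V →ₗ[k] W) (hφ : Hoch.IsComodHom C φ) :
    HopfRep.IsSubcomod (k := k) (A := C) (LinearMap.range φ) := by
  rw [isSubcomod_iff]
  rintro f _ ⟨v, rfl⟩
  exact ⟨actDual V f v, actDual_comm_of_isComodHom φ hφ f v⟩

end Hom

variable (k C) in
/-- `f ↦ (id ⊗ f)(ρ v)` as a linear map in `f` -/
noncomputable def orbitLin (v : V) : Module.Dual k C →ₗ[k] V where
  toFun f := actDual V f v
  map_add' f g := by simp [actDual_apply, slice, LinearMap.lTensor_add]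
  map_smul' c f := by simp [actDual_apply, slice, LinearMap.lTensor_smul]

variable (k C) in
/-- the subcomodule generated by a vector: all `(id ⊗ f)(ρ v)` -/
noncomputable def cyclic (v : V) : Submodule k V := LinearMap.range (orbitLin k C v)

theorem mem_cyclic_self (v : V) : v ∈ cyclic k C v :=
  ⟨Coalgebra.counit (R := k) (A := C), actDual_counit v⟩

theorem isSubcomod_cyclic (v : V) : HopfRep.IsSubcomod (k := k) (A := C) (cyclic k C v) := by
  rw [isSubcomod_iff]
  rintro f _ ⟨g, rfl⟩
  exact ⟨conv f g, (actDual_actDual f g v).symm⟩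

theorem cyclic_le {W : Submodule k V} (hW : HopfRep.IsSubcomod (k := k) (A := C) W) {v : V} (hv : v ∈ W) :
    cyclic k C v ≤ W := by
  rintro _ ⟨f, rfl⟩
  exact (isSubcomod_iff W).mp hW f v hv

theorem finite_cyclic (v : V) : Module.Finite k (cyclic k C v) := by
  classical
  -- write ρ v as a finite sum of pure tensors
  obtain ⟨s, hs⟩ := TensorProduct.exists_finset (HopfRep.Comod.coact (k := k) (A := C) v)
  have hle : cyclic k C v ≤ Submodule.span k ((s.image fun p : V × C => p.1 : Finset V) : Set V) := by
    rintro _ ⟨f, rfl⟩
    change actDual V f v ∈ _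
    rw [actDual_apply, hs, map_sum]
    apply Submodule.sum_mem
    intro p hp
    rw [slice_tmul]
    apply Submodule.smul_mem
    apply Submodule.subset_span
    simp only [Finset.coe_image, Set.mem_image, Finset.mem_coe]
    exact ⟨p, hp, rfl⟩
  have : Module.Finite k (Submodule.span k ((s.image fun p : V × C => p.1 : Finset V) : Set V)) :=
    Module.Finite.span_finset k _
  exact Submodule.finiteDimensional_of_le hle

end Comod

section Push

variable {k : Type u} [Field k] {C : Type v} [AddCommGroup C] [Module k C] [Coalgebra k C]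
variable {D : Type w'} [AddCommGroup D] [Module k D] [Coalgebra k D]
variable {V : Type w} [AddCommGroup V] [Module k V]

/-- push a comodule structure forward along a morphism of coalgebras -/
@[reducible] noncomputable def pushComod (i : C →ₗc[k] D) (c : HopfRep.Comod k C V) : HopfRep.Comod k D V where
  coact := (i : C →ₗ[k] D).lTensor V ∘ₗ c.coact
  coassoc := by
    set j : V ⊗[k] C →ₗ[k] V ⊗[k] D := (i : C →ₗ[k] D).lTensor V with hjdef
    have hcomul : TensorProduct.map (i : C →ₗ[k] D) (i : C →ₗ[k] D) ∘ₗ Coalgebra.comul (R := k) (A := C) =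
        Coalgebra.comul (R := k) (A := D) ∘ₗ (i : C →ₗ[k] D) := i.map_comp_comul
    have h1 : ∀ y : (V ⊗[k] C) ⊗[k] C,
        (TensorProduct.map (i : C →ₗ[k] D) (i : C →ₗ[k] D)).lTensor V (TensorProduct.assoc k V C C y) =
        TensorProduct.assoc k V D D (TensorProduct.map j (i : C →ₗ[k] D) y) := by
      intro y
      induction y using TensorProduct.induction_on with
      | zero => simp
      | add a b ha hb => simp only [map_add, ha, hb]
      | tmul a c =>
        induction a using TensorProduct.induction_on with
        | zero => simp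
        | add a b ha hb => simp only [map_add, TensorProduct.add_tmul, ha, hb]
        | tmul v c' => simp [j]
    have h2 : ∀ y : V ⊗[k] C, TensorProduct.map j (i : C →ₗ[k] D) (c.coact.rTensor C y) =
        (j ∘ₗ c.coact).rTensor D (j y) := by
      intro y
      induction y using TensorProduct.induction_on with
      | zero => simp
      | add a b ha hb => simp only [map_add, ha, hb]
      | tmul v c => simp [j]
    have h3 : ∀ y : V ⊗[k] C, (TensorProduct.map (i : C →ₗ[k] D) (i : C →ₗ[k] D)).lTensor V
        ((Coalgebra.comul (R := k) (A := C)).lTensor V y) =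
        (Coalgebra.comul (R := k) (A := D)).lTensor V (j y) := by
      intro y
      induction y using TensorProduct.induction_on with
      | zero => simp
      | add a b ha hb => simp only [map_add, ha, hb]
      | tmul v c =>
        simp only [LinearMap.lTensor_tmul, j]
        congr 1
        exact LinearMap.congr_fun hcomul c
    apply LinearMap.ext
    intro v
    have hC := LinearMap.congr_fun c.coassoc v
    simp only [LinearMap.comp_apply, LinearEquiv.coe_coe] at hC ⊢
    rw [← h2, ← h1, hC]
    exact h3 _
  counit_comp := by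
    have hcounit : Coalgebra.counit (R := k) (A := D) ∘ₗ (i : C →ₗ[k] D) =
        Coalgebra.counit (R := k) (A := C) := i.counit_comp
    have h4 : ∀ y : V ⊗[k] C, (Coalgebra.counit (R := k) (A := D)).lTensor V
        ((i : C →ₗ[k] D).lTensor V y) = (Coalgebra.counit (R := k) (A := C)).lTensor V y := by
      intro y
      induction y using TensorProduct.induction_on with
      | zero => simp
      | add a b ha hb => simp only [map_add, ha, hb]
      | tmul v c =>
        simp only [LinearMap.lTensor_tmul]
        congr 1
        exact LinearMap.congr_fun hcounit c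
    apply LinearMap.ext
    intro v
    have hC := LinearMap.congr_fun c.counit_comp v
    simp only [LinearMap.comp_apply] at hC ⊢
    change (Coalgebra.counit (R := k) (A := D)).lTensor V ((i : C →ₗ[k] D).lTensor V (c.coact v)) = _
    rw [h4]
    exact hC

theorem isSubcomod_pushComod (i : C →ₗc[k] D) (c : HopfRep.Comod k C V) (W : Submodule k V)
    (hW : @HopfRep.IsSubcomod k C _ _ _ _ V _ _ c W) :
    @HopfRep.IsSubcomod k D _ _ _ _ V _ _ (pushComod i c) W := by
  intro w hw
  obtain ⟨y, hy⟩ := hW w hw
  refine ⟨(i : C →ₗ[k] D).lTensor W y, ?_⟩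
  change _ = (i : C →ₗ[k] D).lTensor V (c.coact w)
  rw [← hy]
  clear hy
  induction y using TensorProduct.induction_on with
  | zero => simp
  | add a b ha hb => simp only [map_add, ha, hb]
  | tmul v c => simp

theorem isSubcomod_of_pushComod (i : C →ₗc[k] D) (hi : Function.Injective i) (c : HopfRep.Comod k C V)
    (W : Submodule k V) (hW : @HopfRep.IsSubcomod k D _ _ _ _ V _ _ (pushComod i c) W) :
    @HopfRep.IsSubcomod k C _ _ _ _ V _ _ c W := by
  intro w hw
  rw [mem_range_rTensor_iff]
  intro f
  obtain ⟨r, hr⟩ := (i : C →ₗ[k] D).exists_leftInverse_of_injective (LinearMap.ker_eq_bot.mpr hi)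
  obtain ⟨g, hg⟩ : ∃ g : Module.Dual k D, g ∘ₗ (i : C →ₗ[k] D) = f :=
    ⟨f ∘ₗ r, by rw [LinearMap.comp_assoc, hr, LinearMap.comp_id]⟩
  have h1 := (mem_range_rTensor_iff W _).mp (hW w hw) g
  change slice g ((i : C →ₗ[k] D).lTensor V (c.coact w)) ∈ W at h1
  rw [slice_lTensor, hg] at h1
  exact h1

end Push

end Groth.Agent.Lib.helper22
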