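import Groth.Agent.Lib.Helper22.ComodMod
import Groth.Prelude.Def_ComodSub
import Mathlib

/-!
Linearly reductive (all finite-dimensional comodules semisimple) implies that every comodule
(in the universe of the coalgebra) is semisimple, via local finiteness (helper22).
-/

set_option autoImplicit false
universe u v
open scoped TensorProduct

namespace Groth.Agent.Lib.helper22

theorem isSemisimpleComod_of_isLinearlyReductive {k : Type u} [Field k] {A : Type v} [CommRing A]
    [Bialgebra k A] (hG : HopfRep.IsLinearlyReductive k A)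
    (V : Type v) [AddCommGroup V] [Module k V] [c : HopfRep.Comod k A V] :
    HopfRep.IsSemisimpleComod k A V := by
  rw [isSemisimpleComod_iff c]
  refine isSemisimpleModule_of_isSemisimpleModule_submodule' (ι := V)
    (p := fun v => LinearMap.range (homToLin (ComodSub.Comod.restr c (cyclic k A v) (isSubcomod_cyclic v)) c
      (cyclic k A v).subtype (ComodSub.isComodHom_subtype c (cyclic k A v) (isSubcomod_cyclic v))))
    (fun v => ?_) ?_
  · have h1 := @hG ↥(cyclic k A v) _ _ (ComodSub.Comod.restr c (cyclic k A v) (isSubcomod_cyclic v))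
      (finite_cyclic v)
    have : IsSemisimpleModule (DualAlg k A)
        (AsMod (ComodSub.Comod.restr c (cyclic k A v) (isSubcomod_cyclic v))) :=
      (isSemisimpleComod_iff _).mp h1
    exact IsSemisimpleModule.range _
  · rw [eq_top_iff]
    intro x _
    apply Submodule.mem_iSup_of_mem ((toAsMod c).symm x)
    exact ⟨toAsMod _ ⟨(toAsMod c).symm x, mem_cyclic_self _⟩, rfl⟩

/-- the subcomodule generated by a finite set is finitely generated (local finiteness) -/
theorem exists_fg_subcomod_of_finset {k : Type u} [Field k] {C : Type v} [AddCommGroup C] [Module k C]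
    [Coalgebra k C] {V : Type*} [AddCommGroup V] [Module k V] [c : HopfRep.Comod k C V]
    (t : Finset V) :
    ∃ W : Submodule k V, W.FG ∧ HopfRep.IsSubcomod (k := k) (A := C) W ∧ (t : Set V) ⊆ W ∧
      ∀ W' : Submodule k V, HopfRep.IsSubcomod (k := k) (A := C) W' → (t : Set V) ⊆ W' → W ≤ W' := by
  refine ⟨⨆ r ∈ t, cyclic k C r, ?_, ?_, ?_, ?_⟩
  · exact Submodule.fg_biSup t _ fun r _ => Module.Finite.iff_fg.mp (finite_cyclic r)
  · rw [isSubcomod_iff' c]
    intro f
    change (⨆ r ∈ t, cyclic k C r) ≤ (⨆ r ∈ t, cyclic k C r).comap (actD c f)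
    refine iSup₂_le fun r hr => ?_
    have h1 : cyclic k C r ≤ (cyclic k C r).comap (actD c f) := fun w hw =>
      (isSubcomod_iff' c _).mp (isSubcomod_cyclic r) f w hw
    exact h1.trans (Submodule.comap_mono (le_iSup₂ (f := fun r _ => cyclic k C r) r hr))
  · intro r hr
    exact (le_iSup₂ (f := fun r _ => cyclic k C r) r hr) (mem_cyclic_self r)
  · intro W' hW' ht
    exact iSup₂_le fun r hr => cyclic_le hW' (ht hr)

end Groth.Agent.Lib.helper22
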