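import Groth.Agent.Lib.Helper22.TotInt

/-!
Diagonalizable Hopf algebras: weight decompositions of comodules, eigenvectors (helper22).
-/

set_option autoImplicit false
universe u v w
open scoped TensorProduct

namespace Groth.Agent.Lib.helper22

section Eig

variable {k : Type u} [Field k] {C : Type v} [AddCommGroup C] [Module k C] [Coalgebra k C]
variable {V : Type w} [AddCommGroup V] [Module k V] [HopfRep.Comod k C V]

variable (k C V) in
/-- the set of eigenvectors of a comodule -/
def eigSet : Set V := {v : V | ∃ a : C, HopfRep.Comod.coact (k := k) (A := C) v = v ⊗ₜ[k] a}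

theorem actDual_of_mem_eigSet {v : V} {a : C}
    (hv : HopfRep.Comod.coact (k := k) (A := C) v = v ⊗ₜ[k] a) (f : Module.Dual k C) :
    actDual V f v = f a • v := by
  rw [actDual_apply, hv, slice_tmul]

theorem isSubcomod_span_eigSet :
    HopfRep.IsSubcomod (k := k) (A := C) (Submodule.span k (eigSet k C V)) := by
  rw [isSubcomod_iff]
  intro f w hw
  induction hw using Submodule.span_induction with
  | mem x hx =>
    obtain ⟨a, ha⟩ := hx
    rw [actDual_of_mem_eigSet ha]
    exact Submodule.smul_mem _ _ (Submodule.subset_span ⟨a, ha⟩)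
  | zero => rw [map_zero]; exact Submodule.zero_mem _
  | add x y _ _ hx hy => rw [map_add]; exact Submodule.add_mem _ hx hy
  | smul c x _ hx => rw [map_smul]; exact Submodule.smul_mem _ _ hx

/-- if every functional acts on `v` by a multiple of `v`, then `v` is an eigenvector -/
theorem mem_eigSet_of_forall_actDual {v : V} (h : ∀ f : Module.Dual k C, ∃ μ : k, actDual V f v = μ • v) :
    v ∈ eigSet k C V := by
  have hsub : HopfRep.IsSubcomod (k := k) (A := C) (Submodule.span k {v}) := by
    rw [isSubcomod_iff]
    intro f w hw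
    obtain ⟨c, rfl⟩ := Submodule.mem_span_singleton.mp hw
    obtain ⟨μ, hμ⟩ := h f
    rw [map_smul, hμ]
    exact Submodule.smul_mem _ _ (Submodule.smul_mem _ _ (Submodule.mem_span_singleton_self v))
  obtain ⟨t, ht⟩ := hsub v (Submodule.mem_span_singleton_self v)
  have key : ∀ t : (Submodule.span k {v} : Submodule k V) ⊗[k] C, ∃ a : C,
      (Submodule.span k {v}).subtype.rTensor C t = v ⊗ₜ[k] a := by
    intro t
    induction t using TensorProduct.induction_on with
    | zero => exact ⟨0, by simp⟩
    | tmul x a =>
      obtain ⟨c, hc⟩ := Submodule.mem_span_singleton.mp x.2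
      refine ⟨c • a, ?_⟩
      rw [LinearMap.rTensor_tmul, Submodule.subtype_apply, ← hc, TensorProduct.smul_tmul]
    | add t₁ t₂ h₁ h₂ =>
      obtain ⟨a₁, h₁⟩ := h₁
      obtain ⟨a₂, h₂⟩ := h₂
      exact ⟨a₁ + a₂, by rw [map_add, h₁, h₂, TensorProduct.tmul_add]⟩
  obtain ⟨a, ha⟩ := key t
  exact ⟨a, by rw [← ht, ha]⟩

end Eig

section Cocomm

variable {k : Type u} [Field k] {C : Type v} [AddCommGroup C] [Module k C] [Coalgebra k C]
  [Coalgebra.IsCocomm k C]
variable {V : Type w} [AddCommGroup V] [Module k V] [HopfRep.Comod k C V]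

theorem conv_comm (f g : Module.Dual k C) : conv f g = conv g f := by
  apply LinearMap.ext
  intro c
  unfold conv
  simp only [LinearMap.comp_apply]
  conv_lhs => rw [← Coalgebra.comm_comul (R := k) c]
  generalize Coalgebra.comul (R := k) c = t
  induction t using TensorProduct.induction_on with
  | zero => simp
  | tmul a b => simp [mul_comm]
  | add t₁ t₂ h₁ h₂ => simp only [map_add, h₁, h₂]

theorem actDual_comm (f g : Module.Dual k C) (v : V) :
    actDual V f (actDual V g v) = actDual V g (actDual V f v) := by
  rw [actDual_actDual, actDual_actDual, conv_comm]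

end Cocomm

section AlgClosed

variable {k : Type u} [Field k] [IsAlgClosed k] {C : Type v} [AddCommGroup C] [Module k C]
  [Coalgebra k C] [Coalgebra.IsCocomm k C]
variable {V : Type w} [AddCommGroup V] [Module k V] [HopfRep.Comod k C V]

/-- Over an algebraically closed field, a nonzero finite-dimensional subcomodule of a comodule over
a cocommutative coalgebra contains a nonzero eigenvector. -/
theorem exists_ne_zero_mem_eigSet (U : Submodule k V) (hU : HopfRep.IsSubcomod (k := k) (A := C) U)
    (hne : U ≠ ⊥) [Module.Finite k U] : ∃ v ∈ U, v ≠ 0 ∧ v ∈ eigSet k C V := by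
  classical
  let P : ℕ → Prop := fun n => ∃ S : Submodule k V, S ≤ U ∧ S ≠ ⊥ ∧
    HopfRep.IsSubcomod (k := k) (A := C) S ∧ Module.finrank k S = n
  have hP : ∃ n, P n := ⟨_, U, le_rfl, hne, hU, rfl⟩
  obtain ⟨S, hSU, hS0, hS, hn⟩ := Nat.find_spec hP
  have hfin : Module.Finite k S := Submodule.finiteDimensional_of_le hSU
  have hmin : ∀ T : Submodule k V, T ≤ S → T ≠ ⊥ → HopfRep.IsSubcomod (k := k) (A := C) T → T = S := by
    intro T hTS hT0 hT
    have h1 : Module.finrank k T ≤ Module.finrank k S := Submodule.finrank_mono hTS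
    have h2 : Nat.find hP ≤ Module.finrank k T := Nat.find_min' hP ⟨T, hTS.trans hSU, hT0, hT, rfl⟩
    exact Submodule.eq_of_le_of_finrank_le hTS (by omega)
  have hscal : ∀ f : Module.Dual k C, ∃ μ : k, ∀ s ∈ S, actDual V f s = μ • s := by
    intro f
    have hmaps : ∀ s ∈ S, actDual V f s ∈ S := (isSubcomod_iff S).mp hS f
    have hnt : Nontrivial S := Submodule.nontrivial_iff_ne_bot.mpr hS0
    obtain ⟨μ, hμ⟩ := Module.End.exists_eigenvalue ((actDual V f).restrict hmaps)
    obtain ⟨x, hx⟩ := hμ.exists_hasEigenvector
    have hx1 : actDual V f (x : V) = μ • (x : V) := by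
      have := hx.apply_eq_smul
      exact congrArg Subtype.val this
    have hx0 : (x : V) ≠ 0 := fun h => hx.2 (Subtype.ext h)
    obtain ⟨T, hTdef⟩ : ∃ T : Submodule k V, T = S ⊓ LinearMap.ker (actDual V f - μ • LinearMap.id) :=
      ⟨_, rfl⟩
    have hmemT : ∀ w, w ∈ T ↔ w ∈ S ∧ actDual V f w = μ • w := by
      intro w
      rw [hTdef, Submodule.mem_inf, LinearMap.mem_ker, LinearMap.sub_apply, LinearMap.smul_apply,
        LinearMap.id_apply, sub_eq_zero]
    have hT : HopfRep.IsSubcomod (k := k) (A := C) T := by
      rw [isSubcomod_iff]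
      intro g w hw
      rw [hmemT] at hw ⊢
      refine ⟨(isSubcomod_iff S).mp hS g w hw.1, ?_⟩
      rw [actDual_comm, hw.2, map_smul]
    have hT0 : T ≠ ⊥ := by
      intro h
      have : (x : V) ∈ T := (hmemT _).mpr ⟨x.2, hx1⟩
      rw [h] at this
      exact hx0 ((Submodule.mem_bot k).mp this)
    have hTS : T = S := hmin T (by rw [hTdef]; exact inf_le_left) hT0 hT
    refine ⟨μ, fun s hs => ?_⟩
    have : s ∈ T := by rw [hTS]; exact hs
    exact ((hmemT s).mp this).2
  obtain ⟨s, hsS, hs0⟩ := Submodule.exists_mem_ne_zero_of_ne_bot hS0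
  exact ⟨s, hSU hsS, hs0, mem_eigSet_of_forall_actDual (fun f => (hscal f).imp fun μ h => h s hsS)⟩

/-- a semisimple comodule over a cocommutative coalgebra over an algebraically closed field is
spanned by eigenvectors -/
theorem span_eigSet_eq_top_of_isSemisimpleComod (hss : HopfRep.IsSemisimpleComod k C V) :
    Submodule.span k (eigSet k C V) = ⊤ := by
  obtain ⟨E', hE', hc⟩ := hss _ (isSubcomod_span_eigSet (k := k) (C := C) (V := V))
  have hbot : E' = ⊥ := by
    by_contra hne
    obtain ⟨x, hxE, hx0⟩ := Submodule.exists_mem_ne_zero_of_ne_bot hne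
    have hcyc_le : cyclic k C x ≤ E' := cyclic_le hE' hxE
    have hcyc_ne : cyclic k C x ≠ ⊥ := by
      intro h
      have := mem_cyclic_self (k := k) (C := C) x
      rw [h] at this
      exact hx0 ((Submodule.mem_bot k).mp this)
    have := finite_cyclic (k := k) (C := C) x
    obtain ⟨v, hv, hv0, hve⟩ := exists_ne_zero_mem_eigSet (cyclic k C x) (isSubcomod_cyclic x) hcyc_ne
    have : v ∈ Submodule.span k (eigSet k C V) ⊓ E' := ⟨Submodule.subset_span hve, hcyc_le hv⟩
    rw [hc.disjoint.eq_bot] at this
    exact hv0 ((Submodule.mem_bot k).mp this)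
  have := hc.codisjoint.eq_top
  rwa [hbot, sup_bot_eq] at this

end AlgClosed

section GroupLike

variable {k : Type u} [Field k] {C : Type v} [AddCommGroup C] [Module k C] [Coalgebra k C]

/-- an eigenvector of the regular comodule is a multiple of a group-like element -/
theorem mem_span_groupLike_of_comul_eq {b c : C}
    (h : CoalgebraStruct.comul (R := k) b = b ⊗ₜ[k] c) :
    b ∈ Submodule.span k {a : C | IsGroupLikeElem k a} := by
  have h1 := Coalgebra.rTensor_counit_comul (R := k) b
  rw [h, LinearMap.rTensor_tmul] at h1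
  have h2 : Coalgebra.counit (R := k) b • c = b := by
    have := congrArg (TensorProduct.lid k C) h1
    simpa using this
  by_cases h0 : Coalgebra.counit (R := k) b = 0
  · rw [← h2, h0, zero_smul]; exact Submodule.zero_mem _
  · have hc : c = (Coalgebra.counit (R := k) b)⁻¹ • b := by
      have h3 := congrArg (fun x => (Coalgebra.counit (R := k) b)⁻¹ • x) h2
      simp only [smul_smul, inv_mul_cancel₀ h0, one_smul] at h3
      exact h3
    have hg : IsGroupLikeElem k c := by
      refine ⟨?_, ?_⟩
      · rw [hc, map_smul, smul_eq_mul, inv_mul_cancel₀ h0]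
      · conv_lhs => rw [hc, map_smul, h, TensorProduct.smul_tmul', ← hc]
    rw [← h2]
    exact Submodule.smul_mem _ _ (Submodule.subset_span hg)

end GroupLike

section Diag

variable {k : Type u} [Field k] {A : Type v} [CommRing A] [Bialgebra k A]

/-- if every finite-dimensional comodule is spanned by eigenvectors, `A` is diagonalizable -/
theorem isDiagonalizable_of_span_eigSet
    (h : ∀ (V : Type v) [AddCommGroup V] [Module k V] [HopfRep.Comod k A V], Module.Finite k V →
      Submodule.span k (eigSet k A V) = ⊤) : HopfRep.IsDiagonalizable k A := by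
  unfold HopfRep.IsDiagonalizable
  rw [eq_top_iff]
  intro a _
  have hW := isSubcomod_cyclic (k := k) (C := A) (V := A) a
  let c' := ComodSub.Comod.restr (HopfRep.Comod.regular k A) (cyclic k A a) hW
  have hfin := finite_cyclic (k := k) (C := A) (V := A) a
  have hspan := @h (cyclic k A a) _ _ c' hfin
  have hmem : (⟨a, mem_cyclic_self a⟩ : cyclic k A a) ∈
      Submodule.span k (@eigSet k _ A _ _ _ (cyclic k A a) _ _ c') := by
    rw [hspan]; exact Submodule.mem_top
  have key : ∀ x : cyclic k A a, x ∈ Submodule.span k (@eigSet k _ A _ _ _ (cyclic k A a) _ _ c') →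
      (x : A) ∈ Submodule.span k {a : A | IsGroupLikeElem k a} := by
    intro x hx
    induction hx using Submodule.span_induction with
    | mem y hy =>
      obtain ⟨b, hb⟩ := hy
      have h1 := ComodSub.restr_coact_coe (HopfRep.Comod.regular k A) (cyclic k A a) hW y
      have hb' : c'.coact y = y ⊗ₜ[k] b := hb
      rw [hb', LinearMap.rTensor_tmul] at h1
      exact mem_span_groupLike_of_comul_eq (b := (y : A)) (c := b) h1.symm
    | zero => exact Submodule.zero_mem _
    | add y z _ _ hy hz => exact Submodule.add_mem _ hy hz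
    | smul r y _ hy => exact Submodule.smul_mem _ _ hy
  exact key _ hmem

variable {V : Type w} [AddCommGroup V] [Module k V] [HopfRep.Comod k A V]

/-- the basis of group-like elements of a diagonalizable bialgebra -/
noncomputable def groupLikeBasis (hA : HopfRep.IsDiagonalizable k A) :
    Module.Basis {a : A | IsGroupLikeElem k a} k A :=
  Module.Basis.mk (v := fun a : {a : A | IsGroupLikeElem k a} => (a : A))
    (linearIndepOn_isGroupLikeElem (R := k) (A := A)) (by
      rw [Subtype.range_coe_subtype]
      exact hA.ge)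

theorem groupLikeBasis_apply (hA : HopfRep.IsDiagonalizable k A) (g : {a : A | IsGroupLikeElem k a}) :
    groupLikeBasis hA g = (g : A) := by
  simp [groupLikeBasis]

end Diag

section Diag2

variable {k : Type u} [Field k] {A : Type v} [CommRing A] [Bialgebra k A]
variable {V : Type w} [AddCommGroup V] [Module k V] [HopfRep.Comod k A V]

theorem conv_coord_groupLikeBasis (hA : HopfRep.IsDiagonalizable k A) (f : Module.Dual k A)
    (g : {a : A | IsGroupLikeElem k a}) :
    conv f ((groupLikeBasis hA).coord g) = f (g : A) • (groupLikeBasis hA).coord g := by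
  classical
  apply (groupLikeBasis hA).ext
  intro h
  have hh : IsGroupLikeElem k (h : A) := h.2
  unfold conv
  simp only [LinearMap.comp_apply, LinearMap.smul_apply]
  rw [groupLikeBasis_apply]
  erw [hh.comul_eq_tmul_self]
  rw [TensorProduct.map_tmul, LinearMap.mul'_apply, ← groupLikeBasis_apply hA h,
    Module.Basis.coord_apply, Module.Basis.repr_self, Finsupp.single_apply]
  split_ifs with hgh
  · subst hgh; simp [groupLikeBasis_apply]
  · simp

/-- weight decomposition: every comodule over a diagonalizable bialgebra is spanned by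
eigenvectors -/
theorem span_eigSet_eq_top_of_isDiagonalizable (hA : HopfRep.IsDiagonalizable k A) :
    Submodule.span k (eigSet k A V) = ⊤ := by
  classical
  have heig : ∀ (g : {a : A | IsGroupLikeElem k a}) (v : V),
      actDual V ((groupLikeBasis hA).coord g) v ∈ eigSet k A V := by
    intro g v
    refine ⟨(g : A), ?_⟩
    rw [← sub_eq_zero]
    apply eq_zero_of_slice_eq_zero
    intro f
    rw [map_sub, slice_tmul, ← actDual_apply, actDual_actDual, conv_coord_groupLikeBasis, sub_eq_zero]
    exact map_smul (orbitLin k A v) _ _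
  rw [eq_top_iff]
  intro v _
  obtain ⟨x, hx⟩ : ∃ x, x = HopfRep.Comod.coact (k := k) (A := A) v := ⟨_, rfl⟩
  have hv : v = slice (Coalgebra.counit (R := k) (A := A)) x := by
    rw [hx, ← actDual_apply, actDual_counit]
  have hx2 : x = ((TensorProduct.equivFinsuppOfBasisRight (groupLikeBasis hA)) x).sum
      fun g m => m ⊗ₜ[k] (groupLikeBasis hA g) := by
    rw [← TensorProduct.equivFinsuppOfBasisRight_symm_apply, LinearEquiv.symm_apply_apply]
  rw [hv, hx2, Finsupp.sum, map_sum]
  refine Submodule.sum_mem _ fun g _ => ?_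
  rw [slice_tmul, groupLikeBasis_apply]
  have hg : IsGroupLikeElem k (g : A) := g.2
  erw [hg.counit_eq_one]
  rw [one_smul, TensorProduct.equivFinsuppOfBasisRight_apply]
  apply Submodule.subset_span
  rw [hx]
  exact heig g v

/-- a diagonalizable bialgebra has a total integral: the coefficient of `1` -/
theorem exists_totInt_of_isDiagonalizable (hA : HopfRep.IsDiagonalizable k A) :
    ∃ α : A →ₗ[k] k, IsTotInt k A α := by
  classical
  refine ⟨(groupLikeBasis hA).coord ⟨1, IsGroupLikeElem.one⟩, ?_⟩
  rw [isTotInt_iff]
  constructor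
  · intro a
    have : ∀ a : A, ((groupLikeBasis hA).coord ⟨1, IsGroupLikeElem.one⟩).rTensor A
        (CoalgebraStruct.comul (R := k) a) =
        ((TensorProduct.mk k k A).flip 1 ∘ₗ (groupLikeBasis hA).coord ⟨1, IsGroupLikeElem.one⟩) a := by
      intro a
      rw [← LinearMap.comp_apply]
      revert a
      rw [← LinearMap.ext_iff]
      apply (groupLikeBasis hA).ext
      intro h
      have hh : IsGroupLikeElem k (h : A) := h.2
      simp only [LinearMap.comp_apply]
      rw [groupLikeBasis_apply]
      erw [hh.comul_eq_tmul_self]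
      rw [LinearMap.rTensor_tmul, ← groupLikeBasis_apply hA h, Module.Basis.coord_apply,
        Module.Basis.repr_self, Finsupp.single_apply]
      split_ifs with hgh
      · subst hgh; simp [groupLikeBasis_apply]
      · simp
    exact this a
  · obtain ⟨e, he⟩ : ∃ e : {a : A | IsGroupLikeElem k a}, e = ⟨1, IsGroupLikeElem.one⟩ := ⟨_, rfl⟩
    rw [← he]
    have : (1 : A) = groupLikeBasis hA e := by rw [groupLikeBasis_apply, he]
    rw [this, Module.Basis.coord_apply, Module.Basis.repr_self, Finsupp.single_eq_same]

end Diag2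

section EigGroupLike

variable {k : Type u} [Field k] {C : Type v} [AddCommGroup C] [Module k C] [Coalgebra k C]
variable {V : Type w} [AddCommGroup V] [Module k V] [HopfRep.Comod k C V]

/-- the weight of a nonzero eigenvector is group-like -/
theorem isGroupLikeElem_of_coact_eq {v : V} (hv : v ≠ 0) {a : C}
    (h : HopfRep.Comod.coact (k := k) (A := C) v = v ⊗ₜ[k] a) : IsGroupLikeElem k a := by
  obtain ⟨π, hπ⟩ := (LinearMap.toSpanSingleton k V v).exists_leftInverse_of_injective
    (LinearMap.ker_eq_bot.mpr (fun x y hxy => by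
      have hxy' : x • v = y • v := hxy
      exact smul_left_injective k hv hxy'))
  have hπv : π v = 1 := by
    have := LinearMap.congr_fun hπ 1
    simpa using this
  refine ⟨?_, ?_⟩
  · have h1 := LinearMap.congr_fun (HopfRep.Comod.counit_comp (k := k) (A := C) (V := V)) v
    simp only [LinearMap.comp_apply] at h1
    rw [h, LinearMap.lTensor_tmul] at h1
    have h2 := congrArg (fun t => π (TensorProduct.rid k V t)) h1
    simp only [LinearMap.flip_apply, TensorProduct.mk_apply, TensorProduct.rid_tmul, map_smul, hπv,
      smul_eq_mul, mul_one, one_smul] at h2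
    exact h2
  · have h1 := LinearMap.congr_fun (HopfRep.Comod.coassoc (k := k) (A := C) (V := V)) v
    simp only [LinearMap.comp_apply, LinearEquiv.coe_coe] at h1
    rw [h, LinearMap.rTensor_tmul, h, TensorProduct.assoc_tmul, LinearMap.lTensor_tmul] at h1
    have h2 := congrArg (fun t => TensorProduct.lid k (C ⊗[k] C) (π.rTensor (C ⊗[k] C) t)) h1
    simp only [LinearMap.rTensor_tmul, TensorProduct.lid_tmul, hπv, one_smul] at h2
    exact h2.symm

end EigGroupLike

end Groth.Agent.Lib.helper22
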