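import Groth.Agent.Lib.Helper22.ComodField

/-!
A comodule over a coalgebra `C` over a field `k` seen as a module over the convolution algebra
`WithConv (Module.Dual k C)`; subcomodules are exactly the submodules, comodule maps the linear maps.
-/

set_option autoImplicit false
set_option linter.style.haveILetI false
universe u v w w'
open scoped TensorProduct

namespace Groth.Agent.Lib.helper22

section Basic

variable {k : Type u} [Field k] {C : Type v} [AddCommGroup C] [Module k C] [Coalgebra k C]
variable {V : Type w} [AddCommGroup V] [Module k V]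

variable (k C) in
/-- the convolution algebra dual to a coalgebra -/
abbrev DualAlg : Type (max u v) := WithConv (Module.Dual k C)

/-- `actDual` with an explicit comodule structure -/
noncomputable def actD (c : HopfRep.Comod k C V) (f : Module.Dual k C) : V →ₗ[k] V :=
  letI := c; actDual V f

theorem actD_apply (c : HopfRep.Comod k C V) (f : Module.Dual k C) (v : V) :
    actD c f v = slice f (c.coact v) := rfl

theorem actD_add (c : HopfRep.Comod k C V) (f g : Module.Dual k C) (v : V) :
    actD c (f + g) v = actD c f v + actD c g v := by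
  letI := c
  exact map_add (orbitLin k C v) f g

theorem actD_smul (c : HopfRep.Comod k C V) (a : k) (f : Module.Dual k C) (v : V) :
    actD c (a • f) v = a • actD c f v := by
  letI := c
  exact map_smul (orbitLin k C v) a f

theorem actD_zero (c : HopfRep.Comod k C V) (v : V) : actD c (0 : Module.Dual k C) v = 0 := by
  letI := c
  exact map_zero (orbitLin k C v)

theorem actD_one (c : HopfRep.Comod k C V) (v : V) :
    actD c (WithConv.ofConv (1 : DualAlg k C)) v = v := by
  letI := c
  have : WithConv.ofConv (1 : DualAlg k C) = Coalgebra.counit (R := k) (A := C) := by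
    ext x
    simp [LinearMap.convOne_def]
  rw [this]
  exact actDual_counit v

theorem actD_mul (c : HopfRep.Comod k C V) (f g : DualAlg k C) (v : V) :
    actD c (WithConv.ofConv (f * g)) v = actD c f.ofConv (actD c g.ofConv v) := by
  letI := c
  exact (actDual_actDual f.ofConv g.ofConv v).symm

/-- a comodule seen as a module over the dual algebra (type synonym) -/
def AsMod (_c : HopfRep.Comod k C V) : Type w := V

instance (c : HopfRep.Comod k C V) : AddCommGroup (AsMod c) := inferInstanceAs (AddCommGroup V)
instance (c : HopfRep.Comod k C V) : Module k (AsMod c) := inferInstanceAs (Module k V)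

/-- the identity `V ≃ AsMod c` -/
def toAsMod (c : HopfRep.Comod k C V) : V ≃ₗ[k] AsMod c := LinearEquiv.refl k V

noncomputable instance asModModule (c : HopfRep.Comod k C V) : Module (DualAlg k C) (AsMod c) where
  smul f v := toAsMod c (actD c f.ofConv ((toAsMod c).symm v))
  one_smul v := actD_one c v
  mul_smul f g v := actD_mul c f g v
  smul_zero f := map_zero (actD c f.ofConv)
  smul_add f v w := map_add (actD c f.ofConv) v w
  add_smul f g v := actD_add c f.ofConv g.ofConv v
  zero_smul v := actD_zero c v

theorem asMod_smul_def (c : HopfRep.Comod k C V) (f : DualAlg k C) (v : AsMod c) :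
    f • v = toAsMod c (actD c f.ofConv ((toAsMod c).symm v)) := rfl

instance (c : HopfRep.Comod k C V) : IsScalarTower k (DualAlg k C) (AsMod c) where
  smul_assoc a f v := actD_smul c a f.ofConv v

theorem isSubcomod_iff' (c : HopfRep.Comod k C V) (W : Submodule k V) :
    @HopfRep.IsSubcomod k C _ _ _ _ V _ _ c W ↔ ∀ (f : Module.Dual k C), ∀ w ∈ W, actD c f w ∈ W := by
  letI := c
  exact isSubcomod_iff W

/-- the submodule over the dual algebra attached to a subcomodule -/
noncomputable def toSub (c : HopfRep.Comod k C V) (W : Submodule k V) (hW : @HopfRep.IsSubcomod k C _ _ _ _ V _ _ c W) :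
    Submodule (DualAlg k C) (AsMod c) where
  carrier := {v | (toAsMod c).symm v ∈ W}
  add_mem' ha hb := W.add_mem ha hb
  zero_mem' := W.zero_mem
  smul_mem' f _ hv := (isSubcomod_iff' c W).mp hW f.ofConv _ hv

/-- the subcomodule attached to a submodule over the dual algebra -/
noncomputable def ofSub (c : HopfRep.Comod k C V) (N : Submodule (DualAlg k C) (AsMod c)) : Submodule k V where
  carrier := {v | toAsMod c v ∈ N}
  add_mem' ha hb := N.add_mem ha hb
  zero_mem' := N.zero_mem
  smul_mem' a v hv := by
    change a • toAsMod c v ∈ N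
    rw [← one_smul (DualAlg k C) (toAsMod c v), ← smul_assoc]
    exact N.smul_mem _ hv

theorem mem_toSub (c : HopfRep.Comod k C V) (W : Submodule k V) (hW) (v : AsMod c) :
    v ∈ toSub c W hW ↔ (toAsMod c).symm v ∈ W := Iff.rfl

theorem mem_ofSub (c : HopfRep.Comod k C V) (N : Submodule (DualAlg k C) (AsMod c)) (v : V) :
    v ∈ ofSub c N ↔ toAsMod c v ∈ N := Iff.rfl

theorem isSubcomod_ofSub (c : HopfRep.Comod k C V) (N : Submodule (DualAlg k C) (AsMod c)) :
    @HopfRep.IsSubcomod k C _ _ _ _ V _ _ c (ofSub c N) := by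
  rw [isSubcomod_iff']
  intro f w hw
  exact N.smul_mem (WithConv.toConv f) hw

theorem ofSub_toSub (c : HopfRep.Comod k C V) (W : Submodule k V) (hW) : ofSub c (toSub c W hW) = W := by
  ext v; rfl

theorem toSub_ofSub (c : HopfRep.Comod k C V) (N : Submodule (DualAlg k C) (AsMod c)) :
    toSub c (ofSub c N) (isSubcomod_ofSub c N) = N := by
  ext v; rfl

/-- the complete lattice of subcomodules -/
def subL (c : HopfRep.Comod k C V) : CompleteSublattice (Submodule k V) :=
  .mk' {W | @HopfRep.IsSubcomod k C _ _ _ _ V _ _ c W}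
    (by
      intro s hs
      change @HopfRep.IsSubcomod k C _ _ _ _ V _ _ c (sSup s)
      rw [isSubcomod_iff']
      intro f
      change sSup s ≤ (sSup s).comap (actD c f)
      refine sSup_le fun W hW => ?_
      have h1 : W ≤ W.comap (actD c f) := fun w hw => (isSubcomod_iff' c W).mp (hs hW) f w hw
      exact h1.trans (Submodule.comap_mono (le_sSup hW)))
    (by
      intro s hs
      change @HopfRep.IsSubcomod k C _ _ _ _ V _ _ c (sInf s)
      rw [isSubcomod_iff']
      intro f w hw
      rw [Submodule.mem_sInf] at hw ⊢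
      intro W hW
      exact (isSubcomod_iff' c W).mp (hs hW) f w (hw W hW))

theorem mem_subL (c : HopfRep.Comod k C V) (W : Submodule k V) :
    W ∈ subL c ↔ @HopfRep.IsSubcomod k C _ _ _ _ V _ _ c W := Iff.rfl

/-- subcomodules are the submodules over the dual algebra -/
noncomputable def subIso (c : HopfRep.Comod k C V) : subL c ≃o Submodule (DualAlg k C) (AsMod c) where
  toFun W := toSub c W.1 W.2
  invFun N := ⟨ofSub c N, isSubcomod_ofSub c N⟩
  left_inv W := Subtype.ext (ofSub_toSub c W.1 W.2)
  right_inv N := toSub_ofSub c N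
  map_rel_iff' := Iff.rfl

theorem isSemisimpleComod_iff (c : HopfRep.Comod k C V) :
    @HopfRep.IsSemisimpleComod k C _ _ _ _ V _ _ c ↔ IsSemisimpleModule (DualAlg k C) (AsMod c) := by
  rw [isSemisimpleModule_iff, ← (subIso c).complementedLattice_iff,
    CompleteSublattice.isComplemented_iff]
  rfl

theorem isSimpleComod_iff (c : HopfRep.Comod k C V) :
    @HopfRep.IsSimpleComod k C _ _ _ _ V _ _ c ↔ IsSimpleModule (DualAlg k C) (AsMod c) := by
  rw [isSimpleModule_iff, ← (subIso c).isSimpleOrder_iff]
  constructor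
  · rintro ⟨hnt, h⟩
    haveI : Nontrivial (subL c) := by
      obtain ⟨x, hx⟩ := exists_ne (0 : V)
      refine ⟨⊥, ⊤, fun hbt => hx ?_⟩
      have h1 : ((⊥ : subL c) : Submodule k V) = ((⊤ : subL c) : Submodule k V) := congrArg _ hbt
      rw [CompleteSublattice.coe_bot, CompleteSublattice.coe_top] at h1
      have : x ∈ (⊤ : Submodule k V) := Submodule.mem_top
      rw [← h1] at this
      exact (Submodule.mem_bot k).mp this
    refine ⟨fun W => ?_⟩
    rcases h W.1 W.2 with h1 | h1
    · left; exact Subtype.ext h1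
    · right; exact Subtype.ext h1
  · intro hs
    refine ⟨?_, fun W hW => ?_⟩
    · by_contra hnt
      rw [not_nontrivial_iff_subsingleton] at hnt
      have : (⊥ : subL c) = ⊤ := by
        apply Subtype.ext
        rw [CompleteSublattice.coe_bot, CompleteSublattice.coe_top]
        exact Subsingleton.elim _ _
      exact bot_ne_top this
    · rcases hs.eq_bot_or_eq_top (⟨W, hW⟩ : subL c) with h1 | h1
      · left; exact congrArg Subtype.val h1
      · right; exact congrArg Subtype.val h1

theorem ofSub_le_ofSub_iff (c : HopfRep.Comod k C V) (N N' : Submodule (DualAlg k C) (AsMod c)) :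
    ofSub c N ≤ ofSub c N' ↔ N ≤ N' := Iff.rfl

theorem ofSub_injective (c : HopfRep.Comod k C V) :
    Function.Injective (ofSub c : Submodule (DualAlg k C) (AsMod c) → Submodule k V) := by
  intro N N' h
  rw [← toSub_ofSub c N, ← toSub_ofSub c N']
  congr 1

theorem ofSub_bot (c : HopfRep.Comod k C V) : ofSub c (⊥ : Submodule (DualAlg k C) (AsMod c)) = ⊥ := by
  ext v
  rw [mem_ofSub, Submodule.mem_bot, Submodule.mem_bot]
  exact Iff.rfl

theorem ofSub_top (c : HopfRep.Comod k C V) : ofSub c (⊤ : Submodule (DualAlg k C) (AsMod c)) = ⊤ := by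
  ext v
  simp [mem_ofSub]

theorem ofSub_inf (c : HopfRep.Comod k C V) (N N' : Submodule (DualAlg k C) (AsMod c)) :
    ofSub c (N ⊓ N') = ofSub c N ⊓ ofSub c N' := by
  ext v
  simp only [mem_ofSub, Submodule.mem_inf]

theorem ofSub_iSup (c : HopfRep.Comod k C V) {ι : Sort*} (N : ι → Submodule (DualAlg k C) (AsMod c)) :
    ofSub c (⨆ i, N i) = ⨆ i, ofSub c (N i) := by
  apply le_antisymm
  · have hT : @HopfRep.IsSubcomod k C _ _ _ _ V _ _ c (⨆ i, ofSub c (N i)) :=
      (subL c).sSupClosed (s := Set.range fun i => ofSub c (N i))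
        (by rintro _ ⟨i, rfl⟩; exact isSubcomod_ofSub c (N i))
    have h1 : (⨆ i, N i) ≤ toSub c (⨆ i, ofSub c (N i)) hT := by
      apply iSup_le
      intro i x hx
      exact (le_iSup (fun i => ofSub c (N i)) i) hx
    intro v hv
    exact h1 hv
  · apply iSup_le
    intro i
    exact (ofSub_le_ofSub_iff c _ _).mpr (le_iSup N i)

theorem ofSub_sup (c : HopfRep.Comod k C V) (N N' : Submodule (DualAlg k C) (AsMod c)) :
    ofSub c (N ⊔ N') = ofSub c N ⊔ ofSub c N' := by
  rw [sup_eq_iSup, ofSub_iSup, sup_eq_iSup]
  congr 1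
  funext b
  cases b <;> rfl

theorem disjoint_ofSub_iff (c : HopfRep.Comod k C V) (N N' : Submodule (DualAlg k C) (AsMod c)) :
    Disjoint (ofSub c N) (ofSub c N') ↔ Disjoint N N' := by
  rw [disjoint_iff, disjoint_iff, ← ofSub_inf, ← ofSub_bot c, (ofSub_injective c).eq_iff]

theorem codisjoint_ofSub_iff (c : HopfRep.Comod k C V) (N N' : Submodule (DualAlg k C) (AsMod c)) :
    Codisjoint (ofSub c N) (ofSub c N') ↔ Codisjoint N N' := by
  rw [codisjoint_iff, codisjoint_iff, ← ofSub_sup, ← ofSub_top c, (ofSub_injective c).eq_iff]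

theorem isCompl_ofSub_iff (c : HopfRep.Comod k C V) (N N' : Submodule (DualAlg k C) (AsMod c)) :
    IsCompl (ofSub c N) (ofSub c N') ↔ IsCompl N N' := by
  rw [isCompl_iff, isCompl_iff, disjoint_ofSub_iff, codisjoint_ofSub_iff]

theorem iSupIndep_ofSub_iff (c : HopfRep.Comod k C V) {ι : Type*}
    (N : ι → Submodule (DualAlg k C) (AsMod c)) :
    iSupIndep (fun i => ofSub c (N i)) ↔ iSupIndep N := by
  unfold iSupIndep
  refine forall_congr' fun i => ?_
  rw [← disjoint_ofSub_iff, ofSub_iSup]
  simp only [ofSub_iSup]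

end Basic

section Hom

variable {k : Type u} [Field k] {C : Type v} [AddCommGroup C] [Module k C] [Coalgebra k C]
variable {V : Type w} [AddCommGroup V] [Module k V]
variable {W : Type w'} [AddCommGroup W] [Module k W]

theorem isComodHom_iff (c : HopfRep.Comod k C V) (d : HopfRep.Comod k C W) (φ : V →ₗ[k] W) :
    @Hoch.IsComodHom k _ C _ _ _ V _ _ c W _ _ d φ ↔
      ∀ (f : Module.Dual k C) (v : V), φ (actD c f v) = actD d f (φ v) := by
  constructor
  · intro h f v
    letI := c
    letI := d
    exact actDual_comm_of_isComodHom φ h f v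
  · intro h
    apply LinearMap.ext
    intro v
    rw [← sub_eq_zero]
    apply eq_zero_of_slice_eq_zero
    intro f
    rw [map_sub, sub_eq_zero, LinearMap.comp_apply, LinearMap.comp_apply, slice_rTensor]
    exact (h f v).symm

/-- a comodule map as a linear map over the dual algebra -/
noncomputable def homToLin (c : HopfRep.Comod k C V) (d : HopfRep.Comod k C W) (φ : V →ₗ[k] W)
    (hφ : @Hoch.IsComodHom k _ C _ _ _ V _ _ c W _ _ d φ) : AsMod c →ₗ[DualAlg k C] AsMod d where
  toFun v := toAsMod d (φ ((toAsMod c).symm v))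
  map_add' a b := map_add φ a b
  map_smul' f v := (isComodHom_iff c d φ).mp hφ f.ofConv v

theorem homToLin_apply (c : HopfRep.Comod k C V) (d : HopfRep.Comod k C W) (φ : V →ₗ[k] W) (hφ)
    (v : AsMod c) : homToLin c d φ hφ v = toAsMod d (φ ((toAsMod c).symm v)) := rfl

/-- a linear map over the dual algebra as a `k`-linear map -/
noncomputable def linToHom (c : HopfRep.Comod k C V) (d : HopfRep.Comod k C W) (ψ : AsMod c →ₗ[DualAlg k C] AsMod d) :
    V →ₗ[k] W where
  toFun v := (toAsMod d).symm (ψ (toAsMod c v))
  map_add' a b := map_add ψ a b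
  map_smul' a v := by
    change ψ (a • toAsMod c v) = a • ψ (toAsMod c v)
    rw [← one_smul (DualAlg k C) (toAsMod c v), ← smul_assoc, map_smul, smul_assoc, one_smul,
      one_smul]

theorem linToHom_apply (c : HopfRep.Comod k C V) (d : HopfRep.Comod k C W)
    (ψ : AsMod c →ₗ[DualAlg k C] AsMod d) (v : V) :
    linToHom c d ψ v = (toAsMod d).symm (ψ (toAsMod c v)) := rfl

theorem isComodHom_linToHom (c : HopfRep.Comod k C V) (d : HopfRep.Comod k C W)
    (ψ : AsMod c →ₗ[DualAlg k C] AsMod d) :
    @Hoch.IsComodHom k _ C _ _ _ V _ _ c W _ _ d (linToHom c d ψ) := by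
  rw [isComodHom_iff]
  intro f v
  exact map_smul ψ (WithConv.toConv f) (toAsMod c v)

end Hom

end Groth.Agent.Lib.helper22
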