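import Groth.Agent.Lib.Helper22.ComodField
import Groth.Agent.Lib.Helper22.ComodMod

/-!
Coefficient spaces of comodules over a coalgebra over a field, subcoalgebras, and the
isotypic decomposition of the regular comodule.
-/

set_option autoImplicit false
universe u v w w'
open scoped TensorProduct

namespace Groth.Agent.Lib.helper22

section LSlice

variable {k : Type u} [Field k] {C : Type v} [AddCommGroup C] [Module k C]
variable {V : Type w} [AddCommGroup V] [Module k V]

/-- the left slice map `g ⊗ id : V ⊗ C → C` for a functional `g` on `V` -/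
noncomputable def lslice (g : Module.Dual k V) : V ⊗[k] C →ₗ[k] C :=
  (TensorProduct.lid k C).toLinearMap ∘ₗ g.rTensor C

@[simp] theorem lslice_tmul (g : Module.Dual k V) (v : V) (c : C) :
    lslice g (v ⊗ₜ[k] c) = g v • c := by
  simp [lslice]

theorem lslice_eq_slice_comm (g : Module.Dual k V) (x : V ⊗[k] C) :
    lslice g x = slice g (TensorProduct.comm k V C x) := by
  induction x using TensorProduct.induction_on with
  | zero => simp
  | tmul v c => simp
  | add y z hy hz => simp only [map_add, hy, hz]

theorem lslice_lTensor {C' : Type w'} [AddCommGroup C'] [Module k C'] (g : Module.Dual k V)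
    (i : C →ₗ[k] C') (x : V ⊗[k] C) : lslice g (i.lTensor V x) = i (lslice g x) := by
  induction x using TensorProduct.induction_on with
  | zero => simp
  | tmul v c => simp
  | add y z hy hz => simp only [map_add, hy, hz]

theorem lslice_rTensor {V' : Type w'} [AddCommGroup V'] [Module k V'] (g : Module.Dual k V')
    (φ : V →ₗ[k] V') (x : V ⊗[k] C) : lslice g (φ.rTensor C x) = lslice (g ∘ₗ φ) x := by
  induction x using TensorProduct.induction_on with
  | zero => simp
  | tmul v c => simp
  | add y z hy hz => simp only [map_add, hy, hz]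

/-- over a field, membership in `V ⊗ D ⊆ V ⊗ C` can be tested by left slices -/
theorem mem_range_lTensor_iff (D : Submodule k C) (x : V ⊗[k] C) :
    x ∈ LinearMap.range (D.subtype.lTensor V) ↔ ∀ g : Module.Dual k V, lslice g x ∈ D := by
  constructor
  · rintro ⟨y, rfl⟩ g
    rw [lslice_lTensor]
    exact (lslice g y).2
  · intro h
    have h1 : TensorProduct.comm k V C x ∈ LinearMap.range (D.subtype.rTensor V) := by
      rw [mem_range_rTensor_iff]
      intro g
      rw [← lslice_eq_slice_comm]
      exact h g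
    obtain ⟨y, hy⟩ := h1
    refine ⟨(TensorProduct.comm k V D).symm y, ?_⟩
    apply (TensorProduct.comm k V C).injective
    rw [← hy]
    clear hy
    induction y using TensorProduct.induction_on with
    | zero => simp
    | tmul d v => simp
    | add y z hy hz => simp only [map_add, hy, hz]

theorem eq_zero_of_lslice_eq_zero (x : V ⊗[k] C) (h : ∀ g : Module.Dual k V, lslice g x = 0) :
    x = 0 := by
  apply (TensorProduct.comm k V C).injective
  rw [map_zero]
  apply eq_zero_of_slice_eq_zero
  intro g
  rw [← lslice_eq_slice_comm]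
  exact h g

/-- `E ⊗ D = (E ⊗ C) ∩ (V ⊗ D)` inside `V ⊗ C` -/
theorem mem_range_map_iff (E : Submodule k V) (D : Submodule k C) (x : V ⊗[k] C) :
    x ∈ LinearMap.range (TensorProduct.map E.subtype D.subtype) ↔
      x ∈ LinearMap.range (E.subtype.rTensor C) ∧ x ∈ LinearMap.range (D.subtype.lTensor V) := by
  constructor
  · rintro ⟨y, rfl⟩
    refine ⟨⟨D.subtype.lTensor E y, ?_⟩, ⟨E.subtype.rTensor D y, ?_⟩⟩
    · rw [← LinearMap.comp_apply, LinearMap.rTensor_comp_lTensor]
    · rw [← LinearMap.comp_apply, LinearMap.lTensor_comp_rTensor]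
  · rintro ⟨⟨y, rfl⟩, h2⟩
    obtain ⟨r, hr⟩ := LinearMap.exists_leftInverse_of_injective E.subtype
      (LinearMap.ker_eq_bot.mpr E.subtype_injective)
    have h3 : y ∈ LinearMap.range (D.subtype.lTensor E) := by
      rw [mem_range_lTensor_iff]
      intro g
      have h4 := (mem_range_lTensor_iff D _).mp h2 (g ∘ₗ r)
      rw [lslice_rTensor, LinearMap.comp_assoc, hr, LinearMap.comp_id] at h4
      exact h4
    obtain ⟨z, rfl⟩ := h3
    refine ⟨z, ?_⟩
    rw [← LinearMap.comp_apply, LinearMap.rTensor_comp_lTensor]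

theorem lslice_assoc_tmul (g : Module.Dual k V) (t : V ⊗[k] C) (c : C) :
    lslice g (TensorProduct.assoc k V C C (t ⊗ₜ[k] c)) = lslice g t ⊗ₜ[k] c := by
  induction t using TensorProduct.induction_on with
  | zero => simp
  | tmul v c' => simp [TensorProduct.smul_tmul']
  | add y z hy hz => simp only [TensorProduct.add_tmul, map_add, hy, hz]

end LSlice

section Subcoalg

variable {k : Type u} [Field k] {C : Type v} [AddCommGroup C] [Module k C] [Coalgebra k C]

/-- a subcoalgebra: a subspace `B` with `Δ B ⊆ B ⊗ B` -/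
def IsSubcoalg (B : Submodule k C) : Prop :=
  ∀ b ∈ B, CoalgebraStruct.comul (R := k) b ∈ LinearMap.range (TensorProduct.map B.subtype B.subtype)

theorem isSubcoalg_iff (B : Submodule k C) :
    IsSubcoalg B ↔ ∀ b ∈ B, ∀ f : Module.Dual k C,
      slice f (CoalgebraStruct.comul (R := k) b) ∈ B ∧ lslice f (CoalgebraStruct.comul (R := k) b) ∈ B := by
  unfold IsSubcoalg
  constructor
  · intro h b hb f
    have := (mem_range_map_iff B B _).mp (h b hb)
    exact ⟨(mem_range_rTensor_iff B _).mp this.1 f, (mem_range_lTensor_iff B _).mp this.2 f⟩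
  · intro h b hb
    rw [mem_range_map_iff]
    exact ⟨(mem_range_rTensor_iff B _).mpr fun f => (h b hb f).1,
      (mem_range_lTensor_iff B _).mpr fun f => (h b hb f).2⟩

theorem IsSubcoalg.inf {B B' : Submodule k C} (h : IsSubcoalg B) (h' : IsSubcoalg B') :
    IsSubcoalg (B ⊓ B') := by
  rw [isSubcoalg_iff] at h h' ⊢
  intro b hb f
  exact ⟨⟨(h b hb.1 f).1, (h' b hb.2 f).1⟩, ⟨(h b hb.1 f).2, (h' b hb.2 f).2⟩⟩

theorem IsSubcoalg.isSubcomod {B : Submodule k C} (h : IsSubcoalg B) :
    HopfRep.IsSubcomod (k := k) (A := C) B := by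
  intro b hb
  exact ((mem_range_map_iff B B _).mp (h b hb)).1

theorem IsSubcoalg.mem_lTensor {B : Submodule k C} (h : IsSubcoalg B) {b : C} (hb : b ∈ B) :
    CoalgebraStruct.comul (R := k) b ∈ LinearMap.range (B.subtype.lTensor C) :=
  ((mem_range_map_iff B B _).mp (h b hb)).2

theorem isSubcoalg_bot : IsSubcoalg (⊥ : Submodule k C) := by
  intro b hb
  rw [(Submodule.mem_bot k).mp hb, map_zero]
  exact zero_mem _

theorem isSubcoalg_top : IsSubcoalg (⊤ : Submodule k C) := by
  rw [isSubcoalg_iff]
  intro b _ f
  exact ⟨Submodule.mem_top, Submodule.mem_top⟩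

end Subcoalg

section Coeff

variable {k : Type u} [Field k] {C : Type v} [AddCommGroup C] [Module k C] [Coalgebra k C]
variable {V : Type w} [AddCommGroup V] [Module k V] [HopfRep.Comod k C V]

variable (C) in
/-- the coefficient map `v ↦ (g ⊗ id)(ρ v)` of a functional `g` on a comodule -/
noncomputable def coeffMap (g : Module.Dual k V) : V →ₗ[k] C :=
  lslice g ∘ₗ HopfRep.Comod.coact (k := k) (A := C)

theorem coeffMap_apply (g : Module.Dual k V) (v : V) :
    coeffMap C g v = lslice g (HopfRep.Comod.coact (k := k) (A := C) v) := rfl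

/-- coefficient maps are comodule maps to the regular comodule -/
theorem isComodHom_coeffMap (g : Module.Dual k V) : Hoch.IsComodHom C (coeffMap C g) := by
  apply LinearMap.ext
  intro v
  have h1 := LinearMap.congr_fun (HopfRep.Comod.coassoc (k := k) (A := C) (V := V)) v
  simp only [LinearMap.comp_apply, LinearEquiv.coe_coe] at h1
  change CoalgebraStruct.comul (R := k) (lslice g (HopfRep.Comod.coact (k := k) (A := C) v)) =
    (coeffMap C g).rTensor C (HopfRep.Comod.coact (k := k) (A := C) v)
  rw [← lslice_lTensor, ← h1]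
  generalize HopfRep.Comod.coact (k := k) (A := C) v = y
  induction y using TensorProduct.induction_on with
  | zero => simp
  | tmul v c =>
    rw [LinearMap.rTensor_tmul, LinearMap.rTensor_tmul, lslice_assoc_tmul, coeffMap_apply]
  | add y z hy hz => simp only [map_add, hy, hz]

theorem coeffMap_comp_of_isComodHom {W : Type w'} [AddCommGroup W] [Module k W] [HopfRep.Comod k C W]
    (φ : V →ₗ[k] W) (hφ : Hoch.IsComodHom C φ) (h : Module.Dual k W) (v : V) :
    coeffMap C (h ∘ₗ φ) v = coeffMap C h (φ v) := by
  have h1 := LinearMap.congr_fun hφ v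
  simp only [LinearMap.comp_apply] at h1
  rw [coeffMap_apply, coeffMap_apply, h1, lslice_rTensor]

/-- Frobenius reciprocity: a comodule map to the regular comodule is a coefficient map -/
theorem eq_coeffMap_of_isComodHom (φ : V →ₗ[k] C) (hφ : Hoch.IsComodHom C φ) :
    φ = coeffMap C (Coalgebra.counit (R := k) (A := C) ∘ₗ φ) := by
  apply LinearMap.ext
  intro v
  rw [coeffMap_apply, ← lslice_rTensor]
  have h1 := LinearMap.congr_fun hφ v
  simp only [LinearMap.comp_apply] at h1
  rw [← h1]
  change φ v = lslice (Coalgebra.counit (R := k) (A := C)) (CoalgebraStruct.comul (R := k) (φ v))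
  have h2 := Coalgebra.rTensor_counit_comul (R := k) (φ v)
  have h3 := congrArg (TensorProduct.lid k C) h2
  rw [TensorProduct.lid_tmul, one_smul] at h3
  exact h3.symm

variable (C) in
/-- the coefficient space of a subspace `E` of a comodule -/
noncomputable def cfOn (E : Submodule k V) : Submodule k C :=
  Submodule.span k {c : C | ∃ g : Module.Dual k V, ∃ e ∈ E, coeffMap C g e = c}

theorem coeffMap_mem_cfOn (E : Submodule k V) (g : Module.Dual k V) {e : V} (he : e ∈ E) :
    coeffMap C g e ∈ cfOn C E :=
  Submodule.subset_span ⟨g, e, he, rfl⟩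

theorem cfOn_le_iff (E : Submodule k V) (D : Submodule k C) :
    cfOn C E ≤ D ↔ ∀ e ∈ E, HopfRep.Comod.coact (k := k) (A := C) e ∈
      LinearMap.range (D.subtype.lTensor V) := by
  constructor
  · intro h e he
    rw [mem_range_lTensor_iff]
    intro g
    exact h (coeffMap_mem_cfOn E g he)
  · intro h
    apply Submodule.span_le.mpr
    rintro _ ⟨g, e, he, rfl⟩
    exact (mem_range_lTensor_iff D _).mp (h e he) g

theorem coact_mem_lTensor_cfOn (E : Submodule k V) {e : V} (he : e ∈ E) :
    HopfRep.Comod.coact (k := k) (A := C) e ∈ LinearMap.range ((cfOn C E).subtype.lTensor V) :=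
  (cfOn_le_iff E _).mp le_rfl e he

theorem cfOn_mono {E E' : Submodule k V} (h : E ≤ E') : cfOn C E ≤ cfOn C E' := by
  apply Submodule.span_mono
  rintro _ ⟨g, e, he, rfl⟩
  exact ⟨g, e, h he, rfl⟩

/-- the coefficient space of a subcomodule is a subcoalgebra -/
theorem isSubcoalg_cfOn (E : Submodule k V) (hE : HopfRep.IsSubcomod (k := k) (A := C) E) :
    IsSubcoalg (cfOn C E) := by
  rw [isSubcoalg_iff]
  intro b hb f
  induction hb using Submodule.span_induction with
  | mem x hx =>
    obtain ⟨g, e, he, rfl⟩ := hx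
    have h1 := LinearMap.congr_fun (isComodHom_coeffMap (C := C) g) e
    simp only [LinearMap.comp_apply] at h1
    change CoalgebraStruct.comul (R := k) (coeffMap C g e) = _ at h1
    rw [h1]
    constructor
    · rw [slice_rTensor]
      exact coeffMap_mem_cfOn E g ((isSubcomod_iff E).mp hE f e he)
    · rw [lslice_rTensor]
      exact coeffMap_mem_cfOn E _ he
  | zero => simp
  | add x y _ _ hx hy =>
    simp only [map_add]
    exact ⟨add_mem hx.1 hy.1, add_mem hx.2 hy.2⟩
  | smul a x _ hx =>
    simp only [map_smul]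
    exact ⟨Submodule.smul_mem _ a hx.1, Submodule.smul_mem _ a hx.2⟩

/-- the coefficient space is the least subspace `D'` with `ρ(E) ⊆ V ⊗ D'` -/
theorem isLeast_cfOn_top :
    IsLeast {D' : Submodule k C | ∀ e : V, HopfRep.Comod.coact (k := k) (A := C) e ∈
      LinearMap.range (LinearMap.lTensor V D'.subtype)} (cfOn C (⊤ : Submodule k V)) := by
  constructor
  · intro e
    exact coact_mem_lTensor_cfOn ⊤ Submodule.mem_top
  · intro D' hD'
    rw [cfOn_le_iff]
    intro e _
    exact hD' e

theorem eq_cfOn_top_of_isLeast {D : Submodule k C}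
    (hD : IsLeast {D' : Submodule k C | ∀ e : V, HopfRep.Comod.coact (k := k) (A := C) e ∈
      LinearMap.range (LinearMap.lTensor V D'.subtype)} D) : D = cfOn C (⊤ : Submodule k V) :=
  hD.unique isLeast_cfOn_top

theorem cfOn_ne_bot {E : Submodule k V} (hE : E ≠ ⊥) : cfOn C E ≠ ⊥ := by
  intro h
  apply hE
  rw [eq_bot_iff]
  intro e he
  have h1 := coact_mem_lTensor_cfOn (C := C) E he
  rw [h] at h1
  obtain ⟨y, hy⟩ := h1
  have hy0 : y = 0 := by
    have : Subsingleton (V ⊗[k] (⊥ : Submodule k C)) := by
      have e1 : (V ⊗[k] (⊥ : Submodule k C)) ≃ₗ[k] V ⊗[k] PUnit.{1} :=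
        TensorProduct.congr (LinearEquiv.refl k V) (Submodule.botEquivPUnit)
      exact e1.toEquiv.subsingleton
    exact Subsingleton.elim _ _
  rw [hy0, map_zero] at hy
  have h2 := LinearMap.congr_fun (HopfRep.Comod.counit_comp (k := k) (A := C) (V := V)) e
  simp only [LinearMap.comp_apply, ← hy, map_zero, LinearMap.flip_apply, TensorProduct.mk_apply] at h2
  have h3 := congrArg (TensorProduct.rid k V) h2
  simpa using h3.symm

/-- the coefficient space of a finite-dimensional subspace is finite-dimensional -/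
theorem finite_cfOn (E : Submodule k V) [Module.Finite k E] : Module.Finite k (cfOn C E) := by
  classical
  obtain ⟨t, ht⟩ : E.FG := (Submodule.fg_top E).mp Module.Finite.fg_top
  have h : ∀ v : V, ∃ s : Finset (V × C), HopfRep.Comod.coact (k := k) (A := C) v =
      ∑ p ∈ s, p.1 ⊗ₜ[k] p.2 := fun v => TensorProduct.exists_finset _
  choose s hs using h
  have hle : cfOn C E ≤ Submodule.span k
      ((t.biUnion fun v => (s v).image Prod.snd : Finset C) : Set C) := by
    apply Submodule.span_le.mpr
    rintro _ ⟨g, e, he, rfl⟩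
    rw [← ht] at he
    induction he using Submodule.span_induction with
    | mem v hv =>
      rw [coeffMap_apply, hs v, map_sum]
      apply Submodule.sum_mem
      intro p hp
      rw [lslice_tmul]
      apply Submodule.smul_mem
      apply Submodule.subset_span
      simp only [Finset.coe_biUnion, Finset.coe_image, Set.mem_iUnion, Set.mem_image, Finset.mem_coe]
      exact ⟨v, hv, p, hp, rfl⟩
    | zero => rw [map_zero]; exact zero_mem _
    | add x y _ _ hx hy => rw [map_add]; exact add_mem hx hy
    | smul a x _ hx => rw [map_smul]; exact Submodule.smul_mem _ a hx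
  have : Module.Finite k (Submodule.span k
      ((t.biUnion fun v => (s v).image Prod.snd : Finset C) : Set C)) :=
    Module.Finite.span_finset k _
  exact Submodule.finiteDimensional_of_le hle

end Coeff

section Regular

variable {k : Type u} [Field k] {C : Type v} [AddCommGroup C] [Module k C] [Coalgebra k C]

theorem coeffMap_counit_regular (c : C) :
    coeffMap C (Coalgebra.counit (R := k) (A := C)) c = c := by
  have := eq_coeffMap_of_isComodHom (k := k) (C := C) (V := C) LinearMap.id (by
    unfold Hoch.IsComodHom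
    rw [LinearMap.comp_id, LinearMap.rTensor_id, LinearMap.id_comp])
  rw [LinearMap.comp_id] at this
  exact (LinearMap.congr_fun this c).symm

theorem le_cfOn_regular (E : Submodule k C) : E ≤ cfOn C E := by
  intro e he
  rw [← coeffMap_counit_regular (k := k) e]
  exact coeffMap_mem_cfOn E _ he

theorem cfOn_le_of_isSubcoalg {B E : Submodule k C} (hB : IsSubcoalg B) (hE : E ≤ B) :
    cfOn C E ≤ B := by
  rw [cfOn_le_iff]
  intro e he
  exact hB.mem_lTensor (hE he)

end Regular

section Simple

variable {k : Type u} [Field k] {C : Type v} [AddCommGroup C] [Module k C] [Coalgebra k C]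
variable {V : Type w} [AddCommGroup V] [Module k V] [HopfRep.Comod k C V]

/-- every nonzero subcomodule contains a (finite-dimensional) simple subcomodule -/
theorem exists_simple_subcomod_le (W : Submodule k V) (hW : HopfRep.IsSubcomod (k := k) (A := C) W)
    (hW0 : W ≠ ⊥) :
    ∃ E : Submodule k V, E ≤ W ∧ E ≠ ⊥ ∧ HopfRep.IsSubcomod (k := k) (A := C) E ∧
      ∀ E' : Submodule k V, E' ≤ E → HopfRep.IsSubcomod (k := k) (A := C) E' → E' = ⊥ ∨ E' = E := by
  classical
  obtain ⟨w, hwW, hw0⟩ := (Submodule.ne_bot_iff W).mp hW0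
  obtain ⟨U, hUdef⟩ : ∃ U : Submodule k V, U = cyclic k C w := ⟨_, rfl⟩
  have hUW : U ≤ W := hUdef ▸ cyclic_le hW hwW
  have hU : HopfRep.IsSubcomod (k := k) (A := C) U := hUdef ▸ isSubcomod_cyclic w
  have hUfin : Module.Finite k U := hUdef ▸ finite_cyclic w
  have hU0 : U ≠ ⊥ := by
    intro h
    have : w ∈ U := hUdef ▸ mem_cyclic_self w
    rw [h] at this
    exact hw0 ((Submodule.mem_bot k).mp this)
  let P : ℕ → Prop := fun n => ∃ S : Submodule k V, S ≤ U ∧ S ≠ ⊥ ∧
    HopfRep.IsSubcomod (k := k) (A := C) S ∧ Module.finrank k S = n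
  have hP : ∃ n, P n := ⟨_, U, le_rfl, hU0, hU, rfl⟩
  obtain ⟨S, hSU, hS0, hS, hn⟩ := Nat.find_spec hP
  have hfin : Module.Finite k S := Submodule.finiteDimensional_of_le hSU
  refine ⟨S, hSU.trans hUW, hS0, hS, ?_⟩
  intro T hTS hT
  by_cases hT0 : T = ⊥
  · exact Or.inl hT0
  · right
    have h1 : Module.finrank k T ≤ Module.finrank k S := Submodule.finrank_mono hTS
    have h2 : Nat.find hP ≤ Module.finrank k T := Nat.find_min' hP ⟨T, hTS.trans hSU, hT0, hT, rfl⟩
    exact Submodule.eq_of_le_of_finrank_le hTS (by omega)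

end Simple

end Groth.Agent.Lib.helper22
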