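import Groth.Agent.Lib.Helper22.Coeff
import Groth.Prelude.Def_ComodSub

/-!
Simple comodules and their coefficient coalgebras, via modules over the dual algebra.
-/

set_option autoImplicit false
universe u v w w'
open scoped TensorProduct

namespace Groth.Agent.Lib.helper22

section

variable {k : Type u} [Field k] {C : Type v} [AddCommGroup C] [Module k C] [Coalgebra k C]

theorem isSubcomod_top {V : Type w} [AddCommGroup V] [Module k V] [HopfRep.Comod k C V] :
    HopfRep.IsSubcomod (k := k) (A := C) (⊤ : Submodule k V) := by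
  rw [isSubcomod_iff]
  intro f w _
  exact Submodule.mem_top

variable (k C) in
/-- the regular comodule as a module over the dual algebra -/
abbrev RegMod : Type v := AsMod (HopfRep.Comod.regular k C)

variable {V : Type w} [AddCommGroup V] [Module k V] [c : HopfRep.Comod k C V]

/-- the coefficient map as a linear map over the dual algebra -/
noncomputable def coeffLin (g : Module.Dual k V) : AsMod c →ₗ[DualAlg k C] RegMod k C :=
  homToLin c (HopfRep.Comod.regular k C) (coeffMap C g) (isComodHom_coeffMap g)

theorem coeffLin_apply (g : Module.Dual k V) (v : AsMod c) :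
    coeffLin g v = toAsMod (HopfRep.Comod.regular k C) (coeffMap C g ((toAsMod c).symm v)) := rfl

/-- a simple submodule of the regular comodule inside the coefficient space of a simple comodule
`V` is isomorphic to `V` -/
theorem nonempty_linearEquiv_of_le_cfOn_top (hV : HopfRep.IsSimpleComod k C V)
    (N : Submodule (DualAlg k C) (RegMod k C)) [IsSimpleModule (DualAlg k C) N]
    (hN : ofSub (HopfRep.Comod.regular k C) N ≤ cfOn C (⊤ : Submodule k V)) :
    Nonempty (N ≃ₗ[DualAlg k C] AsMod c) := by
  classical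
  have : IsSimpleModule (DualAlg k C) (AsMod c) := (isSimpleComod_iff c).mp hV
  let s : Set (Submodule (DualAlg k C) (RegMod k C)) :=
    {m | ∃ g : Module.Dual k V, coeffLin (c := c) g ≠ 0 ∧ m = LinearMap.range (coeffLin (c := c) g)}
  have hequiv : ∀ m ∈ s, Nonempty (m ≃ₗ[DualAlg k C] AsMod c) := by
    rintro m ⟨g, hg0, rfl⟩
    rcases LinearMap.injective_or_eq_zero (coeffLin (c := c) g) with h | h
    · exact ⟨(LinearEquiv.ofInjective _ h).symm⟩
    · exact absurd h hg0
  have hs : ∀ m : s, IsSimpleModule (DualAlg k C) m := fun m =>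
    IsSimpleModule.congr (hequiv m.1 m.2).some
  have hle : N ≤ sSup s := by
    have h1 : cfOn C (⊤ : Submodule k V) ≤ ofSub (HopfRep.Comod.regular k C) (sSup s) := by
      apply Submodule.span_le.mpr
      rintro _ ⟨g, e, _, rfl⟩
      change toAsMod (HopfRep.Comod.regular k C) (coeffMap C g e) ∈ sSup s
      by_cases hg0 : coeffLin (c := c) g = 0
      · have : toAsMod (HopfRep.Comod.regular k C) (coeffMap C g e) = coeffLin (c := c) g (toAsMod c e) := rfl
        rw [this, hg0, LinearMap.zero_apply]
        exact zero_mem _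
      · have hmem : LinearMap.range (coeffLin (c := c) g) ∈ s := ⟨g, hg0, rfl⟩
        exact (le_sSup hmem) ⟨toAsMod c e, rfl⟩
    intro x hx
    exact h1 (hN hx)
  obtain ⟨S, hS, ⟨e⟩⟩ := Submodule.linearEquiv_of_le_sSup N s hle
  exact ⟨e.trans (hequiv S hS).some⟩

/-- a subcoalgebra contained in the coefficient space of a simple comodule is `0` or everything -/
theorem eq_bot_or_eq_cfOn_top_of_isSubcoalg (hV : HopfRep.IsSimpleComod k C V)
    (B : Submodule k C) (hB : IsSubcoalg B) (hle : B ≤ cfOn C (⊤ : Submodule k V)) :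
    B = ⊥ ∨ B = cfOn C (⊤ : Submodule k V) := by
  classical
  by_cases hB0 : B = ⊥
  · exact Or.inl hB0
  right
  obtain ⟨E₁, hE₁B, hE₁0, hE₁, hE₁min⟩ :=
    exists_simple_subcomod_le (k := k) (C := C) B hB.isSubcomod hB0
  obtain ⟨N, hNdef⟩ : ∃ N : Submodule (DualAlg k C) (RegMod k C),
      N = toSub (HopfRep.Comod.regular k C) E₁ hE₁ := ⟨_, rfl⟩
  have hofN : ofSub (HopfRep.Comod.regular k C) N = E₁ := by rw [hNdef, ofSub_toSub]
  have : IsSimpleModule (DualAlg k C) N := by
    rw [isSimpleModule_iff_isAtom]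
    refine ⟨?_, ?_⟩
    · intro h
      apply hE₁0
      rw [← hofN, h, ofSub_bot]
    · intro N' hN'
      have h1 : ofSub (HopfRep.Comod.regular k C) N' ≤ E₁ := by
        rw [← hofN, ofSub_le_ofSub_iff]
        exact hN'.le
      rcases hE₁min _ h1 (isSubcomod_ofSub _ N') with h2 | h2
      · apply ofSub_injective (HopfRep.Comod.regular k C)
        rw [h2, ofSub_bot]
      · exfalso
        have : N' = N := by
          apply ofSub_injective (HopfRep.Comod.regular k C)
          rw [h2, hofN]
        exact hN'.ne this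
  obtain ⟨e⟩ := nonempty_linearEquiv_of_le_cfOn_top (c := c) hV N (by rw [hofN]; exact hE₁B.trans hle)
  obtain ⟨ψ, hψdef⟩ : ∃ ψ : AsMod c →ₗ[DualAlg k C] RegMod k C, ψ = N.subtype ∘ₗ e.symm.toLinearMap :=
    ⟨_, rfl⟩
  have hψinj : Function.Injective ψ := by
    rw [hψdef]
    exact N.subtype_injective.comp e.symm.injective
  have hψmem : ∀ x, ψ x ∈ N := by
    intro x
    rw [hψdef]
    exact (e.symm x).2
  obtain ⟨φ, hφdef⟩ : ∃ φ : V →ₗ[k] C, φ = linToHom c (HopfRep.Comod.regular k C) ψ := ⟨_, rfl⟩
  have hφ : Hoch.IsComodHom C φ := hφdef ▸ isComodHom_linToHom c _ ψ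
  have hφinj : Function.Injective φ := by
    intro x y hxy
    rw [hφdef] at hxy
    exact (toAsMod c).injective (hψinj ((toAsMod (HopfRep.Comod.regular k C)).symm.injective hxy))
  have hφB : ∀ x, φ x ∈ B := by
    intro x
    apply hE₁B
    rw [← hofN, hφdef]
    exact hψmem _
  apply le_antisymm hle
  rw [cfOn_le_iff]
  intro x _
  rw [mem_range_lTensor_iff]
  intro g
  obtain ⟨r, hr⟩ := LinearMap.exists_leftInverse_of_injective φ (LinearMap.ker_eq_bot.mpr hφinj)
  have h1 := LinearMap.congr_fun hφ x
  simp only [LinearMap.comp_apply] at h1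
  have h2 := (mem_range_lTensor_iff B _).mp (hB.mem_lTensor (hφB x)) (g ∘ₗ r)
  change lslice (g ∘ₗ r) (HopfRep.Comod.coact (k := k) (A := C) (φ x)) ∈ B at h2
  rw [h1, lslice_rTensor, LinearMap.comp_assoc, hr, LinearMap.comp_id] at h2
  exact h2

/-- the coefficient space of a simple comodule is a simple subcoalgebra -/
theorem isSimpleSubcoalg_cfOn_top (hV : HopfRep.IsSimpleComod k C V) :
    cfOn C (⊤ : Submodule k V) ≠ ⊥ ∧ IsSubcoalg (cfOn C (⊤ : Submodule k V)) ∧
      ∀ B : Submodule k C, B ≤ cfOn C (⊤ : Submodule k V) → IsSubcoalg B →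
        B = ⊥ ∨ B = cfOn C (⊤ : Submodule k V) := by
  have := hV.1
  refine ⟨cfOn_ne_bot top_ne_bot, isSubcoalg_cfOn ⊤ isSubcomod_top, ?_⟩
  intro B hle hB
  exact eq_bot_or_eq_cfOn_top_of_isSubcoalg hV B hB hle

variable {W : Type w'} [AddCommGroup W] [Module k W] [d : HopfRep.Comod k C W]

theorem exists_comodIso_of_linearEquiv (e : AsMod c ≃ₗ[DualAlg k C] AsMod d) :
    ∃ e' : V ≃ₗ[k] W, Hoch.IsComodHom C e'.toLinearMap := by
  refine ⟨LinearEquiv.ofLinearMap (linToHom c d e.toLinearMap) (linToHom d c e.symm.toLinearMap) ?_ ?_,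
    isComodHom_linToHom c d _⟩
  · apply LinearMap.ext
    intro x
    simp only [LinearMap.comp_apply, linToHom_apply, LinearMap.id_apply, LinearEquiv.coe_coe,
      LinearEquiv.apply_symm_apply, LinearEquiv.symm_apply_apply]
  · apply LinearMap.ext
    intro x
    simp only [LinearMap.comp_apply, linToHom_apply, LinearMap.id_apply, LinearEquiv.coe_coe,
      LinearEquiv.apply_symm_apply, LinearEquiv.symm_apply_apply]

/-- simple comodules with nested coefficient spaces are isomorphic -/
theorem exists_comodIso_of_cfOn_top_le (hV : HopfRep.IsSimpleComod k C V)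
    (hW : HopfRep.IsSimpleComod k C W)
    (h : cfOn C (⊤ : Submodule k W) ≤ cfOn C (⊤ : Submodule k V)) :
    ∃ e : V ≃ₗ[k] W, Hoch.IsComodHom C e.toLinearMap := by
  classical
  have : IsSimpleModule (DualAlg k C) (AsMod d) := (isSimpleComod_iff d).mp hW
  have := hW.1
  have hne : cfOn C (⊤ : Submodule k W) ≠ ⊥ := cfOn_ne_bot top_ne_bot
  have hex : ∃ g : Module.Dual k W, coeffLin (c := d) g ≠ 0 := by
    by_contra hcon
    push Not at hcon
    apply hne
    rw [eq_bot_iff]
    apply Submodule.span_le.mpr
    rintro _ ⟨g, e, _, rfl⟩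
    have : toAsMod (HopfRep.Comod.regular k C) (coeffMap C g e) = coeffLin (c := d) g (toAsMod d e) := rfl
    have h0 : coeffLin (c := d) g (toAsMod d e) = 0 := by rw [hcon g, LinearMap.zero_apply]
    rw [← this] at h0
    exact h0
  obtain ⟨g, hg0⟩ := hex
  have hinj : Function.Injective (coeffLin (c := d) g) :=
    (LinearMap.injective_or_eq_zero _).resolve_right hg0
  obtain ⟨N, hNdef⟩ : ∃ N : Submodule (DualAlg k C) (RegMod k C),
      N = LinearMap.range (coeffLin (c := d) g) := ⟨_, rfl⟩
  have e1 : AsMod d ≃ₗ[DualAlg k C] N := hNdef ▸ LinearEquiv.ofInjective _ hinj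
  have : IsSimpleModule (DualAlg k C) N := IsSimpleModule.congr e1.symm
  have hNle : ofSub (HopfRep.Comod.regular k C) N ≤ cfOn C (⊤ : Submodule k V) := by
    refine le_trans ?_ h
    intro x hx
    rw [hNdef] at hx
    obtain ⟨y, hy⟩ := hx
    have : x = coeffMap C g ((toAsMod d).symm y) := (toAsMod (HopfRep.Comod.regular k C)).injective hy.symm
    rw [this]
    exact coeffMap_mem_cfOn ⊤ g Submodule.mem_top
  obtain ⟨e2⟩ := nonempty_linearEquiv_of_le_cfOn_top (c := c) hV N hNle
  exact exists_comodIso_of_linearEquiv (e2.symm.trans e1.symm)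

end

section Restr

variable {k : Type u} [Field k] {C : Type v} [AddCommGroup C] [Module k C] [Coalgebra k C]
variable {V : Type w} [AddCommGroup V] [Module k V]

theorem isSimpleModule_toSub (c : HopfRep.Comod k C V) (E : Submodule k V)
    (hE : @HopfRep.IsSubcomod k C _ _ _ _ V _ _ c E) (hE0 : E ≠ ⊥)
    (hmin : ∀ E' : Submodule k V, E' ≤ E → @HopfRep.IsSubcomod k C _ _ _ _ V _ _ c E' →
      E' = ⊥ ∨ E' = E) : IsSimpleModule (DualAlg k C) (toSub c E hE) := by
  rw [isSimpleModule_iff_isAtom]
  have hofN : ofSub c (toSub c E hE) = E := ofSub_toSub c E hE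
  refine ⟨?_, ?_⟩
  · intro h
    apply hE0
    rw [← hofN, h, ofSub_bot]
  · intro N' hN'
    have h1 : ofSub c N' ≤ E := by
      rw [← hofN, ofSub_le_ofSub_iff]
      exact hN'.le
    rcases hmin _ h1 (isSubcomod_ofSub _ N') with h2 | h2
    · apply ofSub_injective c
      rw [h2, ofSub_bot]
    · exfalso
      have : N' = toSub c E hE := by
        apply ofSub_injective c
        rw [h2, hofN]
      exact hN'.ne this

/-- the restricted comodule structure on a subcomodule, as a module over the dual algebra -/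
noncomputable def restrEquiv (c : HopfRep.Comod k C V) (W : Submodule k V)
    (hW : @HopfRep.IsSubcomod k C _ _ _ _ V _ _ c W) :
    AsMod (ComodSub.Comod.restr c W hW) ≃ₗ[DualAlg k C] toSub c W hW :=
  (LinearEquiv.ofInjective (homToLin (ComodSub.Comod.restr c W hW) c W.subtype
      (ComodSub.isComodHom_subtype c W hW))
    (fun _ _ h => W.subtype_injective h)).trans
    (LinearEquiv.ofEq _ _ (by
      ext x
      constructor
      · rintro ⟨y, rfl⟩
        exact ((toAsMod (ComodSub.Comod.restr c W hW)).symm y).2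
      · intro hx
        exact ⟨toAsMod (ComodSub.Comod.restr c W hW) ⟨(toAsMod c).symm x, hx⟩, rfl⟩))

theorem isSimpleComod_restr (c : HopfRep.Comod k C V) (E : Submodule k V)
    (hE : @HopfRep.IsSubcomod k C _ _ _ _ V _ _ c E) (hE0 : E ≠ ⊥)
    (hmin : ∀ E' : Submodule k V, E' ≤ E → @HopfRep.IsSubcomod k C _ _ _ _ V _ _ c E' →
      E' = ⊥ ∨ E' = E) :
    @HopfRep.IsSimpleComod k C _ _ _ _ E _ _ (ComodSub.Comod.restr c E hE) := by
  rw [isSimpleComod_iff]
  have := isSimpleModule_toSub c E hE hE0 hmin
  exact IsSimpleModule.congr (N := toSub c E hE) (restrEquiv c E hE)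

end Restr

section Semisimple

variable {k : Type u} [Field k] {C : Type v} [AddCommGroup C] [Module k C] [Coalgebra k C]

/-- a simple subcoalgebra is the coefficient space of a simple subcomodule of the regular comodule -/
theorem exists_simple_subcomod_cfOn_eq (D : Submodule k C) (hD0 : D ≠ ⊥) (hD : IsSubcoalg D)
    (hDs : ∀ B : Submodule k C, B ≤ D → IsSubcoalg B → B = ⊥ ∨ B = D) :
    ∃ E : Submodule k C, E ≤ D ∧ E ≠ ⊥ ∧ HopfRep.IsSubcomod (k := k) (A := C) E ∧
      (∀ E' : Submodule k C, E' ≤ E → HopfRep.IsSubcomod (k := k) (A := C) E' → E' = ⊥ ∨ E' = E) ∧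
      cfOn C E = D := by
  obtain ⟨E, hED, hE0, hE, hEmin⟩ := exists_simple_subcomod_le (k := k) (C := C) D hD.isSubcomod hD0
  refine ⟨E, hED, hE0, hE, hEmin, ?_⟩
  rcases hDs (cfOn C E) (cfOn_le_of_isSubcoalg hD hED) (isSubcoalg_cfOn E hE) with h | h
  · exact absurd h (cfOn_ne_bot hE0)
  · exact h

/-- if the coefficient spaces of a family of simple subcomodules of the regular comodule span `C`,
the regular comodule is semisimple -/
theorem isSemisimpleModule_regMod {ι : Type*} (E : ι → Submodule k C)
    (hE : ∀ i, HopfRep.IsSubcomod (k := k) (A := C) (E i)) (hE0 : ∀ i, E i ≠ ⊥)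
    (hmin : ∀ i, ∀ E' : Submodule k C, E' ≤ E i → HopfRep.IsSubcomod (k := k) (A := C) E' →
      E' = ⊥ ∨ E' = E i)
    (htop : ⨆ i, cfOn C (E i) = ⊤) : IsSemisimpleModule (DualAlg k C) (RegMod k C) := by
  classical
  have key : ∀ (i : ι) (g : Module.Dual k C), IsSemisimpleModule (DualAlg k C)
      (LinearMap.range ((coeffLin (c := HopfRep.Comod.regular k C) g) ∘ₗ
        (toSub (HopfRep.Comod.regular k C) (E i) (hE i)).subtype)) := by
    intro i g
    have h1 := isSimpleModule_toSub (HopfRep.Comod.regular k C) (E i) (hE i) (hE0 i) (hmin i)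
    have h2 : IsSemisimpleModule (DualAlg k C) (toSub (HopfRep.Comod.regular k C) (E i) (hE i)) :=
      inferInstance
    exact @IsSemisimpleModule.range (DualAlg k C) _ (toSub (HopfRep.Comod.regular k C) (E i) (hE i)) _ _ _ _ _ h2
      ((coeffLin (c := HopfRep.Comod.regular k C) g) ∘ₗ
        (toSub (HopfRep.Comod.regular k C) (E i) (hE i)).subtype)
  apply isSemisimpleModule_of_isSemisimpleModule_submodule'
    (p := fun ig : ι × Module.Dual k C =>
      LinearMap.range ((coeffLin (c := HopfRep.Comod.regular k C) ig.2) ∘ₗ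
        (toSub (HopfRep.Comod.regular k C) (E ig.1) (hE ig.1)).subtype))
  · intro ig
    exact key ig.1 ig.2
  · apply ofSub_injective (HopfRep.Comod.regular k C)
    rw [ofSub_top, ← top_le_iff, ← htop]
    apply iSup_le
    intro i
    apply Submodule.span_le.mpr
    rintro _ ⟨g, e, he, rfl⟩
    have h1 := le_iSup (fun ig : ι × Module.Dual k C =>
      LinearMap.range ((coeffLin (c := HopfRep.Comod.regular k C) ig.2) ∘ₗ
        (toSub (HopfRep.Comod.regular k C) (E ig.1) (hE ig.1)).subtype)) (i, g)
    apply h1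
    exact ⟨⟨toAsMod (HopfRep.Comod.regular k C) e, he⟩, rfl⟩

variable {V : Type w} [AddCommGroup V] [Module k V] [c : HopfRep.Comod k C V]

/-- the coaction as a map to the induced (cofree) comodule `V ⊗ C` -/
noncomputable def coactInd : V →ₗ[k] Hoch.Ind k C V :=
  (Hoch.Ind.equiv k C V).toLinearMap ∘ₗ HopfRep.Comod.coact (k := k) (A := C)

theorem isComodHom_coactInd : Hoch.IsComodHom C (coactInd (k := k) (C := C) (V := V)) := by
  apply LinearMap.ext
  intro v
  have h1 := LinearMap.congr_fun (HopfRep.Comod.coassoc (k := k) (A := C) (V := V)) v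
  simp only [LinearMap.comp_apply, LinearEquiv.coe_coe] at h1
  change (TensorProduct.assoc k V C C).symm ((CoalgebraStruct.comul (R := k) (A := C)).lTensor V
    (HopfRep.Comod.coact (k := k) (A := C) v)) =
      (HopfRep.Comod.coact (k := k) (A := C)).rTensor C (HopfRep.Comod.coact (k := k) (A := C) v)
  rw [← h1, LinearEquiv.symm_apply_apply]

theorem coactInd_injective : Function.Injective (coactInd (k := k) (C := C) (V := V)) := by
  intro x y hxy
  have h0 : HopfRep.Comod.coact (k := k) (A := C) x = HopfRep.Comod.coact (k := k) (A := C) y :=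
    (Hoch.Ind.equiv k C V).injective hxy
  have hx := LinearMap.congr_fun (HopfRep.Comod.counit_comp (k := k) (A := C) (V := V)) x
  have hy := LinearMap.congr_fun (HopfRep.Comod.counit_comp (k := k) (A := C) (V := V)) y
  simp only [LinearMap.comp_apply, LinearMap.flip_apply, TensorProduct.mk_apply] at hx hy
  rw [h0, hy] at hx
  have := congrArg (TensorProduct.rid k V) hx
  simpa using this.symm

variable (C) in
/-- `c ↦ v ⊗ c`, a comodule map from the regular comodule to the induced comodule -/
noncomputable def tmulInd (v : V) : C →ₗ[k] Hoch.Ind k C V :=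
  (Hoch.Ind.equiv k C V).toLinearMap ∘ₗ TensorProduct.mk k V C v

omit c in
theorem isComodHom_tmulInd (v : V) : Hoch.IsComodHom C (tmulInd (k := k) C v) := by
  apply LinearMap.ext
  intro a
  change (TensorProduct.assoc k V C C).symm (v ⊗ₜ[k] CoalgebraStruct.comul (R := k) a) =
    (TensorProduct.mk k V C v).rTensor C (CoalgebraStruct.comul (R := k) a)
  generalize CoalgebraStruct.comul (R := k) a = t
  induction t using TensorProduct.induction_on with
  | zero => simp
  | tmul x y => simp
  | add x y hx hy => simp only [TensorProduct.tmul_add, map_add, hx, hy]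

/-- if the regular comodule is semisimple then so is every comodule -/
theorem isSemisimpleComod_of_regMod (h : IsSemisimpleModule (DualAlg k C) (RegMod k C)) :
    HopfRep.IsSemisimpleComod k C V := by
  classical
  rw [isSemisimpleComod_iff c]
  have hInd : IsSemisimpleModule (DualAlg k C) (AsMod (Hoch.Ind.comod k C V)) := by
    apply isSemisimpleModule_of_isSemisimpleModule_submodule'
      (p := fun v : V => LinearMap.range (homToLin (HopfRep.Comod.regular k C) (Hoch.Ind.comod k C V)
        (tmulInd C v) (isComodHom_tmulInd v)))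
    · intro v
      exact @IsSemisimpleModule.range (DualAlg k C) _ (RegMod k C) _ _ _ _ _ h
        (homToLin (HopfRep.Comod.regular k C) (Hoch.Ind.comod k C V)
          (tmulInd C v) (isComodHom_tmulInd v))
    · apply ofSub_injective (Hoch.Ind.comod k C V)
      rw [ofSub_top, ← top_le_iff]
      intro x hx
      clear hx
      change V ⊗[k] C at x
      induction x using TensorProduct.induction_on with
      | zero => exact zero_mem _
      | tmul v a =>
        have h1 := le_iSup (fun v : V => LinearMap.range (homToLin (HopfRep.Comod.regular k C)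
          (Hoch.Ind.comod k C V) (tmulInd C v) (isComodHom_tmulInd v))) v
        apply h1
        exact ⟨toAsMod (HopfRep.Comod.regular k C) a, rfl⟩
      | add x y hx hy => exact add_mem hx hy
  exact IsSemisimpleModule.of_injective
    (homToLin c (Hoch.Ind.comod k C V) (coactInd (k := k) (C := C) (V := V)) isComodHom_coactInd)
    (fun x y hxy => coactInd_injective (k := k) (C := C) (V := V) hxy)

/-- the isotypic component of type `V` of the regular comodule is the coefficient space of `V` -/
theorem ofSub_isotypicComponent (hV : HopfRep.IsSimpleComod k C V) :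
    ofSub (HopfRep.Comod.regular k C) (isotypicComponent (DualAlg k C) (RegMod k C) (AsMod c)) =
      cfOn C (⊤ : Submodule k V) := by
  classical
  have hsimp : IsSimpleModule (DualAlg k C) (AsMod c) := (isSimpleComod_iff c).mp hV
  apply le_antisymm
  · have hsub : HopfRep.IsSubcomod (k := k) (A := C) (cfOn C (⊤ : Submodule k V)) :=
      (isSubcoalg_cfOn ⊤ isSubcomod_top).isSubcomod
    have h1 : isotypicComponent (DualAlg k C) (RegMod k C) (AsMod c) ≤
        toSub (HopfRep.Comod.regular k C) (cfOn C (⊤ : Submodule k V)) hsub := by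
      apply sSup_le
      rintro m ⟨e⟩ x hx
      obtain ⟨ψ, hψdef⟩ : ∃ ψ : AsMod c →ₗ[DualAlg k C] RegMod k C,
          ψ = m.subtype ∘ₗ e.symm.toLinearMap := ⟨_, rfl⟩
      have hx' : x = ψ (e ⟨x, hx⟩) := by
        rw [hψdef]
        simp
      have hφ := isComodHom_linToHom c (HopfRep.Comod.regular k C) ψ
      have h2 := eq_coeffMap_of_isComodHom _ hφ
      have h3 : (toAsMod (HopfRep.Comod.regular k C)).symm x =
          linToHom c (HopfRep.Comod.regular k C) ψ ((toAsMod c).symm (e ⟨x, hx⟩)) := by
        rw [linToHom_apply, LinearEquiv.apply_symm_apply, ← hx']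
      rw [h2] at h3
      rw [mem_toSub, h3]
      exact coeffMap_mem_cfOn ⊤ _ Submodule.mem_top
    intro x hx
    exact h1 hx
  · apply Submodule.span_le.mpr
    rintro _ ⟨g, e, _, rfl⟩
    change toAsMod (HopfRep.Comod.regular k C) (coeffMap C g e) ∈
      isotypicComponent (DualAlg k C) (RegMod k C) (AsMod c)
    rcases LinearMap.injective_or_eq_zero (coeffLin (c := c) g) with h | h
    · have hmem : LinearMap.range (coeffLin (c := c) g) ≤
          isotypicComponent (DualAlg k C) (RegMod k C) (AsMod c) :=
        le_sSup ⟨(LinearEquiv.ofInjective _ h).symm⟩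
      exact hmem ⟨toAsMod c e, rfl⟩
    · have : toAsMod (HopfRep.Comod.regular k C) (coeffMap C g e) = coeffLin (c := c) g (toAsMod c e) := rfl
      rw [this, h, LinearMap.zero_apply]
      exact zero_mem _

end Semisimple

end Groth.Agent.Lib.helper22
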