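import Mathlib

/-!
# Plane conics: basic polynomial computations
-/

set_option autoImplicit false
open MvPolynomial Matrix Module

namespace Groth.Agent.Lib.helper22.Conic

variable {k : Type*} [Field k]

/-- the linear form with coefficient vector `a` -/
noncomputable def lin (a : Fin 3 → k) : MvPolynomial (Fin 3) k := ∑ i, a i • X i

/-- the quadratic form with matrix `Q` -/
noncomputable def quad (Q : Matrix (Fin 3) (Fin 3) k) : MvPolynomial (Fin 3) k :=
  ∑ i, ∑ j, Q i j • (X i * X j)

theorem eval_lin (a u : Fin 3 → k) : eval u (lin a) = a ⬝ᵥ u := by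
  simp [lin, dotProduct, smul_eq_C_mul]

theorem eval_quad (Q : Matrix (Fin 3) (Fin 3) k) (u : Fin 3 → k) :
    eval u (quad Q) = u ⬝ᵥ Q *ᵥ u := by
  simp only [quad, map_sum, smul_eq_C_mul, map_mul, eval_C, eval_X, dotProduct, mulVec,
    Finset.mul_sum]
  apply Finset.sum_congr rfl
  intro i _
  apply Finset.sum_congr rfl
  intro j _
  ring

theorem lin_mul_lin (a b : Fin 3 → k) : lin a * lin b = quad (vecMulVec a b) := by
  simp only [lin, quad, Finset.sum_mul_sum, vecMulVec_apply]
  apply Finset.sum_congr rfl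
  intro i _
  apply Finset.sum_congr rfl
  intro j _
  rw [smul_mul_smul_comm]

theorem quad_add (Q Q' : Matrix (Fin 3) (Fin 3) k) : quad (Q + Q') = quad Q + quad Q' := by
  simp only [quad, Matrix.add_apply, add_smul, Finset.sum_add_distrib]

theorem quad_smul (c : k) (Q : Matrix (Fin 3) (Fin 3) k) : quad (c • Q) = c • quad Q := by
  simp only [quad, Matrix.smul_apply, smul_eq_mul, mul_smul, Finset.smul_sum]

theorem quad_transpose (Q : Matrix (Fin 3) (Fin 3) k) : quad Qᵀ = quad Q := by
  simp only [quad, Matrix.transpose_apply]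
  rw [Finset.sum_comm]
  apply Finset.sum_congr rfl
  intro i _
  apply Finset.sum_congr rfl
  intro j _
  rw [mul_comm]

theorem isHomogeneous_lin (a : Fin 3 → k) : (lin a).IsHomogeneous 1 := by
  apply IsHomogeneous.sum
  intro i _
  rw [smul_eq_C_mul]
  exact (isHomogeneous_X k i).C_mul _

theorem isHomogeneous_quad (Q : Matrix (Fin 3) (Fin 3) k) : (quad Q).IsHomogeneous 2 := by
  apply IsHomogeneous.sum
  intro i _
  apply IsHomogeneous.sum
  intro j _
  rw [smul_eq_C_mul]
  exact ((isHomogeneous_X k i).mul (isHomogeneous_X k j)).C_mul _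

/-- the quadratic form determines the symmetrization of the matrix -/
theorem add_transpose_eq_of_quad_eq {Q Q' : Matrix (Fin 3) (Fin 3) k} (h : quad Q = quad Q') :
    Q + Qᵀ = Q' + Q'ᵀ := by
  have hev : ∀ u : Fin 3 → k, u ⬝ᵥ Q *ᵥ u = u ⬝ᵥ Q' *ᵥ u := fun u => by
    rw [← eval_quad, ← eval_quad, h]
  have key : ∀ (M : Matrix (Fin 3) (Fin 3) k) (i j : Fin 3),
      (Pi.single i 1 + Pi.single j 1 : Fin 3 → k) ⬝ᵥ M *ᵥ (Pi.single i 1 + Pi.single j 1) =
        M i i + M i j + M j i + M j j := by
    intro M i j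
    simp only [mulVec_add, dotProduct_add, add_dotProduct, single_one_dotProduct,
      mulVec_single_one, Matrix.col_apply]
    ring
  have key1 : ∀ (M : Matrix (Fin 3) (Fin 3) k) (i : Fin 3),
      (Pi.single i 1 : Fin 3 → k) ⬝ᵥ M *ᵥ (Pi.single i 1) = M i i := by
    intro M i
    simp only [single_one_dotProduct, mulVec_single_one, Matrix.col_apply]
  ext i j
  have h1 := hev (Pi.single i 1 + Pi.single j 1)
  rw [key, key] at h1
  have h2 := hev (Pi.single i 1)
  have h3 := hev (Pi.single j 1)
  rw [key1, key1] at h2 h3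
  simp only [Matrix.add_apply, Matrix.transpose_apply]
  linear_combination h1 - h2 - h3

theorem two_smul_eq_of_quad_eq_lin_mul_lin {Q : Matrix (Fin 3) (Fin 3) k} (hQ : Q.IsSymm)
    {a b : Fin 3 → k} (h : quad Q = lin a * lin b) :
    (2 : k) • Q = vecMulVec a b + vecMulVec b a := by
  rw [lin_mul_lin] at h
  have := add_transpose_eq_of_quad_eq h
  rw [hQ.eq, transpose_vecMulVec] at this
  rw [← this, two_smul]


theorem eval_pderiv_quad (Q : Matrix (Fin 3) (Fin 3) k) (u : Fin 3 → k) (i : Fin 3) :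
    eval u (pderiv i (quad Q)) = ((Q + Qᵀ) *ᵥ u) i := by
  simp only [quad, map_sum, Derivation.leibniz, pderiv_X, smul_eq_C_mul,
    map_add, Matrix.add_apply, Matrix.transpose_apply, mulVec, dotProduct,
    Pi.single_apply]
  fin_cases i <;> simp [Fin.sum_univ_three] <;> ring

theorem exists_eq_lin_of_isHomogeneous {p : MvPolynomial (Fin 3) k} (hp : p.IsHomogeneous 1) :
    ∃ a : Fin 3 → k, p = lin a := by
  have : p ∈ homogeneousSubmodule (Fin 3) k 1 := hp
  rw [homogeneousSubmodule_one_eq_span_X, Submodule.mem_span_range_iff_exists_fun] at this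
  obtain ⟨c, hc⟩ := this
  exact ⟨c, hc.symm⟩

theorem lin_eq_zero_iff (a : Fin 3 → k) : lin a = 0 ↔ a = 0 := by
  constructor
  · intro h
    ext i
    have := congrArg (eval (Pi.single i 1)) h
    simpa [lin, smul_eq_C_mul, Pi.single_apply] using this
  · rintro rfl
    simp [lin]

theorem not_isUnit_lin (a : Fin 3 → k) : ¬ IsUnit (lin a) := by
  intro h
  by_cases ha : a = 0
  · rw [ha, (lin_eq_zero_iff 0).mpr rfl] at h
    exact not_isUnit_zero h
  · have h0 : lin a ≠ 0 := fun h' => ha ((lin_eq_zero_iff a).mp h')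
    have hd : (lin a).totalDegree = 1 := by
      exact IsHomogeneous.totalDegree (isHomogeneous_lin a) h0
    have := (MvPolynomial.isUnit_iff_totalDegree_of_isReduced.mp h).2
    omega

/-- diagonalization of a symmetric matrix by congruence -/
theorem exists_congr_diagonal [Invertible (2 : k)] (Q : Matrix (Fin 3) (Fin 3) k) (hQ : Q.IsSymm) :
    ∃ (C : Matrix (Fin 3) (Fin 3) k) (d : Fin 3 → k), IsUnit C.det ∧ Q = Cᵀ * diagonal d * C := by
  have hB : (Matrix.toBilin' Q).IsSymm := Matrix.isSymm_toBilin'_iff_isSymm.mpr hQ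
  obtain ⟨v₀, hv₀⟩ := LinearMap.BilinForm.exists_orthogonal_basis (LinearMap.BilinForm.isSymm_iff.mp hB)
  have h3 : finrank k (Fin 3 → k) = 3 := by simp
  let v : Basis (Fin 3) k (Fin 3 → k) := v₀.reindex (finCongr h3)
  have hv : ∀ i j, i ≠ j → Matrix.toBilin' Q (v i) (v j) = 0 := by
    intro i j hij
    simp only [v, Basis.reindex_apply]
    apply hv₀
    intro h
    exact hij ((finCongr h3).symm.injective h)
  let e := Pi.basisFun k (Fin 3)
  let P : Matrix (Fin 3) (Fin 3) k := e.toMatrix v
  let C : Matrix (Fin 3) (Fin 3) k := v.toMatrix e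
  have hPC : P * C = 1 := Basis.toMatrix_mul_toMatrix_flip e v
  have hCP : C * P = 1 := Basis.toMatrix_mul_toMatrix_flip v e
  have hP : ∀ i j, P i j = v j i := by
    intro i j
    simp [P, e, Basis.toMatrix_apply]
  have hD : Pᵀ * Q * P = diagonal (fun l => Matrix.toBilin' Q (v l) (v l)) := by
    ext j l
    have : (Pᵀ * Q * P) j l = Matrix.toBilin' Q (v j) (v l) := by
      rw [Matrix.toBilin'_apply']
      simp only [Matrix.mul_apply, Matrix.transpose_apply, hP, dotProduct, mulVec, Finset.sum_mul,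
        Finset.mul_sum]
      rw [Finset.sum_comm]
      apply Finset.sum_congr rfl
      intro a _
      apply Finset.sum_congr rfl
      intro b _
      ring
    rw [this]
    by_cases hjl : j = l
    · subst hjl
      simp
    · rw [diagonal_apply_ne _ hjl]
      exact hv j l hjl
  refine ⟨C, fun l => Matrix.toBilin' Q (v l) (v l), ?_, ?_⟩
  · have : C.det * P.det = 1 := by rw [← det_mul, hCP, det_one]
    exact IsUnit.of_mul_eq_one _ this
  · rw [← hD]
    have hCP' : Cᵀ * Pᵀ = 1 := by rw [← transpose_mul, hPC, transpose_one]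
    calc Q = (Cᵀ * Pᵀ) * Q * (P * C) := by rw [hCP', hPC, one_mul, mul_one]
      _ = Cᵀ * (Pᵀ * Q * P) * C := by simp only [Matrix.mul_assoc]

section
variable (C : Matrix (Fin 3) (Fin 3) k) (d : Fin 3 → k)

theorem congr_diag_apply (i j : Fin 3) :
    (Cᵀ * diagonal d * C) i j = ∑ l, d l * C l i * C l j := by
  simp only [Matrix.mul_apply, Matrix.transpose_apply, Matrix.diagonal_apply, mul_ite, mul_zero,
    Finset.sum_ite_eq', Finset.mem_univ, if_true]
  apply Finset.sum_congr rfl
  intro l _
  ring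

theorem rank_congr_diag [DecidableEq k] (hC : IsUnit C.det) :
    (Cᵀ * diagonal d * C).rank = (Finset.univ.filter (fun l => d l ≠ 0)).card := by
  rw [rank_mul_eq_left_of_isUnit_det _ _ hC, rank_mul_eq_right_of_isUnit_det _ _
    (by rwa [det_transpose]), rank_diagonal, Fintype.card_subtype]

theorem det_congr_diag : (Cᵀ * diagonal d * C).det = C.det ^ 2 * ∏ l, d l := by
  rw [det_mul, det_mul, det_transpose, det_diagonal]
  ring

/-- rows of an invertible matrix: a vanishing combination of two distinct rows is trivial -/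
theorem rows_pair_indep (hC : IsUnit C.det) {l₁ l₂ : Fin 3} (hl : l₁ ≠ l₂) {x y : k}
    (h : x • C l₁ + y • C l₂ = 0) : x = 0 ∧ y = 0 := by
  have h1 : (Pi.single l₁ x + Pi.single l₂ y : Fin 3 → k) ᵥ* C = 0 := by
    rw [add_vecMul, single_vecMul, single_vecMul]
    exact h
  have h2 : (Pi.single l₁ x + Pi.single l₂ y : Fin 3 → k) = 0 := by
    have := congrArg (fun w => w ᵥ* C⁻¹) h1
    simp only [vecMul_vecMul, zero_vecMul] at this
    rwa [Matrix.mul_nonsing_inv _ hC, vecMul_one] at this
  constructor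
  · have := congrFun h2 l₁
    simpa [Pi.single_apply, hl] using this
  · have := congrFun h2 l₂
    simpa [Pi.single_apply, hl.symm] using this

end

theorem exists_sq_of_card_one [IsAlgClosed k] [DecidableEq k] (C : Matrix (Fin 3) (Fin 3) k)
    (d : Fin 3 → k)
    (hS : (Finset.univ.filter (fun l => d l ≠ 0)).card = 1) :
    ∃ a : Fin 3 → k, Cᵀ * diagonal d * C = vecMulVec a a := by
  obtain ⟨l₀, hl₀⟩ := Finset.card_eq_one.mp hS
  have hd : ∀ l, l ≠ l₀ → d l = 0 := by
    intro l hl
    by_contra h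
    have : l ∈ Finset.univ.filter (fun l => d l ≠ 0) := by simp [h]
    rw [hl₀, Finset.mem_singleton] at this
    exact hl this
  obtain ⟨s, hs⟩ := IsAlgClosed.exists_eq_mul_self (d l₀)
  refine ⟨s • C l₀, ?_⟩
  ext i j
  rw [congr_diag_apply, vecMulVec_apply, Finset.sum_eq_single l₀]
  · simp only [Pi.smul_apply, smul_eq_mul]
    rw [hs]
    ring
  · intro l _ hl
    rw [hd l hl]
    ring
  · intro h
    exact absurd (Finset.mem_univ _) h

theorem exists_pair_of_card_two [IsAlgClosed k] [DecidableEq k] (h2 : (2 : k) ≠ 0)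
    (C : Matrix (Fin 3) (Fin 3) k)
    (d : Fin 3 → k) (hC : IsUnit C.det)
    (hS : (Finset.univ.filter (fun l => d l ≠ 0)).card = 2) :
    ∃ a b : Fin 3 → k, LinearIndependent k ![a, b] ∧
      (2 : k) • (Cᵀ * diagonal d * C) = vecMulVec a b + vecMulVec b a := by
  obtain ⟨l₁, l₂, hl, hl₀⟩ := Finset.card_eq_two.mp hS
  have hd : ∀ l, l ≠ l₁ → l ≠ l₂ → d l = 0 := by
    intro l h1 h2
    by_contra h
    have : l ∈ Finset.univ.filter (fun l => d l ≠ 0) := by simp [h]
    rw [hl₀, Finset.mem_insert, Finset.mem_singleton] at this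
    rcases this with h' | h'
    · exact h1 h'
    · exact h2 h'
  have hd1 : d l₁ ≠ 0 := by
    have : l₁ ∈ Finset.univ.filter (fun l => d l ≠ 0) := by rw [hl₀]; simp
    simpa using this
  have hd2 : d l₂ ≠ 0 := by
    have : l₂ ∈ Finset.univ.filter (fun l => d l ≠ 0) := by rw [hl₀]; simp
    simpa using this
  obtain ⟨s₁, hs₁⟩ := IsAlgClosed.exists_eq_mul_self (d l₁)
  obtain ⟨s₂, hs₂⟩ := IsAlgClosed.exists_eq_mul_self (d l₂)
  obtain ⟨ι, hι⟩ := IsAlgClosed.exists_eq_mul_self (-1 : k)
  have hs₁0 : s₁ ≠ 0 := by rintro rfl; exact hd1 (by rw [hs₁, mul_zero])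
  have hs₂0 : s₂ ≠ 0 := by rintro rfl; exact hd2 (by rw [hs₂, mul_zero])
  have hι0 : ι ≠ 0 := by
    rintro rfl
    rw [mul_zero] at hι
    exact one_ne_zero (neg_eq_zero.mp hι)
  refine ⟨s₁ • C l₁ + (ι * s₂) • C l₂, s₁ • C l₁ - (ι * s₂) • C l₂, ?_, ?_⟩
  · rw [LinearIndependent.pair_iff]
    intro x y hxy
    have h1 : ((x + y) * s₁) • C l₁ + ((x - y) * (ι * s₂)) • C l₂ = 0 := by
      rw [← hxy]
      ext i
      simp only [Pi.add_apply, Pi.smul_apply, Pi.sub_apply, smul_eq_mul]
      ring
    obtain ⟨e1, e2⟩ := rows_pair_indep C hC hl h1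
    have e1' : x + y = 0 := (mul_eq_zero.mp e1).resolve_right hs₁0
    have e2' : x - y = 0 := (mul_eq_zero.mp e2).resolve_right (mul_ne_zero hι0 hs₂0)
    have hx : (2 : k) * x = 0 := by linear_combination e1' + e2'
    have hx' : x = 0 := (mul_eq_zero.mp hx).resolve_left h2
    refine ⟨hx', ?_⟩
    rw [hx', zero_add] at e1'
    exact e1'
  · ext i j
    rw [Matrix.smul_apply, congr_diag_apply, Matrix.add_apply, vecMulVec_apply, vecMulVec_apply,
      ← Finset.sum_subset (Finset.subset_univ {l₁, l₂}), Finset.sum_pair hl]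
    · simp only [Pi.add_apply, Pi.sub_apply, Pi.smul_apply, smul_eq_mul]
      rw [hs₁, hs₂]
      linear_combination (-2 * s₂ * s₂ * C l₂ i * C l₂ j) * hι
    · intro l _ hl'
      rw [Finset.mem_insert, Finset.mem_singleton, not_or] at hl'
      rw [hd l hl'.1 hl'.2]
      ring

/-- if `2Q = abᵀ + baᵀ` with `a, b` independent then `Q` has rank at least two -/
theorem two_le_rank_of_pair (Q : Matrix (Fin 3) (Fin 3) k) (a b : Fin 3 → k)
    (hab : LinearIndependent k ![a, b])
    (hQ : (2 : k) • Q = vecMulVec a b + vecMulVec b a) : 2 ≤ Q.rank := by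
  let M : Matrix (Fin 2) (Fin 3) k := Matrix.of ![a, b]
  have hM : M.rank = 2 := by
    have : LinearIndependent k M.row := by
      have : M.row = ![a, b] := by
        ext i j
        fin_cases i <;> rfl
      rw [this]
      exact hab
    rw [this.rank_matrix]
    simp
  have hker : LinearMap.ker Q.mulVecLin ≤ LinearMap.ker M.mulVecLin := by
    intro x hx
    rw [LinearMap.mem_ker, Matrix.mulVecLin_apply] at hx ⊢
    have h1 : ((2 : k) • Q) *ᵥ x = 0 := by rw [smul_mulVec, hx, smul_zero]
    rw [hQ, add_mulVec, vecMulVec_mulVec, vecMulVec_mulVec] at h1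
    have h3 : (b ⬝ᵥ x) • a + (a ⬝ᵥ x) • b = 0 := by
      rw [← h1]
      ext i
      simp [mul_comm]
    obtain ⟨e1, e2⟩ := LinearIndependent.pair_iff.mp hab _ _ h3
    ext i
    fin_cases i
    · simpa [M, mulVec] using e2
    · simpa [M, mulVec] using e1
  have hr1 := LinearMap.finrank_range_add_finrank_ker Q.mulVecLin
  have hr2 := LinearMap.finrank_range_add_finrank_ker M.mulVecLin
  have hle := Submodule.finrank_mono hker
  rw [Matrix.rank] at hM ⊢
  omega

/-- a product of two polynomials of total degree one which is homogeneous of degree two is a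
product of two homogeneous polynomials of degree one -/
theorem homogeneous_factors {σ : Type*} {f g h : MvPolynomial σ k} (hf : f.IsHomogeneous 2) (hfgh : f = g * h)
    (hg : g.totalDegree = 1) (hh : h.totalDegree = 1) (hg0 : g ≠ 0) (hh0 : h ≠ 0) :
    g.IsHomogeneous 1 ∧ h.IsHomogeneous 1 := by
  have eg : homogeneousComponent 0 g + homogeneousComponent 1 g = g := by
    have := sum_homogeneousComponent g
    rw [hg] at this
    simpa [Finset.sum_range_succ] using this
  have eh : homogeneousComponent 0 h + homogeneousComponent 1 h = h := by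
    have := sum_homogeneousComponent h
    rw [hh] at this
    simpa [Finset.sum_range_succ] using this
  set g₀ := homogeneousComponent 0 g with hg₀
  set g₁ := homogeneousComponent 1 g with hg₁
  set h₀ := homogeneousComponent 0 h with hh₀
  set h₁ := homogeneousComponent 1 h with hh₁
  have Hg₀ : g₀.IsHomogeneous 0 := homogeneousComponent_isHomogeneous 0 g
  have Hg₁ : g₁.IsHomogeneous 1 := homogeneousComponent_isHomogeneous 1 g
  have Hh₀ : h₀.IsHomogeneous 0 := homogeneousComponent_isHomogeneous 0 h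
  have Hh₁ : h₁.IsHomogeneous 1 := homogeneousComponent_isHomogeneous 1 h
  have expand : f = g₀ * h₀ + (g₀ * h₁ + g₁ * h₀) + g₁ * h₁ := by
    rw [hfgh, ← eg, ← eh]
    ring
  have c0 : g₀ * h₀ = 0 := by
    have := congrArg (homogeneousComponent 0) expand
    rw [map_add, map_add, map_add, homogeneousComponent_of_mem hf,
      homogeneousComponent_of_mem (Hg₀.mul Hh₀), homogeneousComponent_of_mem (Hg₀.mul Hh₁),
      homogeneousComponent_of_mem (Hg₁.mul Hh₀), homogeneousComponent_of_mem (Hg₁.mul Hh₁)] at this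
    simpa using this.symm
  have c1 : g₀ * h₁ + g₁ * h₀ = 0 := by
    have := congrArg (homogeneousComponent 1) expand
    rw [map_add, map_add, map_add, homogeneousComponent_of_mem hf,
      homogeneousComponent_of_mem (Hg₀.mul Hh₀), homogeneousComponent_of_mem (Hg₀.mul Hh₁),
      homogeneousComponent_of_mem (Hg₁.mul Hh₀), homogeneousComponent_of_mem (Hg₁.mul Hh₁)] at this
    simpa using this.symm
  have key : g₀ = 0 ∧ h₀ = 0 := by
    rcases mul_eq_zero.mp c0 with e | e
    · refine ⟨e, ?_⟩
      rw [e, zero_mul, zero_add] at c1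
      rcases mul_eq_zero.mp c1 with e' | e'
      · exfalso
        rw [e, e', add_zero] at eg
        exact hg0 eg.symm
      · exact e'
    · refine ⟨?_, e⟩
      rw [e, mul_zero, add_zero] at c1
      rcases mul_eq_zero.mp c1 with e' | e'
      · exact e'
      · exfalso
        rw [e, e', add_zero] at eh
        exact hh0 eh.symm
  rw [key.1, zero_add] at eg
  rw [key.2, zero_add] at eh
  rw [← eg, ← eh]
  exact ⟨Hg₁, Hh₁⟩

end Groth.Agent.Lib.helper22.Conic
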