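import Groth.Agent.Lib.Helper22.Conic1

/-!
# Plane conics: classification by the rank of the symmetric matrix
-/

set_option autoImplicit false
open MvPolynomial Matrix Module

namespace Groth.Agent.Lib.helper22.Conic

variable {k : Type*} [Field k]

theorem det_eq_zero_of_pair (h2 : (2 : k) ≠ 0) (Q : Matrix (Fin 3) (Fin 3) k) (a b : Fin 3 → k)
    (hQ : (2 : k) • Q = vecMulVec a b + vecMulVec b a) : Q.det = 0 := by
  have h1 : ((2 : k) • Q).det = 0 := by
    rw [hQ, det_fin_three]
    simp only [Matrix.add_apply, vecMulVec_apply]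
    ring
  rw [det_smul] at h1
  rcases mul_eq_zero.mp h1 with h | h
  · exact absurd (pow_eq_zero_iff (by simp) |>.mp h) h2
  · exact h

theorem quad_eq_of_pair (h2 : (2 : k) ≠ 0) (Q : Matrix (Fin 3) (Fin 3) k) (a b : Fin 3 → k)
    (hQ : (2 : k) • Q = vecMulVec a b + vecMulVec b a) : quad Q = lin a * lin b := by
  have h1 : (2 : k) • quad Q = (2 : k) • (lin a * lin b) := by
    rw [← quad_smul, hQ, quad_add, ← lin_mul_lin, ← lin_mul_lin, mul_comm (lin b), two_smul]
  have hinj : Function.Injective (fun p : MvPolynomial (Fin 3) k => (2 : k) • p) :=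
    smul_right_injective _ h2
  exact hinj h1

theorem main [IsAlgClosed k] [CharZero k]
    (Q : Matrix (Fin 3) (Fin 3) k) (hQ : Q.IsSymm) (hQ0 : Q ≠ 0) :
    (Irreducible (quad Q) ↔ Q.det ≠ 0) ∧
    ((∃ u : Fin 3 → k, u ≠ 0 ∧ ∀ i : Fin 3, eval u (pderiv i (quad Q)) = 0) ↔ Q.det = 0) ∧
    ((∃ a b : Fin 3 → k, LinearIndependent k ![a, b] ∧ quad Q = lin a * lin b) ↔ Q.rank = 2) ∧
    ((∃ a : Fin 3 → k, quad Q = lin a ^ 2) ↔ Q.rank = 1) := by
  classical
  have h2 : (2 : k) ≠ 0 := two_ne_zero
  have : Invertible (2 : k) := invertibleOfNonzero h2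
  obtain ⟨C, d, hC, hQd⟩ := exists_congr_diagonal Q hQ
  set S := Finset.univ.filter (fun l => d l ≠ 0) with hS
  have hrank : Q.rank = S.card := by
    conv_lhs => rw [hQd]
    exact rank_congr_diag C d hC
  have hdet : Q.det = C.det ^ 2 * ∏ l, d l := by
    conv_lhs => rw [hQd]
    exact det_congr_diag C d
  have hS0 : S.card ≠ 0 := by
    intro h
    apply hQ0
    have hd : ∀ l, d l = 0 := by
      intro l
      by_contra hl
      have : l ∈ S := by simp [hS, hl]
      rw [Finset.card_eq_zero.mp h] at this
      simp at this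
    have : d = 0 := funext hd
    rw [hQd, this]
    simp
  have hS3 : S.card ≤ 3 := by
    have := Finset.card_le_univ S
    simpa using this
  have hdet_iff : Q.det ≠ 0 ↔ S.card = 3 := by
    rw [hdet]
    constructor
    · intro h
      have hp : ∏ l, d l ≠ 0 := right_ne_zero_of_mul h
      rw [Finset.prod_ne_zero_iff] at hp
      have : S = Finset.univ := by
        ext l
        simp [hS, hp l]
      rw [this]
      simp
    · intro h
      have : S = Finset.univ := by
        rw [← Finset.card_eq_iff_eq_univ]
        simpa using h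
      apply mul_ne_zero (pow_ne_zero _ hC.ne_zero)
      rw [Finset.prod_ne_zero_iff]
      intro l _
      have : l ∈ S := by rw [this]; exact Finset.mem_univ l
      simpa [hS] using this
  -- factorizations from the rank
  have fac1 : S.card = 1 → ∃ a : Fin 3 → k, a ≠ 0 ∧ quad Q = lin a ^ 2 := by
    intro h
    obtain ⟨a, ha⟩ := exists_sq_of_card_one C d h
    refine ⟨a, ?_, ?_⟩
    · rintro rfl
      apply hQ0
      rw [hQd, ha]
      ext i j
      simp [vecMulVec_apply]
    · rw [hQd, ha, ← lin_mul_lin, sq]
  have fac2 : S.card = 2 → ∃ a b : Fin 3 → k, LinearIndependent k ![a, b] ∧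
      quad Q = lin a * lin b := by
    intro h
    obtain ⟨a, b, hab, hq⟩ := exists_pair_of_card_two h2 C d hC h
    rw [← hQd] at hq
    exact ⟨a, b, hab, quad_eq_of_pair h2 Q a b hq⟩
  have det0_of_fac : ∀ a b : Fin 3 → k, quad Q = lin a * lin b → Q.det = 0 := by
    intro a b h
    exact det_eq_zero_of_pair h2 Q a b (two_smul_eq_of_quad_eq_lin_mul_lin hQ h)
  have card_le_two_of_fac : ∀ a b : Fin 3 → k, quad Q = lin a * lin b → S.card ≤ 2 := by
    intro a b h
    have h0 := det0_of_fac a b h
    have : S.card ≠ 3 := fun h3 => (hdet_iff.mpr h3) h0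
    omega
  have hf0 : quad Q ≠ 0 := by
    intro h
    have h1 : quad Q = quad 0 := by rw [h]; simp [quad]
    have h3 := add_transpose_eq_of_quad_eq h1
    rw [hQ.eq] at h3
    apply hQ0
    have h4 : (2 : k) • Q = 0 := by rw [two_smul, h3]; simp
    exact (smul_eq_zero.mp h4).resolve_left h2
  refine ⟨?_, ?_, ?_, ?_⟩
  · -- irreducible iff det ≠ 0
    constructor
    · intro hirr hdet0
      have hne3 : S.card ≠ 3 := fun h3 => (hdet_iff.mpr h3) hdet0
      have hcases : S.card = 1 ∨ S.card = 2 := by omega
      rcases hcases with h | h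
      · obtain ⟨a, -, ha⟩ := fac1 h
        rw [sq] at ha
        rcases hirr.isUnit_or_isUnit ha with hu | hu <;> exact not_isUnit_lin a hu
      · obtain ⟨a, b, -, hab⟩ := fac2 h
        rcases hirr.isUnit_or_isUnit hab with hu | hu
        · exact not_isUnit_lin a hu
        · exact not_isUnit_lin b hu
    · intro hdetne
      have hdeg : (quad Q).totalDegree = 2 := (isHomogeneous_quad Q).totalDegree hf0
      refine ⟨?_, ?_⟩
      · intro hu
        have := (isUnit_iff_totalDegree_of_isReduced.mp hu).2
        omega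
      · intro g h hgh
        by_contra hcon
        push Not at hcon
        obtain ⟨hgu, hhu⟩ := hcon
        have hg0 : g ≠ 0 := by
          rintro rfl
          rw [zero_mul] at hgh
          exact hf0 hgh
        have hh0 : h ≠ 0 := by
          rintro rfl
          rw [mul_zero] at hgh
          exact hf0 hgh
        have hd : g.totalDegree + h.totalDegree = 2 := by
          rw [← totalDegree_mul_of_isDomain hg0 hh0, ← hgh, hdeg]
        have unit_of_deg0 : ∀ p : MvPolynomial (Fin 3) k, p ≠ 0 → p.totalDegree = 0 →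
            IsUnit p := by
          intro p hp0 hp
          rw [isUnit_iff_totalDegree_of_isReduced]
          refine ⟨?_, hp⟩
          rw [totalDegree_eq_zero_iff_eq_C] at hp
          apply IsUnit.mk0
          intro hc
          rw [hc, map_zero] at hp
          exact hp0 hp
        have hg1 : g.totalDegree ≠ 0 := fun h0 => hgu (unit_of_deg0 g hg0 h0)
        have hh1 : h.totalDegree ≠ 0 := fun h0 => hhu (unit_of_deg0 h hh0 h0)
        have hg1' : g.totalDegree = 1 := by omega
        have hh1' : h.totalDegree = 1 := by omega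
        obtain ⟨Hg, Hh⟩ := homogeneous_factors (isHomogeneous_quad Q) hgh hg1' hh1' hg0 hh0
        obtain ⟨a, rfl⟩ := exists_eq_lin_of_isHomogeneous Hg
        obtain ⟨b, rfl⟩ := exists_eq_lin_of_isHomogeneous Hh
        exact hdetne (det0_of_fac a b hgh)
  · -- singular point iff det = 0
    rw [← exists_mulVec_eq_zero_iff]
    have key : ∀ u : Fin 3 → k, (∀ i : Fin 3, eval u (pderiv i (quad Q)) = 0) ↔ Q *ᵥ u = 0 := by
      intro u
      have e : ∀ i, eval u (pderiv i (quad Q)) = 2 * (Q *ᵥ u) i := by
        intro i
        rw [eval_pderiv_quad, hQ.eq, ← two_smul k Q, smul_mulVec]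
        simp
      constructor
      · intro h
        ext i
        have := h i
        rw [e] at this
        exact (mul_eq_zero.mp this).resolve_left h2
      · intro h i
        rw [e, h]
        simp
    constructor
    · rintro ⟨u, hu, h⟩
      exact ⟨u, hu, (key u).mp h⟩
    · rintro ⟨u, hu, h⟩
      exact ⟨u, hu, (key u).mpr h⟩
  · -- two distinct lines iff rank 2
    rw [hrank]
    constructor
    · rintro ⟨a, b, hab, h⟩
      have hle := card_le_two_of_fac a b h
      have hge := two_le_rank_of_pair Q a b hab (two_smul_eq_of_quad_eq_lin_mul_lin hQ h)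
      rw [hrank] at hge
      omega
    · exact fac2
  · -- double line iff rank 1
    rw [hrank]
    constructor
    · rintro ⟨a, h⟩
      rw [sq] at h
      have h1 := two_smul_eq_of_quad_eq_lin_mul_lin hQ h
      have h3 : Q = vecMulVec a a := by
        rw [← two_smul k (vecMulVec a a)] at h1
        exact smul_right_injective _ h2 h1
      have hle : Q.rank ≤ 1 := by
        rw [h3]
        exact rank_vecMulVec_le a a
      rw [hrank] at hle
      omega
    · intro h
      obtain ⟨a, -, ha⟩ := fac1 h
      exact ⟨a, ha⟩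

end Groth.Agent.Lib.helper22.Conic
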