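import Mathlib
import Groth.Prelude.Def_ConstAct2
import Groth.Prelude.Def_GLin

/-!
# Comodule algebras over the function algebra of a finite group = actions of the group

Helper lemmas: evaluation `M ⊗ F(Γ,R) → M` at a group element, reconstruction `x = Σ ev_γ x ⊗ e_γ`,
compatibility with the comultiplication.
-/

universe u

open TensorProduct

namespace Groth.Agent.Lib.helper22.ConstDict

variable (R : Type u) [CommRing R] (Γ : Type u) [Group Γ] [Fintype Γ] [DecidableEq Γ]
variable (M : Type u) [AddCommGroup M] [Module R M]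

/-- Evaluation at `γ` on the second factor: `m ⊗ f ↦ f γ • m`. -/
noncomputable def evL (γ : Γ) : M ⊗[R] ConstGrp.F R Γ →ₗ[R] M :=
  (TensorProduct.rid R M).toLinearMap ∘ₗ LinearMap.lTensor M (ConstGrp.ev R γ).toLinearMap

@[simp] theorem evL_tmul (γ : Γ) (m : M) (f : ConstGrp.F R Γ) :
    evL R Γ M γ (m ⊗ₜ[R] f) = f γ • m := by
  simp [evL]

theorem eq_sum_evL (x : M ⊗[R] ConstGrp.F R Γ) :
    x = ∑ γ : Γ, evL R Γ M γ x ⊗ₜ[R] ConstGrp.e R γ := by
  induction x using TensorProduct.induction_on with
  | zero => simp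
  | tmul m f =>
    simp only [evL_tmul]
    conv_lhs => rw [ConstGrp.eq_sum_smul_e f, TensorProduct.tmul_sum]
    refine Finset.sum_congr rfl fun γ _ => ?_
    rw [TensorProduct.smul_tmul]
  | add x y hx hy =>
    conv_lhs => rw [hx, hy]
    rw [← Finset.sum_add_distrib]
    refine Finset.sum_congr rfl fun γ _ => ?_
    rw [map_add, TensorProduct.add_tmul]

theorem evL_sum_tmul_e (γ : Γ) (c : Γ → M) :
    evL R Γ M γ (∑ h : Γ, c h ⊗ₜ[R] ConstGrp.e R h) = c γ := by
  rw [map_sum, Finset.sum_eq_single γ]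
  · rw [evL_tmul, ConstGrp.e_apply_self, one_smul]
  · intro h _ hne
    rw [evL_tmul, ConstGrp.e_apply_of_ne (Ne.symm hne), zero_smul]
  · intro h; exact absurd (Finset.mem_univ γ) h

variable {M} in
theorem evL_rTensor {N : Type u} [AddCommGroup N] [Module R N] (φ : M →ₗ[R] N) (γ : Γ)
    (y : M ⊗[R] ConstGrp.F R Γ) :
    evL R Γ N γ (LinearMap.rTensor (ConstGrp.F R Γ) φ y) = φ (evL R Γ M γ y) := by
  induction y using TensorProduct.induction_on with
  | zero => simp
  | tmul m f => simp
  | add x y hx hy => simp only [map_add, hx, hy]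

theorem evL_evL_pair (γ δ : Γ) (m : M) (w : ConstGrp.F R Γ ⊗[R] ConstGrp.F R Γ) :
    evL R Γ M γ (evL R Γ (M ⊗[R] ConstGrp.F R Γ) δ
      ((TensorProduct.assoc R M (ConstGrp.F R Γ) (ConstGrp.F R Γ)).symm (m ⊗ₜ[R] w))) =
      (ConstGrp.pair R Γ w (γ, δ)) • m := by
  induction w using TensorProduct.induction_on with
  | zero => simp
  | tmul u v =>
    rw [TensorProduct.assoc_symm_tmul, evL_tmul, map_smul, evL_tmul, ConstGrp.pair_tmul, smul_smul,
      mul_comm]
  | add x y hx hy =>
    rw [TensorProduct.tmul_add, map_add, map_add, map_add, hx, hy, map_add, ConstGrp.add_apply,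
      add_smul]

theorem evL_evL_comul (γ δ : Γ) (x : M ⊗[R] ConstGrp.F R Γ) :
    evL R Γ M γ (evL R Γ (M ⊗[R] ConstGrp.F R Γ) δ
      ((TensorProduct.assoc R M (ConstGrp.F R Γ) (ConstGrp.F R Γ)).symm
        (LinearMap.lTensor M (CoalgebraStruct.comul (R := R) (A := ConstGrp.F R Γ)) x))) =
      evL R Γ M (γ * δ) x := by
  induction x using TensorProduct.induction_on with
  | zero => simp
  | tmul m f =>
    rw [LinearMap.lTensor_tmul, evL_evL_pair, ConstGrp.pair_comul, evL_tmul]
  | add x y hx hy => simp only [map_add, hx, hy]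

section Comod

variable [HopfRep.Comod R (ConstGrp.F R Γ) M]

/-- The operator of `γ` on a comodule over the function algebra. -/
noncomputable def op (γ : Γ) : M →ₗ[R] M :=
  evL R Γ M γ ∘ₗ HopfRep.Comod.coact (k := R) (A := ConstGrp.F R Γ) (V := M)

theorem op_apply (γ : Γ) (m : M) :
    op R Γ M γ m = evL R Γ M γ (HopfRep.Comod.coact (k := R) (A := ConstGrp.F R Γ) m) := rfl

theorem coact_eq_sum_op (m : M) :
    HopfRep.Comod.coact (k := R) (A := ConstGrp.F R Γ) m =
      ∑ γ : Γ, op R Γ M γ m ⊗ₜ[R] ConstGrp.e R γ :=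
  eq_sum_evL R Γ M _

theorem op_one (m : M) : op R Γ M 1 m = m := by
  have h := LinearMap.congr_fun
    (HopfRep.Comod.counit_comp (k := R) (A := ConstGrp.F R Γ) (V := M)) m
  rw [LinearMap.comp_apply] at h
  rw [op_apply, evL, LinearMap.comp_apply]
  have h2 : (ConstGrp.ev R (1 : Γ)).toLinearMap =
      (CoalgebraStruct.counit (R := R) (A := ConstGrp.F R Γ)) := by
    ext f; rfl
  rw [h2, h]
  simp

theorem op_mul (γ δ : Γ) (m : M) : op R Γ M (γ * δ) m = op R Γ M γ (op R Γ M δ m) := by
  have h := LinearMap.congr_fun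
    (HopfRep.Comod.coassoc (k := R) (A := ConstGrp.F R Γ) (V := M)) m
  simp only [LinearMap.comp_apply, LinearEquiv.coe_coe] at h
  rw [op_apply R Γ M (γ * δ), ← evL_evL_comul, ← h, LinearEquiv.symm_apply_apply, evL_rTensor]
  rfl

end Comod

section Alg

variable (B : Type u) [CommRing B] [Algebra R B]

theorem evL_one (γ : Γ) : evL R Γ B γ 1 = 1 := by
  rw [Algebra.TensorProduct.one_def, evL_tmul, ConstGrp.one_apply, one_smul]

theorem evL_mul (γ : Γ) (x y : B ⊗[R] ConstGrp.F R Γ) :
    evL R Γ B γ (x * y) = evL R Γ B γ x * evL R Γ B γ y := by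
  induction x using TensorProduct.induction_on with
  | zero => simp
  | tmul a f =>
    induction y using TensorProduct.induction_on with
    | zero => simp
    | tmul b g =>
      rw [Algebra.TensorProduct.tmul_mul_tmul, evL_tmul, evL_tmul, evL_tmul, ConstGrp.mul_apply,
        smul_mul_smul_comm]
    | add x y hx hy => rw [mul_add, map_add, map_add, hx, hy, mul_add]
  | add x x' hx hx' => rw [add_mul, map_add, map_add, hx, hx', add_mul]

variable [HopfRep.Comod R (ConstGrp.F R Γ) B] [GLin.IsCoactAlg R (ConstGrp.F R Γ) B]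

/-- The action of `Γ` on a comodule algebra over the function algebra. -/
@[reducible] noncomputable def actOf : MulSemiringAction Γ B where
  smul γ b := op R Γ B γ b
  one_smul b := op_one R Γ B b
  mul_smul γ δ b := op_mul R Γ B γ δ b
  smul_zero γ := map_zero _
  smul_add γ := map_add _
  smul_one γ := by
    change op R Γ B γ 1 = 1
    rw [op_apply, GLin.IsCoactAlg.coact_one, evL_one]
  smul_mul γ x y := by
    change op R Γ B γ (x * y) = op R Γ B γ x * op R Γ B γ y
    rw [op_apply, GLin.IsCoactAlg.coact_mul, evL_mul]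
    rfl

theorem actOf_smul (γ : Γ) (b : B) :
    (actOf R Γ B).smul γ b = op R Γ B γ b := rfl

end Alg

/-- Two `MulSemiringAction`s with the same scalar multiplication are equal. -/
theorem mulSemiringAction_ext {G S : Type*} [Monoid G] [Semiring S]
    (a b : MulSemiringAction G S)
    (h : ∀ (g : G) (x : S), a.smul g x = b.smul g x) : a = b := by
  have h' : a.toDistribMulAction = b.toDistribMulAction := by
    apply DistribMulAction.ext
    funext g x
    exact h g x
  cases a; cases b
  congr

end Groth.Agent.Lib.helper22.ConstDict
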