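import Groth.Agent.Lib.Helper22.StabTensor
import Groth.Prelude.Def_SGA3

/-!
The convolution group of `R`-points of an affine group acting on comodules (helper22).
-/

set_option autoImplicit false
set_option linter.unusedSectionVars false
universe u u' v v'
open scoped TensorProduct

namespace Groth.Agent.Lib.helper22

theorem conv3_eq {k A : Type u} [CommRing k] [CommRing A] [HopfAlgebra k A] {C : Type u}
    [CommRing C] [Algebra k C] (f g h : A →ₐ[k] C) :
    Dyn.conv3 k A f g h =
      (WithConv.toConv f * WithConv.toConv g * WithConv.toConv h).ofConv := by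
  simp only [AlgHom.convMul_def, Dyn.conv3, WithConv.ofConv_toConv]
  rw [← AlgHom.comp_assoc (Algebra.TensorProduct.map _ h), ← Algebra.TensorProduct.map_comp]
  rfl

section CInv

open Algebra Coalgebra Bialgebra HopfAlgebra TensorProduct WithConv

variable {R : Type*} [CommSemiring R] {A : Type*} [CommSemiring A] [HopfAlgebra R A]
variable {C : Type*} [CommSemiring C] [Algebra R C]

/-- the inverse of a point for the convolution product (no bialgebra structure needed on the target) -/
noncomputable def cinv (f : WithConv (A →ₐ[R] C)) : WithConv (A →ₐ[R] C) :=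
  toConv (f.ofConv.comp (HopfAlgebra.antipodeAlgHom R A))

theorem cinv_mul (f : WithConv (A →ₐ[R] C)) : cinv f * f = 1 := by
  have H : (lmul' R).comp (Algebra.TensorProduct.map f.ofConv f.ofConv) =
      f.ofConv.comp (lmul' R) := by ext <;> simp
  trans toConv <| ((lmul' R).comp (Algebra.TensorProduct.map f.ofConv f.ofConv)).comp
      ((Algebra.TensorProduct.map
      (HopfAlgebra.antipodeAlgHom R A) (.id _ _)).comp (comulAlgHom R A))
  · rw [AlgHom.comp_assoc, ← AlgHom.comp_assoc (Algebra.TensorProduct.map f.ofConv f.ofConv),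
      ← Algebra.TensorProduct.map_comp]; rfl
  rw [H, AlgHom.comp_assoc, WithConv.ext_iff, ← AlgHom.toLinearMap_injective.eq_iff]
  change f.ofConv.toLinearMap.comp (toConv (antipode R (A := A)) * toConv LinearMap.id).ofConv =
      ofConv (1 : WithConv <| A →ₗ[R] C)
  rw [LinearMap.antipode_mul_id]
  ext
  simp

theorem mul_cinv (f : WithConv (A →ₐ[R] C)) : f * cinv f = 1 := by
  calc f * cinv f = (cinv (cinv f) * cinv f) * (f * cinv f) := by rw [cinv_mul, one_mul]
    _ = cinv (cinv f) * ((cinv f * f) * cinv f) := by simp only [mul_assoc]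
    _ = 1 := by rw [cinv_mul, one_mul, cinv_mul]

theorem cinv_cinv (f : WithConv (A →ₐ[R] C)) : cinv (cinv f) = f := by
  calc cinv (cinv f) = cinv (cinv f) * (cinv f * f) := by rw [cinv_mul, mul_one]
    _ = (cinv (cinv f) * cinv f) * f := by rw [mul_assoc]
    _ = f := by rw [cinv_mul, one_mul]

end CInv

section

variable {k : Type u} {A : Type u'} [Field k] [CommRing A] [HopfAlgebra k A]
variable {V : Type v} [AddCommGroup V] [Module k V]
variable {R : Type*} [CommRing R] [Algebra k R]

/-- `R`-linear extension of `g · -` to `V ⊗ R` -/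
noncomputable def gaExt (c : HopfRep.Comod k A V) (x : A →ₐ[k] R) : V ⊗[k] R →ₗ[k] V ⊗[k] R :=
  rsmul V ∘ₗ (ga c x).rTensor R

theorem gaExt_tmul (c : HopfRep.Comod k A V) (x : A →ₐ[k] R) (v : V) (r : R) :
    gaExt c x (v ⊗ₜ[k] r) = rsmul V (ga c x v ⊗ₜ[k] r) := by
  simp [gaExt]

theorem gaExt_tmul_one (c : HopfRep.Comod k A V) (x : A →ₐ[k] R) (v : V) :
    gaExt c x (v ⊗ₜ[k] (1 : R)) = ga c x v := by
  rw [gaExt_tmul, rsmul_one]

theorem ga_mul (c : HopfRep.Comod k A V) (x y : WithConv (A →ₐ[k] R)) (v : V) :
    ga c (x * y).ofConv v = gaExt c x.ofConv (ga c y.ofConv v) := by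
  have h1 : (x * y).ofConv.toLinearMap =
      LinearMap.mul' k R ∘ₗ TensorProduct.map x.ofConv.toLinearMap y.ofConv.toLinearMap ∘ₗ
        Coalgebra.comul (R := k) (A := A) := by
    apply LinearMap.ext
    intro a
    rw [AlgHom.convMul_def]
    simp only [WithConv.ofConv_toConv, AlgHom.toLinearMap_apply, AlgHom.comp_apply,
      Bialgebra.comulAlgHom_apply, LinearMap.comp_apply]
    generalize Coalgebra.comul (R := k) a = t
    induction t using TensorProduct.induction_on with
    | zero => simp
    | tmul a b => simp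
    | add t₁ t₂ h₁ h₂ => simp only [map_add, h₁, h₂]
  unfold ga
  rw [h1]
  simp only [LinearMap.comp_apply]
  rw [LinearMap.lTensor_comp, LinearMap.lTensor_comp, LinearMap.comp_apply, LinearMap.comp_apply]
  have h2 := LinearMap.congr_fun c.coassoc v
  simp only [LinearMap.comp_apply] at h2
  rw [← h2]
  generalize c.coact v = t
  induction t using TensorProduct.induction_on with
  | zero => simp
  | add t₁ t₂ h₁ h₂ => simp only [map_add, h₁, h₂]
  | tmul w a =>
    rw [LinearMap.rTensor_tmul, LinearMap.lTensor_tmul, gaExt_tmul]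
    unfold ga
    simp only [LinearMap.comp_apply]
    generalize c.coact w = s
    induction s using TensorProduct.induction_on with
    | zero => simp
    | add s₁ s₂ h₁ h₂ => simp only [map_add, TensorProduct.add_tmul, h₁, h₂]
    | tmul w₀ b => simp [rsmul]

/-- points of the subgroup `Spec (A/I)` fix the vectors fixed by `Spec (A/I)` -/
theorem ga_eq_of_kills (c : HopfRep.Comod k A V) (I : Ideal A) (x : A →ₐ[k] R)
    (hx : ∀ a ∈ I, x a = 0) (v : V)
    (hv : LinearMap.lTensor V (Ideal.Quotient.mkₐ k I).toLinearMap (c.coact v) =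
      v ⊗ₜ[k] (1 : A ⧸ I)) :
    ga c x v = v ⊗ₜ[k] (1 : R) := by
  have hx' : x = (Ideal.Quotient.liftₐ I x hx).comp (Ideal.Quotient.mkₐ k I) := by
    apply AlgHom.ext
    intro a
    simp
  unfold ga
  rw [LinearMap.comp_apply, hx', AlgHom.comp_toLinearMap, LinearMap.lTensor_comp,
    LinearMap.comp_apply, hv]
  simp

end

end Groth.Agent.Lib.helper22
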