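import Groth.Agent.Lib.Helper22.ComodField

/-!
The co-opposite coalgebra, left slices, and the criterion for a subspace of a coalgebra over a field
to be a subcoalgebra; finite-dimensional subcoalgebra generated by an element.
-/

set_option autoImplicit false
set_option linter.style.haveILetI false
universe u v w w'
open scoped TensorProduct

namespace Groth.Agent.Lib.helper22

/-- type synonym carrying the co-opposite coalgebra structure -/
def Cop (_k : Type u) (C : Type v) : Type v := C

section CopDef

variable (k : Type u) [CommRing k] (C : Type v) [AddCommGroup C] [Module k C]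

instance : AddCommGroup (Cop k C) := inferInstanceAs (AddCommGroup C)
instance : Module k (Cop k C) := inferInstanceAs (Module k C)

/-- reversal `a ⊗ (b ⊗ c) ↦ c ⊗ (b ⊗ a)` -/
noncomputable def rev3 : C ⊗[k] (C ⊗[k] C) →ₗ[k] C ⊗[k] (C ⊗[k] C) :=
  (TensorProduct.assoc k C C C).toLinearMap ∘ₗ
    ((TensorProduct.comm k C C).toLinearMap.rTensor C) ∘ₗ (TensorProduct.comm k C (C ⊗[k] C)).toLinearMap

@[simp] theorem rev3_tmul (a b c : C) : rev3 k C (a ⊗ₜ[k] (b ⊗ₜ[k] c)) = c ⊗ₜ[k] (b ⊗ₜ[k] a) := by
  simp [rev3]

variable [Coalgebra k C]

noncomputable instance : Coalgebra k (Cop k C) where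
  comul := (TensorProduct.comm k C C).toLinearMap ∘ₗ Coalgebra.comul (R := k) (A := C)
  counit := Coalgebra.counit (R := k) (A := C)
  coassoc := by
    have L1 : ∀ (a : C) (y : C ⊗[k] C), TensorProduct.assoc k C C C
        ((TensorProduct.comm k C C y) ⊗ₜ[k] a) = rev3 k C (a ⊗ₜ[k] y) := by
      intro a y
      induction y using TensorProduct.induction_on with
      | zero => simp
      | tmul p q => simp
      | add p q hp hq => simp only [map_add, TensorProduct.add_tmul, TensorProduct.tmul_add, hp, hq]
    have L2 : ∀ (b : C) (y : C ⊗[k] C), b ⊗ₜ[k] (TensorProduct.comm k C C y) =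
        rev3 k C (TensorProduct.assoc k C C C (y ⊗ₜ[k] b)) := by
      intro b y
      induction y using TensorProduct.induction_on with
      | zero => simp
      | tmul p q => simp
      | add p q hp hq => simp only [map_add, TensorProduct.add_tmul, TensorProduct.tmul_add, hp, hq]
    have H1 : ∀ z : C ⊗[k] C, TensorProduct.assoc k C C C
        (((TensorProduct.comm k C C).toLinearMap ∘ₗ Coalgebra.comul (R := k) (A := C)).rTensor C
          (TensorProduct.comm k C C z)) =
        rev3 k C ((Coalgebra.comul (R := k) (A := C)).lTensor C z) := by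
      intro z
      induction z using TensorProduct.induction_on with
      | zero => simp
      | tmul a b => simp [L1]
      | add p q hp hq => simp only [map_add, hp, hq]
    have H2 : ∀ z : C ⊗[k] C,
        ((TensorProduct.comm k C C).toLinearMap ∘ₗ Coalgebra.comul (R := k) (A := C)).lTensor C
          (TensorProduct.comm k C C z) =
        rev3 k C (TensorProduct.assoc k C C C ((Coalgebra.comul (R := k) (A := C)).rTensor C z)) := by
      intro z
      induction z using TensorProduct.induction_on with
      | zero => simp
      | tmul a b => simp [L2]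
      | add p q hp hq => simp only [map_add, hp, hq]
    apply LinearMap.ext
    intro x
    change TensorProduct.assoc k C C C
        (((TensorProduct.comm k C C).toLinearMap ∘ₗ Coalgebra.comul (R := k) (A := C)).rTensor C
          (TensorProduct.comm k C C (Coalgebra.comul (R := k) (A := C) x))) =
      ((TensorProduct.comm k C C).toLinearMap ∘ₗ Coalgebra.comul (R := k) (A := C)).lTensor C
          (TensorProduct.comm k C C (Coalgebra.comul (R := k) (A := C) x))
    rw [H1, H2, Coalgebra.coassoc_apply]
  rTensor_counit_comp_comul := by
    have H : ∀ z : C ⊗[k] C, (Coalgebra.counit (R := k) (A := C)).rTensor C (TensorProduct.comm k C C z) =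
        TensorProduct.comm k C k ((Coalgebra.counit (R := k) (A := C)).lTensor C z) := by
      intro z
      induction z using TensorProduct.induction_on with
      | zero => simp
      | tmul a b => simp
      | add p q hp hq => simp only [map_add, hp, hq]
    apply LinearMap.ext
    intro x
    change (Coalgebra.counit (R := k) (A := C)).rTensor C
      (TensorProduct.comm k C C (Coalgebra.comul (R := k) (A := C) x)) = _
    rw [H, Coalgebra.lTensor_counit_comul]
    simp
    rfl
  lTensor_counit_comp_comul := by
    have H : ∀ z : C ⊗[k] C, (Coalgebra.counit (R := k) (A := C)).lTensor C (TensorProduct.comm k C C z) =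
        TensorProduct.comm k k C ((Coalgebra.counit (R := k) (A := C)).rTensor C z) := by
      intro z
      induction z using TensorProduct.induction_on with
      | zero => simp
      | tmul a b => simp
      | add p q hp hq => simp only [map_add, hp, hq]
    apply LinearMap.ext
    intro x
    change (Coalgebra.counit (R := k) (A := C)).lTensor C
      (TensorProduct.comm k C C (Coalgebra.comul (R := k) (A := C) x)) = _
    rw [H, Coalgebra.rTensor_counit_comul]
    simp
    rfl

theorem cop_comul_apply (x : C) : Coalgebra.comul (R := k) (A := Cop k C) x =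
    TensorProduct.comm k C C (Coalgebra.comul (R := k) (A := C) x) := rfl

theorem cop_counit_apply (x : C) : Coalgebra.counit (R := k) (A := Cop k C) x =
    Coalgebra.counit (R := k) (A := C) x := rfl

end CopDef

section Sub

variable {k : Type u} [Field k] {C : Type v} [AddCommGroup C] [Module k C] [Coalgebra k C]

/-- right action of a functional on a coalgebra: `(id ⊗ g) ∘ Δ` -/
noncomputable def actR (g : Module.Dual k C) : C →ₗ[k] C := actDual (C := C) C g

/-- left action of a functional, on the co-opposite coalgebra -/
noncomputable def actLc (f : Module.Dual k (Cop k C)) : Cop k C →ₗ[k] Cop k C :=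
  actDual (C := Cop k C) (Cop k C) f

theorem actLc_actLc (f f' : Module.Dual k (Cop k C)) (x : Cop k C) :
    actLc f' (actLc f x) = actLc (conv f' f) x := actDual_actDual f' f x

theorem actLc_counit (x : Cop k C) : actLc (Coalgebra.counit (R := k) (A := Cop k C)) x = x :=
  actDual_counit x

theorem actLc_comm_of_isComodHom (φ : Cop k C →ₗ[k] Cop k C) (hφ : Hoch.IsComodHom (Cop k C) φ)
    (f : Module.Dual k (Cop k C)) (x : Cop k C) : φ (actLc f x) = actLc f (φ x) :=
  actDual_comm_of_isComodHom φ hφ f x

/-- the cyclic subcomodule for the co-opposite coalgebra -/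
noncomputable def cyclicLc (x : Cop k C) : Submodule k (Cop k C) := cyclic k (Cop k C) x

theorem finite_cyclicLc (x : Cop k C) : Module.Finite k (cyclicLc x) := finite_cyclic x

theorem actLc_mem_cyclicLc (f : Module.Dual k (Cop k C)) (x : Cop k C) : actLc f x ∈ cyclicLc x :=
  ⟨f, rfl⟩

/-- left action of a functional on a coalgebra: `(f ⊗ id) ∘ Δ` -/
noncomputable def actL (f : Module.Dual k C) : C →ₗ[k] C := actLc (C := C) f

/-- the left coideal generated by an element -/
noncomputable def cyclicL (x : C) : Submodule k C := cyclicLc (C := C) x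

theorem finite_cyclicL (x : C) : Module.Finite k (cyclicL (k := k) x) := finite_cyclicLc (C := C) x

theorem actL_mem_cyclicL (f : Module.Dual k C) (x : C) : actL f x ∈ cyclicL (k := k) x :=
  actLc_mem_cyclicLc (C := C) f x

theorem actR_apply (g : Module.Dual k C) (x : C) :
    actR g x = slice g (Coalgebra.comul (R := k) (A := C) x) := rfl

theorem actL_apply (f : Module.Dual k C) (x : C) :
    actL f x = slice f (TensorProduct.comm k C C (Coalgebra.comul (R := k) (A := C) x)) := rfl

theorem comul_actR (g : Module.Dual k C) (x : C) :
    Coalgebra.comul (R := k) (A := C) (actR g x) =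
      (actR g).lTensor C (Coalgebra.comul (R := k) (A := C) x) := by
  have h1 : ∀ (a : C) (y : C ⊗[k] C), a ⊗ₜ[k] slice g y =
      slice g ((TensorProduct.assoc k C C C).symm (a ⊗ₜ[k] y)) := by
    intro a y
    induction y using TensorProduct.induction_on with
    | zero => simp
    | tmul p q => simp [TensorProduct.smul_tmul']
    | add p q hp hq => simp only [map_add, TensorProduct.tmul_add, hp, hq]
  have h2 : ∀ z : C ⊗[k] C, (actR g).lTensor C z =
      slice g ((TensorProduct.assoc k C C C).symm ((Coalgebra.comul (R := k) (A := C)).lTensor C z)) := by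
    intro z
    induction z using TensorProduct.induction_on with
    | zero => simp
    | tmul a b => simp [actR_apply, h1]
    | add p q hp hq => simp only [map_add, hp, hq]
  rw [h2, Coalgebra.coassoc_symm_apply, slice_rTensor, actR_apply]

/-- `actR g` as an endomorphism of the co-opposite coalgebra -/
noncomputable def actRc (g : Module.Dual k C) : Cop k C →ₗ[k] Cop k C :=
  (fun φ : C →ₗ[k] C => (φ : Cop k C →ₗ[k] Cop k C)) (actR g)

theorem isComodHom_cop_actR (g : Module.Dual k C) : Hoch.IsComodHom (Cop k C) (actRc g) := by
  apply LinearMap.ext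
  intro x
  change TensorProduct.comm k C C (Coalgebra.comul (R := k) (A := C) (actR g x)) =
    (actR g).rTensor C (TensorProduct.comm k C C (Coalgebra.comul (R := k) (A := C) x))
  rw [comul_actR]
  generalize Coalgebra.comul (R := k) (A := C) x = z
  induction z using TensorProduct.induction_on with
  | zero => simp
  | tmul a b => simp
  | add p q hp hq => simp only [map_add, hp, hq]

theorem actL_actR_comm (f g : Module.Dual k C) (x : C) : actL f (actR g x) = actR g (actL f x) :=
  (actLc_comm_of_isComodHom (C := C) (actRc g) (isComodHom_cop_actR g) f x).symm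

theorem actR_actR (g g' : Module.Dual k C) (x : C) : actR g' (actR g x) = actR (conv g' g) x :=
  actDual_actDual (C := C) (V := C) g' g x

theorem actL_actL (f f' : Module.Dual k C) (x : C) :
    ∃ h : Module.Dual k C, actL f' (actL f x) = actL h x :=
  ⟨_, actLc_actLc (C := C) f f' x⟩

theorem actR_counit (x : C) : actR (Coalgebra.counit (R := k) (A := C)) x = x :=
  actDual_counit (C := C) (V := C) x

theorem actL_counit (x : C) : actL (Coalgebra.counit (R := k) (A := C)) x = x :=
  actLc_counit (C := C) x

/-- a subspace stable under both actions of all functionals is a subcoalgebra -/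
theorem comul_mem_of_stable (B : Submodule k C) (hR : ∀ g : Module.Dual k C, ∀ b ∈ B, actR g b ∈ B)
    (hL : ∀ f : Module.Dual k C, ∀ b ∈ B, actL f b ∈ B) (b : C) (hb : b ∈ B) :
    Coalgebra.comul (R := k) (A := C) b ∈ LinearMap.range (TensorProduct.map B.subtype B.subtype) := by
  obtain ⟨y, hy⟩ := (mem_range_rTensor_iff B (Coalgebra.comul (R := k) (A := C) b)).mpr
    (fun g => hR g b hb)
  -- `y : B ⊗ C`; show it comes from `B ⊗ B`
  have hy2 : TensorProduct.comm k B C y ∈ LinearMap.range (B.subtype.rTensor B) := by
    rw [mem_range_rTensor_iff]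
    intro φ
    obtain ⟨r, hr⟩ := B.subtype.exists_leftInverse_of_injective (LinearMap.ker_eq_bot.mpr B.injective_subtype)
    have hφ : ∀ p : B, (φ ∘ₗ r) (p : C) = φ p := by
      intro p
      have := LinearMap.congr_fun hr p
      simp only [LinearMap.comp_apply, Submodule.subtype_apply, LinearMap.id_apply] at this
      rw [LinearMap.comp_apply, this]
    have h1 := hL (φ ∘ₗ r) b hb
    rw [actL_apply, ← hy] at h1
    have h2 : ∀ z : B ⊗[k] C, slice (φ ∘ₗ r) (TensorProduct.comm k C C (B.subtype.rTensor C z)) =
        slice φ (TensorProduct.comm k B C z) := by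
      intro z
      induction z using TensorProduct.induction_on with
      | zero => simp
      | tmul p q =>
        simp only [LinearMap.rTensor_tmul, TensorProduct.comm_tmul, slice_tmul, Submodule.subtype_apply]
        rw [hφ]
      | add p q hp hq => simp only [map_add, hp, hq]
    rw [h2] at h1
    exact h1
  obtain ⟨z, hz⟩ := hy2
  refine ⟨TensorProduct.comm k B B z, ?_⟩
  rw [← hy]
  have hz' : y = (TensorProduct.comm k B C).symm (B.subtype.rTensor B z) := by
    rw [hz, LinearEquiv.symm_apply_apply]
  rw [hz']
  clear hz hz' hy
  induction z using TensorProduct.induction_on with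
  | zero => simp
  | tmul p q => simp
  | add p q hp hq => simp only [map_add, hp, hq]

/-- the subcoalgebra generated by an element -/
noncomputable def subcoalg (c : C) : Submodule k C :=
  Submodule.span k (Set.range fun p : Module.Dual k C × Module.Dual k C => actL p.1 (actR p.2 c))

theorem mem_subcoalg_self (c : C) : c ∈ subcoalg (k := k) c := by
  apply Submodule.subset_span
  refine ⟨(Coalgebra.counit (R := k) (A := C), Coalgebra.counit (R := k) (A := C)), ?_⟩
  simp only [actR_counit, actL_counit]

theorem actR_mem_subcoalg (c : C) (g : Module.Dual k C) (b : C) (hb : b ∈ subcoalg (k := k) c) :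
    actR g b ∈ subcoalg (k := k) c := by
  have : subcoalg (k := k) c ≤ (subcoalg (k := k) c).comap (actR g) := by
    apply Submodule.span_le.mpr
    rintro _ ⟨⟨f, g'⟩, rfl⟩
    change actR g (actL f (actR g' c)) ∈ subcoalg (k := k) c
    rw [← actL_actR_comm, actR_actR]
    exact Submodule.subset_span ⟨(f, conv g g'), rfl⟩
  exact this hb

theorem actL_mem_subcoalg (c : C) (f : Module.Dual k C) (b : C) (hb : b ∈ subcoalg (k := k) c) :
    actL f b ∈ subcoalg (k := k) c := by
  have : subcoalg (k := k) c ≤ (subcoalg (k := k) c).comap (actL f) := by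
    apply Submodule.span_le.mpr
    rintro _ ⟨⟨f', g'⟩, rfl⟩
    change actL f (actL f' (actR g' c)) ∈ subcoalg (k := k) c
    obtain ⟨h, hh⟩ := actL_actL f' f (actR g' c)
    rw [hh]
    exact Submodule.subset_span ⟨(h, g'), rfl⟩
  exact this hb

theorem comul_mem_subcoalg (c : C) (b : C) (hb : b ∈ subcoalg (k := k) c) :
    Coalgebra.comul (R := k) (A := C) b ∈
      LinearMap.range (TensorProduct.map (subcoalg (k := k) c).subtype (subcoalg (k := k) c).subtype) :=
  comul_mem_of_stable _ (actR_mem_subcoalg c) (actL_mem_subcoalg c) b hb

theorem finite_subcoalg (c : C) : Module.Finite k (subcoalg (k := k) c) := by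
  classical
  obtain ⟨s, hs⟩ := TensorProduct.exists_finset (Coalgebra.comul (R := k) (A := C) c)
  have hle : subcoalg (k := k) c ≤ s.sup (fun p => cyclicL (k := k) p.1) := by
    apply Submodule.span_le.mpr
    rintro _ ⟨⟨f, g⟩, rfl⟩
    change actL f (actR g c) ∈ _
    rw [actR_apply, hs, map_sum, map_sum]
    apply Submodule.sum_mem
    intro p hp
    rw [slice_tmul, map_smul]
    apply Submodule.smul_mem
    exact (Finset.le_sup (f := fun p : C × C => cyclicL (k := k) p.1) hp) (actL_mem_cyclicL f p.1)
  have hfin : Module.Finite k (s.sup (fun p : C × C => cyclicL (k := k) p.1) : Submodule k C) := by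
    have : ∀ p : C × C, Module.Finite k (cyclicL (k := k) p.1) := fun p => finite_cyclicL p.1
    exact Submodule.finite_finset_sup s _
  exact Submodule.finiteDimensional_of_le hle

end Sub

end Groth.Agent.Lib.helper22
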