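import Mathlib

set_option autoImplicit false

namespace Groth.Agent.Lib.helper22.DPAdic

open AdicCompletion

variable {A : Type*} [CommRing A] {I : Ideal A} (γ : DividedPowers I) (ϖ : A) (t : ℕ)
  (ht : Ideal.span {ϖ} ^ t ≤ I)

include ht in
/-- the congruence lemma: divided powers are uniformly continuous for the `ϖ`-adic topology -/
lemma dpow_sub_mem {a a' : A} (ha : a ∈ I) (n m : ℕ)
    (h : a' - a ∈ Ideal.span {ϖ} ^ (n + t)) : γ.dpow m a' - γ.dpow m a ∈ Ideal.span {ϖ} ^ n := by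
  rw [Ideal.span_singleton_pow, Ideal.mem_span_singleton] at h
  obtain ⟨c, hc⟩ := h
  have hz : ϖ ^ t * c ∈ I := by
    apply ht
    rw [Ideal.span_singleton_pow]
    exact Ideal.mul_mem_right _ _ (Ideal.subset_span rfl)
  have ha'eq : a' = a + ϖ ^ n * (ϖ ^ t * c) := by
    rw [← mul_assoc, ← pow_add, ← hc]; ring
  rw [ha'eq, γ.dpow_add ha (I.mul_mem_left _ hz), ← Ideal.Quotient.eq, map_sum,
    Finset.sum_eq_single (m, 0)]
  · rw [γ.dpow_zero (I.mul_mem_left _ hz), mul_one]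
  · rintro ⟨i, j⟩ hij hne
    rw [Finset.HasAntidiagonal.mem_antidiagonal] at hij
    simp only at hij
    have hj : j ≠ 0 := by
      rintro rfl
      apply hne
      simp only [add_zero] at hij
      rw [hij]
    rw [γ.dpow_mul hz, map_mul, map_mul]
    have : Ideal.Quotient.mk (Ideal.span {ϖ} ^ n) ((ϖ ^ n) ^ j) = 0 := by
      rw [Ideal.Quotient.eq_zero_iff_mem, Ideal.span_singleton_pow, ← pow_mul]
      apply Ideal.mem_span_singleton.mpr
      exact pow_dvd_pow ϖ (Nat.le_mul_of_pos_right n (Nat.pos_of_ne_zero hj))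
    rw [this, zero_mul, mul_zero]
  · intro h
    exact absurd (Finset.HasAntidiagonal.mem_antidiagonal.mpr (by simp)) h


/-- the projection from the completion to `A ⧸ I` -/
noncomputable def proj : AdicCompletion (Ideal.span {ϖ}) A →+* A ⧸ I :=
  (Ideal.Quotient.factor ht).comp (AdicCompletion.evalₐ (Ideal.span {ϖ}) t).toRingHom

lemma proj_mk (s : AdicCauchySequence (Ideal.span {ϖ}) A) :
    proj ϖ t ht (AdicCompletion.mk (Ideal.span {ϖ}) A s) = Ideal.Quotient.mk I (s t) := by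
  rw [proj, RingHom.comp_apply]
  show Ideal.Quotient.factor ht (evalₐ (Ideal.span {ϖ}) t (AdicCompletion.mk (Ideal.span {ϖ}) A s)) = _
  rw [evalₐ_mk, Ideal.Quotient.factor_mk]

lemma proj_surjective : Function.Surjective (proj ϖ t ht) := by
  rw [proj]
  exact (Ideal.Quotient.factor_surjective ht).comp (surjective_evalₐ _ t)

lemma mem_ker_mk_iff (s : AdicCauchySequence (Ideal.span {ϖ}) A) :
    AdicCompletion.mk (Ideal.span {ϖ}) A s ∈ RingHom.ker (proj ϖ t ht) ↔ s t ∈ I := by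
  rw [RingHom.mem_ker, proj_mk, Ideal.Quotient.eq_zero_iff_mem]

lemma seq_sub_mem (s : AdicCauchySequence (Ideal.span {ϖ}) A) {k n : ℕ} (hkn : k ≤ n) :
    s n - s k ∈ Ideal.span {ϖ} ^ k := by
  have h := s.property hkn
  rw [SModEq.sub_mem] at h
  have h2 : (Ideal.span {ϖ} ^ k • ⊤ : Submodule A A) = Ideal.span {ϖ} ^ k := by
    rw [smul_eq_mul, Ideal.mul_top]
  rw [h2] at h
  have := (Ideal.span {ϖ} ^ k).neg_mem h
  rwa [neg_sub] at this

include ht in
lemma seq_mem (s : AdicCauchySequence (Ideal.span {ϖ}) A) (hs : s t ∈ I) (n : ℕ) :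
    s (n + t) ∈ I := by
  have := ht (seq_sub_mem ϖ s (Nat.le_add_left t n))
  have h2 := I.add_mem this hs
  rwa [sub_add_cancel] at h2

/-- the sequence of divided powers of a Cauchy sequence in `I` -/
noncomputable def dseq (m : ℕ) (s : AdicCauchySequence (Ideal.span {ϖ}) A) (hs : s t ∈ I) :
    AdicCauchySequence (Ideal.span {ϖ}) A :=
  ⟨fun n => γ.dpow m (s (n + t)), by
    intro k n hkn
    rw [SModEq.sub_mem]
    have h2 : (Ideal.span {ϖ} ^ k • ⊤ : Submodule A A) = Ideal.span {ϖ} ^ k := by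
      rw [smul_eq_mul, Ideal.mul_top]
    rw [h2]
    have := dpow_sub_mem γ ϖ t ht (seq_mem ϖ t ht s hs k) k m
      (a' := s (n + t)) (seq_sub_mem ϖ s (Nat.add_le_add_right hkn t))
    have h3 := (Ideal.span {ϖ} ^ k).neg_mem this
    rwa [neg_sub] at h3⟩

lemma dseq_apply (m : ℕ) (s : AdicCauchySequence (Ideal.span {ϖ}) A) (hs : s t ∈ I) (n : ℕ) :
    dseq γ ϖ t ht m s hs n = γ.dpow m (s (n + t)) := rfl

open Classical in
/-- the divided powers on the completion -/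
noncomputable def dpowC (m : ℕ) (x : AdicCompletion (Ideal.span {ϖ}) A) :
    AdicCompletion (Ideal.span {ϖ}) A :=
  if hx : x ∈ RingHom.ker (proj ϖ t ht) then
    AdicCompletion.mk (Ideal.span {ϖ}) A (dseq γ ϖ t ht m (mk_surjective _ _ x).choose (by
      rw [← mem_ker_mk_iff ϖ t ht, (mk_surjective _ _ x).choose_spec]; exact hx))
  else 0

lemma mk_eq_mk_imp {s s' : AdicCauchySequence (Ideal.span {ϖ}) A}
    (h : AdicCompletion.mk (Ideal.span {ϖ}) A s' = AdicCompletion.mk (Ideal.span {ϖ}) A s) (n : ℕ) :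
    s' n - s n ∈ Ideal.span {ϖ} ^ n := by
  have := congrArg (evalₐ (Ideal.span {ϖ}) n) h
  rw [evalₐ_mk, evalₐ_mk, Ideal.Quotient.eq] at this
  exact this

lemma dpowC_mk (m : ℕ) (s : AdicCauchySequence (Ideal.span {ϖ}) A) (hs : s t ∈ I) :
    dpowC γ ϖ t ht m (AdicCompletion.mk (Ideal.span {ϖ}) A s) =
      AdicCompletion.mk (Ideal.span {ϖ}) A (dseq γ ϖ t ht m s hs) := by
  have hx : AdicCompletion.mk (Ideal.span {ϖ}) A s ∈ RingHom.ker (proj ϖ t ht) :=
    (mem_ker_mk_iff ϖ t ht s).mpr hs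
  rw [dpowC, dif_pos hx]
  apply ext_evalₐ
  intro n
  rw [evalₐ_mk, evalₐ_mk, Ideal.Quotient.eq]
  set s' := (mk_surjective _ _ (AdicCompletion.mk (Ideal.span {ϖ}) A s)).choose with hs'
  have hspec : AdicCompletion.mk (Ideal.span {ϖ}) A s' = AdicCompletion.mk (Ideal.span {ϖ}) A s :=
    (mk_surjective _ _ (AdicCompletion.mk (Ideal.span {ϖ}) A s)).choose_spec
  exact dpow_sub_mem γ ϖ t ht (seq_mem ϖ t ht s hs n) n m (mk_eq_mk_imp ϖ hspec (n + t))


/-- compatibility of the evaluations -/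
lemma evalₐ_of_le {x : AdicCompletion (Ideal.span {ϖ}) A} {k n : ℕ} (hkn : k ≤ n) {a : A}
    (h : evalₐ (Ideal.span {ϖ}) n x = Ideal.Quotient.mk _ a) :
    evalₐ (Ideal.span {ϖ}) k x = Ideal.Quotient.mk _ a := by
  obtain ⟨s, rfl⟩ := mk_surjective _ _ x
  rw [evalₐ_mk, Ideal.Quotient.eq] at h ⊢
  have h1 := Ideal.pow_le_pow_right hkn h
  have h2 := seq_sub_mem ϖ s hkn
  have := (Ideal.span {ϖ} ^ k).sub_mem h1 h2
  rwa [sub_sub_sub_cancel_left] at this

lemma exists_lift {x : AdicCompletion (Ideal.span {ϖ}) A} (hx : x ∈ RingHom.ker (proj ϖ t ht))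
    (n : ℕ) : ∃ a ∈ I, evalₐ (Ideal.span {ϖ}) (n + t) x = Ideal.Quotient.mk _ a := by
  obtain ⟨s, rfl⟩ := mk_surjective _ _ x
  have hs := (mem_ker_mk_iff ϖ t ht s).mp hx
  exact ⟨s (n + t), seq_mem ϖ t ht s hs n, evalₐ_mk _ _ _⟩

lemma mem_ker_of_lift {x : AdicCompletion (Ideal.span {ϖ}) A} {n : ℕ} {a : A} (ha : a ∈ I)
    (hxa : evalₐ (Ideal.span {ϖ}) (n + t) x = Ideal.Quotient.mk _ a) :
    x ∈ RingHom.ker (proj ϖ t ht) := by
  have h := evalₐ_of_le ϖ (Nat.le_add_left t n) hxa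
  rw [RingHom.mem_ker, proj, RingHom.comp_apply]
  show Ideal.Quotient.factor ht (evalₐ (Ideal.span {ϖ}) t x) = 0
  rw [h, Ideal.Quotient.factor_mk, Ideal.Quotient.eq_zero_iff_mem]
  exact ha

/-- the characterisation of the divided powers on the completion -/
lemma evalₐ_dpowC {x : AdicCompletion (Ideal.span {ϖ}) A} (n m : ℕ) {a : A} (ha : a ∈ I)
    (hxa : evalₐ (Ideal.span {ϖ}) (n + t) x = Ideal.Quotient.mk _ a) :
    evalₐ (Ideal.span {ϖ}) n (dpowC γ ϖ t ht m x) = Ideal.Quotient.mk _ (γ.dpow m a) := by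
  have hx := mem_ker_of_lift ϖ t ht ha hxa
  obtain ⟨s, rfl⟩ := mk_surjective _ _ x
  have hs := (mem_ker_mk_iff ϖ t ht s).mp hx
  rw [dpowC_mk γ ϖ t ht m s hs, evalₐ_mk, Ideal.Quotient.eq]
  show γ.dpow m (s (n + t)) - γ.dpow m a ∈ _
  rw [evalₐ_mk, Ideal.Quotient.eq] at hxa
  exact dpow_sub_mem γ ϖ t ht ha n m hxa

lemma dpowC_mem {x : AdicCompletion (Ideal.span {ϖ}) A} (hx : x ∈ RingHom.ker (proj ϖ t ht))
    {m : ℕ} (hm : m ≠ 0) : dpowC γ ϖ t ht m x ∈ RingHom.ker (proj ϖ t ht) := by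
  obtain ⟨a, ha, hxa⟩ := exists_lift ϖ t ht hx t
  have h := evalₐ_dpowC γ ϖ t ht t m ha hxa
  rw [RingHom.mem_ker, proj, RingHom.comp_apply]
  show Ideal.Quotient.factor ht (evalₐ (Ideal.span {ϖ}) t _) = 0
  rw [h, Ideal.Quotient.factor_mk, Ideal.Quotient.eq_zero_iff_mem]
  exact γ.dpow_mem hm ha

/-- **the divided power structure on the kernel of the projection** -/
noncomputable def dividedPowers : DividedPowers (RingHom.ker (proj ϖ t ht)) where
  dpow := dpowC γ ϖ t ht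
  dpow_null := by
    intro m x hx
    rw [dpowC, dif_neg hx]
  dpow_zero := by
    intro x hx
    apply ext_evalₐ
    intro n
    obtain ⟨a, ha, hxa⟩ := exists_lift ϖ t ht hx n
    rw [evalₐ_dpowC γ ϖ t ht n 0 ha hxa, γ.dpow_zero ha, map_one, map_one]
  dpow_one := by
    intro x hx
    apply ext_evalₐ
    intro n
    obtain ⟨a, ha, hxa⟩ := exists_lift ϖ t ht hx n
    rw [evalₐ_dpowC γ ϖ t ht n 1 ha hxa, γ.dpow_one ha, evalₐ_of_le ϖ (Nat.le_add_right n t) hxa]
  dpow_mem := by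
    intro m x hm hx
    exact dpowC_mem γ ϖ t ht hx hm
  dpow_add := by
    intro m x y hx hy
    apply ext_evalₐ
    intro n
    obtain ⟨a, ha, hxa⟩ := exists_lift ϖ t ht hx n
    obtain ⟨b, hb, hyb⟩ := exists_lift ϖ t ht hy n
    have hxy : evalₐ (Ideal.span {ϖ}) (n + t) (x + y) = Ideal.Quotient.mk _ (a + b) := by
      rw [map_add, hxa, hyb, map_add]
    rw [evalₐ_dpowC γ ϖ t ht n m (I.add_mem ha hb) hxy, γ.dpow_add ha hb, map_sum, map_sum]
    apply Finset.sum_congr rfl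
    intro k _
    rw [map_mul, map_mul, evalₐ_dpowC γ ϖ t ht n k.1 ha hxa, evalₐ_dpowC γ ϖ t ht n k.2 hb hyb]
  dpow_mul := by
    intro m c x hx
    apply ext_evalₐ
    intro n
    obtain ⟨a, ha, hxa⟩ := exists_lift ϖ t ht hx n
    obtain ⟨b, hcb⟩ := Ideal.Quotient.mk_surjective (evalₐ (Ideal.span {ϖ}) (n + t) c)
    have hcx : evalₐ (Ideal.span {ϖ}) (n + t) (c * x) = Ideal.Quotient.mk _ (b * a) := by
      rw [map_mul, hxa, ← hcb, map_mul]
    rw [evalₐ_dpowC γ ϖ t ht n m (I.mul_mem_left b ha) hcx, γ.dpow_mul ha, map_mul, map_mul,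
      map_pow, map_pow, evalₐ_dpowC γ ϖ t ht n m ha hxa,
      evalₐ_of_le ϖ (Nat.le_add_right n t) hcb.symm]
  mul_dpow := by
    intro i j x hx
    apply ext_evalₐ
    intro n
    obtain ⟨a, ha, hxa⟩ := exists_lift ϖ t ht hx n
    rw [map_mul, map_mul, map_natCast, evalₐ_dpowC γ ϖ t ht n i ha hxa,
      evalₐ_dpowC γ ϖ t ht n j ha hxa, evalₐ_dpowC γ ϖ t ht n (i + j) ha hxa, ← map_mul,
      γ.mul_dpow ha, map_mul, map_natCast]
  dpow_comp := by
    intro m k x hk hx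
    apply ext_evalₐ
    intro n
    obtain ⟨a, ha, hxa⟩ := exists_lift ϖ t ht hx (n + t)
    have hy := evalₐ_dpowC γ ϖ t ht (n + t) k ha hxa
    have hxa' := evalₐ_of_le ϖ (Nat.le_add_right (n + t) t) hxa
    rw [evalₐ_dpowC γ ϖ t ht n m (γ.dpow_mem hk ha) hy, γ.dpow_comp hk ha, map_mul, map_mul,
      map_natCast, map_natCast, evalₐ_dpowC γ ϖ t ht n (m * k) ha hxa']

/-- the canonical map to the completion is a divided power morphism -/
theorem isDPMorphism :
    γ.IsDPMorphism (dividedPowers γ ϖ t ht) (algebraMap A (AdicCompletion (Ideal.span {ϖ}) A)) := by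
  have hof : ∀ (a : A) (n : ℕ),
      evalₐ (Ideal.span {ϖ}) n (algebraMap A (AdicCompletion (Ideal.span {ϖ}) A) a) =
        Ideal.Quotient.mk _ a := by
    intro a n
    rw [AdicCompletion.algebraMap_apply, evalₐ_of]
    rfl
  constructor
  · rw [Ideal.map_le_iff_le_comap]
    intro a ha
    exact mem_ker_of_lift ϖ t ht (n := 0) ha (hof a _)
  · intro m a ha
    apply ext_evalₐ
    intro n
    show evalₐ _ n (dpowC γ ϖ t ht m _) = _
    rw [evalₐ_dpowC γ ϖ t ht n m ha (hof a _), hof]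

end Groth.Agent.Lib.helper22.DPAdic
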