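import Mathlib

/-!
# Pulling back a divided power structure along an injective ring homomorphism (helper22)

`exists_dividedPowers_of_injective`: `f : A →+* B` injective, `δ` a divided power structure on
`J ⊆ B`, `I ⊆ A` with `f(I) ⊆ J` such that for `x ∈ I`, `n ≠ 0` the element `δ_n(f x)` is the image
of an element of `I`. Then `I` has a divided power structure `γ` with `f (γ_n x) = δ_n (f x)`.
-/

namespace Groth.Agent.Lib.helper22

open Finset

theorem exists_dividedPowers_of_injective {A B : Type*} [CommRing A] [CommRing B] (f : A →+* B)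
    (hf : Function.Injective f) (I : Ideal A) {J : Ideal B} (δ : DividedPowers J)
    (hIJ : ∀ x ∈ I, f x ∈ J)
    (hex : ∀ x ∈ I, ∀ n : ℕ, n ≠ 0 → ∃ y ∈ I, f y = δ.dpow n (f x)) :
    ∃ γ : DividedPowers I, ∀ (n : ℕ) (x : A), x ∈ I → f (γ.dpow n x) = δ.dpow n (f x) := by
  classical
  -- the function
  have hex' : ∀ (n : ℕ) (x : A), ∃ y : A, (x ∈ I → (n ≠ 0 → y ∈ I) ∧ f y = δ.dpow n (f x)) ∧
      (x ∉ I → y = 0) := by
    intro n x
    by_cases hx : x ∈ I
    · by_cases hn : n = 0
      · refine ⟨1, fun _ => ⟨fun h => absurd hn h, ?_⟩, fun h => absurd hx h⟩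
        rw [hn, δ.dpow_zero (hIJ x hx), map_one]
      · obtain ⟨y, hy, hfy⟩ := hex x hx n hn
        exact ⟨y, fun _ => ⟨fun _ => hy, hfy⟩, fun h => absurd hx h⟩
    · exact ⟨0, fun h => absurd h hx, fun _ => rfl⟩
  choose g hg using hex'
  have hgf : ∀ n x, x ∈ I → f (g n x) = δ.dpow n (f x) := fun n x hx => ((hg n x).1 hx).2
  have hgmem : ∀ n x, n ≠ 0 → x ∈ I → g n x ∈ I := fun n x hn hx => ((hg n x).1 hx).1 hn
  refine ⟨{ dpow := g
            dpow_null := fun {n x} hx => (hg n x).2 hx
            dpow_zero := fun {x} hx => hf (by rw [hgf 0 x hx, δ.dpow_zero (hIJ x hx), map_one])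
            dpow_one := fun {x} hx => hf (by rw [hgf 1 x hx, δ.dpow_one (hIJ x hx)])
            dpow_mem := fun {n x} hn hx => hgmem n x hn hx
            dpow_add := fun {n x y} hx hy => hf (by
              rw [hgf n _ (I.add_mem hx hy), map_add, δ.dpow_add (hIJ x hx) (hIJ y hy), map_sum]
              exact Finset.sum_congr rfl fun k _ => by rw [map_mul, hgf _ _ hx, hgf _ _ hy])
            dpow_mul := fun {n a x} hx => hf (by
              rw [hgf n _ (I.mul_mem_left a hx), map_mul, δ.dpow_mul (hIJ x hx), map_mul, map_pow,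
                hgf n x hx])
            mul_dpow := fun {m n x} hx => hf (by
              rw [map_mul, hgf m x hx, hgf n x hx, δ.mul_dpow (hIJ x hx), map_mul, map_natCast,
                hgf _ x hx])
            dpow_comp := fun {m n x} hn hx => hf (by
              rw [hgf m _ (hgmem n x hn hx), hgf n x hx, δ.dpow_comp hn (hIJ x hx), map_mul,
                map_natCast, hgf _ x hx]) }, fun n x hx => hgf n x hx⟩

end Groth.Agent.Lib.helper22
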