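import Mathlib
import Groth.Agent.Lib.Helper22.DPPullback

set_option autoImplicit false

namespace Groth.Agent.Lib.helper22.DPPoly

open Finset

/-- abstract divided power polynomial algebra data -/
structure Data (R : Type*) [CommRing R] (N : ℕ) (P : Type*) [CommRing P] [Algebra R P] where
  x : Fin N → ℕ → P
  hx0 : ∀ i, x i 0 = 1
  hxmul : ∀ i n m, x i n * x i m = ((n + m).choose n : P) * x i (n + m)
  b : Module.Basis (Fin N →₀ ℕ) R P
  hb : ∀ e : Fin N →₀ ℕ, b e = e.prod (fun i k => x i k)

namespace Data

variable {R : Type*} [CommRing R] {N : ℕ} {P : Type*} [CommRing P] [Algebra R P] (D : Data R N P)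

/-- the augmentation ideal -/
def aug : Ideal P := Ideal.span {y : P | ∃ (i : Fin N) (n : ℕ), 1 ≤ n ∧ y = D.x i n}

lemma b_eq_prod (e : Fin N →₀ ℕ) : D.b e = ∏ i, D.x i (e i) := by
  rw [D.hb, Finsupp.prod_fintype _ _ (fun i => D.hx0 i)]

lemma b_mul (e e' : Fin N →₀ ℕ) :
    D.b e * D.b e' = (∏ i, (e i + e' i).choose (e i)) • D.b (e + e') := by
  rw [b_eq_prod, b_eq_prod, b_eq_prod, ← Finset.prod_mul_distrib, nsmul_eq_mul, Nat.cast_prod,
    ← Finset.prod_mul_distrib]
  apply Finset.prod_congr rfl
  intro i _
  rw [D.hxmul]; rfl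

lemma x_eq (i : Fin N) (n : ℕ) : D.x i n = D.b (Finsupp.single i n) := by
  rw [D.hb, Finsupp.prod_single_index (D.hx0 i)]

lemma one_eq : (1 : P) = D.b 0 := by
  rw [D.hb]; simp

lemma x_mem_aug (i : Fin N) {n : ℕ} (hn : 1 ≤ n) : D.x i n ∈ D.aug :=
  Ideal.subset_span ⟨i, n, hn, rfl⟩

lemma b_mem_aug {e : Fin N →₀ ℕ} (he : e ≠ 0) : D.b e ∈ D.aug := by
  obtain ⟨i, hi⟩ : ∃ i, e i ≠ 0 := by
    by_contra h
    push Not at h
    exact he (Finsupp.ext h)
  rw [b_eq_prod, ← Finset.mul_prod_erase _ _ (Finset.mem_univ i)]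
  exact Ideal.mul_mem_right _ _ (D.x_mem_aug i (by omega))

/-- algebra homs out of `P` from multiplicative families on exponent vectors -/
noncomputable def lift {T : Type*} [CommRing T] [Algebra R T] (t : (Fin N →₀ ℕ) → T) (h1 : t 0 = 1)
    (hmul : ∀ e e', t e * t e' = (∏ i, (e i + e' i).choose (e i)) • t (e + e')) : P →ₐ[R] T :=
  AlgHom.ofLinearMap (D.b.constr R t)
    (by rw [D.one_eq, Module.Basis.constr_basis, h1])
    (by
      have key : (LinearMap.mul R P).compr₂ (D.b.constr R t) =
          (LinearMap.mul R T).compl₁₂ (D.b.constr R t) (D.b.constr R t) := by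
        apply D.b.ext
        intro e
        apply D.b.ext
        intro e'
        simp only [LinearMap.compr₂_apply, LinearMap.mul_apply', LinearMap.compl₁₂_apply]
        rw [D.b_mul, map_nsmul, Module.Basis.constr_basis, Module.Basis.constr_basis,
          Module.Basis.constr_basis, hmul]
      intro u v
      have := congrArg (fun B => B u v) key
      simpa using this)

lemma lift_b {T : Type*} [CommRing T] [Algebra R T] (t : (Fin N →₀ ℕ) → T) (h1 : t 0 = 1)
    (hmul : ∀ e e', t e * t e' = (∏ i, (e i + e' i).choose (e i)) • t (e + e')) (e : Fin N →₀ ℕ) :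
    D.lift t h1 hmul (D.b e) = t e := by
  simp [lift]

lemma lift_apply {T : Type*} [CommRing T] [Algebra R T] (t : (Fin N →₀ ℕ) → T) (h1 : t 0 = 1)
    (hmul : ∀ e e', t e * t e' = (∏ i, (e i + e' i).choose (e i)) • t (e + e')) (y : P) :
    D.lift t h1 hmul y = (D.b.repr y).sum (fun e r => r • t e) := by
  conv_lhs => rw [← D.b.linearCombination_repr y, Finsupp.linearCombination_apply, map_finsuppSum]
  apply Finsupp.sum_congr
  intro e _
  rw [map_smul, lift_b]


/-- the augmentation -/
noncomputable def eps : P →ₐ[R] R :=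
  D.lift (fun e => if e = 0 then 1 else 0) (by simp) (by
    classical
    intro e e'
    by_cases h : e = 0 ∧ e' = 0
    · obtain ⟨rfl, rfl⟩ := h
      simp
    · have : e + e' ≠ 0 := by
        intro h0
        apply h
        constructor
        · ext i
          have := DFunLike.congr_fun h0 i
          simp only [Finsupp.coe_add, Pi.add_apply, Finsupp.coe_zero, Pi.zero_apply] at this ⊢
          omega
        · ext i
          have := DFunLike.congr_fun h0 i
          simp only [Finsupp.coe_add, Pi.add_apply, Finsupp.coe_zero, Pi.zero_apply] at this ⊢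
          omega
      rw [if_neg this, smul_zero]
      rcases not_and_or.mp h with h | h
      · rw [if_neg h, zero_mul]
      · rw [if_neg h, mul_zero])

lemma eps_apply (y : P) : D.eps y = D.b.repr y 0 := by
  classical
  rw [eps, lift_apply, Finsupp.sum, Finset.sum_eq_single 0]
  · simp
  · intro e _ he
    rw [if_neg he, smul_zero]
  · intro h
    rw [Finsupp.notMem_support_iff.mp h, zero_smul]

lemma mem_aug_iff (y : P) : y ∈ D.aug ↔ D.b.repr y 0 = 0 := by
  classical
  constructor
  · intro hy
    rw [← eps_apply]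
    have hle : D.aug ≤ RingHom.ker D.eps.toRingHom := by
      rw [aug, Ideal.span_le]
      rintro _ ⟨i, n, hn, rfl⟩
      show D.eps (D.x i n) = 0
      rw [eps_apply, D.x_eq, Module.Basis.repr_self, Finsupp.single_apply, if_neg]
      intro h
      have := DFunLike.congr_fun h i
      simp at this
      omega
    exact hle hy
  · intro h0
    rw [← D.b.linearCombination_repr y, Finsupp.linearCombination_apply, Finsupp.sum]
    apply Ideal.sum_mem
    intro e he
    by_cases h : e = 0
    · subst h
      rw [h0, zero_smul]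
      exact Ideal.zero_mem _
    · rw [Algebra.smul_def]
      exact Ideal.mul_mem_left _ _ (D.b_mem_aug h)

end Data

end Groth.Agent.Lib.helper22.DPPoly
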