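import Mathlib
import Groth.Agent.Lib.Helper22.DPPoly

set_option autoImplicit false

namespace Groth.Agent.Lib.helper22.DPPoly

open Finset

section Descent

variable {S R : Type*} [CommRing S] [CommRing R] [Algebra S R]
  {N : ℕ} {PS : Type*} [CommRing PS] [Algebra S PS] (DS : Data S N PS)
  {P : Type*} [CommRing P] [Algebra R P] [Algebra S P] [IsScalarTower S R P] (D : Data R N P)

/-- the comparison homomorphism from a divided power polynomial algebra over `S` to one over an
`S`-algebra `R` -/
noncomputable def psi : PS →ₐ[S] P := DS.lift (fun e => D.b e) D.one_eq.symm D.b_mul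

omit [Algebra S R] [IsScalarTower S R P] in
lemma psi_b (e : Fin N →₀ ℕ) : psi DS D (DS.b e) = D.b e := DS.lift_b _ _ _ e

omit [Algebra S R] [IsScalarTower S R P] in
lemma psi_x (i : Fin N) (n : ℕ) : psi DS D (DS.x i n) = D.x i n := by
  rw [DS.x_eq, psi_b, D.x_eq]

lemma repr_psi (y : PS) (e₀ : Fin N →₀ ℕ) :
    D.b.repr (psi DS D y) e₀ = algebraMap S R (DS.b.repr y e₀) := by
  classical
  rw [psi, DS.lift_apply, Finsupp.sum, map_sum, Finsupp.finsetSum_apply, Finset.sum_eq_single e₀]
  · rw [← algebraMap_smul R (DS.b.repr y e₀) (D.b e₀), map_smul, Module.Basis.repr_self,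
      Finsupp.smul_apply, Finsupp.single_eq_same, smul_eq_mul, mul_one]
  · intro e _ he
    rw [← algebraMap_smul R (DS.b.repr y e) (D.b e), map_smul, Module.Basis.repr_self,
      Finsupp.smul_apply, Finsupp.single_eq_of_ne he.symm, smul_zero]
  · intro h
    rw [Finsupp.notMem_support_iff.mp h, zero_smul, map_zero, Finsupp.coe_zero, Pi.zero_apply]

lemma psi_surjective (hπ : Function.Surjective (algebraMap S R)) :
    Function.Surjective (psi DS D) := by
  intro y
  rw [← AlgHom.mem_range, ← D.b.linearCombination_repr y, Finsupp.linearCombination_apply,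
    Finsupp.sum]
  apply Subalgebra.sum_mem
  intro e _
  obtain ⟨s, hs⟩ := hπ (D.b.repr y e)
  refine ⟨s • DS.b e, ?_⟩
  show psi DS D (s • DS.b e) = _
  rw [map_smul, psi_b, ← hs, algebraMap_smul]

omit [Algebra S R] [IsScalarTower S R P] in
lemma map_aug : DS.aug.map (psi DS D).toRingHom = D.aug := by
  rw [Data.aug, Ideal.map_span, Data.aug]
  congr 1
  ext y
  constructor
  · rintro ⟨_, ⟨i, n, hn, rfl⟩, rfl⟩
    exact ⟨i, n, hn, psi_x DS D i n⟩
  · rintro ⟨i, n, hn, rfl⟩
    exact ⟨_, ⟨i, n, hn, rfl⟩, psi_x DS D i n⟩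

lemma ker_inf_aug_eq :
    RingHom.ker (psi DS D).toRingHom ⊓ DS.aug =
      DS.aug • (RingHom.ker (algebraMap S R)).map (algebraMap S PS) := by
  classical
  apply le_antisymm
  · rintro y ⟨hyk, hya⟩
    have hyk' : psi DS D y = 0 := hyk
    have hr : ∀ e, algebraMap S R (DS.b.repr y e) = 0 := by
      intro e
      rw [← repr_psi DS D y e, hyk', map_zero, Finsupp.coe_zero, Pi.zero_apply]
    have h0 := (DS.mem_aug_iff y).mp hya
    rw [← DS.b.linearCombination_repr y, Finsupp.linearCombination_apply, Finsupp.sum]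
    apply Ideal.sum_mem
    intro e _
    by_cases he : e = 0
    · subst he
      rw [h0, zero_smul]
      exact Ideal.zero_mem _
    · rw [Algebra.smul_def ((DS.b.repr y) e) (DS.b e), mul_comm (algebraMap S PS _) (DS.b e),
        Ideal.smul_eq_mul]
      exact Ideal.mul_mem_mul (DS.b_mem_aug he)
        (Ideal.mem_map_of_mem (algebraMap S PS) ((RingHom.mem_ker).mpr (hr e)))
  · rw [Ideal.smul_eq_mul, Ideal.mul_le]
    intro a ha j hj
    refine ⟨?_, Ideal.mul_mem_right _ _ ha⟩
    have hle : (RingHom.ker (algebraMap S R)).map (algebraMap S PS) ≤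
        RingHom.ker (psi DS D).toRingHom := by
      rw [Ideal.map_le_iff_le_comap]
      intro s hs
      show psi DS D (algebraMap S PS s) = 0
      rw [AlgHom.commutes, IsScalarTower.algebraMap_apply S R P, (RingHom.mem_ker).mp hs, map_zero]
    exact Ideal.mul_mem_left _ _ (hle hj)

/-- **Descent** of the divided power structure along a surjection of base rings. -/
theorem descent (hπ : Function.Surjective (algebraMap S R))
    (γS : DividedPowers DS.aug) (hγS : ∀ i n, γS.dpow n (DS.x i 1) = DS.x i n) :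
    ∃ γ : DividedPowers D.aug, ∀ i n, γ.dpow n (D.x i 1) = D.x i n := by
  have hsub : γS.IsSubDPIdeal (RingHom.ker (psi DS D).toRingHom ⊓ DS.aug) := by
    rw [ker_inf_aug_eq]
    exact (DividedPowers.SubDPIdeal.prod (hI := γS) _).toIsSubDPIdeal
  have hsurj : Function.Surjective (psi DS D).toRingHom := psi_surjective DS D hπ
  let γ : DividedPowers D.aug :=
    DividedPowers.Quotient.OfSurjective.dividedPowers γS hsurj (map_aug DS D).symm hsub
  refine ⟨γ, fun i n => ?_⟩
  have h := DividedPowers.Quotient.OfSurjective.dpow_apply γS hsurj (map_aug DS D).symm hsub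
    (n := n) (DS.x_mem_aug i le_rfl)
  simp only [AlgHom.toRingHom_eq_coe, RingHom.coe_coe] at h
  rw [psi_x, hγS, psi_x] at h
  exact h

end Descent

end Groth.Agent.Lib.helper22.DPPoly
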