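import Mathlib
import Groth.Agent.Lib.Helper22.DPPoly
import Groth.Agent.Lib.Helper22.DPPullback

set_option autoImplicit false

namespace Groth.Agent.Lib.helper22.DPPoly

open Finset

section Rat

variable {S K : Type*} [CommRing S] [CommRing K] [Algebra ℚ K] [Algebra S K]
  {N : ℕ}

/-- the augmentation ideal of the polynomial ring -/
noncomputable def augQ (K : Type*) [CommRing K] (N : ℕ) : Ideal (MvPolynomial (Fin N) K) :=
  Ideal.span (Set.range MvPolynomial.X)

omit [Algebra ℚ K] in
lemma X_mem_augQ (i : Fin N) : (MvPolynomial.X i : MvPolynomial (Fin N) K) ∈ augQ K N :=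
  Ideal.subset_span ⟨i, rfl⟩

open Classical in
/-- the divided powers on the augmentation ideal of a polynomial ring over a ℚ-algebra -/
noncomputable def δQ (K : Type*) [CommRing K] [Algebra ℚ K] (N : ℕ) : DividedPowers (augQ K N) :=
  DividedPowers.RatAlgebra.dividedPowers (augQ K N)

/-- divided monomials -/
noncomputable def xi (K : Type*) [CommRing K] [Algebra ℚ K] {N : ℕ} (e : Fin N →₀ ℕ) :
    MvPolynomial (Fin N) K :=
  ∏ i, (δQ K N).dpow (e i) (MvPolynomial.X i)

lemma xi_zero : xi K (0 : Fin N →₀ ℕ) = 1 := by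
  simp [xi, (δQ K N).dpow_zero (X_mem_augQ _)]

lemma xi_mul (e e' : Fin N →₀ ℕ) :
    xi K e * xi K e' = (∏ i, (e i + e' i).choose (e i)) • xi K (e + e') := by
  rw [xi, xi, xi, ← Finset.prod_mul_distrib, nsmul_eq_mul, Nat.cast_prod, ← Finset.prod_mul_distrib]
  apply Finset.prod_congr rfl
  intro i _
  rw [(δQ K N).mul_dpow (X_mem_augQ i)]
  rfl

lemma xi_single (i : Fin N) (n : ℕ) : xi K (Finsupp.single i n) = (δQ K N).dpow n (MvPolynomial.X i) := by
  rw [xi, Finset.prod_eq_single i]
  · simp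
  · intro j _ hji
    rw [Finsupp.single_eq_of_ne hji, (δQ K N).dpow_zero (X_mem_augQ j)]
  · intro h; exact absurd (Finset.mem_univ i) h

/-- the rational coefficient of the divided monomial -/
noncomputable def qcoef {N : ℕ} (e : Fin N →₀ ℕ) : ℚ := ∏ i, ((e i).factorial : ℚ)⁻¹

lemma qcoef_ne_zero (e : Fin N →₀ ℕ) : qcoef e ≠ 0 := by
  rw [qcoef]
  apply Finset.prod_ne_zero_iff.mpr
  intro i _
  exact inv_ne_zero (Nat.cast_ne_zero.mpr (Nat.factorial_ne_zero _))

lemma xi_eq (e : Fin N →₀ ℕ) : xi K e = qcoef e • MvPolynomial.monomial e (1 : K) := by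
  rw [xi, qcoef, MvPolynomial.monomial_eq, Finsupp.prod_fintype _ _ (fun i => pow_zero _)]
  rw [map_one, one_mul]
  have : ∀ i : Fin N, (δQ K N).dpow (e i) (MvPolynomial.X i) =
      ((e i).factorial : ℚ)⁻¹ • (MvPolynomial.X i : MvPolynomial (Fin N) K) ^ (e i) := by
    intro i
    rw [DividedPowers.RatAlgebra.dpow_eq_inv_fact_smul _ _ (X_mem_augQ i), Ring.inverse_eq_inv']
  simp_rw [this]
  rw [Finset.prod_smul]

lemma coeff_xi (e e₀ : Fin N →₀ ℕ) :
    MvPolynomial.coeff e₀ (xi K e) = if e = e₀ then algebraMap ℚ K (qcoef e) else 0 := by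
  classical
  rw [xi_eq, MvPolynomial.coeff_smul, MvPolynomial.coeff_monomial]
  split_ifs
  · rw [Algebra.smul_def, mul_one]
  · rw [smul_zero]


variable {P : Type*} [CommRing P] [Algebra S P] (D : Data S N P)

/-- the embedding of the abstract divided power polynomial algebra into the polynomial ring over
a ℚ-algebra -/
noncomputable def phi (K : Type*) [CommRing K] [Algebra ℚ K] [Algebra S K] :
    P →ₐ[S] MvPolynomial (Fin N) K :=
  D.lift (xi K) xi_zero xi_mul

lemma phi_b (e : Fin N →₀ ℕ) : phi D K (D.b e) = xi K e := D.lift_b _ _ _ e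

lemma phi_x (i : Fin N) (n : ℕ) : phi D K (D.x i n) = (δQ K N).dpow n (MvPolynomial.X i) := by
  rw [D.x_eq, phi_b, xi_single]

lemma coeff_phi (y : P) (e₀ : Fin N →₀ ℕ) :
    MvPolynomial.coeff e₀ (phi D K y) =
      algebraMap S K (D.b.repr y e₀) * algebraMap ℚ K (qcoef e₀) := by
  classical
  rw [phi, D.lift_apply, Finsupp.sum, MvPolynomial.coeff_sum, Finset.sum_eq_single e₀]
  · rw [MvPolynomial.coeff_smul, coeff_xi, if_pos rfl, Algebra.smul_def]
  · intro e _ he
    rw [MvPolynomial.coeff_smul, coeff_xi, if_neg he, smul_zero]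
  · intro h
    rw [Finsupp.notMem_support_iff.mp h, zero_smul, MvPolynomial.coeff_zero]

lemma phi_injective (hSK : Function.Injective (algebraMap S K)) :
    Function.Injective (phi D K) := by
  rw [injective_iff_map_eq_zero]
  intro y hy
  apply D.b.repr.injective
  ext e₀
  have h := coeff_phi (K := K) D y e₀
  rw [hy, MvPolynomial.coeff_zero] at h
  have hu : IsUnit (algebraMap ℚ K (qcoef e₀)) := (isUnit_iff_ne_zero.mpr (qcoef_ne_zero e₀)).map _
  have h2 : algebraMap S K (D.b.repr y e₀) = 0 := (hu.mul_left_eq_zero).mp h.symm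
  rw [map_zero, Finsupp.coe_zero, Pi.zero_apply]
  exact hSK (by rw [h2, map_zero])


lemma phi_mem_augQ {y : P} (hy : y ∈ D.aug) : phi D K y ∈ augQ K N := by
  have hle : D.aug ≤ (augQ K N).comap (phi D K).toRingHom := by
    rw [Data.aug, Ideal.span_le]
    rintro _ ⟨i, n, hn, rfl⟩
    show phi D K (D.x i n) ∈ augQ K N
    rw [phi_x]
    exact (δQ K N).dpow_mem (by omega) (X_mem_augQ i)
  exact hle hy

/-- the key integrality statement -/
lemma exists_preimage_dpow {y : P} (hy : y ∈ D.aug) :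
    ∀ n : ℕ, ∃ z : P, (n ≠ 0 → z ∈ D.aug) ∧ phi D K z = (δQ K N).dpow n (phi D K y) := by
  classical
  rw [Data.aug] at hy
  induction hy using Submodule.span_induction with
  | mem y hy =>
    obtain ⟨i, m, hm, rfl⟩ := hy
    intro n
    refine ⟨(Nat.uniformBell n m : P) * D.x i (n * m), fun hn => ?_, ?_⟩
    · exact Ideal.mul_mem_left _ _ (D.x_mem_aug i (Nat.one_le_iff_ne_zero.mpr
        (Nat.mul_ne_zero hn (by omega))))
    · rw [map_mul, map_natCast, phi_x, phi_x, (δQ K N).dpow_comp (by omega) (X_mem_augQ i)]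
  | zero =>
    intro n
    by_cases hn : n = 0
    · subst hn
      refine ⟨1, fun h => absurd rfl h, ?_⟩
      rw [map_one, map_zero, (δQ K N).dpow_zero (Ideal.zero_mem _)]
    · refine ⟨0, fun _ => Ideal.zero_mem _, ?_⟩
      rw [map_zero, (δQ K N).dpow_eval_zero hn]
  | add y y' hy hy' ih ih' =>
    intro n
    choose g hg using ih
    choose g' hg' using ih'
    refine ⟨∑ k ∈ Finset.HasAntidiagonal.antidiagonal n, g k.1 * g' k.2, fun hn => ?_, ?_⟩
    · apply Ideal.sum_mem
      intro k hk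
      rw [Finset.HasAntidiagonal.mem_antidiagonal] at hk
      by_cases h1 : k.1 = 0
      · exact Ideal.mul_mem_left _ _ ((hg' k.2).1 (by omega))
      · exact Ideal.mul_mem_right _ _ ((hg k.1).1 h1)
    · rw [map_add, (δQ K N).dpow_add (phi_mem_augQ D hy) (phi_mem_augQ D hy'), map_sum]
      apply Finset.sum_congr rfl
      intro k _
      rw [map_mul, (hg k.1).2, (hg' k.2).2]
  | smul a y hy ih =>
    intro n
    obtain ⟨z, hz, hz'⟩ := ih n
    refine ⟨a ^ n * z, fun hn => Ideal.mul_mem_left _ _ (hz hn), ?_⟩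
    rw [smul_eq_mul, map_mul, map_mul, map_pow, hz', (δQ K N).dpow_mul (phi_mem_augQ D hy)]

/-- **Torsion-free case**: over a ring `S` embedded in a ℚ-algebra, the augmentation ideal of the
abstract divided power polynomial algebra has divided powers with `γ_n (x i 1) = x i n`. -/
theorem exists_dp_of_rat (hSK : Function.Injective (algebraMap S K)) :
    ∃ γ : DividedPowers D.aug, ∀ i n, γ.dpow n (D.x i 1) = D.x i n := by
  obtain ⟨γ, hγ⟩ := exists_dividedPowers_of_injective (phi D K).toRingHom (phi_injective D hSK)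
    D.aug (δQ K N) (fun y hy => phi_mem_augQ D hy) (fun y hy n hn => by
      obtain ⟨z, hz, hz'⟩ := exists_preimage_dpow (K := K) D hy n
      exact ⟨z, hz hn, hz'⟩)
  refine ⟨γ, fun i n => ?_⟩
  apply phi_injective D hSK
  have := hγ n (D.x i 1) (D.x_mem_aug i le_rfl)
  simp only [AlgHom.toRingHom_eq_coe, RingHom.coe_coe] at this
  rw [this, phi_x, phi_x, (δQ K N).dpow_one (X_mem_augQ i)]

end Rat

end Groth.Agent.Lib.helper22.DPPoly
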