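import Mathlib
import Groth.Agent.Lib.Helper22.DPPolyRat

set_option autoImplicit false

namespace Groth.Agent.Lib.helper22.DPPoly

open Finset

section Model

variable (S K : Type*) [CommRing S] [CommRing K] [Algebra ℚ K] [Algebra S K] (N : ℕ)

/-- the `S`-span of the divided monomials, as a subalgebra of the polynomial ring over `K` -/
noncomputable def model : Subalgebra S (MvPolynomial (Fin N) K) :=
  Submodule.toSubalgebra (Submodule.span S (Set.range (xi K (N := N))))
    (by rw [← xi_zero (K := K) (N := N)]; exact Submodule.subset_span ⟨0, rfl⟩)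
    (by
      intro y z hy hz
      have h := Submodule.mul_mem_mul hy hz
      rw [Submodule.span_mul_span] at h
      refine (Submodule.span_le.mpr ?_) h
      rintro _ ⟨_, ⟨e, rfl⟩, _, ⟨e', rfl⟩, rfl⟩
      show xi K e * xi K e' ∈ _
      rw [xi_mul]
      exact Submodule.smul_of_tower_mem _ _ (Submodule.subset_span ⟨_, rfl⟩))

variable {S K N}

lemma mem_model_iff (y : MvPolynomial (Fin N) K) :
    y ∈ model S K N ↔ y ∈ Submodule.span S (Set.range (xi K (N := N))) := Iff.rfl

lemma xi_mem_model (e : Fin N →₀ ℕ) : xi K e ∈ model S K N :=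
  Submodule.subset_span ⟨e, rfl⟩

/-- the divided monomials as elements of the model -/
noncomputable def v (S K : Type*) [CommRing S] [CommRing K] [Algebra ℚ K] [Algebra S K] {N : ℕ}
    (e : Fin N →₀ ℕ) : model S K N := ⟨xi K e, xi_mem_model e⟩

lemma coeff_sum_xi (l : (Fin N →₀ ℕ) →₀ S) (e₀ : Fin N →₀ ℕ) :
    MvPolynomial.coeff e₀ (l.sum (fun e r => r • xi K e)) =
      algebraMap S K (l e₀) * algebraMap ℚ K (qcoef e₀) := by
  classical
  rw [Finsupp.sum, MvPolynomial.coeff_sum, Finset.sum_eq_single e₀]
  · rw [MvPolynomial.coeff_smul, coeff_xi, if_pos rfl, Algebra.smul_def]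
  · intro e _ he
    rw [MvPolynomial.coeff_smul, coeff_xi, if_neg he, smul_zero]
  · intro h
    rw [Finsupp.notMem_support_iff.mp h, zero_smul, MvPolynomial.coeff_zero]

lemma linearIndependent_xi (hSK : Function.Injective (algebraMap S K)) :
    LinearIndependent S (xi K (N := N)) := by
  rw [linearIndependent_iff]
  intro l hl
  ext e₀
  rw [Finsupp.linearCombination_apply] at hl
  have h := coeff_sum_xi (K := K) l e₀
  rw [hl, MvPolynomial.coeff_zero] at h
  have hu : IsUnit (algebraMap ℚ K (qcoef e₀)) := (isUnit_iff_ne_zero.mpr (qcoef_ne_zero e₀)).map _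
  have h2 : algebraMap S K (l e₀) = 0 := (hu.mul_left_eq_zero).mp h.symm
  rw [Finsupp.coe_zero, Pi.zero_apply]
  exact hSK (by rw [h2, map_zero])

lemma linearIndependent_v (hSK : Function.Injective (algebraMap S K)) :
    LinearIndependent S (v S K (N := N)) := by
  apply LinearIndependent.of_comp (model S K N).val.toLinearMap
  exact linearIndependent_xi hSK

lemma span_v : ⊤ ≤ Submodule.span S (Set.range (v S K (N := N))) := by
  rintro ⟨y, hy⟩ -
  rw [mem_model_iff] at hy
  have : ∀ y (hy : y ∈ Submodule.span S (Set.range (xi K (N := N)))),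
      (⟨y, hy⟩ : model S K N) ∈ Submodule.span S (Set.range (v S K (N := N))) := by
    intro y hy
    induction hy using Submodule.span_induction with
    | mem y hy =>
      obtain ⟨e, rfl⟩ := hy
      exact Submodule.subset_span ⟨e, rfl⟩
    | zero => exact Submodule.zero_mem _
    | add y z hy hz ihy ihz => exact Submodule.add_mem _ ihy ihz
    | smul a y hy ih => exact Submodule.smul_mem _ a ih
  exact this y hy

/-- the basis of divided monomials of the model -/
noncomputable def modelBasis (hSK : Function.Injective (algebraMap S K)) :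
    Module.Basis (Fin N →₀ ℕ) S (model S K N) :=
  Module.Basis.mk (linearIndependent_v hSK) span_v

lemma modelBasis_apply (hSK : Function.Injective (algebraMap S K)) (e : Fin N →₀ ℕ) :
    modelBasis hSK e = v S K e := by
  rw [modelBasis, Module.Basis.mk_apply]

/-- the model as abstract divided power polynomial algebra data -/
noncomputable def modelData (hSK : Function.Injective (algebraMap S K)) :
    Data S N (model S K N) where
  x i n := v S K (Finsupp.single i n)
  hx0 i := by
    apply Subtype.ext
    show xi K (Finsupp.single i 0) = 1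
    rw [Finsupp.single_zero, xi_zero]
  hxmul i n m := by
    apply Subtype.ext
    show xi K (Finsupp.single i n) * xi K (Finsupp.single i m) =
      (((n + m).choose n : model S K N) : MvPolynomial (Fin N) K) * xi K (Finsupp.single i (n + m))
    rw [xi_single, xi_single, xi_single, (δQ K N).mul_dpow (X_mem_augQ i)]
    simp
  b := modelBasis hSK
  hb e := by
    rw [modelBasis_apply]
    apply Subtype.ext
    show xi K e = (model S K N).val (e.prod fun i k => v S K (Finsupp.single i k))
    rw [map_finsuppProd, Finsupp.prod_fintype]
    · rw [xi]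
      apply Finset.prod_congr rfl
      intro i _
      show _ = xi K (Finsupp.single i (e i))
      rw [xi_single]
    · intro i
      show xi K (Finsupp.single i 0) = 1
      rw [Finsupp.single_zero, xi_zero]

end Model

end Groth.Agent.Lib.helper22.DPPoly
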