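import Mathlib
import Groth.Agent.Lib.Helper22.DPPolyModel
import Groth.Agent.Lib.Helper22.DPPolyDescent

set_option autoImplicit false

namespace Groth.Agent.Lib.helper22.DPPoly

open Finset

section Main

variable {R : Type*} [CommRing R] {N : ℕ} {P : Type*} [CommRing P] [Algebra R P] (D : Data R N P)

/-- **Existence** of the divided power structure on the augmentation ideal of an abstract divided
power polynomial algebra over an arbitrary ring. -/
theorem exists_dp : ∃ γ : DividedPowers D.aug, ∀ i n, γ.dpow n (D.x i 1) = D.x i n := by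
  let algSK : Algebra (MvPolynomial R ℤ) (MvPolynomial R ℚ) :=
    (MvPolynomial.map (Int.castRingHom ℚ)).toAlgebra
  have hSK : Function.Injective (algebraMap (MvPolynomial R ℤ) (MvPolynomial R ℚ)) :=
    MvPolynomial.map_injective _ Int.cast_injective
  let algSR : Algebra (MvPolynomial R ℤ) R :=
    (MvPolynomial.eval₂Hom (Int.castRingHom R) id).toAlgebra
  have hπ : Function.Surjective (algebraMap (MvPolynomial R ℤ) R) := by
    intro r
    refine ⟨MvPolynomial.X r, ?_⟩
    show MvPolynomial.eval₂Hom (Int.castRingHom R) id (MvPolynomial.X r) = r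
    simp
  let algSP : Algebra (MvPolynomial R ℤ) P :=
    ((algebraMap R P).comp (algebraMap (MvPolynomial R ℤ) R)).toAlgebra
  have : IsScalarTower (MvPolynomial R ℤ) R P := IsScalarTower.of_algebraMap_eq (fun _ => rfl)
  obtain ⟨γS, hγS⟩ := exists_dp_of_rat (K := MvPolynomial R ℚ) (modelData (N := N) hSK) hSK
  exact descent (modelData (N := N) hSK) D hπ γS hγS

/-- **Uniqueness** -/
theorem dp_unique (γ γ' : DividedPowers D.aug) (hγ : ∀ i n, γ.dpow n (D.x i 1) = D.x i n)
    (hγ' : ∀ i n, γ'.dpow n (D.x i 1) = D.x i n) : γ = γ' := by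
  apply DividedPowers.dpow_eq_from_gens γ' γ (S := {y : P | ∃ (i : Fin N) (n : ℕ), 1 ≤ n ∧ y = D.x i n})
    rfl
  rintro m _ ⟨i, n, hn, rfl⟩
  have h1 : γ.dpow m (D.x i n) = (m.uniformBell n : P) * D.x i (m * n) := by
    rw [← hγ i n, γ.dpow_comp (by omega) (D.x_mem_aug i le_rfl), hγ]
  have h2 : γ'.dpow m (D.x i n) = (m.uniformBell n : P) * D.x i (m * n) := by
    rw [← hγ' i n, γ'.dpow_comp (by omega) (D.x_mem_aug i le_rfl), hγ']
  rw [h1, h2]

end Main

end Groth.Agent.Lib.helper22.DPPoly
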