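import Mathlib
import Groth.Agent.Lib.Helper22.DPPolyMain

set_option autoImplicit false

namespace Groth.Agent.Lib.helper22.DPPoly



/-- a family of maps satisfying all axioms of divided powers except the product rule and the
composition rule -/
structure PreDP {A : Type*} [CommRing A] (I : Ideal A) (d : ℕ → A → A) : Prop where
  zero : ∀ x ∈ I, d 0 x = 1
  one : ∀ x ∈ I, d 1 x = x
  mem : ∀ (n : ℕ) (x : A), n ≠ 0 → x ∈ I → d n x ∈ I
  add : ∀ (n : ℕ) (x y : A), x ∈ I → y ∈ I →
    d n (x + y) = (Finset.HasAntidiagonal.antidiagonal n).sum fun k => d k.1 x * d k.2 y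
  mul : ∀ (n : ℕ) (a x : A), x ∈ I → d n (a * x) = a ^ n * d n x

/-- the product rule and the composition rule at an element -/
def Good {A : Type*} [CommRing A] (d : ℕ → A → A) (x : A) : Prop :=
  (∀ m n : ℕ, d m x * d n x = (m + n).choose m * d (m + n) x) ∧
    (∀ m n : ℕ, n ≠ 0 → d m (d n x) = Nat.uniformBell m n * d (m * n) x)

namespace PreDP

variable {A : Type*} [CommRing A] {I : Ideal A} {d : ℕ → A → A} (h : PreDP I d)
include h

lemma eval_zero {n : ℕ} (hn : n ≠ 0) : d n 0 = 0 := by
  have := h.mul n 0 0 I.zero_mem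
  rwa [zero_mul, zero_pow hn, zero_mul] at this

lemma good_zero : Good d 0 := by
  constructor
  · intro m n
    by_cases hmn : m + n = 0
    · obtain ⟨rfl, rfl⟩ : m = 0 ∧ n = 0 := by omega
      simp [h.zero 0 I.zero_mem]
    · rw [h.eval_zero hmn, mul_zero]
      by_cases hm : m = 0
      · rw [h.eval_zero (n := n) (by omega), mul_zero]
      · rw [h.eval_zero hm, zero_mul]
  · intro m n hn
    rw [h.eval_zero hn]
    by_cases hm : m = 0
    · subst hm
      simp [h.zero 0 I.zero_mem, Nat.uniformBell_zero_left]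
    · rw [h.eval_zero hm, h.eval_zero (Nat.mul_ne_zero hm hn), mul_zero]

lemma good_mul {x : A} (hx : x ∈ I) (hg : Good d x) (a : A) : Good d (a * x) := by
  constructor
  · intro m n
    rw [h.mul _ _ _ hx, h.mul _ _ _ hx, h.mul _ _ _ hx, mul_mul_mul_comm, hg.1, pow_add]
    ring
  · intro m n hn
    rw [h.mul _ _ _ hx, h.mul _ _ _ (h.mem n x hn hx), hg.2 m n hn, h.mul _ _ _ hx, ← pow_mul,
      mul_comm n m]
    ring

end PreDP


section Hom

variable {R : Type*} [CommRing R] {N : ℕ} {P : Type*} [CommRing P] [Algebra R P] (D : Data R N P)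
  (ε : DividedPowers D.aug) (hε : ∀ i n, ε.dpow n (D.x i 1) = D.x i n)
  {A : Type*} [CommRing A] [Algebra R A] {I : Ideal A} {d : ℕ → A → A} (h : PreDP I d)
  (z : Fin N → A) (hzI : ∀ i, z i ∈ I) (hz : ∀ i, Good d (z i))

/-- the algebra homomorphism from the divided power polynomial algebra sending `X_i^[n]` to
`d n (z i)` -/
noncomputable def homOf : P →ₐ[R] A :=
  D.lift (fun e => ∏ i, d (e i) (z i)) (by simp [h.zero _ (hzI _)]) (by
    intro e e'
    rw [← Finset.prod_mul_distrib, nsmul_eq_mul, Nat.cast_prod, ← Finset.prod_mul_distrib]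
    apply Finset.prod_congr rfl
    intro i _
    rw [(hz i).1]
    rfl)

lemma homOf_b (e : Fin N →₀ ℕ) : homOf D h z hzI hz (D.b e) = ∏ i, d (e i) (z i) :=
  D.lift_b _ _ _ e

lemma homOf_x (i : Fin N) (n : ℕ) : homOf D h z hzI hz (D.x i n) = d n (z i) := by
  rw [D.x_eq, homOf_b, Finset.prod_eq_single i]
  · simp
  · intro j _ hji
    rw [Finsupp.single_eq_of_ne hji, h.zero _ (hzI j)]
  · intro hi; exact absurd (Finset.mem_univ i) hi

lemma homOf_mem {f : P} (hf : f ∈ D.aug) : homOf D h z hzI hz f ∈ I := by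
  have hle : D.aug ≤ I.comap (homOf D h z hzI hz).toRingHom := by
    rw [Data.aug, Ideal.span_le]
    rintro _ ⟨i, n, hn, rfl⟩
    show homOf D h z hzI hz (D.x i n) ∈ I
    rw [homOf_x]
    exact h.mem n _ (by omega) (hzI i)
  exact hle hf

include hε in
lemma dpow_x (i : Fin N) (n a : ℕ) (ha : a ≠ 0) :
    ε.dpow n (D.x i a) = (Nat.uniformBell n a : P) * D.x i (n * a) := by
  rw [← hε i a, ε.dpow_comp ha (D.x_mem_aug i le_rfl), hε]

include hε in
lemma homOf_dpow_basis (r : R) {e : Fin N →₀ ℕ} (he : e ≠ 0) (n : ℕ) :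
    homOf D h z hzI hz (ε.dpow n (r • D.b e)) = d n (homOf D h z hzI hz (r • D.b e)) := by
  obtain ⟨i, hi⟩ : ∃ i, e i ≠ 0 := by
    by_contra hcon
    push Not at hcon
    exact he (Finsupp.ext hcon)
  have hb : r • D.b e = (algebraMap R P r * ∏ j ∈ Finset.univ.erase i, D.x j (e j)) * D.x i (e i) := by
    rw [D.b_eq_prod, ← Finset.mul_prod_erase _ _ (Finset.mem_univ i), Algebra.smul_def]
    ring
  rw [hb, ε.dpow_mul (D.x_mem_aug i (Nat.one_le_iff_ne_zero.mpr hi)), dpow_x D ε hε i n _ hi,
    map_mul, map_mul, map_pow, map_natCast, homOf_x, map_mul (homOf D h z hzI hz) _ (D.x i (e i)),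
    homOf_x, h.mul _ _ _ (h.mem _ _ hi (hzI i)), (hz i).2 n _ hi]

include hε in
/-- the homomorphism is compatible with the divided powers -/
theorem homOf_dpow {f : P} (hf : f ∈ D.aug) (n : ℕ) :
    homOf D h z hzI hz (ε.dpow n f) = d n (homOf D h z hzI hz f) := by
  classical
  have h0 := (D.mem_aug_iff f).mp hf
  have key : ∀ (s : Finset (Fin N →₀ ℕ)), (∀ e ∈ s, e ≠ 0) → ∀ n : ℕ,
      homOf D h z hzI hz (ε.dpow n (∑ e ∈ s, D.b.repr f e • D.b e)) =
        d n (homOf D h z hzI hz (∑ e ∈ s, D.b.repr f e • D.b e)) := by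
    intro s
    induction s using Finset.induction_on with
    | empty =>
      intro _ n
      rw [Finset.sum_empty, map_zero]
      by_cases hn : n = 0
      · subst hn
        rw [ε.dpow_zero (Ideal.zero_mem _), map_one, h.zero 0 I.zero_mem]
      · rw [ε.dpow_eval_zero hn, map_zero, h.eval_zero hn]
    | insert e s hes ih =>
      intro hs n
      have he : e ≠ 0 := hs e (Finset.mem_insert_self e s)
      have hs' : ∀ e' ∈ s, e' ≠ 0 := fun e' he' => hs e' (Finset.mem_insert_of_mem he')
      have hm1 : D.b.repr f e • D.b e ∈ D.aug := by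
        rw [Algebra.smul_def]
        exact Ideal.mul_mem_left _ _ (D.b_mem_aug he)
      have hm2 : ∑ e' ∈ s, D.b.repr f e' • D.b e' ∈ D.aug := by
        apply Ideal.sum_mem
        intro e' he'
        rw [Algebra.smul_def]
        exact Ideal.mul_mem_left _ _ (D.b_mem_aug (hs' e' he'))
      rw [Finset.sum_insert hes, ε.dpow_add hm1 hm2, map_sum, map_add,
        h.add n _ _ (homOf_mem D h z hzI hz hm1) (homOf_mem D h z hzI hz hm2)]
      apply Finset.sum_congr rfl
      intro k _
      rw [map_mul, homOf_dpow_basis D ε hε h z hzI hz _ he, ih hs']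
  have hsum : f = ∑ e ∈ (D.b.repr f).support, D.b.repr f e • D.b e := by
    conv_lhs => rw [← D.b.linearCombination_repr f, Finsupp.linearCombination_apply, Finsupp.sum]
  have := key (D.b.repr f).support (by
    intro e he hzero
    rw [Finsupp.mem_support_iff, hzero] at he
    exact he h0) n
  rwa [← hsum] at this

include hε h hzI hz in
/-- **the product and composition rules pass to sums** -/
theorem good_sum : Good d (∑ i, z i) := by
  have hf : ∑ i, D.x i 1 ∈ D.aug := Ideal.sum_mem _ (fun i _ => D.x_mem_aug i le_rfl)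
  have hφf : homOf D h z hzI hz (∑ i, D.x i 1) = ∑ i, z i := by
    rw [map_sum]
    apply Finset.sum_congr rfl
    intro i _
    rw [homOf_x, h.one _ (hzI i)]
  constructor
  · intro m n
    rw [← hφf, ← homOf_dpow D ε hε h z hzI hz hf, ← homOf_dpow D ε hε h z hzI hz hf,
      ← homOf_dpow D ε hε h z hzI hz hf, ← map_mul, ε.mul_dpow hf, map_mul, map_natCast]
  · intro m n hn
    rw [← hφf, ← homOf_dpow D ε hε h z hzI hz hf, ← homOf_dpow D ε hε h z hzI hz (ε.dpow_mem hn hf),
      ε.dpow_comp hn hf, map_mul, map_natCast, homOf_dpow D ε hε h z hzI hz hf]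

end Hom

namespace PreDP

variable {A : Type*} [CommRing A] {I : Ideal A} {d : ℕ → A → A} (h : PreDP I d)
include h

/-- the product and composition rules pass to sums of two elements (Roby) -/
theorem good_add {x y : A} (hx : x ∈ I) (hy : y ∈ I) (gx : Good d x) (gy : Good d y) :
    Good d (x + y) := by
  have hSK : Function.Injective (algebraMap ℤ ℚ) := Int.cast_injective
  obtain ⟨ε, hε⟩ := exists_dp (modelData (S := ℤ) (K := ℚ) (N := 2) hSK)
  have := good_sum (modelData (S := ℤ) (K := ℚ) (N := 2) hSK) ε hε h ![x, y]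
    (by intro i; fin_cases i <;> simp [hx, hy]) (by intro i; fin_cases i <;> simp [gx, gy])
  simpa [Fin.sum_univ_two] using this

/-- the product and composition rules on generators imply them everywhere -/
theorem good_of_span {S : Set A} (hS : Ideal.span S = I) (hgood : ∀ x ∈ S, Good d x) :
    ∀ x ∈ I, Good d x := by
  intro x hx
  have hSI : S ⊆ I := hS ▸ Ideal.subset_span
  rw [← hS] at hx
  have : x ∈ I ∧ Good d x := by
    induction hx using Submodule.span_induction with
    | mem y hy => exact ⟨hSI hy, hgood y hy⟩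
    | zero => exact ⟨I.zero_mem, h.good_zero⟩
    | add y y' _ _ ih ih' => exact ⟨I.add_mem ih.1 ih'.1, h.good_add ih.1 ih'.1 ih.2 ih'.2⟩
    | smul a y _ ih => exact ⟨I.mul_mem_left a ih.1, h.good_mul ih.1 ih.2 a⟩
  exact this.2

/-- **divided powers from generators** -/
theorem exists_dividedPowers (h_null : ∀ (n : ℕ) (x : A), x ∉ I → d n x = 0)
    {S : Set A} (hS : Ideal.span S = I) (hgood : ∀ x ∈ S, Good d x) :
    ∃ γ : DividedPowers I, γ.dpow = d := by
  have hg := h.good_of_span hS hgood
  exact ⟨{ dpow := d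
           dpow_null := fun {n x} hx => h_null n x hx
           dpow_zero := fun {x} hx => h.zero x hx
           dpow_one := fun {x} hx => h.one x hx
           dpow_mem := fun {n x} hn hx => h.mem n x hn hx
           dpow_add := fun {n x y} hx hy => h.add n x y hx hy
           dpow_mul := fun {n a x} hx => h.mul n a x hx
           mul_dpow := fun {m n x} hx => (hg x hx).1 m n
           dpow_comp := fun {m n x} hn hx => (hg x hx).2 m n hn }, rfl⟩

end PreDP

end Groth.Agent.Lib.helper22.DPPoly
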