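import Mathlib
import Groth.Agent.Lib.Helper22.DPPolyGen

set_option autoImplicit false

namespace Groth.Agent.Lib.helper22.DPFlat

open Groth.Agent.Lib.helper22.DPPoly

variable {A : Type*} {B : Type*} [CommRing A] [CommRing B] [Algebra A B]
  {I : Ideal A} (γ : DividedPowers I)

/-- the exponential series `Σ b^n γ_n(x) T^n` -/
noncomputable def E (b : B) (x : A) : PowerSeries B :=
  PowerSeries.mk fun n => b ^ n * algebraMap A B (γ.dpow n x)

lemma coeff_E (b : B) (x : A) (n : ℕ) :
    PowerSeries.coeff n (E γ b x) = b ^ n * algebraMap A B (γ.dpow n x) := by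
  rw [E, PowerSeries.coeff_mk]

lemma E_add_left (b b' : B) {x : A} (hx : x ∈ I) : E γ (b + b') x = E γ b x * E γ b' x := by
  ext n
  rw [PowerSeries.coeff_mul, coeff_E, add_pow, Finset.sum_mul,
    Finset.Nat.sum_antidiagonal_eq_sum_range_succ_mk]
  apply Finset.sum_congr rfl
  intro k hk
  rw [Finset.mem_range] at hk
  rw [coeff_E, coeff_E, mul_mul_mul_comm, ← map_mul, γ.mul_dpow hx,
    Nat.add_sub_cancel' (by omega : k ≤ n), map_mul, map_natCast]
  ring

lemma E_add_right (b : B) {x x' : A} (hx : x ∈ I) (hx' : x' ∈ I) :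
    E γ b (x + x') = E γ b x * E γ b x' := by
  ext n
  rw [PowerSeries.coeff_mul, coeff_E, γ.dpow_add hx hx', map_sum, Finset.mul_sum]
  apply Finset.sum_congr rfl
  intro k hk
  rw [Finset.HasAntidiagonal.mem_antidiagonal] at hk
  rw [coeff_E, coeff_E, map_mul, ← hk, pow_add]
  ring

lemma E_smul (a : A) (c : B) {x : A} (hx : x ∈ I) : E γ (a • c) x = E γ c (a * x) := by
  ext n
  rw [coeff_E, coeff_E, γ.dpow_mul hx, map_mul, map_pow, Algebra.smul_def, mul_pow]
  ring

lemma E_zero_left {x : A} (hx : x ∈ I) : E γ (0 : B) x = 1 := by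
  ext n
  rw [coeff_E, PowerSeries.coeff_one]
  split_ifs with hn
  · rw [hn, pow_zero, one_mul, γ.dpow_zero hx, map_one]
  · rw [zero_pow hn, zero_mul]

lemma E_zero_right (b : B) : E γ b 0 = 1 := by
  ext n
  rw [coeff_E, PowerSeries.coeff_one]
  split_ifs with hn
  · rw [hn, pow_zero, one_mul, γ.dpow_zero I.zero_mem, map_one]
  · rw [γ.dpow_eval_zero hn, map_zero, mul_zero]

lemma E_sum_left {κ : Type*} (s : Finset κ) (b : κ → B) {x : A} (hx : x ∈ I) :
    E γ (∑ j ∈ s, b j) x = ∏ j ∈ s, E γ (b j) x := by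
  classical
  induction s using Finset.induction_on with
  | empty => rw [Finset.sum_empty, Finset.prod_empty, E_zero_left γ hx]
  | insert j s hj ih => rw [Finset.sum_insert hj, Finset.prod_insert hj, E_add_left γ _ _ hx, ih]

lemma E_sum_right {ι : Type*} (s : Finset ι) (b : B) (x : ι → A) (hx : ∀ i ∈ s, x i ∈ I) :
    E γ b (∑ i ∈ s, x i) = ∏ i ∈ s, E γ b (x i) := by
  classical
  induction s using Finset.induction_on with
  | empty => rw [Finset.sum_empty, Finset.prod_empty, E_zero_right]
  | insert i s hi ih =>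
    rw [Finset.sum_insert hi, Finset.prod_insert hi,
      E_add_right γ _ (hx i (Finset.mem_insert_self i s))
        (Ideal.sum_mem _ (fun j hj => hx j (Finset.mem_insert_of_mem hj))),
      ih (fun j hj => hx j (Finset.mem_insert_of_mem hj))]

lemma E_neg_mul (b : B) {x : A} (hx : x ∈ I) : E γ (-b) x * E γ b x = 1 := by
  rw [← E_add_left γ _ _ hx, neg_add_cancel, E_zero_left γ hx]

/-- a trivial relation has trivial exponential -/
theorem prod_E_eq_one [Module.Flat A B] {ι : Type*} [Fintype ι] (b : ι → B) (x : ι → A)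
    (hx : ∀ i, x i ∈ I) (h0 : ∑ i, x i • b i = 0) : ∏ i, E γ (b i) (x i) = 1 := by
  obtain ⟨k, a, c, hbc, hxa⟩ := Module.Flat.isTrivialRelation_of_sum_smul_eq_zero (R := A) (M := B) (f := x) (x := b) h0
  have h1 : ∀ i, E γ (b i) (x i) = ∏ j, E γ (c j) (a i j * x i) := by
    intro i
    rw [hbc i, E_sum_left γ _ _ (hx i)]
    apply Finset.prod_congr rfl
    intro j _
    rw [E_smul γ _ _ (hx i)]
  simp_rw [h1]
  rw [Finset.prod_comm]
  apply Finset.prod_eq_one
  intro j _
  rw [← E_sum_right γ _ _ _ (fun i _ => I.mul_mem_left _ (hx i))]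
  have : ∑ i, a i j * x i = 0 := by
    rw [← hxa j]
    exact Finset.sum_congr rfl (fun i _ => mul_comm _ _)
  rw [this, E_zero_right]

/-- the exponential of a representation depends only on the represented element -/
theorem prod_E_eq [Module.Flat A B] {ι ι' : Type*} [Fintype ι] [Fintype ι'] (b : ι → B) (x : ι → A)
    (hx : ∀ i, x i ∈ I) (b' : ι' → B) (x' : ι' → A) (hx' : ∀ i, x' i ∈ I)
    (h : ∑ i, x i • b i = ∑ i, x' i • b' i) :
    ∏ i, E γ (b i) (x i) = ∏ i, E γ (b' i) (x' i) := by
  have h1 := prod_E_eq_one γ (Sum.elim b (fun i => -b' i)) (Sum.elim x x')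
    (by rintro (i | i) <;> simp [hx, hx'])
    (by
      rw [Fintype.sum_sum_type]
      simp only [Sum.elim_inl, Sum.elim_inr, smul_neg, Finset.sum_neg_distrib]
      rw [h, add_neg_cancel])
  rw [Fintype.prod_sum_type] at h1
  simp only [Sum.elim_inl, Sum.elim_inr] at h1
  calc ∏ i, E γ (b i) (x i)
      = (∏ i, E γ (b i) (x i)) * ∏ i, (E γ (-b' i) (x' i) * E γ (b' i) (x' i)) := by
        rw [Finset.prod_eq_one (fun i _ => E_neg_mul γ (b' i) (hx' i)), mul_one]
    _ = ((∏ i, E γ (b i) (x i)) * ∏ i, E γ (-b' i) (x' i)) * ∏ i, E γ (b' i) (x' i) := by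
        rw [Finset.prod_mul_distrib, mul_assoc]
    _ = ∏ i, E γ (b' i) (x' i) := by rw [h1, one_mul]


/-- a representation of an element of `IB` as `Σ x_i • b_i` with `x_i ∈ I` -/
structure Rep (I : Ideal A) (z : B) where
  ι : Type
  [inst : Fintype ι]
  b : ι → B
  x : ι → A
  hx : ∀ i, x i ∈ I
  sum_eq : ∑ i, x i • b i = z

attribute [instance] Rep.inst

namespace Rep

variable {γ}

lemma mem_map {z : B} (r : Rep I z) : z ∈ I.map (algebraMap A B) := by
  rw [← r.sum_eq]
  apply Ideal.sum_mem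
  intro i _
  rw [Algebra.smul_def]
  exact Ideal.mul_mem_right _ _ (Ideal.mem_map_of_mem _ (r.hx i))

variable (γ) in
/-- the exponential of a representation -/
noncomputable def exp {z : B} (r : Rep I z) : PowerSeries B := ∏ i, E γ (r.b i) (r.x i)

/-- sum of representations -/
def add {z z' : B} (r : Rep I z) (r' : Rep I z') : Rep I (z + z') where
  ι := r.ι ⊕ r'.ι
  b := Sum.elim r.b r'.b
  x := Sum.elim r.x r'.x
  hx := by rintro (i | i) <;> simp [r.hx, r'.hx]
  sum_eq := by rw [Fintype.sum_sum_type]; simp [r.sum_eq, r'.sum_eq]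

lemma exp_add {z z' : B} (r : Rep I z) (r' : Rep I z') :
    (r.add r').exp γ = r.exp γ * r'.exp γ := by
  rw [exp, exp, exp]
  show ∏ i : r.ι ⊕ r'.ι, _ = _
  rw [Fintype.prod_sum_type]
  rfl

/-- multiple of a representation -/
def smul (c : B) {z : B} (r : Rep I z) : Rep I (c * z) where
  ι := r.ι
  b := fun i => c * r.b i
  x := r.x
  hx := r.hx
  sum_eq := by
    rw [show c * z = c * ∑ i, r.x i • r.b i from by rw [r.sum_eq], Finset.mul_sum]
    apply Finset.sum_congr rfl
    intro i _
    rw [mul_smul_comm]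

lemma E_mul_left (c b : B) (x : A) : E γ (c * b) x = PowerSeries.rescale c (E γ b x) := by
  ext n
  rw [PowerSeries.coeff_rescale, coeff_E, coeff_E, mul_pow, mul_assoc]

lemma exp_smul (c : B) {z : B} (r : Rep I z) :
    (r.smul c).exp γ = PowerSeries.rescale c (r.exp γ) := by
  rw [exp, exp, map_prod]
  apply Finset.prod_congr rfl
  intro i _
  exact E_mul_left c _ _

/-- the representation of the image of an element of `I` -/
def single {a : A} (ha : a ∈ I) : Rep I (algebraMap A B a) where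
  ι := Unit
  b := fun _ => 1
  x := fun _ => a
  hx := fun _ => ha
  sum_eq := by simp [Algebra.algebraMap_eq_smul_one]

lemma exp_single {a : A} (ha : a ∈ I) : (single (B := B) ha).exp γ = E γ 1 a := by
  rw [exp]
  show ∏ i : Unit, _ = _
  simp [single]

lemma constantCoeff_exp {z : B} (r : Rep I z) : PowerSeries.constantCoeff (r.exp γ) = 1 := by
  rw [exp, map_prod]
  apply Finset.prod_eq_one
  intro i _
  rw [← PowerSeries.coeff_zero_eq_constantCoeff_apply, coeff_E, pow_zero, one_mul,
    γ.dpow_zero (r.hx i), map_one]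

end Rep

/-- series with constant coefficient one and higher coefficients in an ideal -/
def IsNice (K : Ideal B) (p : PowerSeries B) : Prop :=
  PowerSeries.constantCoeff p = 1 ∧ ∀ n, n ≠ 0 → PowerSeries.coeff n p ∈ K

lemma IsNice.one (K : Ideal B) : IsNice K (1 : PowerSeries B) := by
  refine ⟨map_one _, fun n hn => ?_⟩
  rw [PowerSeries.coeff_one, if_neg hn]
  exact K.zero_mem

lemma IsNice.mul {K : Ideal B} {p q : PowerSeries B} (hp : IsNice K p) (hq : IsNice K q) :
    IsNice K (p * q) := by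
  refine ⟨by rw [map_mul, hp.1, hq.1, one_mul], fun n hn => ?_⟩
  rw [PowerSeries.coeff_mul]
  apply Ideal.sum_mem
  intro k hk
  rw [Finset.HasAntidiagonal.mem_antidiagonal] at hk
  by_cases h1 : k.1 = 0
  · exact Ideal.mul_mem_left _ _ (hq.2 _ (by omega))
  · exact Ideal.mul_mem_right _ _ (hp.2 _ h1)

lemma IsNice.coeff_one_mul {K : Ideal B} {p q : PowerSeries B} (hp : IsNice K p) (hq : IsNice K q) :
    PowerSeries.coeff 1 (p * q) = PowerSeries.coeff 1 p + PowerSeries.coeff 1 q := by
  rw [PowerSeries.coeff_mul,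
    show Finset.HasAntidiagonal.antidiagonal 1 = {((0 : ℕ), (1 : ℕ)), (1, 0)} from by decide,
    Finset.sum_pair (by decide), PowerSeries.coeff_zero_eq_constantCoeff_apply,
    PowerSeries.coeff_zero_eq_constantCoeff_apply, hp.1, hq.1, one_mul, mul_one, add_comm]

lemma isNice_E (b : B) {x : A} (hx : x ∈ I) : IsNice (I.map (algebraMap A B)) (E γ b x) := by
  refine ⟨?_, fun n hn => ?_⟩
  · rw [← PowerSeries.coeff_zero_eq_constantCoeff_apply, coeff_E, pow_zero, one_mul,
      γ.dpow_zero hx, map_one]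
  · rw [coeff_E]
    exact Ideal.mul_mem_left _ _ (Ideal.mem_map_of_mem _ (γ.dpow_mem hn hx))

lemma isNice_prod {ι : Type*} (s : Finset ι) (b : ι → B) (x : ι → A) (hx : ∀ i ∈ s, x i ∈ I) :
    IsNice (I.map (algebraMap A B)) (∏ i ∈ s, E γ (b i) (x i)) ∧
      PowerSeries.coeff 1 (∏ i ∈ s, E γ (b i) (x i)) = ∑ i ∈ s, x i • b i := by
  classical
  induction s using Finset.induction_on with
  | empty =>
    refine ⟨by rw [Finset.prod_empty]; exact IsNice.one _, ?_⟩
    rw [Finset.prod_empty, Finset.sum_empty, PowerSeries.coeff_one, if_neg one_ne_zero]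
  | insert i s hi ih =>
    have ih' := ih (fun j hj => hx j (Finset.mem_insert_of_mem hj))
    have hE := isNice_E γ (b i) (hx i (Finset.mem_insert_self i s))
    rw [Finset.prod_insert hi, Finset.sum_insert hi]
    refine ⟨hE.mul ih'.1, ?_⟩
    rw [hE.coeff_one_mul ih'.1, ih'.2, coeff_E, pow_one, γ.dpow_one (hx i (Finset.mem_insert_self i s)),
      Algebra.smul_def, mul_comm]


lemma nonempty_rep {z : B} (hz : z ∈ I.map (algebraMap A B)) : Nonempty (Rep I z) := by
  rw [Ideal.map, Ideal.span, Submodule.mem_span_set'] at hz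
  obtain ⟨n, c, g, hsum⟩ := hz
  have hg : ∀ i, ∃ a ∈ I, algebraMap A B a = (g i : B) := fun i => (g i).2
  choose a ha hfa using hg
  refine ⟨⟨Fin n, c, a, ha, ?_⟩⟩
  rw [← hsum]
  apply Finset.sum_congr rfl
  intro i _
  rw [Algebra.smul_def, hfa, smul_eq_mul, mul_comm]

open Classical in
/-- the exponential series of the extended divided powers -/
noncomputable def F (z : B) : PowerSeries B :=
  if hz : z ∈ I.map (algebraMap A B) then (nonempty_rep hz).some.exp γ else 0

lemma F_eq [Module.Flat A B] {z : B} (r : Rep I z) : F γ z = r.exp γ := by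
  rw [F, dif_pos r.mem_map]
  exact prod_E_eq γ _ _ (Rep.hx _) _ _ r.hx (by rw [Rep.sum_eq, r.sum_eq])

/-- the extended divided powers -/
noncomputable def flatDpow (n : ℕ) (z : B) : B := PowerSeries.coeff n (F γ z)

lemma flatDpow_map [Module.Flat A B] {a : A} (ha : a ∈ I) (n : ℕ) :
    flatDpow γ n (algebraMap A B a) = algebraMap A B (γ.dpow n a) := by
  rw [flatDpow, F_eq γ (Rep.single ha), Rep.exp_single, coeff_E, one_pow, one_mul]

lemma preDP [Module.Flat A B] : PreDP (I.map (algebraMap A B)) (flatDpow (B := B) γ) where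
  zero := by
    intro z hz
    obtain ⟨r⟩ := nonempty_rep hz
    rw [flatDpow, F_eq γ r, PowerSeries.coeff_zero_eq_constantCoeff_apply, r.constantCoeff_exp]
  one := by
    intro z hz
    obtain ⟨r⟩ := nonempty_rep hz
    rw [flatDpow, F_eq γ r, Rep.exp, (isNice_prod γ Finset.univ r.b r.x (fun i _ => r.hx i)).2,
      r.sum_eq]
  mem := by
    intro n z hn hz
    obtain ⟨r⟩ := nonempty_rep hz
    rw [flatDpow, F_eq γ r, Rep.exp]
    exact (isNice_prod γ Finset.univ r.b r.x (fun i _ => r.hx i)).1.2 n hn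
  add := by
    intro n z z' hz hz'
    obtain ⟨r⟩ := nonempty_rep hz
    obtain ⟨r'⟩ := nonempty_rep hz'
    rw [flatDpow, F_eq γ (r.add r'), Rep.exp_add, PowerSeries.coeff_mul]
    apply Finset.sum_congr rfl
    intro k _
    rw [flatDpow, flatDpow, F_eq γ r, F_eq γ r']
  mul := by
    intro n c z hz
    obtain ⟨r⟩ := nonempty_rep hz
    rw [flatDpow, F_eq γ (r.smul c), Rep.exp_smul, PowerSeries.coeff_rescale, flatDpow, F_eq γ r]

/-- **divided powers extend along flat ring maps** -/
theorem exists_extension [Module.Flat A B] :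
    ∃ δ : DividedPowers (I.map (algebraMap A B)), γ.IsDPMorphism δ (algebraMap A B) := by
  obtain ⟨δ, hδ⟩ := (preDP (B := B) γ).exists_dividedPowers
    (fun n z hz => by rw [flatDpow, F, dif_neg hz, map_zero])
    (S := algebraMap A B '' (I : Set A)) rfl (by
      rintro _ ⟨a, ha, rfl⟩
      constructor
      · intro m n
        rw [flatDpow_map γ ha, flatDpow_map γ ha, flatDpow_map γ ha, ← map_mul, γ.mul_dpow ha,
          map_mul, map_natCast]
      · intro m n hn
        rw [flatDpow_map γ ha, flatDpow_map γ (γ.dpow_mem hn ha), flatDpow_map γ ha,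
          γ.dpow_comp hn ha, map_mul, map_natCast])
  refine ⟨δ, le_rfl, fun {n} a ha => ?_⟩
  rw [hδ, flatDpow_map γ ha]

omit γ in
/-- uniqueness of the extension -/
theorem extension_unique (γ : DividedPowers I) (δ δ' : DividedPowers (I.map (algebraMap A B)))
    (h : γ.IsDPMorphism δ (algebraMap A B)) (h' : γ.IsDPMorphism δ' (algebraMap A B)) : δ = δ' := by
  apply DividedPowers.dpow_eq_from_gens δ' δ (S := algebraMap A B '' (I : Set A)) rfl
  rintro n _ ⟨a, ha, rfl⟩
  rw [h.2 a ha, h'.2 a ha]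

end Groth.Agent.Lib.helper22.DPFlat
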