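import Mathlib

set_option autoImplicit false

namespace Groth.Agent.Lib.helper22.DPPolyL

/-- abstract divided power polynomial algebra data on an arbitrary set of variables -/
structure LData (R : Type*) [CommRing R] (Λ : Type*) (P : Type*) [CommRing P] [Algebra R P] where
  x : Λ → ℕ → P
  hx0 : ∀ l, x l 0 = 1
  hxmul : ∀ l n m, x l n * x l m = ((n + m).choose n : P) * x l (n + m)
  b : Module.Basis (Λ →₀ ℕ) R P
  hb : ∀ e : Λ →₀ ℕ, b e = e.prod (fun l k => x l k)

/-- membership in an extended ideal via coordinates in a basis -/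
lemma mem_map_iff_repr {ι R P : Type*} [CommRing R] [CommRing P] [Algebra R P]
    (b : Module.Basis ι R P) (I : Ideal R) (y : P) :
    y ∈ I.map (algebraMap R P) ↔ ∀ i, b.repr y i ∈ I := by
  have h1 : y ∈ I.map (algebraMap R P) ↔ y ∈ I • (⊤ : Submodule R P) := by
    rw [Ideal.smul_top_eq_map]; rfl
  rw [h1, ← b.span_eq, Submodule.mem_ideal_smul_span_iff_exists_sum]
  constructor
  · rintro ⟨a, ha, rfl⟩ i
    have : (a.sum fun i c => c • b i) = Finsupp.linearCombination R b a := by
      rw [Finsupp.linearCombination_apply]
    rw [this, b.repr_linearCombination]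
    exact ha i
  · intro h
    refine ⟨b.repr y, h, ?_⟩
    rw [← Finsupp.linearCombination_apply, b.linearCombination_repr]

namespace LData

variable {R : Type*} [CommRing R] {Λ : Type*} {P : Type*} [CommRing P] [Algebra R P]
  (D : LData R Λ P)

/-- the augmentation ideal -/
def aug : Ideal P := Ideal.span {y : P | ∃ (l : Λ) (n : ℕ), 1 ≤ n ∧ y = D.x l n}

lemma b_eq_prod_of_subset (e : Λ →₀ ℕ) (s : Finset Λ) (hs : e.support ⊆ s) :
    D.b e = ∏ l ∈ s, D.x l (e l) := by
  rw [D.hb, Finsupp.prod_of_support_subset e hs _ (fun l _ => D.hx0 l)]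

open Classical in
/-- the structure constants -/
noncomputable def cmul (e e' : Λ →₀ ℕ) : ℕ := ∏ l ∈ e.support ∪ e'.support, (e l + e' l).choose (e l)

lemma b_mul (e e' : Λ →₀ ℕ) : D.b e * D.b e' = cmul e e' • D.b (e + e') := by
  classical
  rw [D.b_eq_prod_of_subset e _ Finset.subset_union_left,
    D.b_eq_prod_of_subset e' _ (Finset.subset_union_right (s₁ := e.support)),
    D.b_eq_prod_of_subset (e + e') _ Finsupp.support_add, ← Finset.prod_mul_distrib, nsmul_eq_mul,
    cmul, Nat.cast_prod, ← Finset.prod_mul_distrib]
  apply Finset.prod_congr rfl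
  intro l _
  rw [D.hxmul]; rfl

lemma cmul_zero_zero : cmul (0 : Λ →₀ ℕ) 0 = 1 := by
  simp [cmul]

lemma x_eq (l : Λ) (n : ℕ) : D.x l n = D.b (Finsupp.single l n) := by
  rw [D.hb, Finsupp.prod_single_index (D.hx0 l)]

lemma one_eq : (1 : P) = D.b 0 := by
  rw [D.hb]; simp

lemma x_mem_aug (l : Λ) {n : ℕ} (hn : 1 ≤ n) : D.x l n ∈ D.aug :=
  Ideal.subset_span ⟨l, n, hn, rfl⟩

lemma b_mem_aug {e : Λ →₀ ℕ} (he : e ≠ 0) : D.b e ∈ D.aug := by
  classical
  obtain ⟨l, hl⟩ : ∃ l, e l ≠ 0 := by
    by_contra h
    push Not at h
    exact he (Finsupp.ext h)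
  have hls : l ∈ e.support := Finsupp.mem_support_iff.mpr hl
  rw [D.hb, Finsupp.prod, ← Finset.mul_prod_erase _ _ hls]
  exact Ideal.mul_mem_right _ _ (D.x_mem_aug l (by omega))

/-- the augmentation -/
noncomputable def eps : P →ₐ[R] R := by
  classical
  exact AlgHom.ofLinearMap (D.b.constr R (fun e => if e = 0 then (1 : R) else 0))
    (by rw [D.one_eq, Module.Basis.constr_basis, if_pos rfl])
    (by
      have key : (LinearMap.mul R P).compr₂ (D.b.constr R (fun e => if e = 0 then (1 : R) else 0)) =
          (LinearMap.mul R R).compl₁₂ (D.b.constr R (fun e => if e = 0 then (1 : R) else 0))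
            (D.b.constr R (fun e => if e = 0 then (1 : R) else 0)) := by
        apply D.b.ext
        intro e
        apply D.b.ext
        intro e'
        simp only [LinearMap.compr₂_apply, LinearMap.mul_apply', LinearMap.compl₁₂_apply]
        rw [D.b_mul, map_nsmul, Module.Basis.constr_basis, Module.Basis.constr_basis,
          Module.Basis.constr_basis]
        by_cases h : e = 0 ∧ e' = 0
        · obtain ⟨rfl, rfl⟩ := h
          simp [cmul_zero_zero]
        · have : e + e' ≠ 0 := by
            intro h0
            apply h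
            constructor
            · ext i
              have := DFunLike.congr_fun h0 i
              simp only [Finsupp.coe_add, Pi.add_apply, Finsupp.coe_zero, Pi.zero_apply] at this ⊢
              omega
            · ext i
              have := DFunLike.congr_fun h0 i
              simp only [Finsupp.coe_add, Pi.add_apply, Finsupp.coe_zero, Pi.zero_apply] at this ⊢
              omega
          rw [if_neg this, smul_zero]
          rcases not_and_or.mp h with h | h
          · rw [if_neg h, zero_mul]
          · rw [if_neg h, mul_zero]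
      intro u v
      have := congrArg (fun B => B u v) key
      simpa using this)

lemma eps_apply (y : P) : D.eps y = D.b.repr y 0 := by
  classical
  conv_lhs => rw [← D.b.linearCombination_repr y, Finsupp.linearCombination_apply, map_finsuppSum]
  rw [Finsupp.sum, Finset.sum_eq_single 0]
  · rw [map_smul]
    show _ • (D.b.constr R _) (D.b 0) = _
    rw [Module.Basis.constr_basis, if_pos rfl, smul_eq_mul, mul_one]
  · intro e _ he
    rw [map_smul]
    show _ • (D.b.constr R _) (D.b e) = _
    rw [Module.Basis.constr_basis, if_neg he, smul_zero]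
  · intro h
    rw [Finsupp.notMem_support_iff.mp h, zero_smul, map_zero]

lemma mem_aug_iff (y : P) : y ∈ D.aug ↔ D.b.repr y 0 = 0 := by
  classical
  constructor
  · intro hy
    rw [← eps_apply]
    have hle : D.aug ≤ RingHom.ker D.eps.toRingHom := by
      rw [aug, Ideal.span_le]
      rintro _ ⟨i, n, hn, rfl⟩
      show D.eps (D.x i n) = 0
      rw [eps_apply, D.x_eq, Module.Basis.repr_self, Finsupp.single_apply, if_neg]
      intro h
      have := DFunLike.congr_fun h i
      simp at this
      omega
    exact hle hy
  · intro h0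
    rw [← D.b.linearCombination_repr y, Finsupp.linearCombination_apply, Finsupp.sum]
    apply Ideal.sum_mem
    intro e he
    by_cases h : e = 0
    · subst h
      rw [h0, zero_smul]
      exact Ideal.zero_mem _
    · rw [Algebra.smul_def]
      exact Ideal.mul_mem_left _ _ (D.b_mem_aug h)

end LData

end Groth.Agent.Lib.helper22.DPPolyL
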