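import Mathlib
import Groth.Agent.Lib.Helper22.DPPolyGen

set_option autoImplicit false

namespace Groth.Agent.Lib.helper22.DPSup

open Groth.Agent.Lib.helper22.DPPoly

variable {A : Type*} [CommRing A] {I J : Ideal A} (γ : DividedPowers I) (δ : DividedPowers J)

lemma exp_zero : γ.exp 0 = 1 := by
  ext n
  rw [DividedPowers.exp, PowerSeries.coeff_mk, PowerSeries.coeff_one]
  split_ifs with hn
  · rw [hn, γ.dpow_zero I.zero_mem]
  · rw [γ.dpow_eval_zero hn]

lemma exp_eq_of_agree (h : ∀ (n : ℕ) (x : A), x ∈ I ⊓ J → γ.dpow n x = δ.dpow n x)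
    {c : A} (hc : c ∈ I ⊓ J) : γ.exp c = δ.exp c := by
  ext n
  rw [DividedPowers.exp, DividedPowers.exp, PowerSeries.coeff_mk, PowerSeries.coeff_mk, h n c hc]

/-- well-definedness of the exponential of the sum structure -/
lemma exp_mul_exp_eq (h : ∀ (n : ℕ) (x : A), x ∈ I ⊓ J → γ.dpow n x = δ.dpow n x)
    {a a' b b' : A} (ha : a ∈ I) (ha' : a' ∈ I) (hb : b ∈ J) (hb' : b' ∈ J)
    (hab : a + b = a' + b') : γ.exp a * δ.exp b = γ.exp a' * δ.exp b' := by
  have hc : a - a' ∈ I ⊓ J := by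
    refine ⟨I.sub_mem ha ha', ?_⟩
    have : a - a' = b' - b := by linear_combination hab
    rw [this]
    exact J.sub_mem hb' hb
  have h1 : a = a' + (a - a') := by ring
  have h2 : b' = (a - a') + b := by linear_combination -hab
  rw [h1, γ.exp_add ha' hc.1, h2, δ.exp_add hc.2 hb, exp_eq_of_agree γ δ h hc]
  ring

open Classical in
/-- the exponential series of the candidate divided powers on `I ⊔ J` -/
noncomputable def supExp (z : A) : PowerSeries A :=
  if hz : ∃ a ∈ I, ∃ b ∈ J, a + b = z then γ.exp hz.choose * δ.exp hz.choose_spec.2.choose else 0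

lemma supExp_eq (h : ∀ (n : ℕ) (x : A), x ∈ I ⊓ J → γ.dpow n x = δ.dpow n x)
    {a b : A} (ha : a ∈ I) (hb : b ∈ J) : supExp γ δ (a + b) = γ.exp a * δ.exp b := by
  have hz : ∃ a' ∈ I, ∃ b' ∈ J, a' + b' = a + b := ⟨a, ha, b, hb, rfl⟩
  rw [supExp, dif_pos hz]
  exact exp_mul_exp_eq γ δ h hz.choose_spec.1 ha hz.choose_spec.2.choose_spec.1 hb
    hz.choose_spec.2.choose_spec.2

lemma supExp_of_not_mem {z : A} (hz : z ∉ I ⊔ J) : supExp γ δ z = 0 := by
  rw [supExp, dif_neg]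
  rintro ⟨a, ha, b, hb, rfl⟩
  exact hz (Submodule.add_mem_sup ha hb)

/-- the candidate divided powers on `I ⊔ J` -/
noncomputable def supDpow (n : ℕ) (z : A) : A := PowerSeries.coeff n (supExp γ δ z)

lemma supDpow_eq (h : ∀ (n : ℕ) (x : A), x ∈ I ⊓ J → γ.dpow n x = δ.dpow n x)
    {a b : A} (ha : a ∈ I) (hb : b ∈ J) (n : ℕ) :
    supDpow γ δ n (a + b) =
      (Finset.HasAntidiagonal.antidiagonal n).sum fun k => γ.dpow k.1 a * δ.dpow k.2 b := by
  rw [supDpow, supExp_eq γ δ h ha hb, PowerSeries.coeff_mul]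
  apply Finset.sum_congr rfl
  intro k _
  rw [DividedPowers.exp, DividedPowers.exp, PowerSeries.coeff_mk, PowerSeries.coeff_mk]

lemma supDpow_left (h : ∀ (n : ℕ) (x : A), x ∈ I ⊓ J → γ.dpow n x = δ.dpow n x)
    {a : A} (ha : a ∈ I) (n : ℕ) : supDpow γ δ n a = γ.dpow n a := by
  have := supExp_eq γ δ h ha J.zero_mem
  rw [add_zero, exp_zero, mul_one] at this
  rw [supDpow, this, DividedPowers.exp, PowerSeries.coeff_mk]

lemma supDpow_right (h : ∀ (n : ℕ) (x : A), x ∈ I ⊓ J → γ.dpow n x = δ.dpow n x)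
    {b : A} (hb : b ∈ J) (n : ℕ) : supDpow γ δ n b = δ.dpow n b := by
  have := supExp_eq γ δ h I.zero_mem hb
  rw [zero_add, exp_zero, one_mul] at this
  rw [supDpow, this, DividedPowers.exp, PowerSeries.coeff_mk]

lemma preDP (h : ∀ (n : ℕ) (x : A), x ∈ I ⊓ J → γ.dpow n x = δ.dpow n x) :
    PreDP (I ⊔ J) (supDpow γ δ) where
  zero := by
    intro z hz
    obtain ⟨a, ha, b, hb, rfl⟩ := Submodule.mem_sup.mp hz
    rw [supDpow_eq γ δ h ha hb]
    simp [γ.dpow_zero ha, δ.dpow_zero hb]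
  one := by
    intro z hz
    obtain ⟨a, ha, b, hb, rfl⟩ := Submodule.mem_sup.mp hz
    rw [supDpow_eq γ δ h ha hb, Finset.Nat.antidiagonal_succ]
    simp [γ.dpow_zero ha, δ.dpow_zero hb, γ.dpow_one ha, δ.dpow_one hb, add_comm]
  mem := by
    intro n z hn hz
    obtain ⟨a, ha, b, hb, rfl⟩ := Submodule.mem_sup.mp hz
    rw [supDpow_eq γ δ h ha hb]
    apply Ideal.sum_mem
    intro k hk
    rw [Finset.HasAntidiagonal.mem_antidiagonal] at hk
    by_cases h1 : k.1 = 0
    · exact Ideal.mul_mem_left _ _ (Ideal.mem_sup_right (δ.dpow_mem (by omega) hb))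
    · exact Ideal.mul_mem_right _ _ (Ideal.mem_sup_left (γ.dpow_mem h1 ha))
  add := by
    intro n z z' hz hz'
    obtain ⟨a, ha, b, hb, rfl⟩ := Submodule.mem_sup.mp hz
    obtain ⟨a', ha', b', hb', rfl⟩ := Submodule.mem_sup.mp hz'
    have e1 : a + b + (a' + b') = (a + a') + (b + b') := by ring
    have : supExp γ δ (a + b + (a' + b')) = supExp γ δ (a + b) * supExp γ δ (a' + b') := by
      rw [e1, supExp_eq γ δ h (I.add_mem ha ha') (J.add_mem hb hb'), supExp_eq γ δ h ha hb,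
        supExp_eq γ δ h ha' hb', γ.exp_add ha ha', δ.exp_add hb hb']
      ring
    rw [supDpow, this, PowerSeries.coeff_mul]
    rfl
  mul := by
    intro n c z hz
    obtain ⟨a, ha, b, hb, rfl⟩ := Submodule.mem_sup.mp hz
    rw [mul_add, supDpow_eq γ δ h (I.mul_mem_left c ha) (J.mul_mem_left c hb),
      supDpow_eq γ δ h ha hb, Finset.mul_sum]
    apply Finset.sum_congr rfl
    intro k hk
    rw [Finset.HasAntidiagonal.mem_antidiagonal] at hk
    rw [γ.dpow_mul ha, δ.dpow_mul hb, ← hk, pow_add]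
    ring

/-- **divided powers on the sum of two ideals** -/
theorem exists_sup (h : ∀ (n : ℕ) (x : A), x ∈ I ⊓ J → γ.dpow n x = δ.dpow n x) :
    ∃ ε : DividedPowers (I ⊔ J), (∀ (n : ℕ) (x : A), x ∈ I → ε.dpow n x = γ.dpow n x) ∧
      (∀ (n : ℕ) (x : A), x ∈ J → ε.dpow n x = δ.dpow n x) := by
  have hS : Ideal.span ((I : Set A) ∪ (J : Set A)) = I ⊔ J := by
    rw [Ideal.span_union, Ideal.span_eq, Ideal.span_eq]
  obtain ⟨ε, hε⟩ := (preDP γ δ h).exists_dividedPowers
    (fun n x hx => by rw [supDpow, supExp_of_not_mem γ δ hx, map_zero]) hS (by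
      rintro x (hx | hx)
      · constructor
        · intro m n
          rw [supDpow_left γ δ h hx, supDpow_left γ δ h hx, supDpow_left γ δ h hx, γ.mul_dpow hx]
        · intro m n hn
          rw [supDpow_left γ δ h hx, supDpow_left γ δ h (γ.dpow_mem hn hx), supDpow_left γ δ h hx,
            γ.dpow_comp hn hx]
      · constructor
        · intro m n
          rw [supDpow_right γ δ h hx, supDpow_right γ δ h hx, supDpow_right γ δ h hx, δ.mul_dpow hx]
        · intro m n hn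
          rw [supDpow_right γ δ h hx, supDpow_right γ δ h (δ.dpow_mem hn hx),
            supDpow_right γ δ h hx, δ.dpow_comp hn hx])
  refine ⟨ε, fun n x hx => ?_, fun n x hx => ?_⟩
  · rw [hε, supDpow_left γ δ h hx]
  · rw [hε, supDpow_right γ δ h hx]

theorem sup_unique (ε ε' : DividedPowers (I ⊔ J))
    (h1 : ∀ (n : ℕ) (x : A), x ∈ I → ε.dpow n x = γ.dpow n x)
    (h2 : ∀ (n : ℕ) (x : A), x ∈ J → ε.dpow n x = δ.dpow n x)
    (h1' : ∀ (n : ℕ) (x : A), x ∈ I → ε'.dpow n x = γ.dpow n x)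
    (h2' : ∀ (n : ℕ) (x : A), x ∈ J → ε'.dpow n x = δ.dpow n x) : ε = ε' := by
  have hS : I ⊔ J = Ideal.span ((I : Set A) ∪ (J : Set A)) := by
    rw [Ideal.span_union, Ideal.span_eq, Ideal.span_eq]
  apply DividedPowers.dpow_eq_from_gens ε' ε hS
  rintro n x (hx | hx)
  · rw [h1 n x hx, h1' n x hx]
  · rw [h2 n x hx, h2' n x hx]

end Groth.Agent.Lib.helper22.DPSup
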