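import Mathlib
import Groth.Agent.Lib.Helper22.DPPolyL
import Groth.Agent.Lib.Helper22.DPFlat
import Groth.Agent.Lib.Helper22.DPSup

set_option autoImplicit false

namespace Groth.Agent.Lib.helper22.DPPolyL

variable {R : Type*} [CommRing R] {I : Ideal R} (γ : DividedPowers I) {Λ : Type*} {P : Type*}
  [CommRing P] [Algebra R P] (D : LData R Λ P) (δplus : DividedPowers D.aug)

/-- agreement of an extension of `γ` to `IP` and of divided powers on the augmentation ideal on the
intersection of the two ideals -/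
lemma agree (δI : DividedPowers (I.map (algebraMap R P))) (hδI : γ.IsDPMorphism δI (algebraMap R P))
    (n : ℕ) (y : P) (hy : y ∈ I.map (algebraMap R P) ⊓ D.aug) :
    δI.dpow n y = δplus.dpow n y := by
  classical
  have hyI := (mem_map_iff_repr D.b I y).mp hy.1
  have hy0 := (D.mem_aug_iff y).mp hy.2
  have key : ∀ (s : Finset (Λ →₀ ℕ)), (∀ e ∈ s, e ≠ 0) → ∀ n : ℕ,
      δI.dpow n (∑ e ∈ s, D.b.repr y e • D.b e) = δplus.dpow n (∑ e ∈ s, D.b.repr y e • D.b e) := by
    intro s
    induction s using Finset.induction_on with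
    | empty =>
      intro _ n
      rw [Finset.sum_empty]
      by_cases hn : n = 0
      · subst hn
        rw [δI.dpow_zero (Ideal.zero_mem _), δplus.dpow_zero (Ideal.zero_mem _)]
      · rw [δI.dpow_eval_zero hn, δplus.dpow_eval_zero hn]
    | insert e s hes ih =>
      intro hs n
      have he : e ≠ 0 := hs e (Finset.mem_insert_self e s)
      have hs' : ∀ e' ∈ s, e' ≠ 0 := fun e' he' => hs e' (Finset.mem_insert_of_mem he')
      have hterm : ∀ e', e' ≠ 0 → D.b.repr y e' • D.b e' ∈ I.map (algebraMap R P) ⊓ D.aug := by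
        intro e' he'
        rw [Algebra.smul_def]
        exact ⟨Ideal.mul_mem_right _ _ (Ideal.mem_map_of_mem _ (hyI e')),
          Ideal.mul_mem_left _ _ (D.b_mem_aug he')⟩
      have hm1 := hterm e he
      have hm2 : ∑ e' ∈ s, D.b.repr y e' • D.b e' ∈ I.map (algebraMap R P) ⊓ D.aug :=
        Ideal.sum_mem _ (fun e' he' => hterm e' (hs' e' he'))
      rw [Finset.sum_insert hes, δI.dpow_add hm1.1 hm2.1, δplus.dpow_add hm1.2 hm2.2]
      apply Finset.sum_congr rfl
      intro k _
      rw [ih hs']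
      congr 1
      -- the single term
      have h1 : δI.dpow k.1 (D.b.repr y e • D.b e) =
          D.b e ^ k.1 * algebraMap R P (γ.dpow k.1 (D.b.repr y e)) := by
        rw [Algebra.smul_def, mul_comm, δI.dpow_mul (Ideal.mem_map_of_mem _ (hyI e)),
          hδI.2 _ (hyI e)]
      have h2 : δplus.dpow k.1 (D.b.repr y e • D.b e) =
          algebraMap R P (D.b.repr y e) ^ k.1 * δplus.dpow k.1 (D.b e) := by
        rw [Algebra.smul_def, δplus.dpow_mul (D.b_mem_aug he)]
      rw [h1, h2, ← δplus.factorial_mul_dpow_eq_pow (D.b_mem_aug he), ← map_pow,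
        ← γ.factorial_mul_dpow_eq_pow (hyI e), map_mul, map_natCast]
      ring
  have hsum : y = ∑ e ∈ (D.b.repr y).support, D.b.repr y e • D.b e := by
    conv_lhs => rw [← D.b.linearCombination_repr y, Finsupp.linearCombination_apply, Finsupp.sum]
  have := key (D.b.repr y).support (by
    intro e he hzero
    rw [Finsupp.mem_support_iff, hzero] at he
    exact he hy0) n
  rwa [← hsum] at this

/-- **existence of the compatible divided powers on `IP + P₊`** -/
theorem exists_compat :
    ∃ δ : DividedPowers (I.map (algebraMap R P) ⊔ D.aug),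
      γ.IsDPMorphism δ (algebraMap R P) ∧ ∀ (n : ℕ) (y : P), y ∈ D.aug → δ.dpow n y = δplus.dpow n y := by
  have : Module.Free R P := Module.Free.of_basis D.b
  obtain ⟨δI, hδI⟩ := DPFlat.exists_extension (B := P) γ
  obtain ⟨δ, h1, h2⟩ := DPSup.exists_sup δI δplus (fun n y hy => agree γ D δplus δI hδI n y hy)
  refine ⟨δ, ⟨le_sup_left, fun {n} a ha => ?_⟩, h2⟩
  rw [h1 n _ (Ideal.mem_map_of_mem _ ha), hδI.2 a ha]

theorem compat_unique (δ δ' : DividedPowers (I.map (algebraMap R P) ⊔ D.aug))
    (h1 : γ.IsDPMorphism δ (algebraMap R P))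
    (h2 : ∀ (n : ℕ) (y : P), y ∈ D.aug → δ.dpow n y = δplus.dpow n y)
    (h1' : γ.IsDPMorphism δ' (algebraMap R P))
    (h2' : ∀ (n : ℕ) (y : P), y ∈ D.aug → δ'.dpow n y = δplus.dpow n y) : δ = δ' := by
  have hS : I.map (algebraMap R P) ⊔ D.aug = Ideal.span ((algebraMap R P '' (I : Set R)) ∪
      {y : P | ∃ (l : Λ) (n : ℕ), 1 ≤ n ∧ y = D.x l n}) := by
    rw [Ideal.span_union]; rfl
  apply DividedPowers.dpow_eq_from_gens δ' δ hS
  rintro n y (⟨a, ha, rfl⟩ | hy)
  · rw [h1.2 a ha, h1'.2 a ha]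
  · have : y ∈ D.aug := Ideal.subset_span hy
    rw [h2 n y this, h2' n y this]

end Groth.Agent.Lib.helper22.DPPolyL
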