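import Mathlib
import Groth.Agent.Lib.Helper22.DPPolyMain
import Groth.Agent.Lib.Helper22.DPPolyGen
import Groth.Agent.Lib.Helper22.DPPolyCompat

set_option autoImplicit false

namespace Groth.Agent.Lib.helper22.DPPoly

open TensorProduct

section BaseChange

variable {S : Type*} [CommRing S] {N : ℕ} {PS : Type*} [CommRing PS] [Algebra S PS] (DS : Data S N PS)
  (A : Type*) [CommRing A] [Algebra S A]

/-- base change of divided power polynomial algebra data -/
noncomputable def Data.baseChange : Data A N (A ⊗[S] PS) where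
  x i n := 1 ⊗ₜ DS.x i n
  hx0 i := by rw [DS.hx0]; rfl
  hxmul i n m := by
    rw [Algebra.TensorProduct.tmul_mul_tmul, mul_one, DS.hxmul]
    have : (((n + m).choose n : PS) * DS.x i (n + m)) = ((n + m).choose n) • DS.x i (n + m) := by
      rw [nsmul_eq_mul]
    rw [this, TensorProduct.tmul_smul, nsmul_eq_mul]
  b := Algebra.TensorProduct.basis A DS.b
  hb e := by
    rw [Algebra.TensorProduct.basis_apply, DS.hb]
    have := map_finsuppProd (Algebra.TensorProduct.includeRight : PS →ₐ[S] A ⊗[S] PS) e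
      (fun i k => DS.x i k)
    simpa using this

end BaseChange

/-- a divided power polynomial algebra in `N` variables exists over every ring (in the same
universe) -/
theorem exists_data.{u} (A : Type u) [CommRing A] (N : ℕ) :
    ∃ (P : Type u) (_ : CommRing P) (_ : Algebra A P), Nonempty (Data A N P) := by
  let algSK : Algebra (MvPolynomial A ℤ) (MvPolynomial A ℚ) :=
    (MvPolynomial.map (Int.castRingHom ℚ)).toAlgebra
  have hSK : Function.Injective (algebraMap (MvPolynomial A ℤ) (MvPolynomial A ℚ)) :=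
    MvPolynomial.map_injective _ Int.cast_injective
  let algSA : Algebra (MvPolynomial A ℤ) A :=
    (MvPolynomial.eval₂Hom (Int.castRingHom A) id).toAlgebra
  exact ⟨A ⊗[MvPolynomial A ℤ] model (MvPolynomial A ℤ) (MvPolynomial A ℚ) N, inferInstance,
    inferInstance, ⟨(modelData (N := N) hSK).baseChange A⟩⟩


/-- a divided power structure gives a `PreDP` family -/
lemma preDP_of_dividedPowers {C : Type*} [CommRing C] {K : Ideal C} (ε : DividedPowers K) :
    PreDP K ε.dpow :=
  ⟨fun _ hx => ε.dpow_zero hx, fun _ hx => ε.dpow_one hx, fun _ _ hn hx => ε.dpow_mem hn hx,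
    fun _ _ _ hx hy => ε.dpow_add hx hy, fun _ _ _ hx => ε.dpow_mul hx⟩

lemma good_of_dividedPowers {C : Type*} [CommRing C] {K : Ideal C} (ε : DividedPowers K) {x : C}
    (hx : x ∈ K) : Good ε.dpow x :=
  ⟨fun _ _ => ε.mul_dpow hx, fun _ _ hn => ε.dpow_comp hn hx⟩

section Universal

variable {A : Type*} [CommRing A] {I : Ideal A} (γ : DividedPowers I) {N : ℕ} {P : Type*}
  [CommRing P] [Algebra A P] (D : Data A N P)

/-- forget that the index set is `Fin N` -/
def Data.toL : DPPolyL.LData A (Fin N) P := ⟨D.x, D.hx0, D.hxmul, D.b, D.hb⟩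

/-- **the universal property** of the divided power polynomial algebra over a divided power ring -/
theorem universal (δplus : DividedPowers D.aug) (hδplus : ∀ i n, δplus.dpow n (D.x i 1) = D.x i n)
    (δ : DividedPowers (I.map (algebraMap A P) ⊔ D.aug))
    (hδ1 : γ.IsDPMorphism δ (algebraMap A P))
    (hδ2 : ∀ (n : ℕ) (y : P), y ∈ D.aug → δ.dpow n y = δplus.dpow n y)
    {C : Type*} [CommRing C] [Algebra A C] (K : Ideal C) (ε : DividedPowers K)
    (hε : γ.IsDPMorphism ε (algebraMap A C)) (k : Fin N → C) (hk : ∀ i, k i ∈ K) :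
    ∃! φ : P →ₐ[A] C, (∀ i, φ (D.x i 1) = k i) ∧ δ.IsDPMorphism ε φ.toRingHom := by
  have hpre := preDP_of_dividedPowers ε
  have hgood : ∀ i, Good ε.dpow (k i) := fun i => good_of_dividedPowers ε (hk i)
  set φ := homOf D hpre k hk hgood with hφ
  have hφx : ∀ i n, φ (D.x i n) = ε.dpow n (k i) := fun i n => homOf_x D hpre k hk hgood i n
  have hS : I.map (algebraMap A P) ⊔ D.aug = Ideal.span ((algebraMap A P '' (I : Set A)) ∪
      {y : P | ∃ (i : Fin N) (n : ℕ), 1 ≤ n ∧ y = D.x i n}) := by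
    rw [Ideal.span_union]; rfl
  have hdp : δ.IsDPMorphism ε φ.toRingHom := by
    apply DividedPowers.IsDPMorphism.on_span δ ε hS
    · rintro y (⟨a, ha, rfl⟩ | ⟨i, n, hn, rfl⟩)
      · show φ (algebraMap A P a) ∈ K
        rw [AlgHom.commutes]
        exact hε.1 (Ideal.mem_map_of_mem _ ha)
      · show φ (D.x i n) ∈ K
        rw [hφx]
        exact ε.dpow_mem (by omega) (hk i)
    · rintro m y (⟨a, ha, rfl⟩ | ⟨i, n, hn, rfl⟩)
      · show φ (δ.dpow m (algebraMap A P a)) = ε.dpow m (φ (algebraMap A P a))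
        rw [hδ1.2 a ha, AlgHom.commutes, AlgHom.commutes, hε.2 a ha]
      · show φ (δ.dpow m (D.x i n)) = ε.dpow m (φ (D.x i n))
        rw [hδ2 m _ (D.x_mem_aug i hn), dpow_x D δplus hδplus i m n (by omega), map_mul,
          map_natCast, hφx, hφx, ε.dpow_comp (by omega) (hk i)]
  refine ⟨φ, ⟨fun i => by rw [hφx, ε.dpow_one (hk i)], hdp⟩, ?_⟩
  rintro ψ ⟨hψ1, hψ⟩
  have hψx : ∀ i n, ψ (D.x i n) = ε.dpow n (k i) := by
    intro i n
    have hmem : D.x i 1 ∈ I.map (algebraMap A P) ⊔ D.aug :=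
      Ideal.mem_sup_right (D.x_mem_aug i le_rfl)
    have := hψ.map_dpow (n := n) hmem
    rw [AlgHom.toRingHom_eq_coe, RingHom.coe_coe] at this
    rw [← hδplus i n, ← hδ2 n _ (D.x_mem_aug i le_rfl), this, hψ1]
  apply AlgHom.toLinearMap_injective
  apply D.b.ext
  intro e
  show ψ (D.b e) = φ (D.b e)
  rw [D.b_eq_prod, map_prod, map_prod]
  apply Finset.prod_congr rfl
  intro i _
  rw [hψx, hφx]

end Universal

end Groth.Agent.Lib.helper22.DPPoly
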