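import Mathlib
import Groth.Agent.S2211

set_option autoImplicit false

namespace Groth.Agent.Lib.helper22.DPPrime

open Nat

variable (p : ℕ)

/-- `N n = n! / ((n/p)! * p!^(n/p))`, written as a product of three integers prime to `p` -/
def N (n : ℕ) : ℕ := (n % p)! * n.choose (n % p) * uniformBell (n / p) p

variable {p}

lemma N_spec (hp : p.Prime) (n : ℕ) : N p n * ((n / p)! * p ! ^ (n / p)) = n ! := by
  have h1 := uniformBell_mul_eq (n / p) hp.ne_zero
  have h2 := Nat.choose_mul_factorial_mul_factorial (Nat.mod_le n p)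
  have h3 : n - n % p = n / p * p := by
    have := Nat.div_add_mod n p
    rw [mul_comm] at this
    omega
  rw [h3] at h2
  rw [N, ← h2, ← h1]
  ring

lemma not_dvd_N (hp : p.Prime) (n : ℕ) : ¬ p ∣ N p n := by
  rw [N]
  intro h
  rcases (Nat.Prime.dvd_mul hp).mp h with h | h
  · rcases (Nat.Prime.dvd_mul hp).mp h with h | h
    · exact absurd ((hp.dvd_factorial).mp h) (not_le.mpr (Nat.mod_lt n hp.pos))
    · have h4 : n = n % p + n / p * p := by
        have := Nat.div_add_mod n p
        rw [mul_comm] at this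
        omega
      have := Groth.Agent.S2211.not_dvd_choose p hp (n / p) (n % p) (Nat.mod_lt n hp.pos)
      rw [← h4] at this
      exact this h
  · exact Groth.Agent.S2211.not_dvd_uniformBell p hp (n / p) h

lemma N_pos (hp : p.Prime) (n : ℕ) : 0 < N p n := by
  rcases Nat.eq_zero_or_pos (N p n) with h | h
  · exact absurd (h ▸ dvd_zero p) (not_dvd_N hp n)
  · exact h

/-- the value of `N` in `ℚ` -/
lemma N_cast (hp : p.Prime) (n : ℕ) :
    (N p n : ℚ) = (n ! : ℚ) / ((n / p)! * (p ! : ℚ) ^ (n / p)) := by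
  rw [eq_div_iff (by positivity)]
  exact_mod_cast N_spec hp n

lemma uniformBell_cast (m : ℕ) {n : ℕ} (hn : n ≠ 0) :
    (uniformBell m n : ℚ) = ((m * n)! : ℚ) / ((n ! : ℚ) ^ m * m !) := by
  rw [eq_div_iff (by positivity)]
  have := uniformBell_mul_eq m hn
  rw [← mul_assoc]
  exact_mod_cast this

lemma N_one (hp : p.Prime) : N p 1 = 1 := by
  have h1 : 1 % p = 1 := Nat.mod_eq_of_lt hp.one_lt
  have h2 : 1 / p = 0 := Nat.div_eq_of_lt hp.one_lt
  simp [N, h1, h2, uniformBell_zero_left]

lemma N_prime (hp : p.Prime) : N p p = 1 := by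
  simp [N, Nat.div_self hp.pos, uniformBell_one_left]

lemma N_lt {n : ℕ} (hn : n < p) : N p n = n ! := by
  simp [N, Nat.mod_eq_of_lt hn, Nat.div_eq_of_lt hn, uniformBell_zero_left]

lemma N_mul (hp : p.Prime) (a : ℕ) : N p (p * a) = uniformBell a p := by
  simp [N, Nat.mul_div_cancel_left a hp.pos]


lemma add_div_of_lt (hp : p.Prime) {n m : ℕ} (h : n % p + m % p < p) :
    (n + m) / p = n / p + m / p ∧ (n + m) % p = n % p + m % p := by
  have hn := Nat.div_add_mod n p
  have hm := Nat.div_add_mod m p
  have e : n + m = (n % p + m % p) + p * (n / p + m / p) := by rw [mul_add]; omega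
  constructor
  · rw [e, Nat.add_mul_div_left _ _ hp.pos, Nat.div_eq_of_lt h, zero_add]
  · rw [e, Nat.add_mul_mod_self_left, Nat.mod_eq_of_lt h]

lemma add_div_of_ge (hp : p.Prime) {n m : ℕ} (h : p ≤ n % p + m % p) :
    (n + m) / p = n / p + m / p + 1 ∧ (n + m) % p + p = n % p + m % p := by
  have hn := Nat.div_add_mod n p
  have hm := Nat.div_add_mod m p
  have h1 := Nat.mod_lt n hp.pos
  have h2 := Nat.mod_lt m hp.pos
  have hlt : n % p + m % p - p < p := by omega
  have e : n + m = (n % p + m % p - p) + p * (n / p + m / p + 1) := by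
    rw [mul_add, mul_add, mul_one]; omega
  constructor
  · rw [e, Nat.add_mul_div_left _ _ hp.pos, Nat.div_eq_of_lt hlt, zero_add]
  · rw [e, Nat.add_mul_mod_self_left, Nat.mod_eq_of_lt hlt]
    omega

/-- numeric identity for the product rule, no carry -/
lemma num_I1 (hp : p.Prime) {n m : ℕ} (h : n % p + m % p < p) :
    (n / p + m / p).choose (n / p) * N p (n + m) = (n + m).choose n * N p n * N p m := by
  apply Nat.cast_injective (R := ℚ)
  push_cast
  rw [N_cast hp, N_cast hp, N_cast hp, (add_div_of_lt hp h).1, Nat.cast_add_choose,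
    Nat.cast_add_choose, pow_add]
  field_simp

/-- numeric identity for the product rule, with carry -/
lemma num_I2 (hp : p.Prime) {n m : ℕ} (h : p ≤ n % p + m % p) :
    p ! * (n / p + m / p).choose (n / p) * (n / p + m / p + 1) * N p (n + m) =
      (n + m).choose n * N p n * N p m := by
  apply Nat.cast_injective (R := ℚ)
  push_cast
  rw [N_cast hp, N_cast hp, N_cast hp, (add_div_of_ge hp h).1, Nat.cast_add_choose,
    Nat.cast_add_choose, pow_add, pow_add, pow_one, Nat.factorial_succ]
  push_cast
  field_simp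

end Groth.Agent.Lib.helper22.DPPrime
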