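import Mathlib
import Groth.Agent.Lib.Helper22.DPPrimeNum

set_option autoImplicit false

namespace Groth.Agent.Lib.helper22.DPPrime

open Nat

variable {p : ℕ}

lemma num_J0 (hp : p.Prime) {a : ℕ} (ha : a ≠ 0) :
    uniformBell a p * a ! * p ! ^ (a - 1) = uniformBell p a * a ! ^ p := by
  obtain ⟨b, rfl⟩ := Nat.exists_eq_succ_of_ne_zero ha
  apply Nat.cast_injective (R := ℚ)
  push_cast
  rw [uniformBell_cast _ hp.ne_zero, uniformBell_cast _ ha, pow_succ (p ! : ℚ) b,
    mul_comm p b.succ]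
  field_simp

lemma num_J1 (hp : p.Prime) {q r : ℕ} (hq : q ≠ 0) (hr : r < p) :
    uniformBell (p * q + r) p * N p (p * q + r) * p ! ^ r * uniformBell p q =
      uniformBell p (p * q + r) * uniformBell q p * N p (p * q + r) ^ p := by
  have ha : p * q + r ≠ 0 := by
    have := hp.pos
    have : 0 < p * q := Nat.mul_pos hp.pos (Nat.pos_of_ne_zero hq)
    omega
  have hdiv : (p * q + r) / p = q := by
    rw [add_comm, Nat.add_mul_div_left _ _ hp.pos, Nat.div_eq_of_lt hr, zero_add]
  apply Nat.cast_injective (R := ℚ)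
  push_cast
  rw [uniformBell_cast _ hp.ne_zero, uniformBell_cast _ hq, uniformBell_cast _ ha,
    uniformBell_cast _ hp.ne_zero, N_cast hp, hdiv, mul_comm (p * q + r) p, mul_comm q p]
  have e : ((p ! : ℚ)) ^ (p * q + r) = ((p ! : ℚ) ^ q) ^ p * (p ! : ℚ) ^ r := by
    rw [pow_add, ← pow_mul, mul_comm q p]
  rw [e, div_pow, mul_pow]
  field_simp

end Groth.Agent.Lib.helper22.DPPrime
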