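import Mathlib
import Groth.Agent.Lib.Helper22.DPPrimeNum
import Groth.Agent.Lib.Helper22.DPPrimeNum2

set_option autoImplicit false

namespace Groth.Agent.Lib.helper22.DPPrime

open Nat

/-- the hypotheses on a candidate `p`-th divided power `d` -/
structure Hyp (p : ℕ) {A : Type*} [CommRing A] (I : Ideal A) (d : A → A) : Prop where
  hp : p.Prime
  hA : ∀ n : ℕ, ¬ p ∣ n → IsUnit (n : A)
  hdI : ∀ x ∈ I, d x ∈ I
  h1 : ∀ x ∈ I, (p.factorial : A) * d x = x ^ p
  h2 : ∀ (a x : A), x ∈ I → d (a * x) = a ^ p * d x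
  h3 : ∀ x ∈ I, ∀ y ∈ I, d (x + y) = d x + d y +
      ((Finset.HasAntidiagonal.antidiagonal p).filter fun k => 0 < k.1 ∧ 0 < k.2).sum
        fun k => Ring.inverse ((k.1.factorial * k.2.factorial : ℕ) : A) * x ^ k.1 * y ^ k.2

variable {A : Type*} [CommRing A]

/-- the candidate divided powers, defined by recursion on the base-`p` expansion -/
noncomputable def g (p : ℕ) (d : A → A) : ℕ → A → A
  | 0, _ => 1
  | (n + 1), z =>
    if _hp : 1 < p then
      Ring.inverse ((N p (n + 1) : ℕ) : A) * z ^ ((n + 1) % p) * g p d ((n + 1) / p) (d z)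
    else 0
termination_by n => n
decreasing_by exact Nat.div_lt_self (Nat.succ_pos n) _hp

variable {p : ℕ} {I : Ideal A} {d : A → A}

@[simp] lemma g_zero (z : A) : g p d 0 z = 1 := by
  rw [g]

namespace Hyp

variable (H : Hyp p I d)
include H

lemma isUnit_N (n : ℕ) : IsUnit ((N p n : ℕ) : A) := H.hA _ (not_dvd_N H.hp n)

/-- the defining relation of `g` -/
lemma N_mul_g {n : ℕ} (hn : n ≠ 0) (z : A) :
    ((N p n : ℕ) : A) * g p d n z = z ^ (n % p) * g p d (n / p) (d z) := by
  obtain ⟨k, rfl⟩ := Nat.exists_eq_succ_of_ne_zero hn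
  rw [g, dif_pos H.hp.one_lt, ← mul_assoc, ← mul_assoc, Ring.mul_inverse_cancel _ (H.isUnit_N _),
    one_mul]

lemma d_zero : d 0 = 0 := by
  have := H.h2 0 0 I.zero_mem
  rwa [zero_mul, zero_pow H.hp.ne_zero, zero_mul] at this

lemma g_one (z : A) : g p d 1 z = z := by
  have := H.N_mul_g one_ne_zero z
  rwa [N_one H.hp, Nat.cast_one, one_mul, Nat.mod_eq_of_lt H.hp.one_lt, Nat.div_eq_of_lt H.hp.one_lt,
    g_zero, mul_one, pow_one] at this

lemma g_prime (z : A) : g p d p z = d z := by
  have := H.N_mul_g H.hp.ne_zero z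
  rwa [N_prime H.hp, Nat.cast_one, one_mul, Nat.mod_self, Nat.div_self H.hp.pos, pow_zero, one_mul,
    H.g_one] at this

lemma g_mem : ∀ (n : ℕ), n ≠ 0 → ∀ z ∈ I, g p d n z ∈ I := by
  intro n
  induction n using Nat.strong_induction_on with
  | _ n ih =>
    intro hn z hz
    have h := H.N_mul_g hn z
    have hmem : z ^ (n % p) * g p d (n / p) (d z) ∈ I := by
      by_cases hr : n % p = 0
      · have hq : n / p ≠ 0 := by
          intro hq
          have := Nat.div_add_mod n p
          rw [hq, hr] at this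
          omega
        exact I.mul_mem_left _ (ih (n / p) (Nat.div_lt_self (Nat.pos_of_ne_zero hn) H.hp.one_lt) hq
          (d z) (H.hdI z hz))
      · exact I.mul_mem_right _ (I.pow_mem_of_mem hz _ (Nat.pos_of_ne_zero hr))
    rw [← h] at hmem
    exact (Ideal.unit_mul_mem_iff_mem I (H.isUnit_N n)).mp hmem


lemma g_mul : ∀ (n : ℕ) (a : A), ∀ z ∈ I, g p d n (a * z) = a ^ n * g p d n z := by
  intro n
  induction n using Nat.strong_induction_on with
  | _ n ih =>
    intro a z hz
    by_cases hn : n = 0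
    · subst hn; simp
    · apply (H.isUnit_N n).mul_left_cancel
      have hpow : a ^ n = a ^ (n % p) * (a ^ p) ^ (n / p) := by
        rw [← pow_mul, ← pow_add, Nat.mod_add_div]
      rw [H.N_mul_g hn, H.h2 a z hz, ih (n / p) (Nat.div_lt_self (Nat.pos_of_ne_zero hn) H.hp.one_lt)
        _ _ (H.hdI z hz), mul_left_comm _ (a ^ n), H.N_mul_g hn, hpow, mul_pow]
      ring

lemma factorial_mul_g : ∀ (n : ℕ), ∀ z ∈ I, (n ! : A) * g p d n z = z ^ n := by
  intro n
  induction n using Nat.strong_induction_on with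
  | _ n ih =>
    intro z hz
    by_cases hn : n = 0
    · subst hn; simp
    · have hspec : (n ! : A) = ((N p n : ℕ) : A) * (((n / p)! : A) * (p ! : A) ^ (n / p)) := by
        exact_mod_cast congrArg (Nat.cast (R := A)) (N_spec H.hp n).symm
      have hq := ih (n / p) (Nat.div_lt_self (Nat.pos_of_ne_zero hn) H.hp.one_lt) _ (H.hdI z hz)
      calc (n ! : A) * g p d n z
          = (((n / p)! : A) * (p ! : A) ^ (n / p)) * (((N p n : ℕ) : A) * g p d n z) := by
            rw [hspec]; ring
        _ = z ^ (n % p) * (p ! : A) ^ (n / p) * (((n / p)! : A) * g p d (n / p) (d z)) := by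
            rw [H.N_mul_g hn]; ring
        _ = z ^ (n % p) * ((p ! : A) * d z) ^ (n / p) := by rw [hq, mul_pow]; ring
        _ = z ^ n := by rw [H.h1 z hz, ← pow_mul, ← pow_add, Nat.mod_add_div]

/-- **the product rule** -/
lemma g_mul_g : ∀ (s n m : ℕ), n + m = s → ∀ z ∈ I,
    g p d n z * g p d m z = ((n + m).choose n : A) * g p d (n + m) z := by
  intro s
  induction s using Nat.strong_induction_on with
  | _ s ih =>
    intro n m hs z hz
    by_cases hn : n = 0
    · subst hn; simp
    by_cases hm : m = 0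
    · subst hm; simp
    have hnm : n + m ≠ 0 := by omega
    have hU : IsUnit (((N p n : ℕ) : A) * ((N p m : ℕ) : A) * ((N p (n + m) : ℕ) : A)) :=
      ((H.isUnit_N n).mul (H.isUnit_N m)).mul (H.isUnit_N (n + m))
    apply hU.mul_left_cancel
    have hL : ((N p n : ℕ) : A) * ((N p m : ℕ) : A) * ((N p (n + m) : ℕ) : A) *
        (g p d n z * g p d m z) =
        ((N p (n + m) : ℕ) : A) * (z ^ (n % p + m % p) *
          (g p d (n / p) (d z) * g p d (m / p) (d z))) := by
      calc _ = ((N p (n + m) : ℕ) : A) * ((((N p n : ℕ) : A) * g p d n z) *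
            (((N p m : ℕ) : A) * g p d m z)) := by ring
        _ = _ := by rw [H.N_mul_g hn, H.N_mul_g hm, pow_add]; ring
    have hR : ((N p n : ℕ) : A) * ((N p m : ℕ) : A) * ((N p (n + m) : ℕ) : A) *
        (((n + m).choose n : A) * g p d (n + m) z) =
        ((n + m).choose n : A) * ((N p n : ℕ) : A) * ((N p m : ℕ) : A) *
          (z ^ ((n + m) % p) * g p d ((n + m) / p) (d z)) := by
      calc _ = ((n + m).choose n : A) * ((N p n : ℕ) : A) * ((N p m : ℕ) : A) *
            (((N p (n + m) : ℕ) : A) * g p d (n + m) z) := by ring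
        _ = _ := by rw [H.N_mul_g hnm]
    rw [hL, hR]
    have hdz := H.hdI z hz
    have hlt : n / p + m / p < s := by
      have h1 := Nat.div_lt_self (Nat.pos_of_ne_zero hn) H.hp.one_lt
      have h2 := Nat.div_le_self m p
      omega
    rw [ih _ hlt _ _ rfl _ hdz]
    by_cases hc : n % p + m % p < p
    · obtain ⟨e1, e2⟩ := add_div_of_lt H.hp hc
      rw [e1, e2]
      have hnum : (((n / p + m / p).choose (n / p) : ℕ) : A) * ((N p (n + m) : ℕ) : A) =
          ((n + m).choose n : A) * ((N p n : ℕ) : A) * ((N p m : ℕ) : A) := by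
        exact_mod_cast congrArg (Nat.cast (R := A)) (num_I1 H.hp hc)
      calc _ = ((((n / p + m / p).choose (n / p) : ℕ) : A) * ((N p (n + m) : ℕ) : A)) *
            (z ^ (n % p + m % p) * g p d (n / p + m / p) (d z)) := by ring
        _ = _ := by rw [hnum]
    · push Not at hc
      obtain ⟨e1, e2⟩ := add_div_of_ge H.hp hc
      rw [e1, ← e2, pow_add, ← H.h1 z hz]
      have hlt2 : 1 + (n / p + m / p) < s := by
        have h1 := Nat.mod_lt n H.hp.pos
        have h2 := Nat.mod_lt m H.hp.pos
        have h3 := Nat.div_add_mod n p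
        have h4 := Nat.div_add_mod m p
        have h5 := H.hp.two_le
        have h6 : 2 * (n / p) ≤ p * (n / p) := Nat.mul_le_mul_right _ h5
        have h7 : 2 * (m / p) ≤ p * (m / p) := Nat.mul_le_mul_right _ h5
        omega
      have hstep := ih _ hlt2 1 (n / p + m / p) rfl _ hdz
      rw [H.g_one, Nat.choose_one_right] at hstep
      have hnum : ((p ! : ℕ) : A) * (((n / p + m / p).choose (n / p) : ℕ) : A) *
          ((n / p + m / p + 1 : ℕ) : A) * ((N p (n + m) : ℕ) : A) =
          ((n + m).choose n : A) * ((N p n : ℕ) : A) * ((N p m : ℕ) : A) := by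
        exact_mod_cast congrArg (Nat.cast (R := A)) (num_I2 H.hp hc)
      have e3 : n / p + m / p + 1 = 1 + (n / p + m / p) := by ring
      calc _ = ((N p (n + m) : ℕ) : A) * (z ^ ((n + m) % p) * ((p ! : A) *
            (((n / p + m / p).choose (n / p) : ℕ) : A)) *
              (d z * g p d (n / p + m / p) (d z))) := by ring
        _ = ((N p (n + m) : ℕ) : A) * (z ^ ((n + m) % p) * ((p ! : A) *
            (((n / p + m / p).choose (n / p) : ℕ) : A)) *
              (((1 + (n / p + m / p) : ℕ) : A) * g p d (1 + (n / p + m / p)) (d z))) := by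
            rw [hstep]
        _ = (((p ! : ℕ) : A) * (((n / p + m / p).choose (n / p) : ℕ) : A) *
              ((n / p + m / p + 1 : ℕ) : A) * ((N p (n + m) : ℕ) : A)) *
            (z ^ ((n + m) % p) * g p d (n / p + m / p + 1) (d z)) := by
            rw [e3]; ring
        _ = _ := by rw [hnum]


lemma isUnit_uniformBell (a : ℕ) : IsUnit ((uniformBell a p : ℕ) : A) := by
  rw [← N_mul H.hp a]
  exact H.isUnit_N _

/-- relation between `g (p * a) z` and `g a (d z)` -/
lemma uniformBell_mul_g (a : ℕ) (ha : a ≠ 0) (z : A) :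
    ((uniformBell a p : ℕ) : A) * g p d (p * a) z = g p d a (d z) := by
  have := H.N_mul_g (Nat.mul_ne_zero H.hp.ne_zero ha) z
  rwa [N_mul H.hp, Nat.mul_mod_right, pow_zero, one_mul, Nat.mul_div_cancel_left a H.hp.pos] at this

/-- **the composition rule for the `p`-th divided power**, first form -/
lemma d_g_aux : ∀ (a : ℕ), a ≠ 0 → ∀ z ∈ I,
    ((uniformBell a p : ℕ) : A) * d (g p d a z) = ((uniformBell p a : ℕ) : A) * g p d a (d z) := by
  intro a
  induction a using Nat.strong_induction_on with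
  | _ a ih =>
    intro ha z hz
    have hdz := H.hdI z hz
    have hga := H.g_mem a ha z hz
    have hF1 : ((N p a : ℕ) : A) ^ p * d (g p d a z) = d (z ^ (a % p) * g p d (a / p) (d z)) := by
      rw [← H.h2 _ _ hga, H.N_mul_g ha]
    have hR := H.N_mul_g ha (d z)
    by_cases hq : a / p = 0
    · -- `a < p`
      have hap : a < p := by
        by_contra hcon
        push Not at hcon
        exact absurd hq (Nat.pos_iff_ne_zero.mp (Nat.div_pos hcon H.hp.pos))
      have hr : a % p = a := Nat.mod_eq_of_lt hap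
      rw [hq, hr, g_zero, mul_one] at hF1 hR
      obtain ⟨b, rfl⟩ := Nat.exists_eq_succ_of_ne_zero ha
      have hd : d (z ^ (b + 1)) = ((p ! : ℕ) : A) ^ b * d z ^ (b + 1) := by
        rw [pow_succ, H.h2 _ _ hz, ← pow_mul, mul_comm b p, pow_mul, ← H.h1 z hz, mul_pow, pow_succ]
        ring
      have hU : IsUnit (((N p (b + 1) : ℕ) : A) ^ p * ((N p (b + 1) : ℕ) : A)) :=
        ((H.isUnit_N _).pow p).mul (H.isUnit_N _)
      apply hU.mul_left_cancel
      have hnum : ((uniformBell (b + 1) p : ℕ) : A) * (((b + 1) ! : ℕ) : A) * ((p ! : ℕ) : A) ^ b =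
          ((uniformBell p (b + 1) : ℕ) : A) * (((b + 1) ! : ℕ) : A) ^ p := by
        have := num_J0 H.hp ha
        rw [Nat.succ_sub_one] at this
        exact_mod_cast congrArg (Nat.cast (R := A)) this
      have hN : N p (b + 1) = (b + 1)! := N_lt hap
      calc ((N p (b + 1) : ℕ) : A) ^ p * ((N p (b + 1) : ℕ) : A) *
            (((uniformBell (b + 1) p : ℕ) : A) * d (g p d (b + 1) z))
          = ((N p (b + 1) : ℕ) : A) * ((uniformBell (b + 1) p : ℕ) : A) *
              (((N p (b + 1) : ℕ) : A) ^ p * d (g p d (b + 1) z)) := by ring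
        _ = (((uniformBell (b + 1) p : ℕ) : A) * (((b + 1) ! : ℕ) : A) * ((p ! : ℕ) : A) ^ b) *
              d z ^ (b + 1) := by rw [hF1, hd, hN]; ring
        _ = ((uniformBell p (b + 1) : ℕ) : A) * (((b + 1) ! : ℕ) : A) ^ p * d z ^ (b + 1) := by
            rw [hnum]
        _ = _ := by rw [← hR, hN]; ring
    · -- `a / p ≥ 1`
      have hw := H.g_mem (a / p) hq (d z) hdz
      have hlt : a / p < a := Nat.div_lt_self (Nat.pos_of_ne_zero ha) H.hp.one_lt
      have hIH := ih (a / p) hlt hq (d z) hdz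
      have hd : d (z ^ (a % p) * g p d (a / p) (d z)) =
          ((p ! : ℕ) : A) ^ (a % p) * d z ^ (a % p) * d (g p d (a / p) (d z)) := by
        rw [H.h2 _ _ hw, ← pow_mul, mul_comm (a % p) p, pow_mul, ← H.h1 z hz, mul_pow]
      have hU : IsUnit (((N p a : ℕ) : A) ^ p * ((N p a : ℕ) : A) *
          ((uniformBell (a / p) p : ℕ) : A)) :=
        (((H.isUnit_N _).pow p).mul (H.isUnit_N _)).mul (H.isUnit_uniformBell _)
      apply hU.mul_left_cancel
      have hnum : ((uniformBell a p : ℕ) : A) * ((N p a : ℕ) : A) * ((p ! : ℕ) : A) ^ (a % p) *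
            ((uniformBell p (a / p) : ℕ) : A) =
          ((uniformBell p a : ℕ) : A) * ((uniformBell (a / p) p : ℕ) : A) * ((N p a : ℕ) : A) ^ p := by
        have := num_J1 H.hp hq (Nat.mod_lt a H.hp.pos)
        rw [Nat.div_add_mod] at this
        exact_mod_cast congrArg (Nat.cast (R := A)) this
      calc ((N p a : ℕ) : A) ^ p * ((N p a : ℕ) : A) * ((uniformBell (a / p) p : ℕ) : A) *
            (((uniformBell a p : ℕ) : A) * d (g p d a z))
          = ((N p a : ℕ) : A) * ((uniformBell a p : ℕ) : A) * ((uniformBell (a / p) p : ℕ) : A) *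
              (((N p a : ℕ) : A) ^ p * d (g p d a z)) := by ring
        _ = ((N p a : ℕ) : A) * ((uniformBell a p : ℕ) : A) * ((p ! : ℕ) : A) ^ (a % p) *
              d z ^ (a % p) * (((uniformBell (a / p) p : ℕ) : A) * d (g p d (a / p) (d z))) := by
            rw [hF1, hd]; ring
        _ = (((uniformBell a p : ℕ) : A) * ((N p a : ℕ) : A) * ((p ! : ℕ) : A) ^ (a % p) *
              ((uniformBell p (a / p) : ℕ) : A)) * (d z ^ (a % p) * g p d (a / p) (d (d z))) := by
            rw [hIH]; ring
        _ = ((uniformBell p a : ℕ) : A) * ((uniformBell (a / p) p : ℕ) : A) * ((N p a : ℕ) : A) ^ p *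
              (d z ^ (a % p) * g p d (a / p) (d (d z))) := by rw [hnum]
        _ = _ := by rw [← hR]; ring

/-- **the composition rule for the `p`-th divided power** -/
lemma d_g (a : ℕ) (ha : a ≠ 0) (z : A) (hz : z ∈ I) :
    d (g p d a z) = ((uniformBell p a : ℕ) : A) * g p d (p * a) z := by
  apply (H.isUnit_uniformBell a).mul_left_cancel
  rw [H.d_g_aux a ha z hz, mul_left_comm, H.uniformBell_mul_g a ha z]

end Hyp

end Groth.Agent.Lib.helper22.DPPrime
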