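import Mathlib
import Groth.Agent.Lib.Helper22.DPPrimeG
import Groth.Agent.Lib.Helper22.DPPolyMain
import Groth.Agent.Lib.Helper22.DPPolyGen

set_option autoImplicit false

namespace Groth.Agent.Lib.helper22.DPPrime

open Nat Groth.Agent.Lib.helper22.DPPoly

/-- the recursion satisfied by every divided power structure -/
lemma dp_rec {P : Type*} [CommRing P] {J : Ideal P} (τ : DividedPowers J) {p : ℕ} (hp : p.Prime)
    (n : ℕ) {f : P} (hf : f ∈ J) :
    ((N p n : ℕ) : P) * τ.dpow n f = f ^ (n % p) * τ.dpow (n / p) (τ.dpow p f) := by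
  have h1 : f ^ (n % p) = ((n % p)! : P) * τ.dpow (n % p) f := (τ.factorial_mul_dpow_eq_pow hf).symm
  have h2 := τ.dpow_comp (m := n / p) hp.ne_zero hf
  have h3 := τ.mul_dpow (m := n % p) (n := n / p * p) hf
  have h4 : n % p + n / p * p = n := by
    have := Nat.div_add_mod n p
    rw [mul_comm] at this
    omega
  rw [h4] at h3
  rw [h1, h2, mul_mul_mul_comm, h3, N]
  push_cast
  ring

section Hom

variable {A : Type*} [CommRing A] {p : ℕ} {I : Ideal A} {d : A → A} (H : Hyp p I d)
  {R : Type*} [CommRing R] [Algebra R A]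
  {N' : ℕ} {P : Type*} [CommRing P] [Algebra R P] (D : Data R N' P)
  (τ : DividedPowers D.aug) (hτ : ∀ i n, τ.dpow n (D.x i 1) = D.x i n)
  (z : Fin N' → A) (hz : ∀ i, z i ∈ I)

/-- the comparison homomorphism -/
noncomputable def phiG : P →ₐ[R] A :=
  D.lift (fun e => ∏ i, g p d (e i) (z i)) (by simp) (by
    intro e e'
    rw [← Finset.prod_mul_distrib, nsmul_eq_mul, Nat.cast_prod, ← Finset.prod_mul_distrib]
    apply Finset.prod_congr rfl
    intro i _
    rw [H.g_mul_g _ _ _ rfl _ (hz i)]
    rfl)

lemma phiG_x (i : Fin N') (n : ℕ) : phiG H D z hz (D.x i n) = g p d n (z i) := by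
  rw [phiG, D.x_eq, D.lift_b, Finset.prod_eq_single i]
  · simp
  · intro j _ hji
    rw [Finsupp.single_eq_of_ne hji, g_zero]
  · intro hi; exact absurd (Finset.mem_univ i) hi

lemma phiG_mem {f : P} (hf : f ∈ D.aug) : phiG H D z hz f ∈ I := by
  have hle : D.aug ≤ I.comap (phiG H D z hz).toRingHom := by
    rw [Data.aug, Ideal.span_le]
    rintro _ ⟨i, n, hn, rfl⟩
    show phiG H D z hz (D.x i n) ∈ I
    rw [phiG_x]
    exact H.g_mem n (by omega) _ (hz i)
  exact hle hf

lemma filter_not_antidiagonal (p : ℕ) :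
    (Finset.HasAntidiagonal.antidiagonal p).filter (fun k => ¬ (0 < k.1 ∧ 0 < k.2)) =
      {(0, p), (p, 0)} := by
  ext ⟨i, j⟩
  simp only [Finset.mem_filter, Finset.HasAntidiagonal.mem_antidiagonal, Finset.mem_insert,
    Finset.mem_singleton, Prod.mk.injEq]
  omega

include hτ in
/-- compatibility with the `p`-th divided power -/
lemma phiG_dpow_prime {f : P} (hf : f ∈ D.aug) :
    phiG H D z hz (τ.dpow p f) = d (phiG H D z hz f) := by
  classical
  have h0 := (D.mem_aug_iff f).mp hf
  have key : ∀ (s : Finset (Fin N' →₀ ℕ)), (∀ e ∈ s, e ≠ 0) →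
      phiG H D z hz (τ.dpow p (∑ e ∈ s, D.b.repr f e • D.b e)) =
        d (phiG H D z hz (∑ e ∈ s, D.b.repr f e • D.b e)) := by
    intro s
    induction s using Finset.induction_on with
    | empty =>
      intro _
      rw [Finset.sum_empty, map_zero, τ.dpow_eval_zero H.hp.ne_zero, map_zero, H.d_zero]
    | insert e s hes ih =>
      intro hs
      have he : e ≠ 0 := hs e (Finset.mem_insert_self e s)
      have hs' : ∀ e' ∈ s, e' ≠ 0 := fun e' he' => hs e' (Finset.mem_insert_of_mem he')
      have hm1 : D.b.repr f e • D.b e ∈ D.aug := by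
        rw [Algebra.smul_def]
        exact Ideal.mul_mem_left _ _ (D.b_mem_aug he)
      have hm2 : ∑ e' ∈ s, D.b.repr f e' • D.b e' ∈ D.aug := by
        apply Ideal.sum_mem
        intro e' he'
        rw [Algebra.smul_def]
        exact Ideal.mul_mem_left _ _ (D.b_mem_aug (hs' e' he'))
      -- the single term
      have hbase : phiG H D z hz (τ.dpow p (D.b.repr f e • D.b e)) =
          d (phiG H D z hz (D.b.repr f e • D.b e)) := by
        obtain ⟨i, hi⟩ : ∃ i, e i ≠ 0 := by
          by_contra hcon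
          push Not at hcon
          exact he (Finsupp.ext hcon)
        have hb : D.b.repr f e • D.b e =
            (algebraMap R P (D.b.repr f e) * ∏ j ∈ Finset.univ.erase i, D.x j (e j)) *
              D.x i (e i) := by
          rw [D.b_eq_prod, ← Finset.mul_prod_erase _ _ (Finset.mem_univ i), Algebra.smul_def]
          ring
        rw [hb, τ.dpow_mul (D.x_mem_aug i (Nat.one_le_iff_ne_zero.mpr hi)),
          dpow_x D τ hτ i p _ hi, map_mul, map_mul, map_pow, map_natCast, phiG_x,
          map_mul (phiG H D z hz) _ (D.x i (e i)), phiG_x, H.h2 _ _ (H.g_mem _ hi _ (hz i)),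
          H.d_g _ hi _ (hz i)]
      have hx := phiG_mem H D z hz hm1
      have hy := phiG_mem H D z hz hm2
      rw [Finset.sum_insert hes, τ.dpow_add hm1 hm2, map_sum, map_add, H.h3 _ hx _ hy,
        ← Finset.sum_filter_add_sum_filter_not (Finset.HasAntidiagonal.antidiagonal p)
          (fun k => 0 < k.1 ∧ 0 < k.2),
        filter_not_antidiagonal p, Finset.sum_pair (by
          intro h; exact H.hp.ne_zero (Prod.mk.inj h).1.symm)]
      simp only [τ.dpow_zero hm1, τ.dpow_zero hm2, one_mul, mul_one]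
      rw [hbase, ih hs']
      have hfilter : ∑ k ∈ (Finset.HasAntidiagonal.antidiagonal p).filter
            (fun k => 0 < k.1 ∧ 0 < k.2),
            phiG H D z hz (τ.dpow k.1 (D.b.repr f e • D.b e) *
              τ.dpow k.2 (∑ e' ∈ s, D.b.repr f e' • D.b e')) =
          ∑ k ∈ (Finset.HasAntidiagonal.antidiagonal p).filter (fun k => 0 < k.1 ∧ 0 < k.2),
            Ring.inverse ((k.1.factorial * k.2.factorial : ℕ) : A) *
              phiG H D z hz (D.b.repr f e • D.b e) ^ k.1 *
              phiG H D z hz (∑ e' ∈ s, D.b.repr f e' • D.b e') ^ k.2 := by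
        apply Finset.sum_congr rfl
        intro k hk
        rw [Finset.mem_filter, Finset.HasAntidiagonal.mem_antidiagonal] at hk
        have hk1 : k.1 < p := by omega
        have hk2 : k.2 < p := by omega
        have hu : IsUnit ((k.1.factorial * k.2.factorial : ℕ) : A) := by
          apply H.hA
          rw [Nat.Prime.dvd_mul H.hp, H.hp.dvd_factorial, H.hp.dvd_factorial]
          omega
        apply hu.mul_left_cancel
        rw [← mul_assoc, ← mul_assoc, Ring.mul_inverse_cancel _ hu, one_mul, map_mul]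
        push_cast
        rw [mul_mul_mul_comm, ← map_natCast (phiG H D z hz), ← map_natCast (phiG H D z hz),
          ← map_mul, ← map_mul, τ.factorial_mul_dpow_eq_pow hm1, τ.factorial_mul_dpow_eq_pow hm2,
          map_pow, map_pow]
      rw [hfilter]
      ring
  have hsum : f = ∑ e ∈ (D.b.repr f).support, D.b.repr f e • D.b e := by
    conv_lhs => rw [← D.b.linearCombination_repr f, Finsupp.linearCombination_apply, Finsupp.sum]
  have := key (D.b.repr f).support (by
    intro e he hzero
    rw [Finsupp.mem_support_iff, hzero] at he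
    exact he h0)
  rwa [← hsum] at this

include hτ in
/-- compatibility with all divided powers -/
lemma phiG_dpow : ∀ (n : ℕ) {f : P}, f ∈ D.aug →
    phiG H D z hz (τ.dpow n f) = g p d n (phiG H D z hz f) := by
  intro n
  induction n using Nat.strong_induction_on with
  | _ n ih =>
    intro f hf
    by_cases hn : n = 0
    · subst hn
      rw [τ.dpow_zero hf, map_one, g_zero]
    · apply (H.isUnit_N n).mul_left_cancel
      rw [H.N_mul_g hn, ← phiG_dpow_prime H D τ hτ z hz hf,
        ← ih (n / p) (Nat.div_lt_self (Nat.pos_of_ne_zero hn) H.hp.one_lt)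
          (τ.dpow_mem H.hp.ne_zero hf), ← map_pow, ← map_mul, ← dp_rec τ H.hp n hf, map_mul,
        map_natCast]

end Hom

section Main

variable {A : Type*} [CommRing A] {p : ℕ} {I : Ideal A} {d : A → A} (H : Hyp p I d)
include H

/-- additivity -/
theorem g_add (n : ℕ) {x y : A} (hx : x ∈ I) (hy : y ∈ I) :
    g p d n (x + y) =
      (Finset.HasAntidiagonal.antidiagonal n).sum fun k => g p d k.1 x * g p d k.2 y := by
  have hSK : Function.Injective (algebraMap ℤ ℚ) := Int.cast_injective
  let D := modelData (S := ℤ) (K := ℚ) (N := 2) hSK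
  obtain ⟨τ, hτ⟩ := exists_dp D
  have hz : ∀ i, ![x, y] i ∈ I := by intro i; fin_cases i <;> simp [hx, hy]
  have hf0 : D.x 0 1 ∈ D.aug := D.x_mem_aug 0 le_rfl
  have hf1 : D.x 1 1 ∈ D.aug := D.x_mem_aug 1 le_rfl
  have e0 : phiG H D ![x, y] hz (D.x 0 1) = x := by rw [phiG_x, H.g_one]; rfl
  have e1 : phiG H D ![x, y] hz (D.x 1 1) = y := by rw [phiG_x, H.g_one]; rfl
  have h := phiG_dpow H D τ hτ ![x, y] hz n (D.aug.add_mem hf0 hf1)
  rw [map_add, e0, e1] at h
  rw [← h, τ.dpow_add hf0 hf1, map_sum]
  apply Finset.sum_congr rfl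
  intro k _
  rw [map_mul, phiG_dpow H D τ hτ ![x, y] hz k.1 hf0, phiG_dpow H D τ hτ ![x, y] hz k.2 hf1, e0, e1]

/-- the composition rule -/
theorem g_comp (m : ℕ) {n : ℕ} (hn : n ≠ 0) {x : A} (hx : x ∈ I) :
    g p d m (g p d n x) = ((uniformBell m n : ℕ) : A) * g p d (m * n) x := by
  have hSK : Function.Injective (algebraMap ℤ ℚ) := Int.cast_injective
  let D := modelData (S := ℤ) (K := ℚ) (N := 1) hSK
  obtain ⟨τ, hτ⟩ := exists_dp D
  have hz : ∀ i, ![x] i ∈ I := by intro i; fin_cases i; simpa using hx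
  have hf0 : D.x 0 1 ∈ D.aug := D.x_mem_aug 0 le_rfl
  have e0 : phiG H D ![x] hz (D.x 0 1) = x := by rw [phiG_x, H.g_one]; rfl
  have h1 := phiG_dpow H D τ hτ ![x] hz n hf0
  have h2 := phiG_dpow H D τ hτ ![x] hz m (τ.dpow_mem hn hf0)
  have h3 := phiG_dpow H D τ hτ ![x] hz (m * n) hf0
  rw [e0] at h1 h3
  rw [h1] at h2
  rw [← h2, τ.dpow_comp hn hf0, map_mul, map_natCast, h3]

open Classical in
/-- **the divided power structure with prescribed `p`-th divided power** -/
noncomputable def dividedPowers : DividedPowers I where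
  dpow n x := if x ∈ I then g p d n x else 0
  dpow_null := by intro n x hx; rw [if_neg hx]
  dpow_zero := by intro x hx; rw [if_pos hx, g_zero]
  dpow_one := by intro x hx; rw [if_pos hx, H.g_one]
  dpow_mem := by intro n x hn hx; rw [if_pos hx]; exact H.g_mem n hn x hx
  dpow_add := by
    intro n x y hx hy
    rw [if_pos (I.add_mem hx hy), g_add H n hx hy]
    apply Finset.sum_congr rfl
    intro k _
    rw [if_pos hx, if_pos hy]
  dpow_mul := by
    intro n a x hx
    rw [if_pos (I.mul_mem_left a hx), if_pos hx, H.g_mul n a x hx]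
  mul_dpow := by
    intro m n x hx
    rw [if_pos hx, if_pos hx, if_pos hx, H.g_mul_g _ m n rfl x hx]
  dpow_comp := by
    intro m n x hn hx
    rw [if_pos hx, if_pos hx, if_pos (H.g_mem n hn x hx), g_comp H m hn hx]

open Classical in
lemma dividedPowers_dpow_prime {x : A} (hx : x ∈ I) : (dividedPowers H).dpow p x = d x := by
  show (if x ∈ I then g p d p x else 0) = d x
  rw [if_pos hx, H.g_prime]

end Main

end Groth.Agent.Lib.helper22.DPPrime
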