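import Mathlib
import Groth.Agent.Lib.Helper22.DPPolyGen

set_option autoImplicit false

namespace Groth.Agent.Lib.helper22.DPPrincipal

open Groth.Agent.Lib.helper22.DPPoly

variable {A : Type*} {B : Type*} [CommRing A] [CommRing B] [Algebra A B]
  (x : A) (γ : DividedPowers (Ideal.span {x}))

lemma x_mem : x ∈ Ideal.span ({x} : Set A) := Ideal.subset_span rfl

lemma pow_mul_eq {b b' : B} {y : B} (h : b * y = b' * y) (n : ℕ) (hn : n ≠ 0) :
    b ^ n * y = b' ^ n * y := by
  induction n with
  | zero => exact absurd rfl hn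
  | succ n ih =>
    by_cases h0 : n = 0
    · subst h0; simpa using h
    · rw [pow_succ, mul_assoc, h, mul_left_comm, ih h0, mul_left_comm, ← mul_assoc, ← pow_succ]

/-- well-definedness -/
lemma wd {b b' : B} (h : b * algebraMap A B x = b' * algebraMap A B x) (n : ℕ) :
    b ^ n * algebraMap A B (γ.dpow n x) = b' ^ n * algebraMap A B (γ.dpow n x) := by
  by_cases hn : n = 0
  · subst hn; simp
  · obtain ⟨a, ha⟩ := Ideal.mem_span_singleton'.mp (γ.dpow_mem hn (x_mem x))
    rw [← ha, map_mul, mul_left_comm, pow_mul_eq h n hn, mul_left_comm]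

open Classical in
/-- the extended divided powers on `xB` -/
noncomputable def extDpow (n : ℕ) (y : B) : B :=
  if hy : ∃ b : B, b * algebraMap A B x = y then hy.choose ^ n * algebraMap A B (γ.dpow n x) else 0

lemma extDpow_eq (b : B) (n : ℕ) :
    extDpow x γ n (b * algebraMap A B x) = b ^ n * algebraMap A B (γ.dpow n x) := by
  have hy : ∃ b' : B, b' * algebraMap A B x = b * algebraMap A B x := ⟨b, rfl⟩
  rw [extDpow, dif_pos hy]
  exact wd x γ hy.choose_spec n

lemma map_eq : (Ideal.span ({x} : Set A)).map (algebraMap A B) = Ideal.span {algebraMap A B x} := by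
  rw [Ideal.map_span, Set.image_singleton]

lemma mem_iff (y : B) :
    y ∈ (Ideal.span ({x} : Set A)).map (algebraMap A B) ↔ ∃ b : B, b * algebraMap A B x = y := by
  rw [map_eq, Ideal.mem_span_singleton']

lemma preDP : PreDP ((Ideal.span ({x} : Set A)).map (algebraMap A B)) (extDpow (B := B) x γ) where
  zero := by
    intro y hy
    obtain ⟨b, rfl⟩ := (mem_iff x y).mp hy
    rw [extDpow_eq, γ.dpow_zero (x_mem x)]
    simp
  one := by
    intro y hy
    obtain ⟨b, rfl⟩ := (mem_iff x y).mp hy
    rw [extDpow_eq, γ.dpow_one (x_mem x), pow_one]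
  mem := by
    intro n y hn hy
    obtain ⟨b, rfl⟩ := (mem_iff x y).mp hy
    rw [extDpow_eq]
    exact Ideal.mul_mem_left _ _ (Ideal.mem_map_of_mem _ (γ.dpow_mem hn (x_mem x)))
  add := by
    intro n y y' hy hy'
    obtain ⟨b, rfl⟩ := (mem_iff x y).mp hy
    obtain ⟨b', rfl⟩ := (mem_iff x y').mp hy'
    rw [← add_mul, extDpow_eq, add_pow, Finset.sum_mul,
      Finset.Nat.sum_antidiagonal_eq_sum_range_succ_mk]
    apply Finset.sum_congr rfl
    intro k hk
    rw [Finset.mem_range] at hk
    rw [extDpow_eq, extDpow_eq, mul_mul_mul_comm, ← map_mul, γ.mul_dpow (x_mem x),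
      Nat.add_sub_cancel' (by omega : k ≤ n), map_mul, map_natCast]
    ring
  mul := by
    intro n c y hy
    obtain ⟨b, rfl⟩ := (mem_iff x y).mp hy
    rw [← mul_assoc, extDpow_eq, extDpow_eq, mul_pow, mul_assoc]

lemma extDpow_map (a : A) (ha : a ∈ Ideal.span ({x} : Set A)) (n : ℕ) :
    extDpow x γ n (algebraMap A B a) = algebraMap A B (γ.dpow n a) := by
  obtain ⟨c, rfl⟩ := Ideal.mem_span_singleton'.mp ha
  rw [map_mul, extDpow_eq, γ.dpow_mul (x_mem x), map_mul, map_pow]

/-- **divided powers extend from a principal ideal to every algebra** -/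
theorem exists_extension :
    ∃ δ : DividedPowers ((Ideal.span ({x} : Set A)).map (algebraMap A B)),
      γ.IsDPMorphism δ (algebraMap A B) := by
  obtain ⟨δ, hδ⟩ := (preDP (B := B) x γ).exists_dividedPowers
    (fun n y hy => by
      rw [extDpow, dif_neg]
      exact fun h => hy ((mem_iff x y).mpr h))
    (S := {algebraMap A B x}) (map_eq x).symm (by
      intro y hy
      rw [Set.mem_singleton_iff] at hy
      subst hy
      constructor
      · intro m n
        rw [extDpow_map x γ x (x_mem x), extDpow_map x γ x (x_mem x), extDpow_map x γ x (x_mem x),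
          ← map_mul, γ.mul_dpow (x_mem x), map_mul, map_natCast]
      · intro m n hn
        rw [extDpow_map x γ x (x_mem x), extDpow_map x γ _ (γ.dpow_mem hn (x_mem x)),
          extDpow_map x γ x (x_mem x), γ.dpow_comp hn (x_mem x), map_mul, map_natCast])
  refine ⟨δ, le_rfl, fun {n} a ha => ?_⟩
  rw [hδ, extDpow_map x γ a ha]

end Groth.Agent.Lib.helper22.DPPrincipal
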