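import Mathlib.RingTheory.Kaehler.Basic
import Mathlib.LinearAlgebra.TensorProduct.Associator
import Mathlib.Algebra.Algebra.Bilinear
import Mathlib.RingTheory.TensorProduct.Maps
import Mathlib.Algebra.Algebra.Subalgebra.Basic
import Mathlib.Tactic

set_option autoImplicit false
universe u v
open TensorProduct

namespace Groth.Agent.Lib.Helper22.DSym3

variable (k : Type u) [Field k] (A : Type v) [CommRing A] [Algebra k A]

/-- swap of the first two factors, as an algebra automorphism. -/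
noncomputable def s12 : A ⊗[k] (A ⊗[k] A) ≃ₐ[k] A ⊗[k] (A ⊗[k] A) :=
  Algebra.TensorProduct.leftComm k A A A

/-- swap of the last two factors, as an algebra automorphism. -/
noncomputable def s23 : A ⊗[k] (A ⊗[k] A) ≃ₐ[k] A ⊗[k] (A ⊗[k] A) :=
  Algebra.TensorProduct.congr AlgEquiv.refl (Algebra.TensorProduct.comm k A A)

/-- restriction to the diagonal of the first two factors, as an algebra hom. -/
noncomputable def rA : A ⊗[k] (A ⊗[k] A) →ₐ[k] A ⊗[k] A :=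
  Algebra.TensorProduct.lift Algebra.TensorProduct.includeLeft (AlgHom.id k _)
    (fun _ _ => Commute.all _ _)

variable {k A}

@[simp] theorem s12_tmul (a b c : A) :
    s12 k A (a ⊗ₜ[k] (b ⊗ₜ[k] c)) = b ⊗ₜ[k] (a ⊗ₜ[k] c) := by
  simp [s12]

@[simp] theorem s23_tmul (a b c : A) :
    s23 k A (a ⊗ₜ[k] (b ⊗ₜ[k] c)) = a ⊗ₜ[k] (c ⊗ₜ[k] b) := by
  simp [s23]

@[simp] theorem rA_tmul (a b c : A) :
    rA k A (a ⊗ₜ[k] (b ⊗ₜ[k] c)) = (a * b) ⊗ₜ[k] c := by
  simp [rA, Algebra.TensorProduct.tmul_mul_tmul]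

theorem ext3 {M : Type*} [AddCommMonoid M] [Module k M]
    {f g : A ⊗[k] (A ⊗[k] A) →ₗ[k] M}
    (h : ∀ a b c : A, f (a ⊗ₜ[k] (b ⊗ₜ[k] c)) = g (a ⊗ₜ[k] (b ⊗ₜ[k] c))) : f = g :=
  TensorProduct.ext_threefold' h

theorem s12_eq (x : A ⊗[k] (A ⊗[k] A)) :
    TensorProduct.leftComm k A A A x = s12 k A x := by
  have : (TensorProduct.leftComm k A A A).toLinearMap = (s12 k A).toLinearMap :=
    ext3 (fun a b c => by simp)
  exact LinearMap.congr_fun this x

theorem s23_eq (x : A ⊗[k] (A ⊗[k] A)) :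
    LinearMap.lTensor A (TensorProduct.comm k A A).toLinearMap x = s23 k A x := by
  have : LinearMap.lTensor A (TensorProduct.comm k A A).toLinearMap = (s23 k A).toLinearMap :=
    ext3 (fun a b c => by simp)
  exact LinearMap.congr_fun this x

theorem r_eq (r : A ⊗[k] (A ⊗[k] A) →ₗ[k] A ⊗[k] A)
    (hr : ∀ a b c : A, r (a ⊗ₜ[k] (b ⊗ₜ[k] c)) = (a * b) ⊗ₜ[k] c) (x : A ⊗[k] (A ⊗[k] A)) :
    r x = rA k A x := by
  have : r = (rA k A).toLinearMap := ext3 (fun a b c => by simp [hr])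
  exact LinearMap.congr_fun this x

variable (k A)

/-- the subalgebra of `S₃`-invariants -/
noncomputable def Inv : Subalgebra k (A ⊗[k] (A ⊗[k] A)) :=
  AlgHom.equalizer ((s12 k A : _ ≃ₐ[k] _) : _ →ₐ[k] _) (AlgHom.id k _) ⊓
    AlgHom.equalizer ((s23 k A : _ ≃ₐ[k] _) : _ →ₐ[k] _) (AlgHom.id k _)

/-- the image of the invariants under restriction to the diagonal -/
noncomputable def R : Subalgebra k (A ⊗[k] A) := (Inv k A).map (rA k A)

variable {k A}

theorem mem_Inv {x : A ⊗[k] (A ⊗[k] A)} : x ∈ Inv k A ↔ s12 k A x = x ∧ s23 k A x = x := by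
  simp [Inv, AlgHom.mem_equalizer]

theorem mem_R {y : A ⊗[k] A} :
    y ∈ R k A ↔ ∃ x, s12 k A x = x ∧ s23 k A x = x ∧ rA k A x = y := by
  simp only [R, Subalgebra.mem_map, mem_Inv]
  constructor
  · rintro ⟨x, ⟨h1, h2⟩, h3⟩; exact ⟨x, h1, h2, h3⟩
  · rintro ⟨x, h1, h2, h3⟩; exact ⟨x, ⟨h1, h2⟩, h3⟩

theorem mem_of_nat_mul_mem [CharZero k] {T : Type*} [CommRing T] [Algebra k T] (S : Subalgebra k T) (n : ℕ)
    (hn : n ≠ 0) {x : T} (h : (n : T) * x ∈ S) : x ∈ S := by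
  have e : x = ((n : k)⁻¹) • ((n : T) * x) := by
    rw [Algebra.smul_def, ← mul_assoc, ← map_natCast (algebraMap k T), ← map_mul,
      inv_mul_cancel₀ (Nat.cast_ne_zero.mpr hn), map_one, one_mul]
  rw [e]
  exact S.smul_mem h _

/-- `a ⊗ 1` -/
noncomputable abbrev sA : A →ₐ[k] A ⊗[k] A := Algebra.TensorProduct.includeLeft
/-- `1 ⊗ a` -/
noncomputable abbrev tA : A →ₐ[k] A ⊗[k] A := Algebra.TensorProduct.includeRight

/-- `u a = a ⊗ 1 - 1 ⊗ a` -/
noncomputable def uu (a : A) : A ⊗[k] A := sA (k := k) a - tA (k := k) a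
/-- `v a = 2 (a ⊗ 1) + 1 ⊗ a` -/
noncomputable def vv (a : A) : A ⊗[k] A := 2 * sA (k := k) a + tA (k := k) a

theorem vv_mem (a : A) : vv (k := k) a ∈ R k A := by
  rw [mem_R]
  refine ⟨a ⊗ₜ[k] (1 ⊗ₜ[k] 1) + 1 ⊗ₜ[k] (a ⊗ₜ[k] 1) + 1 ⊗ₜ[k] (1 ⊗ₜ[k] a), ?_, ?_, ?_⟩
  · simp only [map_add, s12_tmul]; abel
  · simp only [map_add, s23_tmul]; abel
  · simp only [map_add, rA_tmul, vv, sA, tA, Algebra.TensorProduct.includeLeft_apply,
      Algebra.TensorProduct.includeRight_apply, mul_one, one_mul]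
    ring

theorem three_sA (a : A) : (3 : A ⊗[k] A) * sA (k := k) a = vv (k := k) a + uu (k := k) a := by
  simp only [vv, uu]; ring

theorem three_tA (a : A) :
    (3 : A ⊗[k] A) * tA (k := k) a = vv (k := k) a - 2 * uu (k := k) a := by
  simp only [vv, uu]; ring

theorem ofNat_mul_mem (n : ℕ) {x : A ⊗[k] A} (hx : x ∈ R k A) : (n : A ⊗[k] A) * x ∈ R k A := by
  have : (n : A ⊗[k] A) = algebraMap k _ n := by simp
  rw [this, ← Algebra.smul_def]
  exact (R k A).smul_mem hx _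

theorem uu_mul_mem [CharZero k] (a b : A) : uu (k := k) a * uu (k := k) b ∈ R k A := by
  apply mem_of_nat_mul_mem (R k A) 2 (by norm_num)
  have h : ((2 : ℕ) : A ⊗[k] A) * (uu (k := k) a * uu (k := k) b) =
      ((3 : ℕ) : A ⊗[k] A) * vv (k := k) (a * b) - vv (k := k) a * vv (k := k) b := by
    simp only [uu, vv, map_mul]; push_cast; ring
  rw [h]
  exact (R k A).sub_mem (ofNat_mul_mem _ (vv_mem _)) ((R k A).mul_mem (vv_mem a) (vv_mem b))

theorem uu_mul3_mem [CharZero k] (a b c : A) : uu (k := k) a * uu (k := k) b * uu (k := k) c ∈ R k A := by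
  apply mem_of_nat_mul_mem (R k A) 6 (by norm_num)
  have h : ((6 : ℕ) : A ⊗[k] A) * (uu (k := k) a * uu (k := k) b * uu (k := k) c) =
      ((3 : ℕ) : A ⊗[k] A) * (vv (k := k) a * vv (k := k) b * vv (k := k) c)
      + ((6 : ℕ) : A ⊗[k] A) * (vv (k := k) a * (uu (k := k) b * uu (k := k) c)
        + vv (k := k) b * (uu (k := k) a * uu (k := k) c)
        + vv (k := k) c * (uu (k := k) a * uu (k := k) b))
      - ((27 : ℕ) : A ⊗[k] A) * vv (k := k) (a * b * c) := by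
    simp only [uu, vv, map_mul]; push_cast; ring
  rw [h]
  refine (R k A).sub_mem ((R k A).add_mem ?_ ?_) (ofNat_mul_mem _ (vv_mem _))
  · exact ofNat_mul_mem _ ((R k A).mul_mem ((R k A).mul_mem (vv_mem a) (vv_mem b)) (vv_mem c))
  · refine ofNat_mul_mem _ ((R k A).add_mem ((R k A).add_mem ?_ ?_) ?_)
    · exact (R k A).mul_mem (vv_mem _) (uu_mul_mem _ _)
    · exact (R k A).mul_mem (vv_mem _) (uu_mul_mem _ _)
    · exact (R k A).mul_mem (vv_mem _) (uu_mul_mem _ _)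

end Groth.Agent.Lib.Helper22.DSym3
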