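import Groth.Agent.Lib.Helper22.DSym3a

set_option autoImplicit false
universe u v
open TensorProduct

namespace Groth.Agent.Lib.Helper22.DSym3

variable {k : Type u} [Field k] [CharZero k] {A : Type v} [CommRing A] [Algebra k A]

/-- the set of `c` all of whose multiples of double and triple products of `u`'s lie in `R`. -/
noncomputable def NN (k : Type u) [Field k] (A : Type v) [CommRing A] [Algebra k A] :
    Submodule k (A ⊗[k] A) where
  carrier := {c | (∀ a b : A, c * (uu (k := k) a * uu (k := k) b) ∈ R k A) ∧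
    (∀ a b e : A, c * (uu (k := k) a * uu (k := k) b * uu (k := k) e) ∈ R k A)}
  add_mem' := by
    rintro c c' ⟨h1, h2⟩ ⟨h1', h2'⟩
    refine ⟨fun a b => ?_, fun a b e => ?_⟩
    · rw [add_mul]; exact (R k A).add_mem (h1 a b) (h1' a b)
    · rw [add_mul]; exact (R k A).add_mem (h2 a b e) (h2' a b e)
  zero_mem' := by
    refine ⟨fun a b => ?_, fun a b e => ?_⟩ <;> simp
  smul_mem' := by
    rintro t c ⟨h1, h2⟩
    refine ⟨fun a b => ?_, fun a b e => ?_⟩
    · rw [smul_mul_assoc]; exact (R k A).smul_mem (h1 a b) _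
    · rw [smul_mul_assoc]; exact (R k A).smul_mem (h2 a b e) _

theorem mem_NN {c : A ⊗[k] A} : c ∈ NN k A ↔
    (∀ a b : A, c * (uu (k := k) a * uu (k := k) b) ∈ R k A) ∧
    (∀ a b e : A, c * (uu (k := k) a * uu (k := k) b * uu (k := k) e) ∈ R k A) := Iff.rfl

theorem one_mem_NN : (1 : A ⊗[k] A) ∈ NN k A := by
  rw [mem_NN]
  refine ⟨fun a b => ?_, fun a b e => ?_⟩
  · rw [one_mul]; exact uu_mul_mem a b
  · rw [one_mul]; exact uu_mul3_mem a b e

theorem mul_uu_mem_NN {c : A ⊗[k] A} (hc : c ∈ NN k A) (e : A) :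
    c * uu (k := k) e ∈ NN k A := by
  rw [mem_NN] at hc ⊢
  obtain ⟨h1, h2⟩ := hc
  refine ⟨fun a b => ?_, fun a b f => ?_⟩
  · have : c * uu (k := k) e * (uu (k := k) a * uu (k := k) b) =
        c * (uu (k := k) a * uu (k := k) b * uu (k := k) e) := by ring
    rw [this]; exact h2 a b e
  · have : c * uu (k := k) e * (uu (k := k) a * uu (k := k) b * uu (k := k) f) =
        (c * (uu (k := k) a * uu (k := k) b)) * (uu (k := k) f * uu (k := k) e) := by ring
    rw [this]; exact (R k A).mul_mem (h1 a b) (uu_mul_mem f e)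

theorem mul_vv_mem_NN {c : A ⊗[k] A} (hc : c ∈ NN k A) (e : A) :
    c * vv (k := k) e ∈ NN k A := by
  rw [mem_NN] at hc ⊢
  obtain ⟨h1, h2⟩ := hc
  refine ⟨fun a b => ?_, fun a b f => ?_⟩
  · have : c * vv (k := k) e * (uu (k := k) a * uu (k := k) b) =
        vv (k := k) e * (c * (uu (k := k) a * uu (k := k) b)) := by ring
    rw [this]; exact (R k A).mul_mem (vv_mem e) (h1 a b)
  · have : c * vv (k := k) e * (uu (k := k) a * uu (k := k) b * uu (k := k) f) =
        vv (k := k) e * (c * (uu (k := k) a * uu (k := k) b * uu (k := k) f)) := by ring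
    rw [this]; exact (R k A).mul_mem (vv_mem e) (h2 a b f)

theorem smul_inv_nat_mul (n : ℕ) (hn : n ≠ 0) (x : A ⊗[k] A) :
    x = ((n : k)⁻¹) • ((n : A ⊗[k] A) * x) := by
  rw [Algebra.smul_def, ← mul_assoc, ← map_natCast (algebraMap k (A ⊗[k] A)), ← map_mul,
    inv_mul_cancel₀ (Nat.cast_ne_zero.mpr hn), map_one, one_mul]

theorem mul_sA_mem_NN {c : A ⊗[k] A} (hc : c ∈ NN k A) (e : A) :
    c * sA (k := k) e ∈ NN k A := by
  rw [smul_inv_nat_mul 3 (by norm_num) (c * sA (k := k) e)]
  refine (NN k A).smul_mem _ ?_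
  have : ((3 : ℕ) : A ⊗[k] A) * (c * sA (k := k) e) =
      c * vv (k := k) e + c * uu (k := k) e := by
    have := three_sA (k := k) e
    push_cast
    linear_combination c * this
  rw [this]
  exact (NN k A).add_mem (mul_vv_mem_NN hc e) (mul_uu_mem_NN hc e)

theorem mul_tA_mem_NN {c : A ⊗[k] A} (hc : c ∈ NN k A) (e : A) :
    c * tA (k := k) e ∈ NN k A := by
  rw [smul_inv_nat_mul 3 (by norm_num) (c * tA (k := k) e)]
  refine (NN k A).smul_mem _ ?_
  have : ((3 : ℕ) : A ⊗[k] A) * (c * tA (k := k) e) =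
      c * vv (k := k) e - (2 : k) • (c * uu (k := k) e) := by
    have := three_tA (k := k) e
    rw [Algebra.smul_def, map_ofNat]
    push_cast
    linear_combination c * this
  rw [this]
  exact (NN k A).sub_mem (mul_vv_mem_NN hc e) ((NN k A).smul_mem _ (mul_uu_mem_NN hc e))

theorem NN_eq_top : NN k A = ⊤ := by
  rw [eq_top_iff]
  rintro c -
  induction c using TensorProduct.induction_on with
  | zero => exact (NN k A).zero_mem
  | tmul a b =>
    have h := mul_tA_mem_NN (mul_sA_mem_NN (one_mem_NN (k := k) (A := A)) a) b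
    have e : (1 : A ⊗[k] A) * sA (k := k) a * tA (k := k) b = a ⊗ₜ[k] b := by
      simp [sA, tA, Algebra.TensorProduct.tmul_mul_tmul]
    rwa [e] at h
  | add x y hx hy => exact (NN k A).add_mem hx hy

theorem mul_uu_uu_mem (c : A ⊗[k] A) (a b : A) :
    c * (uu (k := k) a * uu (k := k) b) ∈ R k A := by
  have : c ∈ NN k A := by rw [NN_eq_top]; trivial
  exact (mem_NN.mp this).1 a b

theorem ideal_sq_le_R {x : A ⊗[k] A} (hx : x ∈ KaehlerDifferential.ideal k A ^ 2) :
    x ∈ R k A := by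
  rw [← KaehlerDifferential.span_range_eq_ideal, sq, Ideal.span_mul_span'] at hx
  suffices h : ∀ c : A ⊗[k] A, c * x ∈ R k A by simpa using h 1
  induction hx using Submodule.span_induction with
  | mem x hx =>
    obtain ⟨p, ⟨a, rfl⟩, q, ⟨b, rfl⟩, rfl⟩ := Set.mem_mul.mp hx
    intro c
    have : c * (((1 : A) ⊗ₜ[k] a - a ⊗ₜ[k] (1 : A)) * ((1 : A) ⊗ₜ[k] b - b ⊗ₜ[k] (1 : A))) =
        c * (uu (k := k) a * uu (k := k) b) := by
      simp only [uu, sA, tA, Algebra.TensorProduct.includeLeft_apply,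
        Algebra.TensorProduct.includeRight_apply]
      ring
    rw [this]
    exact mul_uu_uu_mem c a b
  | zero => intro c; simp
  | add x y _ _ hx hy => intro c; rw [mul_add]; exact (R k A).add_mem (hx c) (hy c)
  | smul t x _ hx => intro c; rw [smul_eq_mul, ← mul_assoc]; exact hx (c * t)

end Groth.Agent.Lib.Helper22.DSym3
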