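import Groth.Agent.Lib.Helper22.DSym3b

set_option autoImplicit false
universe u v
open TensorProduct

namespace Groth.Agent.Lib.Helper22.DSym3

variable {k : Type u} [Field k] [CharZero k] {A : Type v} [CommRing A] [Algebra k A]

/-- `δ (a ⊗ b) = a • d b`, as a `k`-linear map. -/
noncomputable def del (k : Type u) [Field k] (A : Type v) [CommRing A] [Algebra k A] :
    A ⊗[k] A →ₗ[k] Ω[A⁄k] :=
  ((KaehlerDifferential.D k A).tensorProductTo).restrictScalars k

omit [CharZero k] in
@[simp] theorem del_tmul (a b : A) : del k A (a ⊗ₜ[k] b) = a • KaehlerDifferential.D k A b := rfl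

omit [CharZero k] in
theorem del_of_mem_ideal (z : A ⊗[k] A) (hz : z ∈ KaehlerDifferential.ideal k A) :
    del k A z = (KaehlerDifferential.ideal k A).toCotangent ⟨z, hz⟩ :=
  KaehlerDifferential.D_tensorProductTo (⟨z, hz⟩ : KaehlerDifferential.ideal k A)

omit [CharZero k] in
theorem D_eq (D : A ⊗[k] A →ₗ[k] Ω[A⁄k])
    (hD : ∀ a b : A, D (a ⊗ₜ[k] b) =
      (2 : A) • (a • KaehlerDifferential.D k A b) - b • KaehlerDifferential.D k A a)
    (y : A ⊗[k] A) :
    D y = (3 : A) • del k A y - KaehlerDifferential.D k A (Algebra.TensorProduct.lmul' k y) := by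
  induction y using TensorProduct.induction_on with
  | zero => simp
  | tmul a b =>
    rw [hD, del_tmul, Algebra.TensorProduct.lmul'_apply_tmul, Derivation.leibniz]
    module
  | add x y hx hy => rw [map_add, hx, hy, map_add, map_add, map_add]; module

omit [CharZero k] in
theorem D_eq' (D : A ⊗[k] A →ₗ[k] Ω[A⁄k])
    (hD : ∀ a b : A, D (a ⊗ₜ[k] b) =
      (2 : A) • (a • KaehlerDifferential.D k A b) - b • KaehlerDifferential.D k A a)
    (y : A ⊗[k] A) :
    D y = (2 : A) • del k A y - del k A (TensorProduct.comm k A A y) := by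
  induction y using TensorProduct.induction_on with
  | zero => simp
  | tmul a b => rw [hD, del_tmul, TensorProduct.comm_tmul, del_tmul]
  | add x y hx hy => rw [map_add, hx, hy, map_add, map_add, map_add]; module

/-- symmetrisation over `S₃` -/
noncomputable def Sym3 (x : A ⊗[k] (A ⊗[k] A)) : A ⊗[k] (A ⊗[k] A) :=
  x + s12 k A x + s23 k A x + s12 k A (s23 k A x) + s23 k A (s12 k A x) +
    s12 k A (s23 k A (s12 k A x))

omit [CharZero k] in
theorem D_rA_Sym3 (D : A ⊗[k] A →ₗ[k] Ω[A⁄k])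
    (hD : ∀ a b : A, D (a ⊗ₜ[k] b) =
      (2 : A) • (a • KaehlerDifferential.D k A b) - b • KaehlerDifferential.D k A a)
    (x : A ⊗[k] (A ⊗[k] A)) : D (rA k A (Sym3 x)) = 0 := by
  have key : D ∘ₗ (rA k A).toLinearMap ∘ₗ
      (LinearMap.id + (s12 k A).toLinearMap + (s23 k A).toLinearMap
        + (s12 k A).toLinearMap ∘ₗ (s23 k A).toLinearMap
        + (s23 k A).toLinearMap ∘ₗ (s12 k A).toLinearMap
        + (s12 k A).toLinearMap ∘ₗ (s23 k A).toLinearMap ∘ₗ (s12 k A).toLinearMap) = 0 := by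
    apply ext3
    intro a b c
    simp only [LinearMap.comp_apply, LinearMap.add_apply, LinearMap.id_apply,
      AlgEquiv.toLinearMap_apply, AlgHom.toLinearMap_apply, s12_tmul, s23_tmul, map_add, rA_tmul,
      hD, Derivation.leibniz, LinearMap.zero_apply]
    module
  have := LinearMap.congr_fun key x
  simpa [Sym3] using this

theorem D_eq_zero_of_mem_R (D : A ⊗[k] A →ₗ[k] Ω[A⁄k])
    (hD : ∀ a b : A, D (a ⊗ₜ[k] b) =
      (2 : A) • (a • KaehlerDifferential.D k A b) - b • KaehlerDifferential.D k A a)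
    {y : A ⊗[k] A} (hy : y ∈ R k A) : D y = 0 := by
  obtain ⟨x, h1, h2, rfl⟩ := mem_R.mp hy
  have h := D_rA_Sym3 D hD x
  have hs : Sym3 x = (6 : k) • x := by
    simp only [Sym3, h1, h2]
    module
  rw [hs, map_smul, map_smul] at h
  exact (smul_eq_zero.mp h).resolve_left (by norm_num)

theorem mem_R_of_D_eq_zero (D : A ⊗[k] A →ₗ[k] Ω[A⁄k])
    (hD : ∀ a b : A, D (a ⊗ₜ[k] b) =
      (2 : A) • (a • KaehlerDifferential.D k A b) - b • KaehlerDifferential.D k A a)
    {y : A ⊗[k] A} (hy : D y = 0) : y ∈ R k A := by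
  set f : A := Algebra.TensorProduct.lmul' k y with hf
  set y0 : A ⊗[k] A := ((3 : k)⁻¹) • vv (k := k) f with hy0
  have hy0R : y0 ∈ R k A := (R k A).smul_mem (vv_mem f) _
  have hz : D (y - y0) = 0 := by rw [map_sub, hy, D_eq_zero_of_mem_R D hD hy0R, sub_zero]
  have hmul : Algebra.TensorProduct.lmul' k (y - y0) = 0 := by
    rw [map_sub, ← hf, hy0, map_smul]
    have : Algebra.TensorProduct.lmul' k (vv (k := k) f) = (3 : k) • f := by
      simp only [vv, sA, tA, map_add, map_mul, Algebra.TensorProduct.includeLeft_apply,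
        Algebra.TensorProduct.includeRight_apply, Algebra.TensorProduct.lmul'_apply_tmul, map_ofNat,
        mul_one, one_mul]
      rw [Algebra.smul_def, map_ofNat]; ring
    rw [this, smul_smul, inv_mul_cancel₀ (by norm_num), one_smul, sub_self]
  have hI : y - y0 ∈ KaehlerDifferential.ideal k A := by
    rw [KaehlerDifferential.ideal, RingHom.mem_ker]; exact hmul
  have hdel : del k A (y - y0) = 0 := by
    have h := D_eq D hD (y - y0)
    rw [hz, hmul, map_zero, sub_zero] at h
    have h3 : (3 : A) • del k A (y - y0) = (3 : k) • del k A (y - y0) := by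
      rw [← algebraMap_smul A (3 : k) (del k A (y - y0)), map_ofNat]
    rw [h3] at h
    exact (smul_eq_zero.mp h.symm).resolve_left (by norm_num)
  rw [del_of_mem_ideal _ hI] at hdel
  have hsq : y - y0 ∈ KaehlerDifferential.ideal k A ^ 2 :=
    (Ideal.toCotangent_eq_zero (KaehlerDifferential.ideal k A) ⟨y - y0, hI⟩).mp hdel
  have := (R k A).add_mem hy0R (ideal_sq_le_R hsq)
  simpa using this

theorem D_surjective (D : A ⊗[k] A →ₗ[k] Ω[A⁄k])
    (hD : ∀ a b : A, D (a ⊗ₜ[k] b) =
      (2 : A) • (a • KaehlerDifferential.D k A b) - b • KaehlerDifferential.D k A a) :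
    Function.Surjective D := by
  intro ω
  obtain ⟨w, hw⟩ := KaehlerDifferential.tensorProductTo_surjective k A ω
  have hw' : del k A w = ω := hw
  refine ⟨((3 : k)⁻¹) • ((2 : k) • w + TensorProduct.comm k A A w), ?_⟩
  rw [map_smul, D_eq' D hD]
  simp only [map_add, map_smul, TensorProduct.comm_comm, hw']
  have h2 : ∀ z : Ω[A⁄k], (2 : A) • z = (2 : k) • z := fun z => by
    rw [← algebraMap_smul A (2 : k) z, map_ofNat]
  rw [h2]
  have : (2 : k) • ((2 : k) • ω + del k A (TensorProduct.comm k A A w)) -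
      ((2 : k) • del k A (TensorProduct.comm k A A w) + ω) = (3 : k) • ω := by module
  rw [this, smul_smul, inv_mul_cancel₀ (by norm_num), one_smul]

theorem main (r : A ⊗[k] (A ⊗[k] A) →ₗ[k] A ⊗[k] A)
    (hr : ∀ a b c : A, r (a ⊗ₜ[k] (b ⊗ₜ[k] c)) = (a * b) ⊗ₜ[k] c)
    (D : A ⊗[k] A →ₗ[k] Ω[A⁄k])
    (hD : ∀ a b : A, D (a ⊗ₜ[k] b) =
      (2 : A) • (a • KaehlerDifferential.D k A b) - b • KaehlerDifferential.D k A a) :
    (∀ y : A ⊗[k] A, D y = 0 ↔ ∃ x : A ⊗[k] (A ⊗[k] A),
        TensorProduct.leftComm k A A A x = x ∧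
        LinearMap.lTensor A (TensorProduct.comm k A A).toLinearMap x = x ∧ r x = y) ∧
    Function.Surjective D := by
  refine ⟨fun y => ?_, D_surjective D hD⟩
  have e : (∃ x : A ⊗[k] (A ⊗[k] A),
        TensorProduct.leftComm k A A A x = x ∧
        LinearMap.lTensor A (TensorProduct.comm k A A).toLinearMap x = x ∧ r x = y) ↔
      y ∈ R k A := by
    rw [mem_R]
    simp only [s12_eq, s23_eq, r_eq r hr]
  rw [e]
  exact ⟨mem_R_of_D_eq_zero D hD, D_eq_zero_of_mem_R D hD⟩

end Groth.Agent.Lib.Helper22.DSym3
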