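import Groth.Agent.Lib.Helper22.DSym3c
import Mathlib.Algebra.Algebra.Prod

set_option autoImplicit false
universe u v
open TensorProduct

namespace Groth.Agent.Lib.Helper22.DSym3

variable {k : Type u} [Field k] {A : Type v} [CommRing A] [Algebra k A]

/-- restriction to the diagonal of the last two factors (repeated coordinate first). -/
noncomputable def r23A (k : Type u) [Field k] (A : Type v) [CommRing A] [Algebra k A] :
    A ⊗[k] (A ⊗[k] A) →ₐ[k] A ⊗[k] A :=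
  Algebra.TensorProduct.lift Algebra.TensorProduct.includeRight
    ((Algebra.TensorProduct.includeLeft : A →ₐ[k] A ⊗[k] A).comp (Algebra.TensorProduct.lmul' k))
    (fun _ _ => Commute.all _ _)

@[simp] theorem r23A_tmul (a b c : A) :
    r23A k A (a ⊗ₜ[k] (b ⊗ₜ[k] c)) = (b * c) ⊗ₜ[k] a := by
  simp [r23A, Algebra.TensorProduct.tmul_mul_tmul]

theorem r23_eq (r : A ⊗[k] (A ⊗[k] A) →ₗ[k] A ⊗[k] A)
    (hr : ∀ a b c : A, r (a ⊗ₜ[k] (b ⊗ₜ[k] c)) = (b * c) ⊗ₜ[k] a) (x : A ⊗[k] (A ⊗[k] A)) :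
    r x = r23A k A x := by
  have : r = (r23A k A).toLinearMap := ext3 (fun a b c => by simp [hr])
  exact LinearMap.congr_fun this x

/-- invariants under the swap of the last two factors -/
noncomputable def Inv23 (k : Type u) [Field k] (A : Type v) [CommRing A] [Algebra k A] :
    Subalgebra k (A ⊗[k] (A ⊗[k] A)) :=
  AlgHom.equalizer ((s23 k A : _ ≃ₐ[k] _) : _ →ₐ[k] _) (AlgHom.id k _)

/-- image of the `s23`-invariants in `T2 × T2` -/
noncomputable def R2 (k : Type u) [Field k] (A : Type v) [CommRing A] [Algebra k A] :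
    Subalgebra k ((A ⊗[k] A) × (A ⊗[k] A)) :=
  (Inv23 k A).map ((rA k A).prod (r23A k A))

theorem mem_R2 {y : (A ⊗[k] A) × (A ⊗[k] A)} :
    y ∈ R2 k A ↔ ∃ x, s23 k A x = x ∧ rA k A x = y.1 ∧ r23A k A x = y.2 := by
  simp only [R2, Subalgebra.mem_map, Inv23, AlgHom.mem_equalizer, AlgHom.coe_id,
    id_eq, AlgHom.prod_apply]
  constructor
  · rintro ⟨x, h1, rfl⟩; exact ⟨x, h1, rfl, rfl⟩
  · rintro ⟨x, h1, h2, h3⟩; exact ⟨x, h1, Prod.ext h2 h3⟩

/-- `a₁ = a ⊗ 1 ⊗ 1` etc. -/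
noncomputable abbrev e1 (a : A) : A ⊗[k] (A ⊗[k] A) := a ⊗ₜ[k] (1 ⊗ₜ[k] 1)
noncomputable abbrev e2 (a : A) : A ⊗[k] (A ⊗[k] A) := 1 ⊗ₜ[k] (a ⊗ₜ[k] 1)
noncomputable abbrev e3 (a : A) : A ⊗[k] (A ⊗[k] A) := 1 ⊗ₜ[k] (1 ⊗ₜ[k] a)

theorem alpha_mem (a : A) : (sA (k := k) a, tA (k := k) a) ∈ R2 k A := by
  rw [mem_R2]
  exact ⟨e1 a, by simp, by simp [sA], by simp [tA]⟩

theorem beta_mem (a : A) :
    (sA (k := k) a + tA (k := k) a, 2 * sA (k := k) a) ∈ R2 k A := by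
  rw [mem_R2]
  refine ⟨e2 a + e3 a, ?_, ?_, ?_⟩
  · simp only [map_add, s23_tmul]; abel
  · simp [sA, tA]
  · simp only [map_add, r23A_tmul, sA, Algebra.TensorProduct.includeLeft_apply, mul_one, one_mul]
    ring

theorem wprime_mem (a b : A) :
    (uu (k := k) a * uu (k := k) b, 0) ∈ R2 k A := by
  rw [mem_R2]
  refine ⟨(e2 a - e3 a) * (e2 b - e3 b), ?_, ?_, ?_⟩
  · simp only [map_mul, map_sub, s23_tmul]; ring
  · simp [uu, sA, tA]
  · simp

theorem w_mem (a b : A) :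
    (0, 2 * (uu (k := k) a * uu (k := k) b)) ∈ R2 k A := by
  rw [mem_R2]
  refine ⟨(e1 a - e2 a) * (e1 b - e3 b) + (e1 a - e3 a) * (e1 b - e2 b), ?_, ?_, ?_⟩
  · simp only [map_mul, map_sub, map_add, s23_tmul]; ring
  · simp
  · simp only [map_mul, map_sub, map_add, r23A_tmul, uu, sA, tA,
      Algebra.TensorProduct.includeLeft_apply, Algebra.TensorProduct.includeRight_apply,
      mul_one, one_mul]
    ring

end Groth.Agent.Lib.Helper22.DSym3
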