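import Groth.Agent.Lib.Helper22.DSym3d

set_option autoImplicit false
universe u v
open TensorProduct

namespace Groth.Agent.Lib.Helper22.DSym3

variable {k : Type u} [Field k] [CharZero k] {A : Type v} [CommRing A] [Algebra k A]

theorem exists_lift_fst (c : A ⊗[k] A) : ∃ e : A ⊗[k] A, (c, e) ∈ R2 k A := by
  induction c using TensorProduct.induction_on with
  | zero => exact ⟨0, (R2 k A).zero_mem⟩
  | tmul a b =>
    have h1 := alpha_mem (k := k) a
    have h2 := (R2 k A).sub_mem (beta_mem (k := k) b) (alpha_mem (k := k) b)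
    have h := (R2 k A).mul_mem h1 h2
    refine ⟨tA (k := k) a * (2 * sA (k := k) b - tA (k := k) b), ?_⟩
    have e : ((a ⊗ₜ[k] b : A ⊗[k] A), tA (k := k) a * (2 * sA (k := k) b - tA (k := k) b)) =
        (sA (k := k) a, tA (k := k) a) *
          ((sA (k := k) b + tA (k := k) b, 2 * sA (k := k) b) - (sA (k := k) b, tA (k := k) b)) := by
      refine Prod.ext ?_ ?_
      · simp [sA, tA, Algebra.TensorProduct.tmul_mul_tmul]
      · simp
    rw [e]; exact h
  | add x y hx hy =>
    obtain ⟨e, he⟩ := hx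
    obtain ⟨e', he'⟩ := hy
    exact ⟨e + e', (R2 k A).add_mem he he'⟩

theorem exists_lift_snd (c : A ⊗[k] A) : ∃ e : A ⊗[k] A, (e, c) ∈ R2 k A := by
  induction c using TensorProduct.induction_on with
  | zero => exact ⟨0, (R2 k A).zero_mem⟩
  | tmul a b =>
    have h1 := (R2 k A).smul_mem (beta_mem (k := k) a) ((2 : k)⁻¹)
    have h2 := alpha_mem (k := k) b
    have h := (R2 k A).mul_mem h1 h2
    refine ⟨((2 : k)⁻¹ • (sA (k := k) a + tA (k := k) a)) * sA (k := k) b, ?_⟩
    have e : (((2 : k)⁻¹ • (sA (k := k) a + tA (k := k) a)) * sA (k := k) b,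
        (a ⊗ₜ[k] b : A ⊗[k] A)) =
        ((2 : k)⁻¹ • (sA (k := k) a + tA (k := k) a, 2 * sA (k := k) a)) *
          (sA (k := k) b, tA (k := k) b) := by
      refine Prod.ext ?_ ?_
      · simp
      · simp only [Prod.smul_mk, Prod.mk_mul_mk]
        have : (2 : k)⁻¹ • (2 * sA (k := k) a) = sA (k := k) a := by
          rw [Algebra.smul_def, ← mul_assoc, ← map_ofNat (algebraMap k (A ⊗[k] A)) 2, ← map_mul,
            inv_mul_cancel₀ (by norm_num), map_one, one_mul]
        rw [this]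
        simp [sA, tA, Algebra.TensorProduct.tmul_mul_tmul]
    rw [e]; exact h
  | add x y hx hy =>
    obtain ⟨e, he⟩ := hx
    obtain ⟨e', he'⟩ := hy
    exact ⟨e + e', (R2 k A).add_mem he he'⟩

theorem sq_fst_mem {x : A ⊗[k] A} (hx : x ∈ KaehlerDifferential.ideal k A ^ 2) :
    (x, (0 : A ⊗[k] A)) ∈ R2 k A := by
  rw [← KaehlerDifferential.span_range_eq_ideal, sq, Ideal.span_mul_span'] at hx
  induction hx using Submodule.span_induction with
  | mem x hx =>
    obtain ⟨p, ⟨a, rfl⟩, q, ⟨b, rfl⟩, rfl⟩ := Set.mem_mul.mp hx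
    have : (((1 : A) ⊗ₜ[k] a - a ⊗ₜ[k] (1 : A)) * ((1 : A) ⊗ₜ[k] b - b ⊗ₜ[k] (1 : A))) =
        (uu (k := k) a * uu (k := k) b) := by
      simp only [uu, sA, tA, Algebra.TensorProduct.includeLeft_apply,
        Algebra.TensorProduct.includeRight_apply]
      ring
    rw [this]
    exact wprime_mem a b
  | zero => exact (R2 k A).zero_mem
  | add x y _ _ hx hy => simpa using (R2 k A).add_mem hx hy
  | smul t x _ hx =>
    obtain ⟨e, he⟩ := exists_lift_fst (k := k) t
    simpa using (R2 k A).mul_mem he hx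

theorem sq_snd_mem {x : A ⊗[k] A} (hx : x ∈ KaehlerDifferential.ideal k A ^ 2) :
    ((0 : A ⊗[k] A), x) ∈ R2 k A := by
  rw [← KaehlerDifferential.span_range_eq_ideal, sq, Ideal.span_mul_span'] at hx
  induction hx using Submodule.span_induction with
  | mem x hx =>
    obtain ⟨p, ⟨a, rfl⟩, q, ⟨b, rfl⟩, rfl⟩ := Set.mem_mul.mp hx
    have : (((1 : A) ⊗ₜ[k] a - a ⊗ₜ[k] (1 : A)) * ((1 : A) ⊗ₜ[k] b - b ⊗ₜ[k] (1 : A))) =
        (uu (k := k) a * uu (k := k) b) := by
      simp only [uu, sA, tA, Algebra.TensorProduct.includeLeft_apply,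
        Algebra.TensorProduct.includeRight_apply]
      ring
    rw [this]
    have h := (R2 k A).smul_mem (w_mem (k := k) a b) ((2 : k)⁻¹)
    have e : (2 : k)⁻¹ • (2 * (uu (k := k) a * uu (k := k) b)) = uu (k := k) a * uu (k := k) b := by
      rw [Algebra.smul_def, ← mul_assoc, ← map_ofNat (algebraMap k (A ⊗[k] A)) 2, ← map_mul,
        inv_mul_cancel₀ (by norm_num), map_one, one_mul]
    simpa [e] using h
  | zero => exact (R2 k A).zero_mem
  | add x y _ _ hx hy => simpa using (R2 k A).add_mem hx hy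
  | smul t x _ hx =>
    obtain ⟨e, he⟩ := exists_lift_snd (k := k) t
    simpa using (R2 k A).mul_mem he hx

theorem exists_snd_of_mem_ideal {p : A ⊗[k] A} (hp : p ∈ KaehlerDifferential.ideal k A) :
    ∃ q, q ∈ KaehlerDifferential.ideal k A ∧ (p, q) ∈ R2 k A := by
  rw [← KaehlerDifferential.span_range_eq_ideal] at hp
  induction hp using Submodule.span_induction with
  | mem x hx =>
    obtain ⟨a, rfl⟩ := hx
    refine ⟨2 * uu (k := k) a, ?_, ?_⟩
    · refine Ideal.mul_mem_left _ _ ?_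
      have : uu (k := k) a = -((1 : A) ⊗ₜ[k] a - a ⊗ₜ[k] (1 : A)) := by
        simp [uu, sA, tA]
      rw [this]
      exact neg_mem (KaehlerDifferential.one_smul_sub_smul_one_mem_ideal k a)
    · have h := (R2 k A).sub_mem (beta_mem (k := k) a)
        ((R2 k A).smul_mem (alpha_mem (k := k) a) (2 : k))
      have e : (((1 : A) ⊗ₜ[k] a - a ⊗ₜ[k] (1 : A) : A ⊗[k] A), 2 * uu (k := k) a) =
          (sA (k := k) a + tA (k := k) a, 2 * sA (k := k) a) -
            (2 : k) • (sA (k := k) a, tA (k := k) a) := by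
        refine Prod.ext ?_ ?_
        · simp only [Prod.smul_mk, Prod.fst_sub, sA, tA, Algebra.TensorProduct.includeLeft_apply,
            Algebra.TensorProduct.includeRight_apply]
          rw [Algebra.smul_def, map_ofNat]; ring
        · simp only [Prod.smul_mk, Prod.snd_sub, uu]
          rw [Algebra.smul_def, map_ofNat]; ring
      rw [e]; exact h
  | zero => exact ⟨0, zero_mem _, (R2 k A).zero_mem⟩
  | add x y _ _ hx hy =>
    obtain ⟨q, hq, h⟩ := hx
    obtain ⟨q', hq', h'⟩ := hy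
    exact ⟨q + q', add_mem hq hq', by simpa using (R2 k A).add_mem h h'⟩
  | smul t x _ hx =>
    obtain ⟨q, hq, h⟩ := hx
    obtain ⟨e, he⟩ := exists_lift_fst (k := k) t
    exact ⟨e * q, Ideal.mul_mem_left _ _ hq, by simpa using (R2 k A).mul_mem he h⟩

end Groth.Agent.Lib.Helper22.DSym3
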