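import Groth.Agent.Lib.Helper22.DSym3e

set_option autoImplicit false
universe u v
open TensorProduct

namespace Groth.Agent.Lib.Helper22.DSym3

variable {k : Type u} [Field k] [CharZero k] {A : Type v} [CommRing A] [Algebra k A]

omit [CharZero k] in
theorem psi_eq (ψ : (A ⊗[k] A) × (A ⊗[k] A) →ₗ[k] Ω[A⁄k])
    (hψ : ∀ a u b v : A, ψ (a ⊗ₜ[k] u, b ⊗ₜ[k] v) =
      (2 : A) • (a • KaehlerDifferential.D k A u) - v • KaehlerDifferential.D k A b)
    (p q : A ⊗[k] A) :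
    ψ (p, q) = (2 : A) • del k A p - del k A (TensorProduct.comm k A A q) := by
  have h1 : ∀ p : A ⊗[k] A, ψ (p, 0) = (2 : A) • del k A p := by
    intro p
    induction p using TensorProduct.induction_on with
    | zero => rw [show (((0 : A ⊗[k] A), (0 : A ⊗[k] A))) = 0 from rfl, map_zero]; simp
    | tmul a u =>
      have := hψ a u 0 0
      rw [TensorProduct.zero_tmul] at this
      rw [this, del_tmul]; simp
    | add x y hx hy =>
      have : ((x + y, 0) : (A ⊗[k] A) × (A ⊗[k] A)) = (x, 0) + (y, 0) := by simp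
      rw [this, map_add, hx, hy, map_add, smul_add]
  have h2 : ∀ q : A ⊗[k] A, ψ (0, q) = - del k A (TensorProduct.comm k A A q) := by
    intro q
    induction q using TensorProduct.induction_on with
    | zero => rw [show (((0 : A ⊗[k] A), (0 : A ⊗[k] A))) = 0 from rfl, map_zero]; simp
    | tmul b v =>
      have := hψ 0 0 b v
      rw [TensorProduct.zero_tmul] at this
      rw [this, TensorProduct.comm_tmul, del_tmul]; simp
    | add x y hx hy =>
      have : ((0, x + y) : (A ⊗[k] A) × (A ⊗[k] A)) = (0, x) + (0, y) := by simp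
      rw [this, map_add, hx, hy, map_add, map_add, neg_add]
  have : ((p, q) : (A ⊗[k] A) × (A ⊗[k] A)) = (p, 0) + (0, q) := by simp
  rw [this, map_add, h1, h2, sub_eq_add_neg]

omit [CharZero k] in
theorem del_comm (y : A ⊗[k] A) :
    del k A (TensorProduct.comm k A A y) =
      KaehlerDifferential.D k A (Algebra.TensorProduct.lmul' k y) - del k A y := by
  induction y using TensorProduct.induction_on with
  | zero => simp
  | tmul a b =>
    rw [TensorProduct.comm_tmul, del_tmul, del_tmul, Algebra.TensorProduct.lmul'_apply_tmul,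
      Derivation.leibniz]
    module
  | add x y hx hy => rw [map_add, map_add, hx, hy, map_add, map_add, map_add]; module

omit [CharZero k] in
theorem lmul_rA_eq (x : A ⊗[k] (A ⊗[k] A)) :
    Algebra.TensorProduct.lmul' k (rA k A x) = Algebra.TensorProduct.lmul' k (r23A k A x) := by
  have : (Algebra.TensorProduct.lmul' k : A ⊗[k] A →ₐ[k] A).toLinearMap ∘ₗ (rA k A).toLinearMap =
      (Algebra.TensorProduct.lmul' k : A ⊗[k] A →ₐ[k] A).toLinearMap ∘ₗ
        (r23A k A).toLinearMap := by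
    apply ext3
    intro a b c
    simp only [LinearMap.comp_apply, AlgHom.toLinearMap_apply, rA_tmul, r23A_tmul,
      Algebra.TensorProduct.lmul'_apply_tmul]
    ring
  exact LinearMap.congr_fun this x

omit [CharZero k] in
theorem psi_sym23 (x : A ⊗[k] (A ⊗[k] A)) :
    (2 : A) • del k A (rA k A (x + s23 k A x)) -
      del k A (TensorProduct.comm k A A (r23A k A (x + s23 k A x))) = 0 := by
  have key : (2 : A) • ((del k A) ∘ₗ (rA k A).toLinearMap ∘ₗ
        (LinearMap.id + (s23 k A).toLinearMap)) -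
      (del k A) ∘ₗ (TensorProduct.comm k A A).toLinearMap ∘ₗ (r23A k A).toLinearMap ∘ₗ
        (LinearMap.id + (s23 k A).toLinearMap) = 0 := by
    apply ext3
    intro a b c
    simp only [LinearMap.sub_apply, LinearMap.smul_apply, LinearMap.comp_apply,
      LinearMap.add_apply, LinearMap.id_apply, AlgEquiv.toLinearMap_apply,
      AlgHom.toLinearMap_apply, s23_tmul, map_add, rA_tmul, r23A_tmul, LinearEquiv.coe_coe,
      TensorProduct.comm_tmul, del_tmul, Derivation.leibniz, LinearMap.zero_apply]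
    module
  have := LinearMap.congr_fun key x
  simpa using this

theorem psi_eq_zero_of_mem_R2 (ψ : (A ⊗[k] A) × (A ⊗[k] A) →ₗ[k] Ω[A⁄k])
    (hψ : ∀ a u b v : A, ψ (a ⊗ₜ[k] u, b ⊗ₜ[k] v) =
      (2 : A) • (a • KaehlerDifferential.D k A u) - v • KaehlerDifferential.D k A b)
    {y : (A ⊗[k] A) × (A ⊗[k] A)} (hy : y ∈ R2 k A) : ψ y = 0 := by
  obtain ⟨x, h1, h2, h3⟩ := mem_R2.mp hy
  have h := psi_sym23 (k := k) x
  have hs : x + s23 k A x = (2 : k) • x := by rw [h1]; module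
  rw [hs] at h
  simp only [map_smul, h2, h3] at h
  rw [smul_comm (2 : A) (2 : k), ← smul_sub, ← psi_eq ψ hψ] at h
  exact (smul_eq_zero.mp h).resolve_left (by norm_num)

omit [CharZero k] in
theorem lmul_eq_of_mem_R2 {y : (A ⊗[k] A) × (A ⊗[k] A)} (hy : y ∈ R2 k A) :
    Algebra.TensorProduct.lmul' k y.1 = Algebra.TensorProduct.lmul' k y.2 := by
  obtain ⟨x, _, h2, h3⟩ := mem_R2.mp hy
  rw [← h2, ← h3, lmul_rA_eq]

theorem mem_R2_of_psi_eq_zero (ψ : (A ⊗[k] A) × (A ⊗[k] A) →ₗ[k] Ω[A⁄k])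
    (hψ : ∀ a u b v : A, ψ (a ⊗ₜ[k] u, b ⊗ₜ[k] v) =
      (2 : A) • (a • KaehlerDifferential.D k A u) - v • KaehlerDifferential.D k A b)
    {p q : A ⊗[k] A}
    (hm : Algebra.TensorProduct.lmul' k p = Algebra.TensorProduct.lmul' k q)
    (h0 : ψ (p, q) = 0) : (p, q) ∈ R2 k A := by
  set f : A := Algebra.TensorProduct.lmul' k p with hf
  have hα := alpha_mem (k := k) f
  have hp' : p - sA (k := k) f ∈ KaehlerDifferential.ideal k A := by
    rw [KaehlerDifferential.ideal, RingHom.mem_ker, map_sub, ← hf]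
    simp [sA]
  have hq' : q - tA (k := k) f ∈ KaehlerDifferential.ideal k A := by
    rw [KaehlerDifferential.ideal, RingHom.mem_ker, map_sub, ← hm]
    simp [tA]
  obtain ⟨q'', hq''I, hq''⟩ := exists_snd_of_mem_ideal (k := k) hp'
  set z : A ⊗[k] A := q - tA (k := k) f - q'' with hz
  have hzI : z ∈ KaehlerDifferential.ideal k A := sub_mem hq' hq''I
  have hdecomp : ((p, q) : (A ⊗[k] A) × (A ⊗[k] A)) =
      (sA (k := k) f, tA (k := k) f) + (p - sA (k := k) f, q'') + (0, z) := by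
    refine Prod.ext ?_ ?_
    · simp
    · simp only [Prod.snd_add, hz]; abel
  have hψz : ψ (0, z) = 0 := by
    have h := h0
    rw [hdecomp, map_add, map_add, psi_eq_zero_of_mem_R2 ψ hψ hα,
      psi_eq_zero_of_mem_R2 ψ hψ hq'', zero_add, zero_add] at h
    exact h
  rw [psi_eq ψ hψ, map_zero, smul_zero, zero_sub, neg_eq_zero, del_comm] at hψz
  have hmz : Algebra.TensorProduct.lmul' k z = 0 := by
    rwa [KaehlerDifferential.ideal, RingHom.mem_ker] at hzI
  rw [hmz, map_zero, zero_sub, neg_eq_zero, del_of_mem_ideal _ hzI] at hψz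
  have hsq : z ∈ KaehlerDifferential.ideal k A ^ 2 :=
    (Ideal.toCotangent_eq_zero (KaehlerDifferential.ideal k A) ⟨z, hzI⟩).mp hψz
  rw [hdecomp]
  exact (R2 k A).add_mem ((R2 k A).add_mem hα hq'') (sq_snd_mem hsq)

theorem psi_surj (ψ : (A ⊗[k] A) × (A ⊗[k] A) →ₗ[k] Ω[A⁄k])
    (hψ : ∀ a u b v : A, ψ (a ⊗ₜ[k] u, b ⊗ₜ[k] v) =
      (2 : A) • (a • KaehlerDifferential.D k A u) - v • KaehlerDifferential.D k A b)
    (ω : Ω[A⁄k]) :
    ∃ p q : A ⊗[k] A, LinearMap.mul' k A p = LinearMap.mul' k A q ∧ ψ (p, q) = ω := by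
  obtain ⟨z, hz⟩ := (KaehlerDifferential.ideal k A).toCotangent_surjective (((2 : k)⁻¹) • ω)
  refine ⟨z, 0, ?_, ?_⟩
  · rw [map_zero, ← Algebra.TensorProduct.lmul'_toLinearMap]
    have hz2 : Algebra.TensorProduct.lmul' k (z : A ⊗[k] A) = 0 := RingHom.mem_ker.mp z.2
    exact hz2
  · rw [psi_eq ψ hψ, map_zero, map_zero, sub_zero, del_of_mem_ideal _ z.2]
    have : (KaehlerDifferential.ideal k A).toCotangent ⟨z, z.2⟩ = ((2 : k)⁻¹) • ω := hz
    rw [this, ← algebraMap_smul A (2 : k)⁻¹ ω, smul_smul, ← map_ofNat (algebraMap k A) 2,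
      ← map_mul, mul_inv_cancel₀ (by norm_num), map_one, one_smul]

theorem main2 (r₁₂ r₂₃ : A ⊗[k] (A ⊗[k] A) →ₗ[k] A ⊗[k] A)
    (h₁₂ : ∀ a u v : A, r₁₂ (a ⊗ₜ[k] (u ⊗ₜ[k] v)) = (a * u) ⊗ₜ[k] v)
    (h₂₃ : ∀ a u v : A, r₂₃ (a ⊗ₜ[k] (u ⊗ₜ[k] v)) = (u * v) ⊗ₜ[k] a)
    (ψ : (A ⊗[k] A) × (A ⊗[k] A) →ₗ[k] Ω[A⁄k])
    (hψ : ∀ a u b v : A, ψ (a ⊗ₜ[k] u, b ⊗ₜ[k] v) =
      (2 : A) • (a • KaehlerDifferential.D k A u) - v • KaehlerDifferential.D k A b) :
    (∀ p q : A ⊗[k] A, LinearMap.mul' k A p = LinearMap.mul' k A q →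
      (ψ (p, q) = 0 ↔ ∃ x : A ⊗[k] (A ⊗[k] A),
        LinearMap.lTensor A (TensorProduct.comm k A A).toLinearMap x = x ∧ r₁₂ x = p ∧ r₂₃ x = q)) ∧
    (∀ ω : Ω[A⁄k], ∃ p q : A ⊗[k] A, LinearMap.mul' k A p = LinearMap.mul' k A q ∧ ψ (p, q) = ω) := by
  refine ⟨fun p q hm => ?_, psi_surj ψ hψ⟩
  have e : (∃ x : A ⊗[k] (A ⊗[k] A),
        LinearMap.lTensor A (TensorProduct.comm k A A).toLinearMap x = x ∧ r₁₂ x = p ∧ r₂₃ x = q) ↔
      (p, q) ∈ R2 k A := by
    rw [mem_R2]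
    simp only [s23_eq, r_eq r₁₂ h₁₂, r23_eq r₂₃ h₂₃]
  rw [e]
  rw [← Algebra.TensorProduct.lmul'_toLinearMap] at hm
  exact ⟨mem_R2_of_psi_eq_zero ψ hψ hm, psi_eq_zero_of_mem_R2 ψ hψ⟩

end Groth.Agent.Lib.Helper22.DSym3
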