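import Groth.Prelude.Def_DeRham
import Mathlib

/-!
# Generators of the exterior powers of a module generated by the image of a derivation (helper22)

`gen_induction`: if `δ(A)` spans `M` over `A`, a predicate on `⋀[A]^p M` that holds at `0`, is
stable under addition and holds at every `DeRham.gen δ p b₀ b` holds everywhere.
-/

set_option autoImplicit false
universe v u

open exteriorPower

namespace Groth.Agent.Lib.helper22.DeRhamGen

variable {R : Type v} {A M : Type u} [CommRing R] [CommRing A] [Algebra R A]
  [AddCommGroup M] [Module A M] [Module R M]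

theorem gen_induction (δ : Derivation R A M) (hδ : Submodule.span A (Set.range δ) = ⊤) (p : ℕ)
    {motive : ↥(⋀[A]^p M) → Prop} (zero : motive 0)
    (add : ∀ x y, motive x → motive y → motive (x + y))
    (gen : ∀ (b₀ : A) (b : Fin p → A), motive (DeRham.gen δ p b₀ b)) (x : ↥(⋀[A]^p M)) :
    motive x := by
  have hx : x ∈ Submodule.span A (ιMulti A p '' {a : Fin p → M | Set.range a ⊆ Set.range δ}) := by
    rw [ιMulti_span_of_span A p M hδ]
    trivial
  have key : ∀ a : A, motive (a • x) := by
    induction hx using Submodule.span_induction with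
    | mem y hy =>
      obtain ⟨m, hm, rfl⟩ := hy
      have : ∀ i, ∃ c : A, δ c = m i := fun i => hm ⟨i, rfl⟩
      choose b hb using this
      intro a
      have : m = fun i => δ (b i) := funext fun i => (hb i).symm
      rw [this]
      exact gen a b
    | zero => intro a; rw [smul_zero]; exact zero
    | add y z _ _ hy hz => intro a; rw [smul_add]; exact add _ _ (hy a) (hz a)
    | smul r y _ hy => intro a; rw [smul_smul]; exact hy (a * r)
  have := key 1
  rwa [one_smul] at this

theorem kaehler_gen_induction (R A : Type u) [CommRing R] [CommRing A] [Algebra R A] (p : ℕ)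
    {motive : ↥(⋀[A]^p (Ω[A⁄R])) → Prop} (zero : motive 0)
    (add : ∀ x y, motive x → motive y → motive (x + y))
    (gen : ∀ (b₀ : A) (b : Fin p → A), motive (DeRham.gen (KaehlerDifferential.D R A) p b₀ b))
    (x : ↥(⋀[A]^p (Ω[A⁄R]))) : motive x :=
  gen_induction (KaehlerDifferential.D R A) (KaehlerDifferential.span_range_derivation R A) p
    zero add gen x

/-- `δb₀ ∧ δb₁ ∧ … ∧ δb_p` is the generator `1 · δb₀ ∧ … ∧ δb_p` of degree `p + 1`. -/
theorem ιMulti_cons_eq_gen (δ : Derivation R A M) (p : ℕ) (b₀ : A) (b : Fin p → A) :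
    ιMulti A (p + 1) (Fin.cons (δ b₀) (fun i => δ (b i)) : Fin (p + 1) → M) =
      DeRham.gen δ (p + 1) 1 (Fin.cons b₀ b) := by
  rw [DeRham.gen, one_smul]
  congr 1
  funext i
  refine Fin.cases ?_ (fun j => ?_) i <;> simp

end Groth.Agent.Lib.helper22.DeRhamGen
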