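import Mathlib
import Groth.Agent.Lib.Helper22.HopfKer

/-!
# Hopf ideals of a flat Hopf algebra over a domain vs Hopf ideals of the generic fibre (helper22)
-/

set_option autoImplicit false
universe u
open scoped TensorProduct

namespace Groth.Agent.Lib.helper22.DedekindHopf

variable (R : Type u) [CommRing R] (K : Type u) [Field K] [Algebra R K]
  (A : Type u) [CommRing A] [HopfAlgebra R A]

/-- the inclusion `A → K ⊗ A` -/
noncomputable abbrev inc : A →ₐ[R] K ⊗[R] A := Algebra.TensorProduct.includeRight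

theorem isHopfIdeal_map (J' : Ideal A) [J'.IsHopfIdeal R] :
    (Ideal.map (inc R K A) J').IsHopfIdeal K := by
  let π : A →ₐc[R] A ⧸ J' := Bialgebra.Quotient.mkBialgHom J'
  let Pi₀ : K ⊗[R] A →ₐc[K] K ⊗[R] (A ⧸ J') := Bialgebra.TensorProduct.map (BialgHom.id K K) π
  have hker : RingHom.ker (Pi₀ : K ⊗[R] A →+* K ⊗[R] (A ⧸ J')) = Ideal.map (inc R K A) J' := by
    have := Algebra.TensorProduct.lTensor_ker (A := K) (Ideal.Quotient.mkₐ R J')
      (Ideal.Quotient.mkₐ_surjective R J')
    have hk : RingHom.ker (Ideal.Quotient.mkₐ R J') = J' := by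
      ext x
      rw [RingHom.mem_ker]
      exact Ideal.Quotient.eq_zero_iff_mem
    rw [hk] at this
    rw [← this]
    ext x
    rw [RingHom.mem_ker, RingHom.mem_ker]
    have : ∀ x : K ⊗[R] A, (Pi₀ : K ⊗[R] A →+* K ⊗[R] (A ⧸ J')) x =
        Algebra.TensorProduct.map (AlgHom.id R K) (Ideal.Quotient.mkₐ R J') x := by
      intro x
      induction x using TensorProduct.induction_on with
      | zero => simp
      | tmul c a => rfl
      | add x y hx hy => rw [map_add, map_add, hx, hy]
    rw [this]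
  rw [← hker]
  exact isHopfIdeal_ker Pi₀

theorem ker_mkₐ (J' : Ideal A) : RingHom.ker (Ideal.Quotient.mkₐ R J') = J' := by
  ext x
  rw [RingHom.mem_ker]
  exact Ideal.Quotient.eq_zero_iff_mem

theorem comap_map_of_flat (hinj : Function.Injective (algebraMap R K)) (J' : Ideal A)
    [Module.Flat R (A ⧸ J')] :
    Ideal.comap (inc R K A) (Ideal.map (inc R K A) J') = J' := by
  refine le_antisymm ?_ Ideal.le_comap_map
  intro x hx
  rw [Ideal.mem_comap] at hx
  have h1 : Algebra.TensorProduct.map (AlgHom.id R K) (Ideal.Quotient.mkₐ R J') (inc R K A x) = 0 := by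
    rw [← RingHom.mem_ker, Algebra.TensorProduct.lTensor_ker (A := K) (Ideal.Quotient.mkₐ R J')
      (Ideal.Quotient.mkₐ_surjective R J'), ker_mkₐ]
    exact hx
  have h2 : (Algebra.TensorProduct.includeRight : A ⧸ J' →ₐ[R] K ⊗[R] (A ⧸ J'))
      (Ideal.Quotient.mk J' x) = 0 := by
    simpa using h1
  have := Algebra.TensorProduct.includeRight_injective (R := R) (A := K) (B := A ⧸ J') hinj
  have h3 := this (h2.trans (map_zero _).symm)
  exact Ideal.Quotient.eq_zero_iff_mem.1 h3

variable [IsDomain R] [IsFractionRing R K]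

theorem exists_smul_eq_inc (z : K ⊗[R] A) :
    ∃ (r : R) (a : A), r ≠ 0 ∧ (algebraMap R K r) • z = inc R K A a := by
  obtain ⟨⟨a, s⟩, hs⟩ := IsLocalizedModule.surj (nonZeroDivisors R) (TensorProduct.mk R K A 1) z
  refine ⟨s.1, a, nonZeroDivisors.ne_zero s.2, ?_⟩
  rw [algebraMap_smul]
  exact hs

theorem mem_of_smul_mem (J : Ideal (K ⊗[R] A)) (r : R) (hr : r ≠ 0) (z : K ⊗[R] A)
    (h : (algebraMap R K r) • z ∈ J) : z ∈ J := by
  have hr' : algebraMap R K r ≠ 0 := by
    rwa [Ne, map_eq_zero_iff _ (IsFractionRing.injective R K)]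
  have : z = (algebraMap R K r)⁻¹ • ((algebraMap R K r) • z) := by
    rw [smul_smul, inv_mul_cancel₀ hr', one_smul]
  rw [this]
  exact Submodule.smul_of_tower_mem J _ h

theorem map_comap (J : Ideal (K ⊗[R] A)) :
    Ideal.map (inc R K A) (Ideal.comap (inc R K A) J) = J := by
  refine le_antisymm Ideal.map_comap_le ?_
  intro z hz
  obtain ⟨r, a, hr, hra⟩ := exists_smul_eq_inc R K A z
  have ha : a ∈ Ideal.comap (inc R K A) J := by
    rw [Ideal.mem_comap, ← hra]
    exact Submodule.smul_of_tower_mem J _ hz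
  refine mem_of_smul_mem R K A _ r hr z ?_
  rw [hra]
  exact Ideal.mem_map_of_mem _ ha

theorem flat_quotient_comap [IsDedekindDomain R] (J : Ideal (K ⊗[R] A)) :
    Module.Flat R (A ⧸ Ideal.comap (inc R K A) J) := by
  rw [IsDedekindDomain.flat_iff_torsion_eq_bot, eq_bot_iff]
  intro y hy
  rw [Submodule.mem_torsion_iff] at hy
  obtain ⟨⟨r, hr⟩, hry⟩ := hy
  obtain ⟨a, rfl⟩ := Ideal.Quotient.mk_surjective y
  rw [Submodule.mem_bot, Ideal.Quotient.eq_zero_iff_mem, Ideal.mem_comap]
  have h1 : r • a ∈ Ideal.comap (inc R K A) J := by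
    rw [← Ideal.Quotient.eq_zero_iff_mem]
    exact hry
  rw [Ideal.mem_comap, map_smul, ← algebraMap_smul K] at h1
  exact mem_of_smul_mem R K A J r (nonZeroDivisors.ne_zero hr) _ h1

theorem isHopfIdeal_comap [IsDedekindDomain R] (J : Ideal (K ⊗[R] A)) [J.IsHopfIdeal K] :
    (Ideal.comap (inc R K A) J).IsHopfIdeal R := by
  have hflat : Module.Flat R (A ⧸ Ideal.comap (inc R K A) J) := flat_quotient_comap R K A J
  refine @Ideal.IsHopfIdeal.mk R A _ _ _ _ ⟨?_, ?_⟩ ?_
  · intro x hx
    have h1 : Coalgebra.counit (R := K) (inc R K A x) = 0 :=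
      Submodule.IsCoideal.counit_eq_zero (I := J.restrictScalars K) hx
    rw [show inc R K A x = (1 : K) ⊗ₜ[R] x from rfl, TensorProduct.counit_tmul] at h1
    rw [CommSemiring.counit_apply, Algebra.smul_def, mul_one] at h1
    exact (map_eq_zero_iff _ (IsFractionRing.injective R K)).1 h1
  · intro x hx
    set I' := (Ideal.comap (inc R K A) J).restrictScalars R with hI'
    set I := J.restrictScalars K with hI
    let i : (A ⧸ I') →ₗ[R] ((K ⊗[R] A) ⧸ I) :=
      I'.liftQ (I.mkQ.restrictScalars R ∘ₗ (inc R K A).toLinearMap) (fun y hy => by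
        rw [LinearMap.mem_ker]
        exact (Submodule.Quotient.mk_eq_zero I).2 hy)
    have hi : Function.Injective i := by
      rw [← LinearMap.ker_eq_bot]
      refine Submodule.ker_liftQ_eq_bot _ _ _ (fun y hy => ?_)
      rw [LinearMap.mem_ker] at hy
      exact (Submodule.Quotient.mk_eq_zero I).1 hy
    have : Module.Flat R ((K ⊗[R] A) ⧸ I) := Module.Flat.trans R K _
    have : Module.Flat R (A ⧸ I') :=
      Module.Flat.of_linearEquiv (Submodule.Quotient.restrictScalarsEquiv R
        (Ideal.comap (inc R K A) J))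
    have hinj2 : Function.Injective (TensorProduct.map i i) := by
      have : TensorProduct.map i i = i.rTensor _ ∘ₗ i.lTensor (A ⧸ I') := by
        rw [LinearMap.rTensor, LinearMap.lTensor, ← TensorProduct.map_comp, LinearMap.comp_id,
          LinearMap.id_comp]
      rw [this, LinearMap.coe_comp]
      exact (Module.Flat.rTensor_preserves_injective_linearMap _ hi).comp
        (Module.Flat.lTensor_preserves_injective_linearMap _ hi)
    let E : ((K ⊗[R] A) ⧸ I) ⊗[R] ((K ⊗[R] A) ⧸ I) ≃ₗ[K]
        ((K ⊗[R] A) ⧸ I) ⊗[K] ((K ⊗[R] A) ⧸ I) :=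
      (IsLocalization.moduleTensorEquiv (nonZeroDivisors R) K _ _).symm
    apply hinj2
    apply E.injective
    rw [map_zero, map_zero]
    have key : ∀ t : A ⊗[R] A, E (TensorProduct.map i i (TensorProduct.map I'.mkQ I'.mkQ t)) =
        TensorProduct.map I.mkQ I.mkQ
          (TensorProduct.AlgebraTensorModule.tensorTensorTensorComm R K R K K K A A
            (((1 : K) ⊗ₜ[K] (1 : K)) ⊗ₜ[R] t)) := by
      intro t
      induction t using TensorProduct.induction_on with
      | zero => simp
      | tmul a b =>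
        rw [TensorProduct.map_tmul, TensorProduct.map_tmul,
          TensorProduct.AlgebraTensorModule.tensorTensorTensorComm_tmul, TensorProduct.map_tmul]
        rfl
      | add x y hx hy =>
        rw [map_add, map_add, map_add, hx, hy, TensorProduct.tmul_add, map_add, map_add]
    rw [key]
    have h1 := Submodule.IsCoideal.map_mkQ_comul_eq_zero (I := I) (x := inc R K A x) hx
    rw [show inc R K A x = (1 : K) ⊗ₜ[R] x from rfl, TensorProduct.comul_tmul,
      CommSemiring.comul_apply] at h1
    exact h1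
  · intro x hx
    have h1 : HopfAlgebra.antipode K (inc R K A x) = inc R K A (HopfAlgebra.antipode R x) := by
      rw [show inc R K A x = (1 : K) ⊗ₜ[R] x from rfl, TensorProduct.antipode_def]
      simp
    rw [Ideal.mem_comap, ← h1]
    exact Ideal.IsHopfIdeal.antipode_mem (R := K) hx

end Groth.Agent.Lib.helper22.DedekindHopf
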