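import Mathlib
import Groth.Prelude.Def_CartDual
import Groth.Agent.Lib.Helper22.Deligne

/-!
# Deligne's theorem for points of a finite free commutative group scheme (helper22)
-/

set_option autoImplicit false
universe u v w
open scoped TensorProduct
open WithConv

namespace Groth.Agent.Lib.helper22.DeligneDual

section dual

variable (B : Type u) [CommRing B] (E : Type v) [CommRing E] [HopfAlgebra B E]
  [Coalgebra.IsCocomm B E] [Module.Finite B E] [Module.Projective B E]

/-- a `B`-point of `Spec E` is a group-like element of the dual Hopf algebra -/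
theorem isGroupLikeElem_algHom (f : E →ₐ[B] B) :
    IsGroupLikeElem B (toConv f.toLinearMap : CartDual.D B E) where
  counit_eq_one := by
    rw [CartDual.coalgebra_counit_apply]
    change f 1 = 1
    exact map_one f
  comul_eq_tmul_self := by
    apply (CartDual.ev₂ B E).injective
    apply TensorProduct.ext'
    intro a b
    rw [CartDual.ev₂_coalgebra_comul_tmul, CartDual.ev₂_tmul]
    change f (a * b) = f a * f b
    exact map_mul f a b

/-- a `B`-point of a finite free commutative group scheme of rank `n` over `B` is killed by `n` -/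
theorem point_pow_card {ι : Type*} [Fintype ι] (b : Module.Basis ι B E) (f : E →ₐ[B] B) :
    (toConv f) ^ Fintype.card ι = 1 := by
  classical
  let b' : Module.Basis ι B (CartDual.D B E) := b.dualBasis.map (CartDual.toDual B E).symm
  have h1 := Deligne.groupLike_pow_card b' _ (isGroupLikeElem_algHom B E f)
  apply WithConv.ofConv_injective
  apply AlgHom.toLinearMap_injective
  apply WithConv.toConv_injective
  rw [AlgHom.toLinearMap_convPow, AlgHom.toLinearMap_convOne]
  exact h1

end dual

section baseChange

variable (R : Type u) [CommRing R] (A : Type v) [CommRing A] [HopfAlgebra R A]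
  (S : Type w) [CommRing S] [Algebra R S]

/-- the `S`-point of `S ⊗ A` attached to an `S`-valued point of `A` -/
noncomputable def ext (F : A →ₐ[R] S) : S ⊗[R] A →ₐ[S] S :=
  Algebra.TensorProduct.lift (Algebra.ofId S S) F (fun _ _ => Commute.all _ _)

variable {R A S}

theorem ext_tmul (F : A →ₐ[R] S) (s : S) (a : A) : ext R A S F (s ⊗ₜ[R] a) = s * F a := by
  rw [ext, Algebra.TensorProduct.lift_tmul]
  rfl

theorem ext_injective : Function.Injective (ext R A S) := by
  intro F G h
  ext a
  have := AlgHom.congr_fun h ((1 : S) ⊗ₜ[R] a)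
  rw [ext_tmul, ext_tmul, one_mul, one_mul] at this
  exact this

theorem ext_mul (F G : WithConv (A →ₐ[R] S)) :
    toConv (ext R A S (F * G).ofConv) = toConv (ext R A S F.ofConv) * toConv (ext R A S G.ofConv) := by
  apply WithConv.ofConv_injective
  apply Algebra.TensorProduct.ext
  · ext
  · ext a
    change ext R A S (F * G).ofConv ((1 : S) ⊗ₜ[R] a) =
      (toConv (ext R A S F.ofConv) * toConv (ext R A S G.ofConv)) ((1 : S) ⊗ₜ[R] a)
    have hL : ext R A S (F * G).ofConv ((1 : S) ⊗ₜ[R] a) =
        Algebra.TensorProduct.lift F.ofConv G.ofConv (fun _ _ => Commute.all _ _)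
          (Coalgebra.comul (R := R) a) := by
      rw [ext_tmul, one_mul]
      exact AlgHom.convMul_apply F G a
    have hR := AlgHom.convMul_apply (toConv (ext R A S F.ofConv)) (toConv (ext R A S G.ofConv))
      ((1 : S) ⊗ₜ[R] a)
    have hone : Coalgebra.comul (R := S) (1 : S) = (1 : S) ⊗ₜ[S] (1 : S) := by
      rw [CommSemiring.comul_apply]
    rw [hL, hR, TensorProduct.comul_tmul, hone, WithConv.ofConv_toConv, WithConv.ofConv_toConv]
    generalize Coalgebra.comul (R := R) a = w
    induction w using TensorProduct.induction_on with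
    | zero => simp
    | tmul x y =>
      rw [Algebra.TensorProduct.lift_tmul]
      simp [ext_tmul]
    | add w w' hw hw' =>
      rw [map_add, hw, hw', TensorProduct.tmul_add, map_add, map_add]

theorem ext_one : toConv (ext R A S (1 : WithConv (A →ₐ[R] S)).ofConv) = 1 := by
  apply WithConv.ofConv_injective
  apply Algebra.TensorProduct.ext
  · ext
  · ext a
    change ext R A S (1 : WithConv (A →ₐ[R] S)).ofConv ((1 : S) ⊗ₜ[R] a) =
      (1 : WithConv (S ⊗[R] A →ₐ[S] S)) ((1 : S) ⊗ₜ[R] a)
    have hL : ext R A S (1 : WithConv (A →ₐ[R] S)).ofConv ((1 : S) ⊗ₜ[R] a) =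
        algebraMap R S (Coalgebra.counit a) := by
      rw [ext_tmul, one_mul]
      exact AlgHom.convOne_apply a
    have hR := AlgHom.convOne_apply (R := S) (A := S) ((1 : S) ⊗ₜ[R] a)
    rw [hL, hR, TensorProduct.counit_tmul]
    simp [Algebra.smul_def]

theorem ext_pow (F : WithConv (A →ₐ[R] S)) (n : ℕ) :
    toConv (ext R A S (F ^ n).ofConv) = toConv (ext R A S F.ofConv) ^ n := by
  induction n with
  | zero => rw [pow_zero, pow_zero, ext_one]
  | succ n ih => rw [pow_succ, pow_succ, ext_mul, ih]

/-- an `S`-valued point of `A` is killed by `n` as soon as `S ⊗ A` is free of rank `n` over `S` -/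
theorem point_pow_card' [Coalgebra.IsCocomm R A] [Module.Finite R A] [Module.Projective R A]
    {ι : Type*} [Fintype ι] (b : Module.Basis ι S (S ⊗[R] A))
    (F : A →ₐ[R] S) : (toConv F) ^ Fintype.card ι = 1 := by
  have h1 := point_pow_card S (S ⊗[R] A) b (ext R A S F)
  have h2 := ext_pow (toConv F) (Fintype.card ι)
  rw [WithConv.ofConv_toConv, h1, ← ext_one] at h2
  exact WithConv.ofConv_injective (ext_injective (WithConv.toConv_injective h2))

theorem comp_pow (j : A →ₐ[R] S) (F : WithConv (A →ₐ[R] A)) (m : ℕ) :
    (toConv (j.comp F.ofConv)) ^ m = toConv (j.comp (F ^ m).ofConv) := by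
  induction m with
  | zero =>
    rw [pow_zero, pow_zero]
    apply WithConv.ofConv_injective
    ext x
    simp [AlgHom.convOne_apply]
  | succ m ih =>
    rw [pow_succ, pow_succ, ih]
    apply WithConv.ofConv_injective
    rw [WithConv.ofConv_toConv, AlgHom.comp_convMul_distrib]

/-- if the point `j` is killed by `n`, then `j ∘ [n] = j ∘ (unit ∘ counit)` -/
theorem apply_pow_id_eq (j : A →ₐ[R] S) (n : ℕ) (h : (toConv j) ^ n = 1) (a : A) :
    j (((toConv (AlgHom.id R A)) ^ n).ofConv a) = j ((1 : WithConv (A →ₐ[R] A)).ofConv a) := by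
  have h1 := comp_pow j (toConv (AlgHom.id R A)) n
  rw [WithConv.ofConv_toConv, AlgHom.comp_id, h] at h1
  have h2 := congrArg (fun F : WithConv (A →ₐ[R] S) => F.ofConv a) h1
  simp only [AlgHom.comp_apply] at h2
  rw [← h2]
  change (1 : WithConv (A →ₐ[R] S)) a = j ((1 : WithConv (A →ₐ[R] A)) a)
  rw [AlgHom.convOne_apply, AlgHom.convOne_apply, AlgHom.commutes]

end baseChange

end Groth.Agent.Lib.helper22.DeligneDual
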