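import Mathlib

set_option autoImplicit false
universe u v w t

namespace Groth.Agent.Lib.Helper22.Deloc

open MvPolynomial

section scale

variable {R : Type u} [CommRing R] {ι : Type w}

/-- the substitution `X k ↦ C (c k) * X k`. -/
noncomputable def scaleHom (c : ι → R) : MvPolynomial ι R →ₐ[R] MvPolynomial ι R :=
  aeval fun k => C (c k) * X k

@[simp] lemma scaleHom_X (c : ι → R) (k : ι) : scaleHom c (X k) = C (c k) * X k := by
  simp [scaleHom]

lemma scaleHom_comp (c d : ι → R) (p : MvPolynomial ι R) :
    scaleHom c (scaleHom d p) = scaleHom (fun k => c k * d k) p := by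
  induction p using MvPolynomial.induction_on with
  | C a => simp [scaleHom]
  | add p q hp hq => rw [map_add, map_add, map_add, hp, hq]
  | mul_X p i hp =>
    rw [map_mul, map_mul, map_mul, hp, scaleHom_X, map_mul, scaleHom_X, scaleHom_X]
    have : scaleHom c (C (d i)) = C (d i) := by simp [scaleHom]
    rw [this, map_mul]
    ring

lemma scaleHom_one (p : MvPolynomial ι R) : scaleHom (fun _ => (1 : R)) p = p := by
  induction p using MvPolynomial.induction_on with
  | C a => simp [scaleHom]
  | add p q hp hq => rw [map_add, hp, hq]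
  | mul_X p i hp => rw [map_mul, hp, scaleHom_X, map_one, one_mul]

lemma pderiv_scaleHom (c : ι → R) (k : ι) (p : MvPolynomial ι R) :
    pderiv k (scaleHom c p) = C (c k) * scaleHom c (pderiv k p) := by
  classical
  induction p using MvPolynomial.induction_on with
  | C a => simp [scaleHom]
  | add p q hp hq => rw [map_add, map_add, map_add, map_add, hp, hq, mul_add]
  | mul_X p i hp =>
    rw [map_mul, scaleHom_X, Derivation.leibniz, Derivation.leibniz, Derivation.leibniz, hp,
      pderiv_C, pderiv_X, map_add, smul_eq_mul, smul_eq_mul, smul_eq_mul, smul_eq_mul,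
      smul_eq_mul, smul_eq_mul, map_mul, map_mul, scaleHom_X]
    by_cases hik : i = k
    · subst hik
      simp
      ring
    · simp [hik]
      ring

lemma aeval_scaleHom {S : Type v} [CommRing S] [Algebra R S] (c : ι → R) (v : ι → S)
    (p : MvPolynomial ι R) :
    aeval v (scaleHom c p) = aeval (fun k => c k • v k) p := by
  induction p using MvPolynomial.induction_on with
  | C a => simp [scaleHom]
  | add p q hp hq => rw [map_add, map_add, map_add, hp, hq]
  | mul_X p i hp =>
    rw [map_mul, map_mul, map_mul, hp, scaleHom_X, map_mul, aeval_X, aeval_X, aeval_C,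
      Algebra.smul_def]

lemma scaleHom_units_cancel (u : ι → Rˣ) (p : MvPolynomial ι R) :
    scaleHom (fun k => (u k : R)) (scaleHom (fun k => (((u k)⁻¹ : Rˣ) : R)) p) = p := by
  rw [scaleHom_comp]
  have : (fun k => (u k : R) * (((u k)⁻¹ : Rˣ) : R)) = fun _ => (1 : R) := by
    funext k; simp
  rw [this, scaleHom_one]

lemma scaleHom_units_cancel' (u : ι → Rˣ) (p : MvPolynomial ι R) :
    scaleHom (fun k => (((u k)⁻¹ : Rˣ) : R)) (scaleHom (fun k => (u k : R)) p) = p := by
  rw [scaleHom_comp]
  have : (fun k => (((u k)⁻¹ : Rˣ) : R) * (u k : R)) = fun _ => (1 : R) := by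
    funext k; simp
  rw [this, scaleHom_one]

variable {S : Type v} [CommRing S] [Algebra R S] {σ : Type t}

/-- scaling the generators of a presentation by units. -/
noncomputable def preScale (P : Algebra.PreSubmersivePresentation R S ι σ) (u : ι → Rˣ) :
    Algebra.PreSubmersivePresentation R S ι σ where
  val := fun k => (u k : R) • P.val k
  σ' := fun s => scaleHom (fun k => (((u k)⁻¹ : Rˣ) : R)) (P.σ s)
  aeval_val_σ' := by
    intro s
    rw [← aeval_scaleHom, scaleHom_units_cancel]
    exact P.aeval_val_σ s
  relation := fun r => scaleHom (fun k => (((u k)⁻¹ : Rˣ) : R)) (P.relation r)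
  span_range_relation_eq_ker := by
    apply le_antisymm
    · rw [Ideal.span_le]
      rintro _ ⟨r, rfl⟩
      change _ ∈ RingHom.ker _
      rw [RingHom.mem_ker]
      change aeval (fun k => (u k : R) • P.val k) (scaleHom _ (P.relation r)) = 0
      rw [← aeval_scaleHom, scaleHom_units_cancel]
      exact P.aeval_val_relation r
    · intro p hp
      have h0 : aeval (fun k => (u k : R) • P.val k) p = 0 := hp
      rw [← aeval_scaleHom] at h0
      have h1 : scaleHom (fun k => (u k : R)) p ∈ Ideal.span (Set.range P.relation) := by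
        rw [P.span_range_relation_eq_ker, Algebra.Generators.ker_eq_ker_aeval_val]
        exact h0
      have h2 := Ideal.mem_map_of_mem (scaleHom (fun k => (((u k)⁻¹ : Rˣ) : R))).toRingHom h1
      rw [Ideal.map_span] at h2
      have h3 : (scaleHom (fun k => (((u k)⁻¹ : Rˣ) : R))).toRingHom
          (scaleHom (fun k => (u k : R)) p) = p := scaleHom_units_cancel' u p
      rw [h3] at h2
      refine Ideal.span_mono ?_ h2
      rintro _ ⟨_, ⟨r, rfl⟩, rfl⟩
      exact ⟨r, rfl⟩
  map := P.map
  map_inj := P.map_inj

lemma preScale_val (P : Algebra.PreSubmersivePresentation R S ι σ) (u : ι → Rˣ) (k : ι) :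
    (preScale P u).val k = (u k : R) • P.val k := rfl

lemma preScale_jacobian [Fintype σ] (P : Algebra.PreSubmersivePresentation R S ι σ) (u : ι → Rˣ) :
    (preScale P u).jacobian =
      algebraMap R S (∏ i : σ, (((u (P.map i))⁻¹ : Rˣ) : R)) * P.jacobian := by
  classical
  rw [Algebra.PreSubmersivePresentation.jacobian_eq_jacobiMatrix_det,
    Algebra.PreSubmersivePresentation.jacobian_eq_jacobiMatrix_det]
  have hM : (preScale P u).jacobiMatrix = Matrix.of fun i j =>
      C (((u (P.map i))⁻¹ : Rˣ) : R) *
        (scaleHom (fun k => (((u k)⁻¹ : Rˣ) : R))).mapMatrix P.jacobiMatrix i j := by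
    refine Matrix.ext fun i j => ?_
    rw [Algebra.PreSubmersivePresentation.jacobiMatrix_apply]
    change pderiv (P.map i) (scaleHom _ (P.relation j)) = _
    rw [pderiv_scaleHom, Matrix.of_apply, AlgHom.mapMatrix_apply, Matrix.map_apply,
      Algebra.PreSubmersivePresentation.jacobiMatrix_apply]
  rw [hM, Matrix.det_mul_column, ← AlgHom.map_det, map_mul]
  rw [Algebra.Generators.algebraMap_apply, Algebra.Generators.algebraMap_apply,
    Algebra.Generators.algebraMap_apply]
  change aeval (fun k => (u k : R) • P.val k) _ * aeval (fun k => (u k : R) • P.val k) _ = _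
  rw [← aeval_scaleHom, ← aeval_scaleHom, scaleHom_units_cancel]
  congr 1
  simp [scaleHom]

/-- scaling the generators of a submersive presentation by units. -/
theorem exists_scale [Finite σ] (P : Algebra.SubmersivePresentation R S ι σ) (u : ι → Rˣ) :
    ∃ P' : Algebra.SubmersivePresentation R S ι σ, ∀ k, P'.val k = (u k : R) • P.val k := by
  cases nonempty_fintype σ
  refine ⟨{ __ := preScale P.toPreSubmersivePresentation u, jacobian_isUnit := ?_ }, fun k => rfl⟩
  rw [preScale_jacobian]
  refine IsUnit.mul ?_ P.jacobian_isUnit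
  refine IsUnit.map _ ?_
  rw [← Units.coe_prod]
  exact Units.isUnit _

end scale

end Groth.Agent.Lib.Helper22.Deloc
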