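import Groth.Agent.Lib.Helper22.Deloc9

set_option autoImplicit false
universe u v

namespace Groth.Agent.Lib.Helper22.Deloc

open MvPolynomial TensorProduct

theorem exists_of_base {R R₀ A Λ B K L : Type u} [CommRing R] [CommRing R₀] [Algebra R R₀]
    [Algebra.Smooth R R₀] [CommRing A] [Algebra R A] [Algebra.FinitePresentation R A]
    [CommRing Λ] [Algebra R Λ] [Algebra R₀ Λ] [IsScalarTower R R₀ Λ] (φ : A →ₐ[R] Λ)
    (S₀ : Submonoid R₀) [CommRing K] [Algebra R₀ K] [IsLocalization S₀ K] [Algebra R K]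
    [IsScalarTower R R₀ K] [CommRing L] [Algebra Λ L] [Algebra K L] [Algebra R L]
    [IsScalarTower R Λ L] [IsScalarTower R K L]
    (hιK : ∀ r : R₀, algebraMap K L (algebraMap R₀ K r) = algebraMap Λ L (algebraMap R₀ Λ r))
    (hj0 : ∀ y : Λ, algebraMap Λ L y = 0 → ∃ s ∈ S₀, s • y = 0)
    (hj1 : ∀ x : L, ∃ u : Kˣ, ∃ l : Λ, (u : K) • x = algebraMap Λ L l)
    [CommRing B] [Algebra R B] (α : A →ₐ[R] B) (s : R)
    [Algebra.Smooth R (Localization.Away (algebraMap R B s))]
    (β₀ : B →ₐ[R] L) (hβ₀ : ∀ a, β₀ (α a) = algebraMap Λ L (φ a))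
    (hs : IsUnit (β₀ (algebraMap R B s))) :
    ∃ (C : Type u) (_ : CommRing C) (_ : Algebra R C), Algebra.FinitePresentation R C ∧
      ∃ (g : A →ₐ[R] C) (h : C →ₐ[R] Λ), h.comp g = φ ∧
        ∃ c ∈ Smoothing.singularIdeal R C, ∃ s₀ ∈ S₀, h c = algebraMap R₀ Λ s₀ := by
  classical
  let φ₀ : R₀ ⊗[R] A →ₐ[R₀] Λ :=
    Algebra.TensorProduct.lift (Algebra.ofId R₀ Λ) φ (fun _ _ => Commute.all _ _)
  let γ : R₀ ⊗[R] A →ₐ[R₀] K ⊗[R] Localization.Away (algebraMap R B s) :=
    Algebra.TensorProduct.map (Algebra.ofId R₀ K)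
      ((IsScalarTower.toAlgHom R B (Localization.Away (algebraMap R B s))).comp α)
  have hunit : ∀ y : Submonoid.powers (algebraMap R B s), IsUnit (β₀ y) := by
    rintro ⟨_, k, rfl⟩
    rw [map_pow]
    exact hs.pow k
  let βs : Localization.Away (algebraMap R B s) →ₐ[R] L :=
    IsLocalization.liftAlgHom (M := Submonoid.powers (algebraMap R B s)) (f := β₀) hunit
  have hβs : ∀ b, βs (algebraMap B (Localization.Away (algebraMap R B s)) b) = β₀ b :=
    fun b => IsLocalization.lift_eq _ b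
  let h : K ⊗[R] Localization.Away (algebraMap R B s) →ₐ[K] L :=
    Algebra.TensorProduct.lift (Algebra.ofId K L) βs (fun _ _ => Commute.all _ _)
  have hγalg : ∀ r : R₀, γ.toRingHom (algebraMap R₀ (R₀ ⊗[R] A) r) =
      algebraMap K (K ⊗[R] Localization.Away (algebraMap R B s)) (algebraMap R₀ K r) := by
    intro r
    show γ (algebraMap R₀ (R₀ ⊗[R] A) r) = _
    rw [Algebra.TensorProduct.algebraMap_apply, Algebra.TensorProduct.algebraMap_apply,
      Algebra.algebraMap_self, RingHom.id_apply, Algebra.algebraMap_self, RingHom.id_apply]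
    show Algebra.TensorProduct.map _ _ (r ⊗ₜ 1) = _
    rw [Algebra.TensorProduct.map_tmul, map_one]
    rfl
  have hγ : ∀ a₀, h (γ.toRingHom a₀) = algebraMap Λ L (φ₀ a₀) := by
    intro a₀
    induction a₀ using TensorProduct.induction_on with
    | zero => simp
    | tmul r a =>
      show h (γ (r ⊗ₜ a)) = algebraMap Λ L (φ₀ (r ⊗ₜ a))
      rw [Algebra.TensorProduct.map_tmul, Algebra.TensorProduct.lift_tmul,
        Algebra.TensorProduct.lift_tmul, map_mul, AlgHom.comp_apply]
      show algebraMap K L (algebraMap R₀ K r) * βs (algebraMap B _ (α a)) = _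
      rw [hβs, hβ₀, hιK]
      rfl
    | add x y hx hy => rw [map_add, map_add, map_add, map_add, hx, hy]
  obtain ⟨C, _, _, α₀, βC, hβα, s₀, hs₀, hES⟩ := gmc (R := R₀) φ₀ S₀ (algebraMap Λ L)
    (fun r => (hιK r).symm) hj0 hj1 γ.toRingHom hγalg h hγ
  let algC : Algebra R C := ((algebraMap R₀ C).comp (algebraMap R R₀)).toAlgebra
  have towC : IsScalarTower R R₀ C := IsScalarTower.of_algebraMap_eq (fun _ => rfl)
  have hfpC₀ : Algebra.FinitePresentation R₀ C := finitePresentation_of_isElementaryStandard _ hES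
  have hfpC : Algebra.FinitePresentation R C := Algebra.FinitePresentation.trans R R₀ C
  have hsm₀ : Algebra.Smooth R₀ (Localization.Away (algebraMap R₀ C s₀)) :=
    smooth_away_of_isElementaryStandard _ hES
  have towLoc : IsScalarTower R R₀ (Localization.Away (algebraMap R₀ C s₀)) :=
    IsScalarTower.of_algebraMap_eq (fun r => by
      rw [IsScalarTower.algebraMap_apply R C (Localization.Away _),
        IsScalarTower.algebraMap_apply R R₀ C,
        ← IsScalarTower.algebraMap_apply R₀ C (Localization.Away _)])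
  have hsm : Algebra.Smooth R (Localization.Away (algebraMap R₀ C s₀)) :=
    Algebra.Smooth.comp R R₀ _
  refine ⟨C, inferInstance, algC, hfpC,
    (α₀.restrictScalars R).comp Algebra.TensorProduct.includeRight, βC.restrictScalars R, ?_,
    algebraMap R₀ C s₀, mem_singularIdeal_of_smooth_localizationAway _ hsm, s₀, hs₀, ?_⟩
  · ext a
    show βC (α₀ (1 ⊗ₜ a)) = φ a
    rw [← AlgHom.comp_apply, hβα]
    simp [φ₀]
  · show βC (algebraMap R₀ C s₀) = _
    exact βC.commutes s₀

open Polynomial in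
theorem exists_of_away {R A Λ B : Type u} [CommRing R] [CommRing A] [Algebra R A]
    [Algebra.FinitePresentation R A] [CommRing Λ] [Algebra R Λ] (φ : A →ₐ[R] Λ) [CommRing B]
    [Algebra R B] (α : A →ₐ[R] B) (s : R)
    [Algebra.Smooth R (Localization.Away (algebraMap R B s))] (l₀ : Λ)
    (β₀ : B →ₐ[R] Localization.Away l₀)
    (hβ₀ : ∀ a, β₀ (α a) = algebraMap Λ (Localization.Away l₀) (φ a))
    (hs : IsUnit (β₀ (algebraMap R B s))) :
    ∃ (C : Type u) (_ : CommRing C) (_ : Algebra R C), Algebra.FinitePresentation R C ∧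
      ∃ (g : A →ₐ[R] C) (h : C →ₐ[R] Λ), h.comp g = φ ∧
        ∃ c ∈ Smoothing.singularIdeal R C, ∃ k : ℕ, h c = l₀ ^ k := by
  classical
  let algΛ : Algebra R[X] Λ := (Polynomial.aeval l₀ : R[X] →ₐ[R] Λ).toRingHom.toAlgebra
  have halgΛ : ∀ p : R[X], algebraMap R[X] Λ p = Polynomial.aeval l₀ p := fun p => rfl
  have towΛ : IsScalarTower R R[X] Λ := IsScalarTower.of_algebraMap_eq (fun r => by
    rw [halgΛ, AlgHom.commutes])
  have halgX : algebraMap R[X] Λ Polynomial.X = l₀ := Polynomial.aeval_X l₀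
  have hunitX : IsUnit (((algebraMap Λ (Localization.Away l₀)).comp (algebraMap R[X] Λ))
      (Polynomial.X : R[X])) := by
    rw [RingHom.comp_apply, halgX]; exact IsLocalization.Away.algebraMap_isUnit l₀
  let ιK : Localization.Away (Polynomial.X : R[X]) →+* Localization.Away l₀ :=
    IsLocalization.Away.lift (Polynomial.X : R[X]) hunitX
  let algKL : Algebra (Localization.Away (Polynomial.X : R[X])) (Localization.Away l₀) :=
    ιK.toAlgebra
  have hιK : ∀ r : R[X], algebraMap (Localization.Away (Polynomial.X : R[X]))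
      (Localization.Away l₀) (algebraMap R[X] _ r) =
      algebraMap Λ (Localization.Away l₀) (algebraMap R[X] Λ r) :=
    fun r => IsLocalization.Away.lift_eq _ _ r
  have towKL : IsScalarTower R (Localization.Away (Polynomial.X : R[X])) (Localization.Away l₀) :=
    IsScalarTower.of_algebraMap_eq (fun r => by
      rw [IsScalarTower.algebraMap_apply R R[X] (Localization.Away (Polynomial.X : R[X])), hιK,
        ← IsScalarTower.algebraMap_apply R R[X] Λ, ← IsScalarTower.algebraMap_apply])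
  have hj0 : ∀ y : Λ, algebraMap Λ (Localization.Away l₀) y = 0 →
      ∃ s ∈ Submonoid.powers (Polynomial.X : R[X]), s • y = 0 := by
    intro y hy
    obtain ⟨⟨_, k, rfl⟩, hm⟩ := (IsLocalization.map_eq_zero_iff (Submonoid.powers l₀)
      (Localization.Away l₀) y).mp hy
    refine ⟨Polynomial.X ^ k, ⟨k, rfl⟩, ?_⟩
    rw [Algebra.smul_def, map_pow, halgX]
    exact hm
  have hj1 : ∀ x : Localization.Away l₀, ∃ u : (Localization.Away (Polynomial.X : R[X]))ˣ,
      ∃ l : Λ, (u : Localization.Away (Polynomial.X : R[X])) • x =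
        algebraMap Λ (Localization.Away l₀) l := by
    intro x
    obtain ⟨⟨l, ⟨_, k, rfl⟩⟩, hl⟩ := IsLocalization.surj (Submonoid.powers l₀) x
    refine ⟨(IsLocalization.map_units (Localization.Away (Polynomial.X : R[X]))
      (⟨Polynomial.X ^ k, ⟨k, rfl⟩⟩ : Submonoid.powers (Polynomial.X : R[X]))).unit, l, ?_⟩
    rw [IsUnit.unit_spec, Algebra.smul_def, hιK, map_pow, halgX, mul_comm]
    exact hl
  have hsmX : Algebra.Smooth R R[X] := ⟨inferInstance, inferInstance⟩
  obtain ⟨C, _, _, hfp, g, h, hgh, c, hc, s₀, ⟨k, hk⟩, hcs⟩ :=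
    exists_of_base (R₀ := R[X]) φ (Submonoid.powers (Polynomial.X : R[X]))
      (K := Localization.Away (Polynomial.X : R[X])) (L := Localization.Away l₀)
      hιK hj0 hj1 α s β₀ hβ₀ hs
  refine ⟨C, inferInstance, inferInstance, hfp, g, h, hgh, c, hc, k, ?_⟩
  rw [hcs, ← hk, map_pow, halgX]

end Groth.Agent.Lib.Helper22.Deloc
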