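import Groth.Agent.Lib.Helper22.Deloc10

set_option autoImplicit false
universe u v

namespace Groth.Agent.Lib.Helper22.Deloc

open MvPolynomial TensorProduct

theorem isUnit_of_notMem_map_atPrime {Λ Λq : Type u} [CommRing Λ] [CommRing Λq] [Algebra Λ Λq]
    (q : Ideal Λ) [q.IsPrime] [IsLocalization.AtPrime Λq q] (x : Λq)
    (hx : x ∉ q.map (algebraMap Λ Λq)) : IsUnit x := by
  obtain ⟨y, t, rfl⟩ := IsLocalization.exists_mk'_eq q.primeCompl x
  rw [IsLocalization.AtPrime.isUnit_mk'_iff Λq q]
  intro hy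
  apply hx
  rw [IsLocalization.mk'_mem_map_algebraMap_iff]
  exact ⟨1, one_mem _, by rwa [one_mul]⟩

theorem isPrime_map_atPrime {Λ Λq : Type u} [CommRing Λ] [CommRing Λq] [Algebra Λ Λq]
    (q : Ideal Λ) [q.IsPrime] [IsLocalization.AtPrime Λq q] :
    (q.map (algebraMap Λ Λq)).IsPrime := by
  refine IsLocalization.isPrime_of_isPrime_disjoint q.primeCompl Λq q inferInstance ?_
  rw [Set.disjoint_left]
  intro x hx hxq
  exact hx hxq

/-- from a resolution of the localized problem: a smooth `Rₚ`-algebra through which the localized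
problem factors. -/
theorem exists_smooth_of_resolvable {R' A' Λq : Type u} [CommRing R'] [CommRing A'] [Algebra R' A']
    [CommRing Λq] [Algebra R' Λq] (φ' : A' →ₐ[R'] Λq) (m : Ideal Λq) [m.IsPrime]
    (hm : ∀ x : Λq, x ∉ m → IsUnit x)
    (hres : Smoothing.Resolvable R' φ' m) :
    ∃ (B₁ : Type u) (_ : CommRing B₁) (_ : Algebra R' B₁), Algebra.Smooth R' B₁ ∧
      ∃ (g₁ : A' →ₐ[R'] B₁) (h₁ : B₁ →ₐ[R'] Λq), h₁.comp g₁ = φ' := by
  obtain ⟨B', _, _, hfp', g', h', hcomp, hle, hnot⟩ := hres
  have hb : ∃ b ∈ Smoothing.singularIdeal R' B', h' b ∉ m := by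
    by_contra hcon
    push Not at hcon
    apply hnot
    unfold Smoothing.singRad
    rw [Ideal.IsPrime.radical_le_iff inferInstance, Ideal.map_le_iff_le_comap]
    intro b hb
    exact hcon b hb
  obtain ⟨b, hbH, hbm⟩ := hb
  have hub : IsUnit (h' b) := hm _ hbm
  have hsm : Algebra.Smooth R' (Localization.Away b) := by
    refine (Algebra.basicOpen_subset_smoothLocus_iff_smooth (R := R') (A := B') (f := b)).mp ?_
    intro x hx
    by_contra hxs
    rw [Smoothing.singularIdeal, PrimeSpectrum.mem_vanishingIdeal] at hbH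
    exact hx (hbH x hxs)
  have hunit : ∀ y : Submonoid.powers b, IsUnit (h' y) := by
    rintro ⟨_, k, rfl⟩
    rw [map_pow]
    exact hub.pow k
  refine ⟨Localization.Away b, inferInstance, inferInstance, hsm,
    (IsScalarTower.toAlgHom R' B' (Localization.Away b)).comp g',
    IsLocalization.liftAlgHom (M := Submonoid.powers b) (f := h') hunit, ?_⟩
  ext a
  show IsLocalization.lift hunit (algebraMap B' (Localization.Away b) (g' a)) = φ' a
  rw [IsLocalization.lift_eq, ← hcomp]
  rfl

end Groth.Agent.Lib.Helper22.Deloc
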