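import Groth.Agent.Lib.Helper22.Deloc11

set_option autoImplicit false
universe u v

namespace Groth.Agent.Lib.Helper22.Deloc

open MvPolynomial TensorProduct

theorem delocalize_weak {R A Λ Rₚ Λq : Type u} [CommRing R] [CommRing A]
    [Algebra R A] [Algebra.FinitePresentation R A] [CommRing Λ] [Algebra R Λ] (φ : A →ₐ[R] Λ)
    (𝔮 : Ideal Λ) [𝔮.IsPrime]
    [CommRing Rₚ] [Algebra R Rₚ] [IsLocalization.AtPrime Rₚ (𝔮.comap (algebraMap R Λ))]
    [CommRing Λq] [Algebra Λ Λq] [IsLocalization.AtPrime Λq 𝔮] [Algebra R Λq] [IsScalarTower R Λ Λq]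
    [Algebra Rₚ Λq] [IsScalarTower R Rₚ Λq]
    (hres : Smoothing.Resolvable Rₚ
      (Algebra.TensorProduct.lift (Algebra.ofId Rₚ Λq) ((IsScalarTower.toAlgHom R Λ Λq).comp φ)
        (fun _ _ => Commute.all _ _) : Rₚ ⊗[R] A →ₐ[Rₚ] Λq) (𝔮.map (algebraMap Λ Λq))) :
    ∃ (C : Type u) (_ : CommRing C) (_ : Algebra R C), Algebra.FinitePresentation R C ∧
      ∃ (g : A →ₐ[R] C) (h : C →ₐ[R] Λ), h.comp g = φ ∧
        ∃ c ∈ Smoothing.singularIdeal R C, h c ∉ 𝔮 := by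
  classical
  have hmprime : (𝔮.map (algebraMap Λ Λq)).IsPrime := isPrime_map_atPrime 𝔮
  obtain ⟨B₁, _, _, hsmB₁, g₁, h₁, hcomp₁⟩ := exists_smooth_of_resolvable _ _
    (fun x hx => isUnit_of_notMem_map_atPrime 𝔮 x hx) hres
  let φq : A →ₐ[R] Λq := (IsScalarTower.toAlgHom R Λ Λq).comp φ
  let γ : A →+* B₁ := g₁.toRingHom.comp
    (Algebra.TensorProduct.includeRight : A →ₐ[R] Rₚ ⊗[R] A).toRingHom
  have hγalg : ∀ r, γ (algebraMap R A r) = algebraMap Rₚ B₁ (algebraMap R Rₚ r) := by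
    intro r
    show g₁ ((1 : Rₚ) ⊗ₜ[R] algebraMap R A r) = _
    have h2 : (1 : Rₚ) ⊗ₜ[R] algebraMap R A r =
        algebraMap Rₚ (Rₚ ⊗[R] A) (algebraMap R Rₚ r) := by
      rw [Algebra.TensorProduct.algebraMap_apply, Algebra.algebraMap_self, RingHom.id_apply,
        Algebra.algebraMap_eq_smul_one, Algebra.algebraMap_eq_smul_one, TensorProduct.smul_tmul]
    rw [h2, AlgHom.commutes]
  have hγ : ∀ a, h₁ (γ a) = (RingHom.id Λq) (φq a) := by
    intro a
    show h₁ (g₁ ((1 : Rₚ) ⊗ₜ[R] a)) = φq a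
    rw [← AlgHom.comp_apply, hcomp₁, Algebra.TensorProduct.lift_tmul, map_one, one_mul]
  obtain ⟨B, _, _, α, β, hβα, s, hs, hES⟩ := gmc (R := R) (K := Rₚ) (B₁ := B₁) (L := Λq) φq
    (𝔮.comap (algebraMap R Λ)).primeCompl (RingHom.id Λq)
    (fun r => IsScalarTower.algebraMap_apply R Rₚ Λq r)
    (fun y hy => ⟨1, one_mem _, by rw [one_smul]; exact hy⟩)
    (fun x => ⟨1, x, by simp⟩) γ hγalg h₁ hγ
  have hfpB : Algebra.FinitePresentation R B := finitePresentation_of_isElementaryStandard _ hES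
  have hsmBs : Algebra.Smooth R (Localization.Away (algebraMap R B s)) :=
    smooth_away_of_isElementaryStandard _ hES
  have hst : algebraMap R Λ s ∈ 𝔮.primeCompl := hs
  obtain ⟨l₀, hl₀, hdvd, β₀, hβ₀⟩ := exists_factor_away 𝔮.primeCompl φ α β
    (fun a => by rw [← AlgHom.comp_apply, hβα]; rfl) (algebraMap R Λ s) hst
  have hsunit : IsUnit (β₀ (algebraMap R B s)) := by
    rw [AlgHom.commutes, IsScalarTower.algebraMap_apply R Λ (Localization.Away l₀)]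
    exact isUnit_of_dvd_unit (map_dvd (algebraMap Λ (Localization.Away l₀)) hdvd)
      (IsLocalization.Away.algebraMap_isUnit l₀)
  obtain ⟨C, _, _, hfpC, g, h, hgh, c, hc, k, hck⟩ := exists_of_away φ α s l₀ β₀ hβ₀ hsunit
  refine ⟨C, inferInstance, inferInstance, hfpC, g, h, hgh, c, hc, ?_⟩
  rw [hck]
  intro hmem
  exact hl₀ (Ideal.IsPrime.mem_of_pow_mem inferInstance k hmem)

end Groth.Agent.Lib.Helper22.Deloc
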