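import Groth.Agent.Lib.Helper22.Deloc1
import Groth.Agent.S6860

set_option autoImplicit false
universe u v

namespace Groth.Agent.Lib.Helper22.Deloc

open MvPolynomial

/-- A standard smooth algebra has a submersive presentation (indexed by `Fin`) adapted to a map
`h : B → L`, a "lattice" `j : Λ → L` and given elements `e i` of `B`: all generators land in
the lattice, and the `e i` are (distinct) generators. -/
theorem exists_adapted_presentation {K B L : Type u} {Λ : Type v} [CommRing K] [CommRing B]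
    [Algebra K B] [Algebra.IsStandardSmooth K B] [CommRing L] [Algebra K L] (h : B →ₐ[K] L)
    (j : Λ → L) (hj : ∀ x : L, ∃ u : Kˣ, ∃ l : Λ, (u : K) • x = j l) {n : ℕ} (e : Fin n → B)
    (ν : Fin n → Λ) (he : ∀ i, h (e i) = j (ν i)) :
    ∃ (N c : ℕ) (P : Algebra.SubmersivePresentation K B (Fin N) (Fin c)) (κ : Fin n → Fin N)
      (μ : Fin N → Λ), (∀ k, h (P.val k) = j (μ k)) ∧ (∀ i, P.val (κ i) = e i) ∧
        (∀ i, μ (κ i) = ν i) := by
  classical
  obtain ⟨ι, σ, hσ, hι, ⟨P₀⟩⟩ := (Algebra.IsStandardSmooth.out :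
    ∃ (ι σ : Type) (_ : Finite σ), Finite ι ∧ Nonempty (Algebra.SubmersivePresentation K B ι σ))
  choose u l hul using fun k => hj (h (P₀.val k))
  obtain ⟨P₁, hP₁⟩ := exists_scale P₀ u
  let P₂ : Algebra.SubmersivePresentation K B (Fin n ⊕ ι) (Fin n ⊕ σ) :=
    (Groth.Agent.S6860.Q e).comp P₁
  have hP₂l : ∀ i, P₂.val (Sum.inl i) = e i := fun i => rfl
  have hP₂r : ∀ k, P₂.val (Sum.inr k) = P₁.val k := fun k => rfl
  let eι : Fin (Nat.card (Fin n ⊕ ι)) ≃ Fin n ⊕ ι := (Finite.equivFin _).symm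
  let eσ : Fin (Nat.card (Fin n ⊕ σ)) ≃ Fin n ⊕ σ := (Finite.equivFin _).symm
  let P : Algebra.SubmersivePresentation K B (Fin (Nat.card (Fin n ⊕ ι)))
    (Fin (Nat.card (Fin n ⊕ σ))) := P₂.reindex eι eσ
  have hPval : ∀ k, P.val k = P₂.val (eι k) := fun k => rfl
  refine ⟨_, _, P, fun i => eι.symm (Sum.inl i),
    fun k => Sum.elim ν l (eι k), ?_, ?_, ?_⟩
  · intro k
    rw [hPval]
    show h (P₂.val (eι k)) = j (Sum.elim ν l (eι k))
    rcases eι k with i | k'
    · rw [hP₂l, he]; rfl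
    · rw [hP₂r, hP₁, map_smul, hul]; rfl
  · intro i
    rw [hPval, Equiv.apply_symm_apply, hP₂l]
  · intro i
    show Sum.elim ν l (eι (eι.symm (Sum.inl i))) = ν i
    rw [Equiv.apply_symm_apply]; rfl

end Groth.Agent.Lib.Helper22.Deloc
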