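import Groth.Agent.Lib.Helper22.Deloc2

set_option autoImplicit false
universe u v

namespace Groth.Agent.Lib.Helper22.Deloc

open MvPolynomial TensorProduct

section loc

variable {R Rₛ : Type u} [CommRing R] (S : Submonoid R) [CommRing Rₛ] [Algebra R Rₛ]
  [IsLocalization S Rₛ]

include S in
lemma one_tmul_eq_zero {M : Type u} [AddCommGroup M] [Module R M] (y : M)
    (hy : (1 : Rₛ) ⊗ₜ[R] y = 0) : ∃ s ∈ S, s • y = 0 := by
  have hloc : IsLocalizedModule S (TensorProduct.mk R Rₛ M 1) :=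
    (isLocalizedModule_iff_isBaseChange S Rₛ _).mpr (TensorProduct.isBaseChange R M Rₛ)
  obtain ⟨s, hs⟩ := (IsLocalizedModule.eq_zero_iff S (TensorProduct.mk R Rₛ M 1)).mp hy
  exact ⟨s, s.2, hs⟩

include S in
lemma exists_unit_smul_eq_one_tmul {M : Type u} [AddCommGroup M] [Module R M] (x : Rₛ ⊗[R] M) :
    ∃ u : Rₛˣ, ∃ l : M, (u : Rₛ) • x = (1 : Rₛ) ⊗ₜ[R] l := by
  have hloc : IsLocalizedModule S (TensorProduct.mk R Rₛ M 1) :=
    (isLocalizedModule_iff_isBaseChange S Rₛ _).mpr (TensorProduct.isBaseChange R M Rₛ)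
  obtain ⟨⟨m, s⟩, hs⟩ := IsLocalizedModule.surj S (TensorProduct.mk R Rₛ M 1) x
  refine ⟨(IsLocalization.map_units Rₛ s).unit, m, ?_⟩
  rw [IsUnit.unit_spec, algebraMap_smul]
  exact hs

attribute [local instance] MvPolynomial.algebraMvPolynomial

include S in
lemma exists_lift {ι : Type v} (F : MvPolynomial ι Rₛ) :
    ∃ (F' : MvPolynomial ι R) (s : R), s ∈ S ∧
      MvPolynomial.map (algebraMap R Rₛ) F' = C (algebraMap R Rₛ s) * F := by
  obtain ⟨⟨x, m⟩, hx⟩ := IsLocalization.surj (S.map (C (σ := ι))) F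
  obtain ⟨s, hs, hsm⟩ := Submonoid.mem_map.mp m.2
  refine ⟨x, s, hs, ?_⟩
  rw [MvPolynomial.algebraMap_def] at hx
  rw [← hx, ← hsm, MvPolynomial.map_C, mul_comm]

include S in
lemma exists_C_mul_mem {ι : Type v} (I : Ideal (MvPolynomial ι R)) (x : MvPolynomial ι R)
    (hx : MvPolynomial.map (algebraMap R Rₛ) x ∈
      Ideal.map (MvPolynomial.map (algebraMap R Rₛ)) I) : ∃ s ∈ S, C s * x ∈ I := by
  rw [← MvPolynomial.algebraMap_def] at hx
  obtain ⟨⟨i, m⟩, hi⟩ := (IsLocalization.mem_map_algebraMap_iff (S.map (C (σ := ι)))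
    (MvPolynomial ι Rₛ)).mp hx
  obtain ⟨s, hs, hsm⟩ := Submonoid.mem_map.mp m.2
  rw [← map_mul] at hi
  obtain ⟨m', hm'⟩ := (IsLocalization.eq_iff_exists (S.map (C (σ := ι)))
    (MvPolynomial ι Rₛ)).mp hi
  obtain ⟨s', hs', hsm'⟩ := Submonoid.mem_map.mp m'.2
  refine ⟨s' * s, S.mul_mem hs' hs, ?_⟩
  have : C (s' * s) * x = (m' : MvPolynomial ι R) * (i : MvPolynomial ι R) := by
    rw [← hm', ← hsm', ← hsm, map_mul]; ring
  rw [this]
  exact Ideal.mul_mem_left _ _ i.2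

end loc

end Groth.Agent.Lib.Helper22.Deloc
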