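import Groth.Agent.Lib.Helper22.Deloc3

set_option autoImplicit false
universe u v

namespace Groth.Agent.Lib.Helper22.Deloc

open MvPolynomial TensorProduct

section jac

variable {R Rₛ B : Type u} [CommRing R] [CommRing Rₛ] [Algebra R Rₛ] [CommRing B] [Algebra Rₛ B]

lemma isUnit_aeval_map_minor {N c : ℕ} (P : Algebra.SubmersivePresentation Rₛ B (Fin N) (Fin c))
    (F' : Fin c → MvPolynomial (Fin N) R) (v : Fin c → Rₛ) (hv : ∀ j, IsUnit (v j))
    (hL : ∀ j, MvPolynomial.map (algebraMap R Rₛ) (F' j) = C (v j) * P.relation j) :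
    IsUnit (aeval P.val (MvPolynomial.map (algebraMap R Rₛ)
      (Matrix.det (Matrix.of fun j k : Fin c => pderiv (P.map k) (F' j))))) := by
  classical
  have h1 : MvPolynomial.map (algebraMap R Rₛ)
      (Matrix.det (Matrix.of fun j k : Fin c => pderiv (P.map k) (F' j))) =
      (∏ j, C (v j)) * P.jacobiMatrix.det := by
    rw [RingHom.map_det, ← Matrix.det_transpose P.jacobiMatrix, ← Matrix.det_mul_column]
    congr 1
    refine Matrix.ext fun j k => ?_
    rw [RingHom.mapMatrix_apply, Matrix.map_apply, Matrix.of_apply, Matrix.of_apply,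
      Matrix.transpose_apply, Algebra.PreSubmersivePresentation.jacobiMatrix_apply,
      ← MvPolynomial.pderiv_map, hL, Derivation.leibniz, pderiv_C, smul_zero, add_zero,
      smul_eq_mul]
  rw [h1, map_mul, map_prod]
  refine IsUnit.mul ?_ ?_
  · refine Finset.prod_induction _ IsUnit (fun a b => IsUnit.mul) isUnit_one (fun j _ => ?_)
    rw [aeval_C]
    exact (hv j).map _
  · have := P.jacobian_isUnit
    rwa [Algebra.PreSubmersivePresentation.jacobian_eq_jacobiMatrix_det,
      Algebra.Generators.algebraMap_apply] at this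

end jac

end Groth.Agent.Lib.Helper22.Deloc
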