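import Groth.Agent.Lib.Helper22.Deloc4
import Groth.Agent.S2026

set_option autoImplicit false
universe u v

namespace Groth.Agent.Lib.Helper22.Deloc

open MvPolynomial TensorProduct

/-- The algebra `R[X]/(F', G∘κ)` with its maps from `A` and to `Λ`; `s₁ * s₂` is elementary
standard in it. -/
theorem exists_of_polys {R A Λ : Type u} [CommRing R] [CommRing A] [Algebra R A] [CommRing Λ]
    [Algebra R Λ] (φ : A →ₐ[R] Λ) (S : Submonoid R) {n t : ℕ}
    (πA : MvPolynomial (Fin n) R →ₐ[R] A) (hπ : Function.Surjective πA)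
    (G : Fin t → MvPolynomial (Fin n) R) (hG : RingHom.ker πA.toRingHom = Ideal.span (Set.range G))
    {N c : ℕ} (κ : Fin n → Fin N) (μ : Fin N → Λ) (hμκ : ∀ i, μ (κ i) = φ (πA (X i)))
    (F' : Fin c → MvPolynomial (Fin N) R) (hβF : ∀ r, aeval μ (F' r) = 0) (cols : Fin c ↪ Fin N)
    (b' : MvPolynomial (Fin N) R) (s₁ : R) (hs₁ : s₁ ∈ S)
    (hminor : b' * Matrix.det (Matrix.of fun j k : Fin c => pderiv (cols k) (F' j)) - C s₁ ∈
      Ideal.span (Set.range F'))
    (s₂ : R) (hs₂ : s₂ ∈ S)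
    (hGkill : ∀ j, C s₂ * rename κ (G j) ∈ Ideal.span (Set.range F')) :
    ∃ (B : Type u) (_ : CommRing B) (_ : Algebra R B) (α : A →ₐ[R] B) (β : B →ₐ[R] Λ),
      β.comp α = φ ∧ ∃ s ∈ S, Smoothing.IsElementaryStandard R B (algebraMap R B s) := by
  classical
  let β₀ : MvPolynomial (Fin N) R →ₐ[R] Λ := aeval μ
  let G' : Fin t → MvPolynomial (Fin N) R := fun j => rename κ (G j)
  let f : Fin (c + t) → MvPolynomial (Fin N) R := Fin.append F' G'
  have hfl : ∀ r, f (Fin.castAdd t r) = F' r := fun r => Fin.append_left _ _ r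
  have hfr : ∀ j, f (Fin.natAdd c j) = G' j := fun j => Fin.append_right _ _ j
  let I : Ideal (MvPolynomial (Fin N) R) := Ideal.span (Set.range F')
  let IB : Ideal (MvPolynomial (Fin N) R) := Ideal.span (Set.range f)
  have hI_le : I ≤ IB := Ideal.span_mono (by
    rintro _ ⟨r, rfl⟩; exact ⟨Fin.castAdd t r, hfl r⟩)
  have hG'_mem : ∀ j, G' j ∈ IB := fun j => Ideal.subset_span ⟨Fin.natAdd c j, hfr j⟩
  have hπG : ∀ j, πA (G j) = 0 := fun j => by
    have : G j ∈ RingHom.ker πA.toRingHom := by rw [hG]; exact Ideal.subset_span ⟨j, rfl⟩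
    exact this
  have hcomp : (aeval (μ ∘ κ) : MvPolynomial (Fin n) R →ₐ[R] Λ) = φ.comp πA := by
    apply MvPolynomial.algHom_ext; intro i; simp [hμκ]
  have hβ₀ren : ∀ p : MvPolynomial (Fin n) R, β₀ (rename κ p) = φ (πA p) := by
    intro p
    show aeval μ (rename κ p) = _
    rw [aeval_rename, hcomp, AlgHom.comp_apply]
  have hβ₀G : ∀ j, β₀ (G' j) = 0 := fun j => by rw [hβ₀ren, hπG, map_zero]
  have hβ₀ : ∀ a ∈ IB, β₀ a = 0 := by
    have : IB ≤ RingHom.ker β₀.toRingHom := by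
      rw [Ideal.span_le]
      rintro _ ⟨ℓ, rfl⟩
      refine Fin.addCases (fun r => ?_) (fun j => ?_) ℓ
      · rw [hfl]; exact hβF r
      · rw [hfr]; exact hβ₀G j
    exact fun a ha => this ha
  let φB : MvPolynomial (Fin N) R →ₐ[R] (MvPolynomial (Fin N) R ⧸ IB) := Ideal.Quotient.mkₐ R IB
  have hφB : ∀ p, φB p = 0 ↔ p ∈ IB := fun p => Ideal.Quotient.eq_zero_iff_mem
  have hker : RingHom.ker φB.toRingHom = Ideal.span (Set.range f) := Ideal.mk_ker
  let β : (MvPolynomial (Fin N) R ⧸ IB) →ₐ[R] Λ := Ideal.Quotient.liftₐ IB β₀ hβ₀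
  have hβmk : ∀ p, β (φB p) = β₀ p := fun p => rfl
  have hH : RingHom.ker πA.toRingHom ≤ RingHom.ker (φB.comp (rename κ)).toRingHom := by
    rw [hG, Ideal.span_le]
    rintro _ ⟨j, rfl⟩
    exact (hφB _).mpr (hG'_mem j)
  let α : A →ₐ[R] (MvPolynomial (Fin N) R ⧸ IB) :=
    AlgHom.liftOfSurjective πA hπ (φB.comp (rename κ)) hH
  have hα : ∀ p, α (πA p) = φB (rename κ p) := fun p =>
    AlgHom.liftOfSurjective_apply πA hπ (φB.comp (rename κ)) hH p
  have hβα : β.comp α = φ := by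
    apply AlgHom.ext
    intro a
    obtain ⟨p, rfl⟩ := hπ a
    rw [AlgHom.comp_apply, hα, hβmk, hβ₀ren]
  let rows : Fin c ↪ Fin (c + t) := Fin.castAddEmb t
  have hrows : ∀ r, rows r = Fin.castAdd t r := fun r => rfl
  have hminor_eq : Smoothing.jacobianMinor f rows cols =
      Matrix.det (Matrix.of fun j k : Fin c => pderiv (cols k) (F' j)) := by
    unfold Smoothing.jacobianMinor
    congr 1
    refine Matrix.ext fun j k => ?_
    rw [Matrix.of_apply, Matrix.of_apply, hrows, hfl]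
  refine ⟨_, inferInstance, inferInstance, α, β, hβα, s₁ * s₂, S.mul_mem hs₁ hs₂, ?_⟩
  have halg : ∀ r : R, algebraMap R (MvPolynomial (Fin N) R ⧸ IB) r = φB (C r) := fun r => rfl
  refine Groth.Agent.S2026.isElementaryStandard_of_data f φB (Ideal.Quotient.mkₐ_surjective R IB)
    hker (algebraMap R _ (s₁ * s₂)) c rows cols (φB (C s₂ * b')) ?_ ?_
  · rw [hminor_eq, ← map_mul, halg]
    symm
    rw [← sub_eq_zero, ← map_sub, hφB]
    have : C s₂ * b' * Matrix.det (Matrix.of fun j k : Fin c => pderiv (cols k) (F' j))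
        - C (s₁ * s₂) = C s₂ * (b' *
          Matrix.det (Matrix.of fun j k : Fin c => pderiv (cols k) (F' j)) - C s₁) := by
      rw [map_mul]; ring
    rw [this]
    exact hI_le (Ideal.mul_mem_left _ _ hminor)
  · intro a₁ ha₁ ℓ
    have hrowsI : Ideal.span (Set.range (f ∘ rows)) = I := by
      congr 1
      ext x
      constructor
      · rintro ⟨r, rfl⟩; exact ⟨r, (hfl r).symm⟩
      · rintro ⟨r, rfl⟩; exact ⟨r, hfl r⟩
    rw [hrowsI]
    have ha₁' : a₁ - C (s₁ * s₂) ∈ IB := by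
      rw [← hφB, map_sub, ha₁, halg, sub_self]
    refine Fin.addCases (fun r => ?_) (fun j => ?_) ℓ
    · rw [hfl]
      exact Ideal.mem_sup_left (Ideal.mul_mem_left _ _ (Ideal.subset_span ⟨r, rfl⟩))
    · rw [hfr]
      have : a₁ * G' j = (a₁ - C (s₁ * s₂)) * G' j + C s₁ * (C s₂ * G' j) := by
        rw [map_mul]; ring
      rw [this]
      refine Ideal.add_mem _ (Ideal.mem_sup_right ?_)
        (Ideal.mem_sup_left (Ideal.mul_mem_left _ _ (hGkill j)))
      rw [pow_two]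
      exact Ideal.mul_mem_mul ha₁' (hG'_mem j)

end Groth.Agent.Lib.Helper22.Deloc
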