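/-
Symmetric algebras of finite projective modules: formal smoothness, finite presentation,
Kähler differentials `Ω[Sym_A P / A] ≃ Sym_A P ⊗ P`, splitting of `Ω` in a formally smooth tower,
and the key computation for `Sym_A (I/I²)` of a smooth presentation (Stacks 07CE-type results).
(helper22)
-/
import Mathlib

open TensorProduct KaehlerDifferential Pointwise
universe u

namespace Groth.Agent.Lib.helper22.SymKaehler


section Basic
variable (A : Type u) [CommRing A] (P : Type u) [AddCommGroup P] [Module A P]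

theorem formallySmooth_sym [Module.Projective A P] :
    Algebra.FormallySmooth A (SymmetricAlgebra A P) := by
  refine Algebra.FormallySmooth.of_comp_surjective fun C _ _ J hJ f => ?_
  obtain ⟨φ, hφ⟩ := Module.projective_lifting_property (Ideal.Quotient.mkₐ A J).toLinearMap
    (f.toLinearMap ∘ₗ SymmetricAlgebra.ι A P) Ideal.Quotient.mk_surjective
  refine ⟨SymmetricAlgebra.lift φ, ?_⟩
  apply SymmetricAlgebra.algHom_ext
  ext p
  simpa using congr($hφ p)

/-- functoriality of Sym -/
noncomputable def symMap {P Q : Type u} [AddCommGroup P] [Module A P] [AddCommGroup Q] [Module A Q]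
    (f : P →ₗ[A] Q) : SymmetricAlgebra A P →ₐ[A] SymmetricAlgebra A Q :=
  SymmetricAlgebra.lift (SymmetricAlgebra.ι A Q ∘ₗ f)

theorem finitePresentation_of_retract {B T : Type u} [CommRing B] [CommRing T] [Algebra A B]
    [Algebra A T] [Algebra.FinitePresentation A T] (i : B →ₐ[A] T) (r : T →ₐ[A] B)
    (h : r.comp i = AlgHom.id A B) : Algebra.FinitePresentation A B := by
  have h1 : (r.toRingHom.comp i.toRingHom).FinitePresentation := by
    have : r.toRingHom.comp i.toRingHom = RingHom.id B := by
      ext x; exact congr($h x)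
    rw [this]; exact RingHom.FinitePresentation.id B
  have h2 : i.toRingHom.FiniteType := by
    have h3 : (algebraMap A T).FiniteType :=
      RingHom.finiteType_algebraMap.mpr inferInstance
    have h4 : algebraMap A T = i.toRingHom.comp (algebraMap A B) := by
      ext a; simp
    rw [h4] at h3
    exact h3.of_comp_finiteType
  have h5 : r.toRingHom.FinitePresentation := RingHom.FinitePresentation.of_comp_finiteType _ h1 h2
  have h6 : (algebraMap A T).FinitePresentation :=
    RingHom.finitePresentation_algebraMap.mpr inferInstance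
  have h7 := h5.comp h6
  have h8 : r.toRingHom.comp (algebraMap A T) = algebraMap A B := by
    ext a; simp
  rw [h8] at h7
  exact RingHom.finitePresentation_algebraMap.mp h7

theorem finitePresentation_sym [Module.Finite A P] [Module.Projective A P] :
    Algebra.FinitePresentation A (SymmetricAlgebra A P) := by
  obtain ⟨n, f, hf⟩ := Module.Finite.exists_fin' A P
  obtain ⟨s, hs⟩ := Module.projective_lifting_property f LinearMap.id hf
  -- s : P → (Fin n → A), f ∘ s = id
  let T := SymmetricAlgebra A (Fin n → A)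
  have : Algebra.FinitePresentation A T :=
    Algebra.FinitePresentation.equiv
      (SymmetricAlgebra.equivMvPolynomial (Pi.basisFun A (Fin n))).symm
  refine finitePresentation_of_retract A (symMap A s) (symMap A f) ?_
  apply SymmetricAlgebra.algHom_ext
  ext p
  simp [symMap]
  exact congrArg _ (congr($hs p))

end Basic

section Kaehler
variable (A : Type u) [CommRing A] (P : Type u) [AddCommGroup P] [Module A P]

local notation "S" => SymmetricAlgebra A P

/-- the algebra map `S → S ⊕ ε (S ⊗ P)` -/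
noncomputable def symToTsze : S →ₐ[A] TrivSqZeroExt S (S ⊗[A] P) :=
  SymmetricAlgebra.lift
    ((TrivSqZeroExt.inlAlgHom A S (S ⊗[A] P)).toLinearMap ∘ₗ SymmetricAlgebra.ι A P +
      (TrivSqZeroExt.inrHom S (S ⊗[A] P)).restrictScalars A ∘ₗ
        (TensorProduct.mk A S P 1))

theorem symToTsze_ι (p : P) :
    symToTsze A P (SymmetricAlgebra.ι A P p) =
      TrivSqZeroExt.inl (SymmetricAlgebra.ι A P p) + TrivSqZeroExt.inr (1 ⊗ₜ p) := by
  simp [symToTsze]

theorem fst_symToTsze (x : S) : (symToTsze A P x).fst = x := by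
  have : (TrivSqZeroExt.fstHom A S (S ⊗[A] P)).comp (symToTsze A P) = AlgHom.id A S := by
    apply SymmetricAlgebra.algHom_ext
    ext p
    simp [symToTsze_ι]
  exact congr($this x)

/-- the universal derivation of the symmetric algebra -/
noncomputable def symDer : Derivation A S (S ⊗[A] P) where
  toLinearMap := (TrivSqZeroExt.sndHom S (S ⊗[A] P)).restrictScalars A ∘ₗ (symToTsze A P).toLinearMap
  map_one_eq_zero' := by simp
  leibniz' x y := by
    simp [TrivSqZeroExt.snd_mul, fst_symToTsze, add_comm]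

theorem symDer_ι (p : P) : symDer A P (SymmetricAlgebra.ι A P p) = 1 ⊗ₜ p := by
  simp [symDer, symToTsze_ι]


/-- `Ω[Sym_A P / A] ≃ Sym_A P ⊗ P`. -/
noncomputable def symKaehlerEquiv : Ω[S⁄A] ≃ₗ[S] S ⊗[A] P :=
  LinearEquiv.ofLinearMap (symDer A P).liftKaehlerDifferential
    (LinearMap.liftBaseChange S
      ((KaehlerDifferential.D A S).toLinearMap ∘ₗ SymmetricAlgebra.ι A P))
    (by
      ext p
      simp [symDer_ι])
    (by
      apply Derivation.liftKaehlerDifferential_unique
      ext x
      show (LinearMap.liftBaseChange S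
        ((KaehlerDifferential.D A S).toLinearMap ∘ₗ SymmetricAlgebra.ι A P))
        ((symDer A P).liftKaehlerDifferential (KaehlerDifferential.D A S x)) =
          KaehlerDifferential.D A S x
      rw [Derivation.liftKaehlerDifferential_comp_D]
      induction x using SymmetricAlgebra.induction with
      | algebraMap r => simp
      | ι p => simp [symDer_ι]
      | mul a b ha hb =>
        rw [Derivation.leibniz, Derivation.leibniz, map_add, map_smul, map_smul, ha, hb]
      | add a b ha hb => rw [map_add, map_add, map_add, ha, hb])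

theorem symKaehlerEquiv_D_ι (p : P) :
    symKaehlerEquiv A P (KaehlerDifferential.D A S (SymmetricAlgebra.ι A P p)) = 1 ⊗ₜ p := by
  simp [symKaehlerEquiv, symDer_ι]

end Kaehler

theorem kaehler_eq_top_of_adjoin {R S : Type*} [CommRing R] [CommRing S] [Algebra R S]
    (s : Set S) (hs : Algebra.adjoin R s = ⊤) (W : Submodule S Ω[S⁄R])
    (h : ∀ y ∈ s, D R S y ∈ W) : W = ⊤ := by
  rw [eq_top_iff, ← KaehlerDifferential.span_range_derivation R S, Submodule.span_le]
  rintro _ ⟨y, rfl⟩
  have : y ∈ Algebra.adjoin R s := hs ▸ trivial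
  induction this using Algebra.adjoin_induction with
  | mem y hy => exact h y hy
  | algebraMap r => simp
  | add a b _ _ ha hb => rw [map_add]; exact add_mem ha hb
  | mul a b _ _ ha hb =>
    rw [Derivation.leibniz]; exact add_mem (W.smul_mem _ hb) (W.smul_mem _ ha)

section M4
variable (R A : Type u) [CommRing R] [CommRing A] [Algebra R A]
  (C V : Type u) [AddCommGroup C] [Module A C] [Module R C] [IsScalarTower R A C]
  [AddCommGroup V] [Module A V] {n : ℕ} (e : Module.Basis (Fin n) A V) (x : Fin n → A)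
  (hx : Algebra.adjoin R (Set.range x) = ⊤)
  (δ : C →ₗ[A] V) (π : V →ₗ[A] Ω[A⁄R]) (ρ : V →ₗ[A] C)
  (hρ : ρ ∘ₗ δ = LinearMap.id) (hπδ : π ∘ₗ δ = 0) (hπ : ∀ i, π (e i) = D R A (x i))

local notation "B₀" => SymmetricAlgebra A C

/-- the elements `b_i = x_i + ρ(e_i)` -/
noncomputable def bb (i : Fin n) : B₀ :=
  algebraMap A B₀ (x i) + SymmetricAlgebra.ι A C (ρ (e i))

include hx hρ hπδ hπ in
theorem top_le_span_sup :
    (⊤ : Submodule B₀ Ω[B₀⁄R]) ≤
      Submodule.span B₀ (Set.range fun i => D R B₀ (bb A C V e x ρ i)) ⊔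
        (RingHom.ker (SymmetricAlgebra.algebraMapInv (R := A) (M := C))) •
          (⊤ : Submodule B₀ Ω[B₀⁄R]) := by
  set N := Submodule.span B₀ (Set.range fun i => D R B₀ (bb A C V e x ρ i)) with hN
  set J := RingHom.ker (SymmetricAlgebra.algebraMapInv (R := A) (M := C)) with hJ
  set W := N ⊔ J • (⊤ : Submodule B₀ Ω[B₀⁄R]) with hW
  have hιJ : ∀ c : C, SymmetricAlgebra.ι A C c ∈ J := fun c => by
    rw [hJ, RingHom.mem_ker]
    exact SymmetricAlgebra.algebraMapInv_ι c
  have hmapD : ∀ a : A, D R B₀ (algebraMap A B₀ a) = KaehlerDifferential.map R R A B₀ (D R A a) :=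
    fun a => (KaehlerDifferential.map_D R R A B₀ a).symm
  -- (i)
  have h1 : ∀ c : C, D R B₀ (SymmetricAlgebra.ι A C c) ∈ W := by
    intro c
    have hc : c = ∑ i, (e.repr (δ c) i) • ρ (e i) := by
      conv_lhs => rw [← LinearMap.id_apply (R := A) c, ← hρ, LinearMap.comp_apply,
        ← e.sum_repr (δ c), map_sum]
      simp only [map_smul]
    have h0 : ∑ i, (e.repr (δ c) i) • D R A (x i) = 0 := by
      have : π (δ c) = 0 := congr($hπδ c)
      rw [← e.sum_repr (δ c), map_sum] at this
      simpa [hπ] using this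
    have key : D R B₀ (SymmetricAlgebra.ι A C c) =
        ∑ i, algebraMap A B₀ (e.repr (δ c) i) • D R B₀ (bb A C V e x ρ i)
        - KaehlerDifferential.map R R A B₀ (∑ i, (e.repr (δ c) i) • D R A (x i))
        + ∑ i, SymmetricAlgebra.ι A C (ρ (e i)) • D R B₀ (algebraMap A B₀ (e.repr (δ c) i)) := by
      conv_lhs => rw [hc]
      simp only [map_sum, map_smul, Algebra.smul_def, Derivation.leibniz, bb, map_add, smul_add,
        Finset.sum_add_distrib, hmapD]
      simp only [algebraMap_smul]
      abel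
    rw [key, h0, map_zero, sub_zero]
    refine add_mem ?_ ?_
    · refine Submodule.mem_sup_left (sum_mem fun i _ => ?_)
      exact Submodule.smul_mem _ _ (Submodule.subset_span ⟨i, rfl⟩)
    · refine Submodule.mem_sup_right (sum_mem fun i _ => ?_)
      exact Submodule.smul_mem_smul (hιJ _) trivial
  -- (ii)
  have h2 : ∀ i, D R B₀ (algebraMap A B₀ (x i)) ∈ W := by
    intro i
    have : D R B₀ (algebraMap A B₀ (x i)) =
        D R B₀ (bb A C V e x ρ i) - D R B₀ (SymmetricAlgebra.ι A C (ρ (e i))) := by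
      simp [bb]
    rw [this]
    exact sub_mem (Submodule.mem_sup_left (Submodule.subset_span ⟨i, rfl⟩)) (h1 _)
  -- (iii)
  have hA : Submodule.span A (Set.range fun i => D R A (x i)) = ⊤ := by
    apply kaehler_eq_top_of_adjoin (Set.range x) hx
    rintro _ ⟨i, rfl⟩
    exact Submodule.subset_span ⟨i, rfl⟩
  have h3 : ∀ a : A, D R B₀ (algebraMap A B₀ a) ∈ W := by
    intro a
    rw [hmapD]
    have hall : ∀ ω : Ω[A⁄R], ω ∈ Submodule.span A (Set.range fun i => D R A (x i)) →
        KaehlerDifferential.map R R A B₀ ω ∈ W := by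
      intro ω hω
      induction hω using Submodule.span_induction with
      | mem y hy =>
        obtain ⟨i, rfl⟩ := hy
        rw [← hmapD]; exact h2 i
      | zero => rw [map_zero]; exact zero_mem _
      | add y z _ _ hy hz => rw [map_add]; exact add_mem hy hz
      | smul r y _ hy =>
        rw [map_smul, ← algebraMap_smul B₀ r]
        exact W.smul_mem _ hy
    exact hall _ (hA ▸ trivial)
  rw [← KaehlerDifferential.span_range_derivation R B₀, Submodule.span_le]
  rintro _ ⟨y, rfl⟩
  change D R B₀ y ∈ W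
  induction y using SymmetricAlgebra.induction with
  | algebraMap r => exact h3 r
  | ι c => exact h1 c
  | mul a b ha hb =>
    rw [Derivation.leibniz]; exact add_mem (W.smul_mem _ hb) (W.smul_mem _ ha)
  | add a b ha hb => rw [map_add]; exact add_mem ha hb

end M4
theorem nonempty_kaehler_split (R A B : Type u) [CommRing R] [CommRing A] [CommRing B]
    [Algebra R A] [Algebra A B] [Algebra R B] [IsScalarTower R A B] [Algebra.FormallySmooth A B] :
    Nonempty (Ω[B⁄R] ≃ₗ[B] (B ⊗[A] Ω[A⁄R]) × Ω[B⁄A]) := by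
  have hex := KaehlerDifferential.exact_mapBaseChange_map R A B
  have hinj : Function.Injective (KaehlerDifferential.mapBaseChange R A B) := by
    rw [injective_iff_map_eq_zero]
    intro x hx
    obtain ⟨y, rfl⟩ := (Algebra.H1Cotangent.exact_δ_mapBaseChange R A B x).mp hx
    rw [Subsingleton.elim y 0, map_zero]
  have hsurj : Function.Surjective (KaehlerDifferential.map R A B B) :=
    KaehlerDifferential.map_surjective R A B
  obtain ⟨l, hl⟩ := Module.projective_lifting_property (KaehlerDifferential.map R A B B)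
    LinearMap.id hsurj
  have h02 := hex.split_tfae'.out 0 2
  obtain ⟨e, -, -⟩ := h02.mp ⟨hinj, l, hl⟩
  exact ⟨e⟩


section M3
variable (R A : Type u) [CommRing R] [CommRing A] [Algebra R A]
  (C V : Type u) [AddCommGroup C] [Module A C] [Module R C] [IsScalarTower R A C]
  [AddCommGroup V] [Module A V] {n : ℕ}

local notation "B₀" => SymmetricAlgebra A C

omit [Module R C] [IsScalarTower R A C] in
theorem nonempty_kaehler_equiv_pi [Module.Projective A C] (e : Module.Basis (Fin n) A V)
    (split : V ≃ₗ[A] C × Ω[A⁄R])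
    (B : Type u) [CommRing B] [Algebra B₀ B] [Algebra A B] [Algebra R B] [IsScalarTower A B₀ B]
    [IsScalarTower R A B] (g : B₀) [IsLocalization.Away g B] :
    Nonempty (Ω[B⁄R] ≃ₗ[B] (Fin n → B)) := by
  haveI : Algebra.FormallySmooth A B₀ := formallySmooth_sym A C
  haveI : Algebra.FormallyEtale B₀ B := Algebra.FormallyEtale.of_isLocalization (.powers g)
  haveI : Algebra.FormallySmooth A B := Algebra.FormallySmooth.comp A B₀ B
  obtain ⟨e1⟩ := nonempty_kaehler_split R A B
  let e2a : Ω[B⁄A] ≃ₗ[B] B ⊗[B₀] Ω[B₀⁄A] := (tensorKaehlerEquivOfFormallyEtale A B₀ B).symm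
  let e2b : B ⊗[B₀] Ω[B₀⁄A] ≃ₗ[B] B ⊗[B₀] (B₀ ⊗[A] C) :=
    TensorProduct.AlgebraTensorModule.congr (LinearEquiv.refl B B) (symKaehlerEquiv A C)
  let e2c : B ⊗[B₀] (B₀ ⊗[A] C) ≃ₗ[B] B ⊗[A] C :=
    TensorProduct.AlgebraTensorModule.cancelBaseChange A B₀ B B C
  let e2 : Ω[B⁄A] ≃ₗ[B] B ⊗[A] C := (e2a.trans e2b).trans e2c
  let e3 : ((B ⊗[A] Ω[A⁄R]) × (B ⊗[A] C)) ≃ₗ[B] B ⊗[A] (Ω[A⁄R] × C) :=
    (TensorProduct.prodRight A B B Ω[A⁄R] C).symm
  let e4 : B ⊗[A] (Ω[A⁄R] × C) ≃ₗ[B] B ⊗[A] V :=
    TensorProduct.AlgebraTensorModule.congr (LinearEquiv.refl B B)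
      ((LinearEquiv.prodComm A Ω[A⁄R] C).trans split.symm)
  let e5 : B ⊗[A] V ≃ₗ[B] B ⊗[A] (Fin n → A) :=
    TensorProduct.AlgebraTensorModule.congr (LinearEquiv.refl B B) e.equivFun
  let e6 : B ⊗[A] (Fin n → A) ≃ₗ[B] (Fin n → B) := TensorProduct.piScalarRight A B B (Fin n)
  exact ⟨(((e1.trans (LinearEquiv.prodCongr (LinearEquiv.refl B _) e2)).trans e3).trans e4).trans
    (e5.trans e6)⟩

end M3



theorem span_D_localization_eq_top {R B₀ B : Type u} [CommRing R] [CommRing B₀] [CommRing B]
    [Algebra R B₀] [Algebra B₀ B] [Algebra R B] [IsScalarTower R B₀ B] {n : ℕ} (b : Fin n → B₀)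
    (g : B₀) [IsLocalization.Away g B]
    (hg : g • (⊤ : Submodule B₀ Ω[B₀⁄R]) ≤ Submodule.span B₀ (Set.range fun i => D R B₀ (b i))) :
    Submodule.span B (Set.range fun i => D R B (algebraMap B₀ B (b i))) = ⊤ := by
  set T := Submodule.span B (Set.range fun i => D R B (algebraMap B₀ B (b i))) with hT
  let f := KaehlerDifferential.map R R B₀ B
  have hfN : ∀ ω ∈ Submodule.span B₀ (Set.range fun i => D R B₀ (b i)), f ω ∈ T := by
    intro ω hω
    induction hω using Submodule.span_induction with
    | mem y hy =>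
      obtain ⟨i, rfl⟩ := hy
      rw [KaehlerDifferential.map_D]
      exact Submodule.subset_span ⟨i, rfl⟩
    | zero => rw [map_zero]; exact zero_mem _
    | add y z _ _ hy hz => rw [map_add]; exact add_mem hy hz
    | smul r y _ hy =>
      rw [map_smul, ← algebraMap_smul B r]
      exact T.smul_mem _ hy
  rw [eq_top_iff]
  intro ω _
  obtain ⟨⟨ω₀, s⟩, hs⟩ := IsLocalizedModule.surj (Submonoid.powers g) f ω
  have h1 : f (g • ω₀) ∈ T := hfN _ (hg (Submodule.smul_mem_pointwise_smul _ _ _ trivial))
  have h2 : f (g • ω₀) = algebraMap B₀ B (g * s.1) • ω := by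
    rw [map_smul, ← hs, map_mul, mul_smul, algebraMap_smul, algebraMap_smul]
    rfl
  have hu : IsUnit (algebraMap B₀ B (g * s.1)) := by
    have hmem : g * s.1 ∈ Submonoid.powers g :=
      mul_mem (Submonoid.mem_powers g) s.2
    exact IsLocalization.map_units B ⟨_, hmem⟩
  rw [h2] at h1
  have := T.smul_mem (↑hu.unit⁻¹ : B) h1
  rwa [smul_smul, IsUnit.val_inv_mul, one_smul] at this

theorem isStandardSmooth_of_span {R B : Type u} [CommRing R] [CommRing B] [Algebra R B]
    [Algebra.FinitePresentation R B] [Algebra.FormallySmooth R B] {n : ℕ}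
    (ε : Ω[B⁄R] ≃ₗ[B] (Fin n → B)) (y : Fin n → B)
    (hy : Submodule.span B (Set.range fun i => D R B (y i)) = ⊤) :
    Algebra.IsStandardSmooth R B := by
  let φ : (Fin n → B) →ₗ[B] Ω[B⁄R] := (Pi.basisFun B (Fin n)).constr B (fun i => D R B (y i))
  have hφs : Function.Surjective φ := by
    rw [← LinearMap.range_eq_top, Module.Basis.constr_range, hy]
  have hinj : Function.Injective (ε.toLinearMap ∘ₗ φ) :=
    OrzechProperty.injective_of_surjective_endomorphism _ (ε.surjective.comp hφs)
  have hφi : Function.Injective φ := fun a b h => hinj (by simp [h])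
  let bb : Module.Basis (Fin n) B Ω[B⁄R] :=
    (Pi.basisFun B (Fin n)).map (LinearEquiv.ofBijective φ ⟨hφi, hφs⟩)
  refine Algebra.IsStandardSmooth.of_basis_kaehlerDifferential bb ?_
  rintro _ ⟨i, rfl⟩
  exact ⟨y i, by simp [bb, φ]⟩


end Groth.Agent.Lib.helper22.SymKaehler
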