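import Groth.Agent.Lib.Helper22.Deloc6
import Groth.Agent.S2025

set_option autoImplicit false
universe u v

namespace Groth.Agent.Lib.Helper22.Deloc

open MvPolynomial TensorProduct

/-- tensor-free generalisation of `main_construction`: `L` plays the role of `S⁻¹Λ`. -/
theorem gmc_main {R A Λ K B₁ L : Type u} [CommRing R] [CommRing A] [Algebra R A]
    [CommRing Λ] [Algebra R Λ] (φ : A →ₐ[R] Λ) (S : Submonoid R) [CommRing K] [Algebra R K]
    [IsLocalization S K] [CommRing B₁] [Algebra K B₁] [CommRing L] [Algebra K L]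
    (j : Λ →+* L) (hjalg : ∀ r, j (algebraMap R Λ r) = algebraMap K L (algebraMap R K r))
    (hj0 : ∀ y, j y = 0 → ∃ s ∈ S, s • y = 0)
    (γ : A →+* B₁) (hγalg : ∀ r, γ (algebraMap R A r) = algebraMap K B₁ (algebraMap R K r))
    (h : B₁ →ₐ[K] L) {n t : ℕ}
    (πA : MvPolynomial (Fin n) R →ₐ[R] A) (hπ : Function.Surjective πA)
    (G : Fin t → MvPolynomial (Fin n) R) (hG : RingHom.ker πA.toRingHom = Ideal.span (Set.range G))
    {N c : ℕ} (P : Algebra.SubmersivePresentation K B₁ (Fin N) (Fin c)) (κ : Fin n → Fin N)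
    (μ : Fin N → Λ) (hμ : ∀ k, h (P.val k) = j (μ k))
    (hκ : ∀ i, P.val (κ i) = γ (πA (X i)))
    (hμκ : ∀ i, μ (κ i) = φ (πA (X i))) :
    ∃ (B : Type u) (_ : CommRing B) (_ : Algebra R B) (α : A →ₐ[R] B) (β : B →ₐ[R] Λ),
      β.comp α = φ ∧ ∃ s ∈ S, Smoothing.IsElementaryStandard R B (algebraMap R B s) := by
  classical
  set L' : MvPolynomial (Fin N) R →+* MvPolynomial (Fin N) K :=
    MvPolynomial.map (algebraMap R K) with hLdef
  have I1 : ∀ p : MvPolynomial (Fin N) R, h (aeval P.val (L' p)) = j (aeval μ p) := by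
    intro p
    induction p using MvPolynomial.induction_on with
    | C r =>
      rw [hLdef, MvPolynomial.map_C, aeval_C, aeval_C, AlgHom.commutes, hjalg]
    | add p q hp hq => rw [map_add, map_add, map_add, hp, hq, map_add, map_add]
    | mul_X p i hp =>
      rw [map_mul, map_mul, map_mul, hp, hLdef, MvPolynomial.map_X, aeval_X, hμ, map_mul,
        aeval_X, map_mul]
  have I2 : ∀ p : MvPolynomial (Fin n) R,
      aeval P.val (L' (rename κ p)) = γ (πA p) := by
    intro p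
    induction p using MvPolynomial.induction_on with
    | C r =>
      have h1 : πA (C r) = algebraMap R A r := by
        rw [← MvPolynomial.algebraMap_eq, AlgHom.commutes]
      rw [rename_C, hLdef, MvPolynomial.map_C, aeval_C, h1, hγalg]
    | add p q hp hq => rw [map_add, map_add, map_add, hp, hq, map_add, map_add]
    | mul_X p i hp =>
      rw [map_mul, map_mul, map_mul, hp, rename_X, hLdef, MvPolynomial.map_X, aeval_X, hκ, map_mul,
        map_mul]
  have hπG : ∀ j, πA (G j) = 0 := fun j => by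
    have : G j ∈ RingHom.ker πA.toRingHom := by rw [hG]; exact Ideal.subset_span ⟨j, rfl⟩
    exact this
  -- lifts of the relations
  have hlift : ∀ r : Fin c, ∃ (F' : MvPolynomial (Fin N) R) (s : R), s ∈ S ∧
      L' F' = C (algebraMap R K s) * P.relation r ∧ aeval μ F' = 0 := by
    intro r
    obtain ⟨F₀, s₀, hs₀, hF₀⟩ := exists_lift (Rₛ := K) S (P.relation r)
    have h0 : j (aeval μ F₀) = 0 := by
      rw [← I1, hLdef, hF₀, map_mul, aeval_C, P.aeval_val_relation, mul_zero, map_zero]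
    obtain ⟨s₁, hs₁, hs₁0⟩ := hj0 _ h0
    refine ⟨C s₁ * F₀, s₁ * s₀, S.mul_mem hs₁ hs₀, ?_, ?_⟩
    · rw [map_mul, hLdef, hF₀, MvPolynomial.map_C, map_mul, map_mul]; ring
    · rw [map_mul, aeval_C, ← Algebra.smul_def, hs₁0]
  choose F' sF hsF hLF hβF using hlift
  let I : Ideal (MvPolynomial (Fin N) R) := Ideal.span (Set.range F')
  have factA : ∀ q : MvPolynomial (Fin N) K, aeval P.val q = 0 → q ∈ Ideal.map L' I := by
    intro q hq
    have hq' : q ∈ Ideal.span (Set.range P.relation) := by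
      rw [P.span_range_relation_eq_ker, Algebra.Generators.ker_eq_ker_aeval_val]; exact hq
    refine (Ideal.span_le.mpr ?_) hq'
    rintro _ ⟨r, rfl⟩
    obtain ⟨v, hv⟩ := (IsLocalization.map_units K ⟨sF r, hsF r⟩).exists_left_inv
    have : P.relation r = C v * L' (F' r) := by
      rw [hLF, ← mul_assoc, ← map_mul, hv, map_one, one_mul]
    rw [this]
    exact Ideal.mul_mem_left _ _ (Ideal.mem_map_of_mem _ (Ideal.subset_span ⟨r, rfl⟩))
  let cols : Fin c ↪ Fin N := ⟨P.map, P.map_inj⟩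
  set minor : MvPolynomial (Fin N) R :=
    Matrix.det (Matrix.of fun j k : Fin c => pderiv (cols k) (F' j)) with hminor_def
  have hunit : IsUnit (aeval P.val (L' minor)) :=
    isUnit_aeval_map_minor P F' (fun j => algebraMap R K (sF j))
      (fun j => IsLocalization.map_units K ⟨sF j, hsF j⟩) hLF
  obtain ⟨b, hb⟩ := hunit.exists_left_inv
  obtain ⟨b₁, hb₁⟩ := P.aeval_val_surjective b
  obtain ⟨b', sb, hsb, hLb⟩ := exists_lift (Rₛ := K) S b₁
  have hx : L' (b' * minor - C sb) ∈ Ideal.map L' I := by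
    apply factA
    rw [map_sub, map_mul, hLdef, hLb, map_sub, map_mul, map_mul, aeval_C, hb₁,
      MvPolynomial.map_C, aeval_C, mul_assoc, hb, mul_one, sub_self]
  obtain ⟨s', hs', hs'mem⟩ := exists_C_mul_mem (Rₛ := K) S I _ hx
  have hG'L : ∀ j, L' (rename κ (G j)) ∈ Ideal.map L' I := fun j =>
    factA _ (by rw [I2, hπG, map_zero])
  choose sG hsG hsGmem using fun j => exists_C_mul_mem (Rₛ := K) S I _ (hG'L j)
  have hsGprod : (∏ j, sG j) ∈ S := prod_mem (fun j _ => hsG j)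
  have hGkill : ∀ j, C (∏ j, sG j) * rename κ (G j) ∈ I := by
    intro j
    have : (∏ j, sG j) = (∏ j' ∈ Finset.univ.erase j, sG j') * sG j :=
      (Finset.prod_erase_mul _ _ (Finset.mem_univ j)).symm
    rw [this, map_mul, mul_assoc]
    exact Ideal.mul_mem_left _ _ (hsGmem j)
  refine exists_of_polys φ S πA hπ G hG κ μ hμκ F' hβF cols (C s' * b') (s' * sb)
    (S.mul_mem hs' hsb) ?_ (∏ j, sG j) hsGprod hGkill
  have : C s' * b' * minor - C (s' * sb) = C s' * (b' * minor - C sb) := by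
    rw [map_mul]; ring
  rw [this]
  exact hs'mem

/-- standard smooth version. -/
theorem gmc_std {R A Λ K B₁ L : Type u} [CommRing R] [CommRing A] [Algebra R A]
    [Algebra.FinitePresentation R A]
    [CommRing Λ] [Algebra R Λ] (φ : A →ₐ[R] Λ) (S : Submonoid R) [CommRing K] [Algebra R K]
    [IsLocalization S K] [CommRing B₁] [Algebra K B₁] [Algebra.IsStandardSmooth K B₁]
    [CommRing L] [Algebra K L]
    (j : Λ →+* L) (hjalg : ∀ r, j (algebraMap R Λ r) = algebraMap K L (algebraMap R K r))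
    (hj0 : ∀ y, j y = 0 → ∃ s ∈ S, s • y = 0)
    (hj1 : ∀ x : L, ∃ u : Kˣ, ∃ l : Λ, (u : K) • x = j l)
    (γ : A →+* B₁) (hγalg : ∀ r, γ (algebraMap R A r) = algebraMap K B₁ (algebraMap R K r))
    (h : B₁ →ₐ[K] L) (hγ : ∀ a, h (γ a) = j (φ a)) :
    ∃ (B : Type u) (_ : CommRing B) (_ : Algebra R B) (α : A →ₐ[R] B) (β : B →ₐ[R] Λ),
      β.comp α = φ ∧ ∃ s ∈ S, Smoothing.IsElementaryStandard R B (algebraMap R B s) := by
  classical
  obtain ⟨n, πA, hπ, hfg⟩ := (Algebra.FinitePresentation.out : ∃ (n : ℕ)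
    (f : MvPolynomial (Fin n) R →ₐ[R] A), Function.Surjective f ∧ (RingHom.ker f.toRingHom).FG)
  obtain ⟨t, G, hG⟩ := Submodule.fg_iff_exists_fin_generating_family.mp hfg
  obtain ⟨N, c, P, κ, μ, hμ, hκ, hμκ⟩ :=
    exists_adapted_presentation h (fun l : Λ => j l) hj1
      (fun i => γ (πA (X i))) (fun i => φ (πA (X i))) (fun i => hγ _)
  exact gmc_main φ S j hjalg hj0 γ hγalg h πA hπ G hG.symm P κ μ hμ hκ hμκ

/-- smooth version. -/
theorem gmc {R A Λ K B₁ L : Type u} [CommRing R] [CommRing A] [Algebra R A]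
    [Algebra.FinitePresentation R A]
    [CommRing Λ] [Algebra R Λ] (φ : A →ₐ[R] Λ) (S : Submonoid R) [CommRing K] [Algebra R K]
    [IsLocalization S K] [CommRing B₁] [Algebra K B₁] [Algebra.Smooth K B₁]
    [CommRing L] [Algebra K L]
    (j : Λ →+* L) (hjalg : ∀ r, j (algebraMap R Λ r) = algebraMap K L (algebraMap R K r))
    (hj0 : ∀ y, j y = 0 → ∃ s ∈ S, s • y = 0)
    (hj1 : ∀ x : L, ∃ u : Kˣ, ∃ l : Λ, (u : K) • x = j l)
    (γ : A →+* B₁) (hγalg : ∀ r, γ (algebraMap R A r) = algebraMap K B₁ (algebraMap R K r))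
    (h : B₁ →ₐ[K] L) (hγ : ∀ a, h (γ a) = j (φ a)) :
    ∃ (B : Type u) (_ : CommRing B) (_ : Algebra R B) (α : A →ₐ[R] B) (β : B →ₐ[R] Λ),
      β.comp α = φ ∧ ∃ s ∈ S, Smoothing.IsElementaryStandard R B (algebraMap R B s) := by
  obtain ⟨B₂, _, _, _, _, _, ⟨ρ⟩, hstd⟩ := Groth.Agent.S2025.result (R := K) (A := B₁)
  refine gmc_std φ S j hjalg hj0 hj1 ((algebraMap B₁ B₂).comp γ) ?_
    (h.comp (ρ.restrictScalars K)) ?_
  · intro r
    rw [RingHom.comp_apply, hγalg, ← IsScalarTower.algebraMap_apply]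
  · intro a
    show h (ρ (algebraMap B₁ B₂ (γ a))) = _
    rw [ρ.commutes]
    exact hγ a

end Groth.Agent.Lib.Helper22.Deloc
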