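import Groth.Agent.Lib.Helper22.Deloc7

set_option autoImplicit false
universe u v

namespace Groth.Agent.Lib.Helper22.Deloc

open MvPolynomial

/-- A map from a finitely presented algebra into a localization `T⁻¹Λ` factors through
`Λ[1/l₀]` for some `l₀ ∈ T`; compatibly with a given map from a finite type algebra `A`. -/
theorem exists_factor_away {R A B Λ Λq : Type u} [CommRing R] [CommRing A] [Algebra R A]
    [Algebra.FiniteType R A] [CommRing B] [Algebra R B] [Algebra.FinitePresentation R B]
    [CommRing Λ] [Algebra R Λ] (T : Submonoid Λ) [CommRing Λq] [Algebra Λ Λq] [IsLocalization T Λq]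
    [Algebra R Λq] [IsScalarTower R Λ Λq] (φ : A →ₐ[R] Λ) (α : A →ₐ[R] B) (β : B →ₐ[R] Λq)
    (hβα : ∀ a, β (α a) = algebraMap Λ Λq (φ a)) (t₀ : Λ) (ht₀ : t₀ ∈ T) :
    ∃ l₀ ∈ T, t₀ ∣ l₀ ∧ ∃ β₀ : B →ₐ[R] Localization.Away l₀,
      ∀ a, β₀ (α a) = algebraMap Λ (Localization.Away l₀) (φ a) := by
  classical
  obtain ⟨m, hom, hsurj, hfg⟩ := (Algebra.FinitePresentation.out : ∃ (n : ℕ)
    (f : MvPolynomial (Fin n) R →ₐ[R] B), Function.Surjective f ∧ (RingHom.ker f.toRingHom).FG)
  obtain ⟨k, rel, hrel⟩ := Submodule.fg_iff_exists_fin_generating_family.mp hfg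
  obtain ⟨n, πA, hπA⟩ := Algebra.FiniteType.iff_quotient_mvPolynomial''.mp
    (inferInstance : Algebra.FiniteType R A)
  -- denominators
  have hden : ∀ i : Fin m, ∃ (ν : Λ) (t : Λ), t ∈ T ∧
      β (hom (X i)) * algebraMap Λ Λq t = algebraMap Λ Λq ν := by
    intro i
    obtain ⟨⟨ν, t⟩, h⟩ := IsLocalization.surj T (β (hom (X i)))
    exact ⟨ν, t, t.2, h⟩
  choose ν₀ td htd hν₀ using hden
  set t : Λ := ∏ i, td i with htdef
  have ht : t ∈ T := prod_mem fun i _ => htd i
  let ν : Fin m → Λ := fun i => ν₀ i * ∏ i' ∈ Finset.univ.erase i, td i'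
  have hν : ∀ i, β (hom (X i)) * algebraMap Λ Λq t = algebraMap Λ Λq (ν i) := by
    intro i
    have : t = td i * ∏ i' ∈ Finset.univ.erase i, td i' :=
      (Finset.mul_prod_erase _ _ (Finset.mem_univ i)).symm
    rw [this, map_mul, ← mul_assoc, hν₀, ← map_mul]
  have hle : Submonoid.powers t ≤ T := (Submonoid.powers_le).mpr ht
  let alg1 : Algebra (Localization.Away t) Λq :=
    IsLocalization.localizationAlgebraOfSubmonoidLe (Localization.Away t) Λq
      (Submonoid.powers t) T hle
  have tow1 : IsScalarTower Λ (Localization.Away t) Λq :=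
    IsLocalization.localization_isScalarTower_of_submonoid_le (Localization.Away t) Λq _ T hle
  have loc1 : IsLocalization (T.map (algebraMap Λ (Localization.Away t))) Λq :=
    IsLocalization.isLocalization_of_submonoid_le (Localization.Away t) Λq _ T hle
  let x : Fin m → Localization.Away t := fun i =>
    IsLocalization.mk' (Localization.Away t) (ν i)
      (⟨t, Submonoid.mem_powers t⟩ : Submonoid.powers t)
  have hx : ∀ i, algebraMap (Localization.Away t) Λq (x i) = β (hom (X i)) := by
    intro i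
    have h1 : x i * algebraMap Λ (Localization.Away t) t =
        algebraMap Λ (Localization.Away t) (ν i) :=
      IsLocalization.mk'_spec (Localization.Away t) (ν i)
        (⟨t, Submonoid.mem_powers t⟩ : Submonoid.powers t)
    have h2 := congrArg (algebraMap (Localization.Away t) Λq) h1
    rw [map_mul, ← IsScalarTower.algebraMap_apply, ← IsScalarTower.algebraMap_apply, ← hν] at h2
    exact (IsLocalization.map_units Λq ⟨t, ht⟩).mul_right_cancel h2
  have hRtow : ∀ r : R, algebraMap (Localization.Away t) Λq (algebraMap R (Localization.Away t) r) =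
      algebraMap R Λq r := by
    intro r
    rw [IsScalarTower.algebraMap_apply R Λ (Localization.Away t),
      ← IsScalarTower.algebraMap_apply Λ (Localization.Away t) Λq,
      ← IsScalarTower.algebraMap_apply R Λ Λq]
  let ψ₁ : MvPolynomial (Fin m) R →ₐ[R] Localization.Away t := aeval x
  have hιψ : ∀ p, algebraMap (Localization.Away t) Λq (ψ₁ p) = β (hom p) := by
    intro p
    induction p using MvPolynomial.induction_on with
    | C r =>
      rw [← MvPolynomial.algebraMap_eq, AlgHom.commutes, AlgHom.commutes, AlgHom.commutes, hRtow]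
    | add p q hp hq => rw [map_add, map_add, map_add, map_add, hp, hq]
    | mul_X p i hp =>
      rw [map_mul, map_mul, map_mul, map_mul, hp]
      congr 1
      show algebraMap _ _ (aeval x (X i)) = _
      rw [aeval_X, hx]
  -- the elements to kill
  have hrelker : ∀ j, hom (rel j) = 0 := fun j => by
    have : rel j ∈ RingHom.ker hom.toRingHom := by rw [← hrel]; exact Ideal.subset_span ⟨j, rfl⟩
    exact this
  choose q hq using fun i : Fin n => hsurj (α (πA (X i)))
  have hk1 : ∀ j : Fin k, ∃ t' ∈ T, algebraMap Λ (Localization.Away t) t' * ψ₁ (rel j) = 0 := by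
    intro j
    have h0 : algebraMap (Localization.Away t) Λq (ψ₁ (rel j)) = 0 := by
      rw [hιψ, hrelker, map_zero]
    obtain ⟨⟨_, t', ht', rfl⟩, hm⟩ := (IsLocalization.map_eq_zero_iff
      (T.map (algebraMap Λ (Localization.Away t))) Λq _).mp h0
    exact ⟨t', ht', hm⟩
  have hk2 : ∀ i : Fin n, ∃ t' ∈ T, algebraMap Λ (Localization.Away t) t' *
      (ψ₁ (q i) - algebraMap Λ (Localization.Away t) (φ (πA (X i)))) = 0 := by
    intro i
    have h0 : algebraMap (Localization.Away t) Λq
        (ψ₁ (q i) - algebraMap Λ (Localization.Away t) (φ (πA (X i)))) = 0 := by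
      rw [map_sub, hιψ, hq, hβα, ← IsScalarTower.algebraMap_apply, sub_self]
    obtain ⟨⟨_, t', ht', rfl⟩, hm⟩ := (IsLocalization.map_eq_zero_iff
      (T.map (algebraMap Λ (Localization.Away t))) Λq _).mp h0
    exact ⟨t', ht', hm⟩
  choose t1 ht1 hkill1 using hk1
  choose t2 ht2 hkill2 using hk2
  set l0 : Λ := t₀ * t * (∏ j, t1 j) * (∏ i, t2 i) with hl0
  have hl0T : l0 ∈ T :=
    T.mul_mem (T.mul_mem (T.mul_mem ht₀ ht) (prod_mem fun j _ => ht1 j)) (prod_mem fun i _ => ht2 i)
  have hdvd0 : t₀ ∣ l0 := ⟨t * (∏ j, t1 j) * (∏ i, t2 i), by rw [hl0]; ring⟩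
  have hdvdt : t ∣ l0 := ⟨t₀ * (∏ j, t1 j) * (∏ i, t2 i), by rw [hl0]; ring⟩
  have hdvd1 : ∀ j, t1 j ∣ l0 := fun j =>
    Dvd.dvd.mul_right (Dvd.dvd.mul_left (Finset.dvd_prod_of_mem _ (Finset.mem_univ j)) _) _
  have hdvd2 : ∀ i, t2 i ∣ l0 := fun i =>
    Dvd.dvd.mul_left (Finset.dvd_prod_of_mem _ (Finset.mem_univ i)) _
  have hunit : ∀ y : Λ, y ∣ l0 → IsUnit (algebraMap Λ (Localization.Away l0) y) := by
    intro y hy
    exact isUnit_of_dvd_unit (map_dvd (algebraMap Λ (Localization.Away l0)) hy)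
      (IsLocalization.Away.algebraMap_isUnit l0)
  let f : Localization.Away t →+* Localization.Away l0 :=
    IsLocalization.Away.lift t (hunit t hdvdt)
  have hf : ∀ y : Λ, f (algebraMap Λ (Localization.Away t) y) =
      algebraMap Λ (Localization.Away l0) y := fun y => IsLocalization.Away.lift_eq t _ y
  let β₀' : MvPolynomial (Fin m) R →ₐ[R] Localization.Away l0 := aeval (fun i => f (x i))
  have hβ₀' : ∀ p, β₀' p = f (ψ₁ p) := by
    intro p
    induction p using MvPolynomial.induction_on with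
    | C r =>
      rw [← MvPolynomial.algebraMap_eq, AlgHom.commutes, AlgHom.commutes,
        IsScalarTower.algebraMap_apply R Λ (Localization.Away t), hf,
        ← IsScalarTower.algebraMap_apply]
    | add p q hp hq => rw [map_add, map_add, map_add, hp, hq]
    | mul_X p i hp =>
      rw [map_mul, map_mul, map_mul, hp]
      congr 1
      show aeval (fun i => f (x i)) (X i) = f (aeval x (X i))
      rw [aeval_X, aeval_X]
  have hker : RingHom.ker hom.toRingHom ≤ RingHom.ker β₀'.toRingHom := by
    rw [← hrel, Ideal.span_le]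
    rintro _ ⟨j, rfl⟩
    show β₀' (rel j) = 0
    rw [hβ₀']
    have h1 := congrArg f (hkill1 j)
    rw [map_mul, hf, map_zero] at h1
    exact (hunit _ (hdvd1 j)).mul_right_eq_zero.mp h1
  let β₀ : B →ₐ[R] Localization.Away l0 := AlgHom.liftOfSurjective hom hsurj β₀' hker
  have hβ₀ : ∀ p, β₀ (hom p) = β₀' p := fun p =>
    AlgHom.liftOfSurjective_apply hom hsurj β₀' hker p
  refine ⟨l0, hl0T, hdvd0, β₀, ?_⟩
  have hgen : ∀ i : Fin n, β₀ (α (πA (X i))) =
      algebraMap Λ (Localization.Away l0) (φ (πA (X i))) := by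
    intro i
    rw [← hq, hβ₀, hβ₀']
    have h1 := congrArg f (hkill2 i)
    rw [map_mul, hf, map_zero, map_sub, hf] at h1
    exact sub_eq_zero.mp ((hunit _ (hdvd2 i)).mul_right_eq_zero.mp h1)
  have hcomp : (β₀.comp α).comp πA =
      ((IsScalarTower.toAlgHom R Λ (Localization.Away l0)).comp φ).comp πA := by
    apply MvPolynomial.algHom_ext
    intro i
    exact hgen i
  intro a
  obtain ⟨p, rfl⟩ := hπA a
  exact DFunLike.congr_fun hcomp p

end Groth.Agent.Lib.Helper22.Deloc
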