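import Groth.Agent.Lib.Helper22.Deloc8
import Groth.Agent.S2030

set_option autoImplicit false
universe u v

namespace Groth.Agent.Lib.Helper22.Deloc

open MvPolynomial TensorProduct

theorem finitePresentation_of_isElementaryStandard {R B : Type u} [CommRing R] [CommRing B]
    [Algebra R B] (a : B) (ha : Smoothing.IsElementaryStandard R B a) :
    Algebra.FinitePresentation R B := by
  classical
  obtain ⟨P, -, -⟩ := ha
  refine Algebra.FinitePresentation.of_surjective (f := P.hom) P.surj ?_
  rw [P.ker_eq]
  exact ⟨(Finset.univ.image P.rel), by rw [Finset.coe_image, Finset.coe_univ, Set.image_univ]⟩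

theorem smooth_away_of_isElementaryStandard {R B : Type u} [CommRing R] [CommRing B]
    [Algebra R B] (a : B) (ha : Smoothing.IsElementaryStandard R B a) :
    Algebra.Smooth R (Localization.Away a) :=
  (Groth.Agent.S2030.result a (Groth.Agent.S2026.isStrictlyStandard_of_isElementaryStandard a ha)).1

theorem mem_singularIdeal_of_smooth_localizationAway {R B : Type u} [CommRing R] [CommRing B]
    [Algebra R B] [Algebra.FinitePresentation R B] (b : B)
    (hsm : Algebra.Smooth R (Localization.Away b)) : b ∈ Smoothing.singularIdeal R B := by
  have hsub := (Algebra.basicOpen_subset_smoothLocus_iff_smooth (R := R) (A := B) (f := b)).mpr hsm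
  rw [Smoothing.singularIdeal, PrimeSpectrum.mem_vanishingIdeal]
  intro x hx
  by_contra hbx
  exact hx (hsub hbx)

end Groth.Agent.Lib.Helper22.Deloc
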