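import Groth.Agent.Lib.Helper22.Diag

/-!
Weight components of comodules over a diagonalizable bialgebra (helper22).
-/

set_option autoImplicit false
set_option linter.unusedSectionVars false
universe u v w
open scoped TensorProduct

namespace Groth.Agent.Lib.helper22

section DiagComp

variable {k : Type u} [Field k] {A : Type v} [CommRing A] [Bialgebra k A]
variable {V : Type w} [AddCommGroup V] [Module k V] [HopfRep.Comod k A V]

variable (V) in
/-- the component of weight `g` -/
noncomputable def dcomp (hA : HopfRep.IsDiagonalizable k A) (g : {a : A | IsGroupLikeElem k a}) :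
    V →ₗ[k] V := actDual V ((groupLikeBasis hA).coord g)

theorem dcomp_mem_eigenspace (hA : HopfRep.IsDiagonalizable k A) (g : {a : A | IsGroupLikeElem k a})
    (v : V) : dcomp V hA g v ∈ HopfRep.eigenspace k A V (g : A) := by
  change HopfRep.Comod.coact (k := k) (A := A) (dcomp V hA g v) = dcomp V hA g v ⊗ₜ[k] (g : A)
  rw [← sub_eq_zero]
  apply eq_zero_of_slice_eq_zero
  intro f
  rw [map_sub, slice_tmul, ← actDual_apply, sub_eq_zero]
  unfold dcomp
  rw [actDual_actDual, conv_coord_groupLikeBasis]
  exact map_smul (orbitLin k A v) _ _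

open Classical in
theorem dcomp_of_mem_eigenspace (hA : HopfRep.IsDiagonalizable k A)
    (g h : {a : A | IsGroupLikeElem k a}) (v : V) (hv : v ∈ HopfRep.eigenspace k A V (h : A)) :
    dcomp V hA g v = if h = g then v else 0 := by
  have hv' : HopfRep.Comod.coact (k := k) (A := A) v = v ⊗ₜ[k] (h : A) := hv
  unfold dcomp
  rw [actDual_apply, hv', slice_tmul, ← groupLikeBasis_apply hA h, Module.Basis.coord_apply,
    Module.Basis.repr_self, Finsupp.single_apply]
  split_ifs <;> simp

theorem exists_finset_dcomp (hA : HopfRep.IsDiagonalizable k A) (v : V) :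
    ∃ s : Finset {a : A | IsGroupLikeElem k a},
      (∀ g ∉ s, dcomp V hA g v = 0) ∧
      HopfRep.Comod.coact (k := k) (A := A) v = ∑ g ∈ s, dcomp V hA g v ⊗ₜ[k] (g : A) := by
  classical
  set x := HopfRep.Comod.coact (k := k) (A := A) v with hx
  have hx2 : x = ((TensorProduct.equivFinsuppOfBasisRight (groupLikeBasis hA)) x).sum
      fun g m => m ⊗ₜ[k] (groupLikeBasis hA g) := by
    rw [← TensorProduct.equivFinsuppOfBasisRight_symm_apply, LinearEquiv.symm_apply_apply]
  have hF : ∀ g, (TensorProduct.equivFinsuppOfBasisRight (groupLikeBasis hA)) x g = dcomp V hA g v := by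
    intro g
    rw [TensorProduct.equivFinsuppOfBasisRight_apply]
    rfl
  refine ⟨((TensorProduct.equivFinsuppOfBasisRight (groupLikeBasis hA)) x).support, ?_, ?_⟩
  · intro g hg
    rw [← hF]
    exact Finsupp.notMem_support_iff.mp hg
  · conv_lhs => rw [hx2]
    rw [Finsupp.sum]
    apply Finset.sum_congr rfl
    intro g _
    rw [hF, groupLikeBasis_apply]

end DiagComp

end Groth.Agent.Lib.helper22
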