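import Groth.Agent.Lib.Helper22.Reynolds

/-!
Orbit maps of rational points, Nullstellensatz points, separation of orbit closures by invariants
(helper22).
-/

set_option autoImplicit false
universe u v w
open scoped TensorProduct

namespace Groth.Agent.Lib.helper22

/-- weak Nullstellensatz: a proper ideal of a finite type algebra over an algebraically closed field
is contained in the kernel of a rational point -/
theorem exists_algHom_le_ker {k : Type u} [Field k] [IsAlgClosed k] {R : Type v} [CommRing R]
    [Algebra k R] [Algebra.FiniteType k R] (I : Ideal R) (hI : I ≠ ⊤) :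
    ∃ z : R →ₐ[k] k, I ≤ RingHom.ker z := by
  obtain ⟨m, hm, hIm⟩ := Ideal.exists_le_maximal I hI
  let _ := Ideal.Quotient.field m
  have hft : Algebra.FiniteType k (R ⧸ m) :=
    Algebra.FiniteType.of_surjective (Ideal.Quotient.mkₐ k m) (Ideal.Quotient.mkₐ_surjective k m)
  have hfin : Module.Finite k (R ⧸ m) := finite_of_finite_type_of_isJacobsonRing k (R ⧸ m)
  have hint : Algebra.IsIntegral k (R ⧸ m) := Algebra.IsIntegral.of_finite k (R ⧸ m)
  have hbij : Function.Bijective (algebraMap k (R ⧸ m)) :=
    IsAlgClosed.algebraMap_bijective_of_isIntegral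
  let e : k ≃ₐ[k] (R ⧸ m) := AlgEquiv.ofBijective (Algebra.ofId k (R ⧸ m)) hbij
  refine ⟨e.symm.toAlgHom.comp (Ideal.Quotient.mkₐ k m), ?_⟩
  intro f hf
  rw [RingHom.mem_ker]
  have : Ideal.Quotient.mk m f = 0 := Ideal.Quotient.eq_zero_iff_mem.mpr (hIm hf)
  simp [this]

/-- an element of a finite type algebra over an algebraically closed field killed by all rational
points is nilpotent -/
theorem isNilpotent_of_forall_algHom_eq_zero {k : Type u} [Field k] [IsAlgClosed k] {A : Type v}
    [CommRing A] [Algebra k A] [Algebra.FiniteType k A] (a : A) (h : ∀ g : A →ₐ[k] k, g a = 0) :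
    IsNilpotent a := by
  have hJ : IsJacobsonRing A := isJacobsonRing_of_finiteType (A := k) (B := A)
  rw [← mem_nilradical, nilradical, Ideal.radical_eq_jacobson, Ideal.jacobson, Ideal.mem_sInf]
  rintro m ⟨-, hm⟩
  obtain ⟨z, hz⟩ := exists_algHom_le_ker (k := k) m hm.ne_top
  have : m = RingHom.ker z := hm.eq_of_le (RingHom.ker_ne_top _) hz
  rw [this, RingHom.mem_ker]
  exact h z

section Orbit

variable {k : Type u} [Field k] {A : Type v} [CommRing A] [Bialgebra k A]
variable {R : Type w} [CommRing R] [Algebra k R] [HopfRep.Comod k A R] [GLin.IsCoactAlg k A R]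

theorem orbitHom_apply (x : R →ₐ[k] k) (f : R) :
    GLin.orbitHom k A x f = TensorProduct.lid k A
      (x.toLinearMap.rTensor A (HopfRep.Comod.coact (k := k) (A := A) f)) := by
  unfold GLin.orbitHom
  simp only [AlgHom.comp_apply, GLin.coactAlgHom_apply]
  generalize HopfRep.Comod.coact (k := k) (A := A) f = t
  induction t using TensorProduct.induction_on with
  | zero => simp
  | tmul r a => simp
  | add t₁ t₂ h₁ h₂ => simp only [map_add, h₁, h₂]

theorem counit_orbitHom (x : R →ₐ[k] k) (f : R) :
    Coalgebra.counit (R := k) (GLin.orbitHom k A x f) = x f := by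
  rw [orbitHom_apply]
  have h := LinearMap.congr_fun (HopfRep.Comod.counit_comp (k := k) (A := A) (V := R)) f
  simp only [LinearMap.comp_apply] at h
  have key : ∀ t : R ⊗[k] A, Coalgebra.counit (R := k)
      (TensorProduct.lid k A (x.toLinearMap.rTensor A t)) =
      x (TensorProduct.rid k R ((Coalgebra.counit (R := k) (A := A)).lTensor R t)) := by
    intro t
    induction t using TensorProduct.induction_on with
    | zero => simp
    | tmul r a => simp [mul_comm]
    | add t₁ t₂ h₁ h₂ => simp only [map_add, h₁, h₂]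
  rw [key]
  erw [h]
  simp

theorem orbitHom_of_mem_invariants (x : R →ₐ[k] k) (f : R) (hf : f ∈ GLin.invariants k A R) :
    GLin.orbitHom k A x f = algebraMap k A (x f) := by
  have hf' : HopfRep.Comod.coact (k := k) (A := A) f = f ⊗ₜ[k] (1 : A) := hf
  rw [orbitHom_apply, hf']
  simp [Algebra.algebraMap_eq_smul_one]

theorem isComodHom_orbitHom (x : R →ₐ[k] k) :
    Hoch.IsComodHom A (GLin.orbitHom k A x).toLinearMap := by
  apply LinearMap.ext
  intro f
  simp only [LinearMap.comp_apply, AlgHom.toLinearMap_apply]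
  have hco := LinearMap.congr_fun (HopfRep.Comod.coassoc (k := k) (A := A) (V := R)) f
  simp only [LinearMap.comp_apply, LinearEquiv.coe_coe] at hco
  have e1 : ∀ y : R ⊗[k] A, TensorProduct.lid k (A ⊗[k] A) (x.toLinearMap.rTensor (A ⊗[k] A)
      ((CoalgebraStruct.comul (R := k) (A := A)).lTensor R y)) =
      CoalgebraStruct.comul (R := k) (TensorProduct.lid k A (x.toLinearMap.rTensor A y)) := by
    intro y
    induction y using TensorProduct.induction_on with
    | zero => simp
    | tmul r a => simp
    | add t₁ t₂ h₁ h₂ => simp only [map_add, h₁, h₂]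
  have e2 : ∀ y : R ⊗[k] A, TensorProduct.lid k (A ⊗[k] A) (x.toLinearMap.rTensor (A ⊗[k] A)
      (TensorProduct.assoc k R A A ((HopfRep.Comod.coact (k := k) (A := A) (V := R)).rTensor A y))) =
      (GLin.orbitHom k A x).toLinearMap.rTensor A y := by
    intro y
    induction y using TensorProduct.induction_on with
    | zero => simp
    | tmul r a =>
      simp only [LinearMap.rTensor_tmul, AlgHom.toLinearMap_apply]
      rw [orbitHom_apply]
      generalize HopfRep.Comod.coact (k := k) (A := A) r = t
      induction t using TensorProduct.induction_on with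
      | zero => simp
      | tmul r' a' => simp [TensorProduct.smul_tmul']
      | add t₁ t₂ h₁ h₂ => simp only [TensorProduct.add_tmul, map_add, h₁, h₂]
    | add t₁ t₂ h₁ h₂ => simp only [map_add, h₁, h₂]
  change CoalgebraStruct.comul (R := k) (GLin.orbitHom k A x f) = _
  rw [orbitHom_apply, ← e1, ← hco, e2]

theorem isSubcomod_ker_orbitHom (x : R →ₐ[k] k) :
    HopfRep.IsSubcomod (k := k) (A := A) (LinearMap.ker (GLin.orbitHom k A x).toLinearMap) :=
  isSubcomod_ker _ (isComodHom_orbitHom x)

theorem ker_orbitHom_le_ker (x : R →ₐ[k] k) : RingHom.ker (GLin.orbitHom k A x) ≤ RingHom.ker x := by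
  intro f hf
  rw [RingHom.mem_ker] at hf ⊢
  rw [← counit_orbitHom (A := A) x f, hf, map_zero]

/-- separation: if two rational points agree on all invariants, the kernels of their orbit maps
do not generate the unit ideal -/
theorem ker_orbitHom_sup_ne_top (hss : HopfRep.IsSemisimpleComod k A R) (x₁ x₂ : R →ₐ[k] k)
    (h : ∀ f ∈ GLin.invariants k A R, x₁ f = x₂ f) :
    RingHom.ker (GLin.orbitHom k A x₁) ⊔ RingHom.ker (GLin.orbitHom k A x₂) ≠ ⊤ := by
  intro htop
  obtain ⟨E, hE⟩ := exists_isReynolds (k := k) (A := A) (V := R) hss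
  have h1 : (1 : R) ∈ RingHom.ker (GLin.orbitHom k A x₁) ⊔ RingHom.ker (GLin.orbitHom k A x₂) := by
    rw [htop]; exact Submodule.mem_top
  obtain ⟨a, ha, b, hb, hab⟩ := Submodule.mem_sup.mp h1
  have hEa : E a ∈ LinearMap.ker (GLin.orbitHom k A x₁).toLinearMap :=
    hE.mem_of_isSubcomod hss _ (isSubcomod_ker_orbitHom x₁) a
      (by rw [LinearMap.mem_ker]; exact ha)
  have hEb : E b ∈ LinearMap.ker (GLin.orbitHom k A x₂).toLinearMap :=
    hE.mem_of_isSubcomod hss _ (isSubcomod_ker_orbitHom x₂) b
      (by rw [LinearMap.mem_ker]; exact hb)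
  have hx1 : x₁ (E a) = 0 := ker_orbitHom_le_ker (A := A) x₁ (by
    rw [RingHom.mem_ker]; exact LinearMap.mem_ker.mp hEa)
  have hx2 : x₂ (E b) = 0 := ker_orbitHom_le_ker (A := A) x₂ (by
    rw [RingHom.mem_ker]; exact LinearMap.mem_ker.mp hEb)
  have h1inv : (1 : R) ∈ HopfRep.fixedPts k A R := (GLin.invariants k A R).one_mem
  have hE1 : E 1 = 1 := (hE.fix 1).mpr h1inv
  have hsum : E a + E b = 1 := by rw [← map_add, hab, hE1]
  have hx2a : x₂ (E a) = 0 := by rw [← h (E a) (hE.mem_fixedPts a), hx1]
  have : x₂ 1 = 0 := by rw [← hsum, map_add, hx2a, hx2, add_zero]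
  rw [map_one] at this
  exact one_ne_zero this

end Orbit

theorem apply_act_eq {k : Type u} [Field k] {A : Type v} [CommRing A] [Bialgebra k A]
    {R : Type w} [CommRing R] [Algebra k R] [HopfRep.Comod k A R] [GLin.IsCoactAlg k A R]
    (x : R →ₐ[k] k) (g : A →ₐ[k] k) (f : R) :
    x (HopfRep.Comod.act k A R g f) = g (GLin.orbitHom k A x f) := by
  rw [orbitHom_apply]
  unfold HopfRep.Comod.act
  simp only [LinearMap.comp_apply, LinearEquiv.coe_coe]
  generalize HopfRep.Comod.coact (k := k) (A := A) f = t
  induction t using TensorProduct.induction_on with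
  | zero => simp
  | tmul r a => simp [mul_comm]
  | add t₁ t₂ h₁ h₂ => simp only [map_add, h₁, h₂]

theorem act_of_mem_invariants {k : Type u} [Field k] {A : Type v} [CommRing A] [Bialgebra k A]
    {R : Type w} [CommRing R] [Algebra k R] [HopfRep.Comod k A R] [GLin.IsCoactAlg k A R]
    (g : A →ₐ[k] k) (f : R) (hf : f ∈ GLin.invariants k A R) :
    HopfRep.Comod.act k A R g f = f := by
  have hf' : HopfRep.Comod.coact (k := k) (A := A) f = f ⊗ₜ[k] (1 : A) := hf
  unfold HopfRep.Comod.act
  simp [hf']

end Groth.Agent.Lib.helper22
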