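import Groth.Agent.Lib.Helper22.GmLimit
import Groth.Agent.Lib.Helper22.Orbit

/-!
The numerical function `μ` for one-parameter subgroups acting on affine space (helper22).
-/

set_option autoImplicit false
set_option linter.unusedSectionVars false
universe u v
open scoped TensorProduct
open LaurentPolynomial

namespace Groth.Agent.Lib.helper22

namespace GmStable

section Laurent

variable {k : Type u} [Field k]

theorem coeff_T_mul (m n : ℤ) (P : k[T;T⁻¹]) : (T m * P).coeff n = P.coeff (-m + n) := by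
  have := AddMonoidAlgebra.coeff_single_mul_apply P (1 : k) m n
  rw [one_mul] at this
  exact this

theorem toLaurent_trunc (Q : k[T;T⁻¹]) (hQ : ∀ n ∈ Q.coeff.support, 0 ≤ n) :
    Polynomial.toLaurent (trunc Q) = Q := by
  conv_rhs => rw [← AddMonoidAlgebra.sum_coeff_single Q]
  conv_lhs => rw [← AddMonoidAlgebra.sum_coeff_single Q]
  rw [Finsupp.sum, map_sum, map_sum]
  apply Finset.sum_congr rfl
  intro n hn
  rw [single_eq_C_mul_T, trunc_C_mul_T, if_pos (hQ n hn), Polynomial.toLaurent_C_mul_T,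
    Int.toNat_of_nonneg (hQ n hn)]

theorem coeff_of_toLaurent_eq (p : Polynomial k) (Q : k[T;T⁻¹]) (h : Polynomial.toLaurent p = Q) (n : ℕ) :
    p.coeff n = Q.coeff (n : ℤ) := by
  rw [← h, LaurentPolynomial.coeff_toLaurent]
  have := Finsupp.mapDomain_apply (Nat.castEmbedding (R := ℤ)).injective p.toFinsupp.coeff n
  exact this.symm

theorem nonneg_of_toLaurent_eq (p : Polynomial k) (Q : k[T;T⁻¹]) (h : Polynomial.toLaurent p = Q)
    (n : ℤ) (hn : Q.coeff n ≠ 0) : 0 ≤ n := by
  have h1 : n ∈ Q.coeff.support := Finsupp.mem_support_iff.mpr hn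
  rw [← h, LaurentPolynomial.support_coeff_toLaurent, Finset.mem_map] at h1
  obtain ⟨j, -, hj⟩ := h1
  rw [← hj]
  exact Int.natCast_nonneg j

end Laurent

section Family

variable {k : Type u} [Field k] {ι : Type u}

/-- extension of a Laurent-polynomial-valued point of affine space to a polynomial-valued point -/
theorem exists_ext_family_iff (P : ι → k[T;T⁻¹]) :
    (∃ h : MvPolynomial ι k →ₐ[k] Polynomial k,
      (Polynomial.toLaurentAlg (R := k)).comp h = MvPolynomial.aeval P) ↔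
      ∀ i, ∀ n ∈ (P i).coeff.support, 0 ≤ n := by
  constructor
  · rintro ⟨h, hh⟩ i n hn
    have h1 := congrArg (fun φ : MvPolynomial ι k →ₐ[k] k[T;T⁻¹] => φ (MvPolynomial.X i)) hh
    simp only [AlgHom.comp_apply, MvPolynomial.aeval_X, Polynomial.toLaurentAlg_apply] at h1
    exact nonneg_of_toLaurent_eq _ _ h1 n (Finsupp.mem_support_iff.mp hn)
  · intro hP
    refine ⟨MvPolynomial.aeval (fun i => trunc (P i)), ?_⟩
    apply MvPolynomial.algHom_ext
    intro i
    rw [AlgHom.comp_apply, MvPolynomial.aeval_X, MvPolynomial.aeval_X, Polynomial.toLaurentAlg_apply,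
      toLaurent_trunc _ (hP i)]

/-- value at `0` of the extension -/
theorem aeval_zero_of_ext (P : ι → k[T;T⁻¹]) (h : MvPolynomial ι k →ₐ[k] Polynomial k)
    (hh : (Polynomial.toLaurentAlg (R := k)).comp h = MvPolynomial.aeval P) :
    (Polynomial.aeval (0 : k)).comp h = MvPolynomial.aeval (fun i => (P i).coeff 0) := by
  apply MvPolynomial.algHom_ext
  intro i
  have h1 := congrArg (fun φ : MvPolynomial ι k →ₐ[k] k[T;T⁻¹] => φ (MvPolynomial.X i)) hh
  simp only [AlgHom.comp_apply, MvPolynomial.aeval_X, Polynomial.toLaurentAlg_apply] at h1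
  rw [AlgHom.comp_apply, MvPolynomial.aeval_X, Polynomial.coe_aeval_eq_eval,
    ← Polynomial.coeff_zero_eq_eval_zero, coeff_of_toLaurent_eq _ _ h1 0]
  rfl

theorem aeval_ne_iff (a b : ι → k) :
    (MvPolynomial.aeval a : MvPolynomial ι k →ₐ[k] k) ≠ MvPolynomial.aeval b ↔ ∃ i, a i ≠ b i := by
  constructor
  · intro h
    by_contra hcon
    push Not at hcon
    apply h
    rw [funext hcon]
  · rintro ⟨i, hi⟩ h
    apply hi
    have := congrArg (fun φ : MvPolynomial ι k →ₐ[k] k => φ (MvPolynomial.X i)) h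
    simpa using this

/-- the `IsMu`-type condition for a family of Laurent polynomials -/
theorem isMu_family_iff (P : ι → k[T;T⁻¹]) (m : ℤ) :
    (∃ h : MvPolynomial ι k →ₐ[k] Polynomial k,
      (Polynomial.toLaurentAlg (R := k)).comp h = MvPolynomial.aeval (fun i => T m * P i) ∧
        (Polynomial.aeval (0 : k)).comp h ≠ MvPolynomial.aeval (fun _ : ι => (0 : k))) ↔
      (∀ i, ∀ n ∈ (P i).coeff.support, 0 ≤ m + n) ∧ ∃ i, (P i).coeff (-m) ≠ 0 := by
  constructor
  · rintro ⟨h, hh, hne⟩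
    constructor
    · intro i n hn
      have := (exists_ext_family_iff (fun i => T m * P i)).mp ⟨h, hh⟩ i (m + n)
      apply this
      rw [Finsupp.mem_support_iff, coeff_T_mul, neg_add_cancel_left]
      exact Finsupp.mem_support_iff.mp hn
    · rw [aeval_zero_of_ext _ h hh, aeval_ne_iff] at hne
      obtain ⟨i, hi⟩ := hne
      refine ⟨i, ?_⟩
      rw [coeff_T_mul, add_zero] at hi
      exact hi
  · rintro ⟨h1, i₀, hi₀⟩
    have hsupp : ∀ i, ∀ n ∈ (T m * P i).coeff.support, 0 ≤ n := by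
      intro i n hn
      rw [Finsupp.mem_support_iff, coeff_T_mul] at hn
      have := h1 i (-m + n) (Finsupp.mem_support_iff.mpr hn)
      omega
    obtain ⟨h, hh⟩ := (exists_ext_family_iff (fun i => T m * P i)).mpr hsupp
    refine ⟨h, hh, ?_⟩
    rw [aeval_zero_of_ext _ h hh, aeval_ne_iff]
    refine ⟨i₀, ?_⟩
    rw [coeff_T_mul, add_zero]
    exact hi₀

variable [Fintype ι]

/-- existence and uniqueness of `μ` for a family with a non-zero member -/
theorem existsUnique_family (P : ι → k[T;T⁻¹]) (hP : ∃ i, P i ≠ 0) :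
    ∃! m : ℤ, (∀ i, ∀ n ∈ (P i).coeff.support, 0 ≤ m + n) ∧ ∃ i, (P i).coeff (-m) ≠ 0 := by
  classical
  let S : Finset ℤ := Finset.univ.biUnion (fun i => (P i).coeff.support)
  have hS : S.Nonempty := by
    obtain ⟨i, hi⟩ := hP
    have : (P i).coeff ≠ 0 := fun h => hi (AddMonoidAlgebra.coeff_injective (by rw [h]; rfl))
    obtain ⟨n, hn⟩ := Finsupp.support_nonempty_iff.mpr this
    exact ⟨n, Finset.mem_biUnion.mpr ⟨i, Finset.mem_univ _, hn⟩⟩
  refine ⟨- S.min' hS, ⟨?_, ?_⟩, ?_⟩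
  · intro i n hn
    have : S.min' hS ≤ n := Finset.min'_le _ _ (Finset.mem_biUnion.mpr ⟨i, Finset.mem_univ _, hn⟩)
    omega
  · have := Finset.min'_mem S hS
    rw [Finset.mem_biUnion] at this
    obtain ⟨i, -, hi⟩ := this
    refine ⟨i, ?_⟩
    rw [neg_neg]
    exact Finsupp.mem_support_iff.mp hi
  · rintro m ⟨h1, i, hi⟩
    have hmem : -m ∈ S := Finset.mem_biUnion.mpr ⟨i, Finset.mem_univ _, Finsupp.mem_support_iff.mpr hi⟩
    have h2 : S.min' hS ≤ -m := Finset.min'_le _ _ hmem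
    have := Finset.min'_mem S hS
    rw [Finset.mem_biUnion] at this
    obtain ⟨j, -, hj⟩ := this
    have h3 := h1 j _ hj
    omega

end Family

section Mu

variable {k : Type u} [Field k] {A : Type v} [CommRing A] [Bialgebra k A] {ι : Type u}
variable [HopfRep.Comod k A (MvPolynomial ι k)] [GLin.IsCoactAlg k A (MvPolynomial ι k)]

/-- the coordinates of the one-parameter orbit -/
noncomputable def orbCoord (lam : A →ₐc[k] k[T;T⁻¹]) (v : ι → k) (i : ι) : k[T;T⁻¹] :=
  GLin.lamOrbit k A lam (GLin.vecPt k ι v) (MvPolynomial.X i)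

theorem lamOrbit_eq_aeval (lam : A →ₐc[k] k[T;T⁻¹]) (v : ι → k) :
    GLin.lamOrbit k A lam (GLin.vecPt k ι v) = MvPolynomial.aeval (orbCoord lam v) := by
  apply MvPolynomial.algHom_ext
  intro i
  rw [MvPolynomial.aeval_X]
  rfl

theorem counit_orbCoord (lam : A →ₐc[k] k[T;T⁻¹]) (v : ι → k) (i : ι) :
    Coalgebra.counit (R := k) (orbCoord lam v i) = v i := by
  unfold orbCoord GLin.lamOrbit
  rw [AlgHom.comp_apply]
  have h1 : Coalgebra.counit (R := k) ((lam : A →ₐ[k] k[T;T⁻¹])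
      (GLin.orbitHom k A (GLin.vecPt k ι v) (MvPolynomial.X i))) =
      Coalgebra.counit (R := k) (GLin.orbitHom k A (GLin.vecPt k ι v) (MvPolynomial.X i)) :=
    CoalgHomClass.counit_comp_apply lam _
  rw [h1, counit_orbitHom]
  simp [GLin.vecPt]

theorem exists_orbCoord_ne_zero (lam : A →ₐc[k] k[T;T⁻¹]) (v : ι → k) (hv : v ≠ 0) :
    ∃ i, orbCoord lam v i ≠ 0 := by
  by_contra hcon
  push Not at hcon
  apply hv
  funext i
  rw [← counit_orbCoord lam v i, hcon i, map_zero]
  rfl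

theorem isMu_iff (lam : A →ₐc[k] k[T;T⁻¹]) (v : ι → k) (m : ℤ) :
    GLin.IsMu k A lam v m ↔
      (∀ i, ∀ n ∈ (orbCoord lam v i).coeff.support, 0 ≤ m + n) ∧ ∃ i, (orbCoord lam v i).coeff (-m) ≠ 0 :=
  isMu_family_iff (orbCoord lam v) m

theorem hasLimit_iff (lam : A →ₐc[k] k[T;T⁻¹]) (v : ι → k) :
    GLin.HasLimit k A lam (GLin.vecPt k ι v) ↔ ∀ i, ∀ n ∈ (orbCoord lam v i).coeff.support, 0 ≤ n := by
  unfold GLin.HasLimit
  rw [lamOrbit_eq_aeval]
  exact exists_ext_family_iff (orbCoord lam v)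

theorem isLimit_zero_iff (lam : A →ₐc[k] k[T;T⁻¹]) (v : ι → k) :
    GLin.IsLimit k A lam (GLin.vecPt k ι v) (GLin.vecPt k ι (fun _ => (0 : k))) ↔
      ∀ i, ∀ n ∈ (orbCoord lam v i).coeff.support, 0 < n := by
  unfold GLin.IsLimit
  rw [lamOrbit_eq_aeval]
  constructor
  · rintro ⟨h, hh, h0⟩ i n hn
    have h1 := (exists_ext_family_iff (orbCoord lam v)).mp ⟨h, hh⟩ i n hn
    rw [aeval_zero_of_ext _ h hh] at h0
    have h2 : (orbCoord lam v i).coeff 0 = 0 := by
      by_contra hne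
      exact ((aeval_ne_iff _ _).mpr ⟨i, hne⟩) h0
    rcases h1.lt_or_eq with h3 | h3
    · exact h3
    · exfalso
      rw [← h3] at hn
      exact (Finsupp.mem_support_iff.mp hn) h2
  · intro hP
    obtain ⟨h, hh⟩ := (exists_ext_family_iff (orbCoord lam v)).mpr (fun i n hn => (hP i n hn).le)
    refine ⟨h, hh, ?_⟩
    rw [aeval_zero_of_ext _ h hh]
    have : (fun i => (orbCoord lam v i).coeff 0) = fun _ => (0 : k) := by
      funext i
      by_contra hne
      exact lt_irrefl _ (hP i 0 (Finsupp.mem_support_iff.mpr hne))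
    rw [this]

end Mu

end GmStable

end Groth.Agent.Lib.helper22
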