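import Groth.Agent.Lib.Helper22.DiagComp
import Groth.Agent.Lib.Helper22.GmMu

/-!
The numerical function of a diagonalizable group acting linearly is a maximum of finitely many
linear functionals (helper22).
-/

set_option autoImplicit false
set_option linter.unusedSectionVars false
universe u v
open scoped TensorProduct
open LaurentPolynomial

namespace Groth.Agent.Lib.helper22

namespace DiagMu

section

variable {k : Type u} [Field k] {A : Type v} [CommRing A] [Bialgebra k A] {ι : Type u} [Fintype ι]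
variable [HopfRep.Comod k A (MvPolynomial ι k)] [GLin.IsCoactAlg k A (MvPolynomial ι k)]
variable {κ : Type} [Fintype κ]

/-- the coefficients `c(j,i)` -/
noncomputable def cf (hA : HopfRep.IsDiagonalizable k A) (χ' : κ → {a : A | IsGroupLikeElem k a})
    (v : ι → k) (j : κ) (i : ι) : k :=
  GLin.vecPt k ι v (dcomp (MvPolynomial ι k) hA (χ' j) (MvPolynomial.X i))

theorem coact_X_eq (hA : HopfRep.IsDiagonalizable k A) (χ' : κ → {a : A | IsGroupLikeElem k a})
    (hinj : Function.Injective χ')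
    (hcov : ∀ i : ι, ∀ g, g ∉ Set.range χ' → dcomp (MvPolynomial ι k) hA g (MvPolynomial.X i) = 0) (i : ι) :
    HopfRep.Comod.coact (k := k) (A := A) (MvPolynomial.X i : MvPolynomial ι k) =
      ∑ j, dcomp (MvPolynomial ι k) hA (χ' j) (MvPolynomial.X i) ⊗ₜ[k] ((χ' j : A)) := by
  classical
  obtain ⟨s, hs1, hs2⟩ := exists_finset_dcomp hA (MvPolynomial.X i : MvPolynomial ι k)
  rw [hs2]
  set F : {a : A | IsGroupLikeElem k a} → MvPolynomial ι k ⊗[k] A :=
    fun g => dcomp (MvPolynomial ι k) hA g (MvPolynomial.X i) ⊗ₜ[k] (g : A) with hF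
  have h1 : ∑ g ∈ s, F g = ∑ g ∈ s ∪ Finset.univ.image χ', F g := by
    apply Finset.sum_subset Finset.subset_union_left
    intro g _ hg
    simp only [hF]
    rw [hs1 g hg, TensorProduct.zero_tmul]
  have h2 : ∑ g ∈ Finset.univ.image χ', F g = ∑ g ∈ s ∪ Finset.univ.image χ', F g := by
    apply Finset.sum_subset Finset.subset_union_right
    intro g _ hg
    simp only [hF]
    have : g ∉ Set.range χ' := by
      rintro ⟨j, rfl⟩
      exact hg (Finset.mem_image_of_mem _ (Finset.mem_univ j))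
    rw [hcov i g this, TensorProduct.zero_tmul]
  change ∑ g ∈ s, F g = ∑ j, F (χ' j)
  rw [h1, ← h2, Finset.sum_image (fun a _ b _ h => hinj h)]

theorem orbCoord_eq (hA : HopfRep.IsDiagonalizable k A) (χ' : κ → {a : A | IsGroupLikeElem k a})
    (hinj : Function.Injective χ')
    (hcov : ∀ i : ι, ∀ g, g ∉ Set.range χ' → dcomp (MvPolynomial ι k) hA g (MvPolynomial.X i) = 0)
    (v : ι → k) (lam : A →ₐc[k] k[T;T⁻¹]) (e : κ → ℤ) (he : ∀ j, lam (χ' j : A) = T (e j)) (i : ι) :
    GmStable.orbCoord lam v i = ∑ j, cf hA χ' v j i • (T (e j) : k[T;T⁻¹]) := by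
  unfold GmStable.orbCoord GLin.lamOrbit
  rw [AlgHom.comp_apply, orbitHom_apply, coact_X_eq hA χ' hinj hcov i, map_sum, map_sum, map_sum]
  apply Finset.sum_congr rfl
  intro j _
  rw [LinearMap.rTensor_tmul, TensorProduct.lid_tmul, map_smul]
  congr 1
  exact he j

theorem coeff_orbCoord [DecidableEq ℤ] (hA : HopfRep.IsDiagonalizable k A)
    (χ' : κ → {a : A | IsGroupLikeElem k a})
    (hinj : Function.Injective χ')
    (hcov : ∀ i : ι, ∀ g, g ∉ Set.range χ' → dcomp (MvPolynomial ι k) hA g (MvPolynomial.X i) = 0)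
    (v : ι → k) (lam : A →ₐc[k] k[T;T⁻¹]) (e : κ → ℤ) (he : ∀ j, lam (χ' j : A) = T (e j)) (i : ι)
    (n : ℤ) :
    (GmStable.orbCoord lam v i).coeff n = ∑ j, if e j = n then cf hA χ' v j i else 0 := by
  rw [orbCoord_eq hA χ' hinj hcov v lam e he i, AddMonoidAlgebra.coeff_sum, Finset.sum_apply']
  apply Finset.sum_congr rfl
  intro j _
  rw [AddMonoidAlgebra.coeff_smul, Finsupp.smul_apply, T_apply, smul_eq_mul]
  split_ifs <;> simp

/-- the components of a coordinate function are linear forms -/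
theorem dcomp_X_eq_sum (hA : HopfRep.IsDiagonalizable k A) (hlin : GLin.IsLinear k A ι)
    (g : {a : A | IsGroupLikeElem k a}) (i : ι) :
    ∃ a : ι → k, dcomp (MvPolynomial ι k) hA g (MvPolynomial.X i) = ∑ l, a l • MvPolynomial.X l := by
  obtain ⟨m, hm⟩ := hlin i
  refine ⟨fun l => (groupLikeBasis hA).coord g (m l), ?_⟩
  unfold dcomp
  rw [actDual_apply, hm, map_sum]
  apply Finset.sum_congr rfl
  intro l _
  rw [slice_tmul]

/-- no cancellation between different weights with the same exponent -/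
theorem exists_sum_ne_zero [DecidableEq ℤ] (hA : HopfRep.IsDiagonalizable k A) (hlin : GLin.IsLinear k A ι)
    (χ' : κ → {a : A | IsGroupLikeElem k a}) (hinj : Function.Injective χ')
    (v : ι → k) (e : κ → ℤ) (j₀ : κ) (i₀ : ι) (h0 : cf hA χ' v j₀ i₀ ≠ 0) :
    ∃ i, (∑ j, if e j = e j₀ then cf hA χ' v j i else 0) ≠ 0 := by
  classical
  by_contra hcon
  push Not at hcon
  obtain ⟨a, ha⟩ := dcomp_X_eq_sum hA hlin (χ' j₀) i₀
  set f₀ := dcomp (MvPolynomial ι k) hA (χ' j₀) (MvPolynomial.X i₀) with hf₀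
  have hf₀mem := dcomp_mem_eigenspace hA (χ' j₀) (MvPolynomial.X i₀ : MvPolynomial ι k)
  -- evaluate the components of `f₀`
  have h1 : ∀ j, GLin.vecPt k ι v (dcomp (MvPolynomial ι k) hA (χ' j) f₀) = ∑ l, a l * cf hA χ' v j l := by
    intro j
    rw [ha, map_sum, map_sum]
    apply Finset.sum_congr rfl
    intro l _
    rw [map_smul, map_smul, smul_eq_mul]
    rfl
  have h2 : ∀ j, dcomp (MvPolynomial ι k) hA (χ' j) f₀ = if j₀ = j then f₀ else 0 := by
    intro j
    rw [dcomp_of_mem_eigenspace hA (χ' j) (χ' j₀) f₀ hf₀mem]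
    by_cases h : j₀ = j
    · subst h; simp
    · rw [if_neg h, if_neg (fun h' => h (hinj h'))]
  have h3 : ∑ l, a l * (∑ j, if e j = e j₀ then cf hA χ' v j l else 0) = cf hA χ' v j₀ i₀ := by
    calc ∑ l, a l * (∑ j, if e j = e j₀ then cf hA χ' v j l else 0)
        = ∑ j, if e j = e j₀ then ∑ l, a l * cf hA χ' v j l else 0 := by
          simp only [Finset.mul_sum, mul_ite, mul_zero]
          rw [Finset.sum_comm]
          apply Finset.sum_congr rfl
          intro j _
          split_ifs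
          · rfl
          · simp
      _ = ∑ j, if e j = e j₀ then GLin.vecPt k ι v (if j₀ = j then f₀ else 0) else 0 := by
          apply Finset.sum_congr rfl
          intro j _
          rw [← h1, h2]
      _ = cf hA χ' v j₀ i₀ := by
          rw [Finset.sum_eq_single j₀]
          · rw [if_pos rfl, if_pos rfl]
            rfl
          · intro j _ hj
            rw [if_neg (Ne.symm hj), map_zero]
            simp
          · intro h
            exact absurd (Finset.mem_univ j₀) h
  apply h0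
  rw [← h3]
  apply Finset.sum_eq_zero
  intro l _
  rw [hcon l, mul_zero]

open Classical in
/-- the index set attached to a vector -/
noncomputable def idx (hA : HopfRep.IsDiagonalizable k A) (χ' : κ → {a : A | IsGroupLikeElem k a})
    (v : ι → k) : Finset κ := Finset.univ.filter (fun j => ∃ i, cf hA χ' v j i ≠ 0)

theorem isMu_iff_idx (hA : HopfRep.IsDiagonalizable k A) (hlin : GLin.IsLinear k A ι)
    (χ' : κ → {a : A | IsGroupLikeElem k a}) (hinj : Function.Injective χ')
    (hcov : ∀ i : ι, ∀ g, g ∉ Set.range χ' → dcomp (MvPolynomial ι k) hA g (MvPolynomial.X i) = 0)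
    (v : ι → k) (lam : A →ₐc[k] k[T;T⁻¹]) (e : κ → ℤ) (he : ∀ j, lam (χ' j : A) = T (e j)) (m : ℤ) :
    GLin.IsMu k A lam v m ↔ ((∀ j ∈ idx hA χ' v, -e j ≤ m) ∧ ∃ j ∈ idx hA χ' v, m = -e j) := by
  classical
  rw [GmStable.isMu_iff]
  have hco := coeff_orbCoord hA χ' hinj hcov v lam e he
  have hmem : ∀ j, j ∈ idx hA χ' v ↔ ∃ i, cf hA χ' v j i ≠ 0 := by
    intro j
    simp [idx]
  -- the support of each coordinate consists of exponents of indices in `idx`
  have hsupp : ∀ i n, (GmStable.orbCoord lam v i).coeff n ≠ 0 → ∃ j ∈ idx hA χ' v, e j = n := by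
    intro i n hn
    rw [hco] at hn
    obtain ⟨j, -, hj⟩ := Finset.exists_ne_zero_of_sum_ne_zero hn
    by_cases hej : e j = n
    · rw [if_pos hej] at hj
      exact ⟨j, (hmem j).mpr ⟨i, hj⟩, hej⟩
    · rw [if_neg hej] at hj
      exact absurd rfl hj
  have hnc : ∀ j ∈ idx hA χ' v, ∃ i, (GmStable.orbCoord lam v i).coeff (e j) ≠ 0 := by
    intro j hj
    obtain ⟨i₀, hi₀⟩ := (hmem j).mp hj
    obtain ⟨i, hi⟩ := exists_sum_ne_zero hA hlin χ' hinj v e j i₀ hi₀
    exact ⟨i, by rw [hco]; exact hi⟩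
  constructor
  · rintro ⟨h1, i, hi⟩
    constructor
    · intro j hj
      obtain ⟨i', hi'⟩ := hnc j hj
      have := h1 i' (e j) (Finsupp.mem_support_iff.mpr hi')
      omega
    · obtain ⟨j, hj, hej⟩ := hsupp i (-m) hi
      exact ⟨j, hj, by omega⟩
  · rintro ⟨h1, j, hj, hm⟩
    constructor
    · intro i n hn
      obtain ⟨j', hj', hej'⟩ := hsupp i n (Finsupp.mem_support_iff.mp hn)
      have := h1 j' hj'
      omega
    · obtain ⟨i, hi⟩ := hnc j hj
      refine ⟨i, ?_⟩
      rw [hm, neg_neg]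
      exact hi

theorem idx_nonempty (hA : HopfRep.IsDiagonalizable k A)
    (χ' : κ → {a : A | IsGroupLikeElem k a}) (hinj : Function.Injective χ')
    (hcov : ∀ i : ι, ∀ g, g ∉ Set.range χ' → dcomp (MvPolynomial ι k) hA g (MvPolynomial.X i) = 0)
    (v : ι → k) (hv : v ≠ 0) : (idx hA χ' v).Nonempty := by
  classical
  obtain ⟨i, hi⟩ : ∃ i, v i ≠ 0 := by
    by_contra hcon
    push Not at hcon
    exact hv (funext hcon)
  -- `X i` is the sum of its components
  have h1 := coact_X_eq hA χ' hinj hcov i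
  have h3 := LinearMap.congr_fun (HopfRep.Comod.counit_comp (k := k) (A := A) (V := MvPolynomial ι k))
    (MvPolynomial.X i)
  simp only [LinearMap.comp_apply] at h3
  rw [h1, map_sum] at h3
  simp only [LinearMap.lTensor_tmul] at h3
  have h4 := congrArg (TensorProduct.rid k (MvPolynomial ι k)) h3
  rw [map_sum] at h4
  simp only [LinearMap.flip_apply, TensorProduct.mk_apply, TensorProduct.rid_tmul, one_smul] at h4
  have h5 : ∀ j : κ, Coalgebra.counit (R := k) ((χ' j : A)) = 1 := fun j => (χ' j).2.counit_eq_one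
  simp only [h5, one_smul] at h4
  have h6 := congrArg (GLin.vecPt k ι v) h4
  rw [map_sum] at h6
  have h7 : GLin.vecPt k ι v (MvPolynomial.X i) = v i := by simp [GLin.vecPt]
  rw [h7] at h6
  have : ∃ j, cf hA χ' v j i ≠ 0 := by
    by_contra hcon
    push Not at hcon
    apply hi
    rw [← h6]
    apply Finset.sum_eq_zero
    intro j _
    exact hcon j
  obtain ⟨j, hj⟩ := this
  exact ⟨j, by simp only [idx, Finset.mem_filter, Finset.mem_univ, true_and]; exact ⟨i, hj⟩⟩

end

end DiagMu

end Groth.Agent.Lib.helper22
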