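import Mathlib

set_option autoImplicit false
universe u

open nonZeroDivisors

namespace Groth.Agent.Lib.helper22.DiffLoc

section DualLoc

variable {A K B L : Type*} [CommRing A] [Field K] [CommRing B] [Field L]
  [Algebra A K] [Algebra B L] [Algebra A B] [Algebra K L] [Algebra A L]
  [IsScalarTower A K L] [IsScalarTower A B L]
  (S : Submonoid A)
  (Aₛ Bₛ : Type*) [CommRing Aₛ] [CommRing Bₛ] [Algebra A Aₛ] [Algebra B Bₛ] [Algebra Aₛ Bₛ]
  [Algebra Aₛ K] [Algebra Bₛ L] [Algebra Aₛ L]
  [IsScalarTower Aₛ K L] [IsScalarTower Aₛ Bₛ L] [IsScalarTower A Aₛ K] [IsScalarTower B Bₛ L]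
  [IsLocalization S Aₛ] [IsLocalization (Algebra.algebraMapSubmonoid B S) Bₛ]

include S in

/-- the trace dual of `B` extends into the trace dual of `B_S` -/
theorem traceDual_le :
    Submodule.span Bₛ ((Submodule.traceDual A K (1 : Submodule B L) : Submodule B L) : Set L) ≤
      Submodule.traceDual Aₛ K (1 : Submodule Bₛ L) := by
  rw [Submodule.span_le]
  intro x hx
  rw [SetLike.mem_coe, Submodule.mem_traceDual] at hx ⊢
  intro y hy
  obtain ⟨β, rfl⟩ := Submodule.mem_one.mp hy
  obtain ⟨⟨b, ⟨_, s, hs, rfl⟩⟩, hβ⟩ := IsLocalization.surj (Algebra.algebraMapSubmonoid B S) β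
  -- β * s = b
  simp only at hβ
  obtain ⟨a, ha⟩ := hx (algebraMap B L b) (Submodule.mem_one.mpr ⟨b, rfl⟩)
  have hsne : IsUnit (algebraMap A Aₛ s) := IsLocalization.map_units Aₛ ⟨s, hs⟩
  obtain ⟨u, hu⟩ := hsne
  refine ⟨(↑u⁻¹ : Aₛ) * algebraMap A Aₛ a, ?_⟩
  -- compute the trace
  have h1 : algebraMap Bₛ L β * algebraMap A L s = algebraMap B L b := by
    have := congrArg (algebraMap Bₛ L) hβ
    rw [map_mul, ← IsScalarTower.algebraMap_apply B Bₛ L, ← IsScalarTower.algebraMap_apply B Bₛ L,
      ← IsScalarTower.algebraMap_apply A B L] at this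
    exact this
  have h2 : algebraMap K L (algebraMap A K s) = algebraMap A L s :=
    (IsScalarTower.algebraMap_apply A K L s).symm
  have h3 : algebraMap A K s • (x * algebraMap Bₛ L β) = x * algebraMap B L b := by
    rw [Algebra.smul_def, h2, ← h1]
    ring
  have h4 : algebraMap A K s * Algebra.traceForm K L x (algebraMap Bₛ L β) =
      algebraMap A K a := by
    rw [Algebra.traceForm_apply, ← smul_eq_mul, ← map_smul, h3, ← Algebra.traceForm_apply, ha]
  have h5 : algebraMap Aₛ K (algebraMap A Aₛ s) = algebraMap A K s :=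
    (IsScalarTower.algebraMap_apply A Aₛ K s).symm
  have h6 : algebraMap Aₛ K (↑u⁻¹ : Aₛ) * algebraMap A K s = 1 := by
    rw [← h5, ← hu, ← map_mul, Units.inv_mul, map_one]
  rw [map_mul, ← IsScalarTower.algebraMap_apply A Aₛ K, ← h4, ← mul_assoc, h6, one_mul]


omit [Algebra A B] [IsScalarTower A B L] in
theorem traceForm_algebraMap_mul_left (s : A) (x y : L) :
    Algebra.traceForm K L (algebraMap A L s * x) y =
      algebraMap A K s * Algebra.traceForm K L x y := by
  rw [Algebra.traceForm_apply, Algebra.traceForm_apply, IsScalarTower.algebraMap_apply A K L,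
    mul_assoc, ← Algebra.smul_def, map_smul, smul_eq_mul]

theorem traceForm_algebraMap_smul_right (r : A) (x : L) (c : B) :
    Algebra.traceForm K L x (algebraMap B L (r • c)) =
      algebraMap A K r * Algebra.traceForm K L x (algebraMap B L c) := by
  rw [Algebra.smul_def, map_mul, ← IsScalarTower.algebraMap_apply A B L,
    Algebra.traceForm_apply, Algebra.traceForm_apply, IsScalarTower.algebraMap_apply A K L,
    mul_left_comm, ← Algebra.smul_def, map_smul, smul_eq_mul]

include S in
/-- the trace dual of `B_S` is generated by the trace dual of `B` -/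
theorem le_span_traceDual [Module.Finite A B] :
    Submodule.traceDual Aₛ K (1 : Submodule Bₛ L) ≤
    Submodule.span Bₛ ((Submodule.traceDual A K (1 : Submodule B L) : Submodule B L) : Set L) := by
  classical
  intro x hx
  rw [Submodule.mem_traceDual] at hx
  obtain ⟨t, ht⟩ := (Module.Finite.fg_top : (⊤ : Submodule A B).FG)
  -- a common denominator for the traces of `x * b`, `b ∈ t`
  have hden : ∀ b : B, ∃ s : S, ∃ a : A,
      algebraMap A K s * Algebra.traceForm K L x (algebraMap B L b) = algebraMap A K a := by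
    intro b
    obtain ⟨α, hα⟩ := hx (algebraMap B L b) (Submodule.mem_one.mpr
      ⟨algebraMap B Bₛ b, (IsScalarTower.algebraMap_apply B Bₛ L b).symm⟩)
    obtain ⟨⟨a, s⟩, has⟩ := IsLocalization.surj S α
    simp only at has
    refine ⟨s, a, ?_⟩
    rw [← hα, IsScalarTower.algebraMap_apply A Aₛ K a, ← has, map_mul,
      ← IsScalarTower.algebraMap_apply A Aₛ K, mul_comm]
  choose sden aden hsa using hden
  let s₀ : S := ∏ b ∈ t, sden b
  have hs₀ : ∀ b ∈ t, ∃ a : A,
      algebraMap A K s₀ * Algebra.traceForm K L x (algebraMap B L b) = algebraMap A K a := by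
    intro b hb
    refine ⟨(∏ c ∈ t.erase b, (sden c : A)) * aden b, ?_⟩
    have h1 : (s₀ : A) = (∏ c ∈ t.erase b, (sden c : A)) * sden b := by
      simp only [s₀, Submonoid.coe_finsetProd]
      rw [Finset.prod_erase_mul _ _ hb]
    rw [h1, map_mul, map_mul, mul_assoc, hsa]
  -- hence `s₀ • x` lies in the trace dual of `B`
  have hmem : algebraMap A L s₀ * x ∈ Submodule.traceDual A K (1 : Submodule B L) := by
    rw [Submodule.mem_traceDual]
    intro y hy
    obtain ⟨b, rfl⟩ := Submodule.mem_one.mp hy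
    have hb : b ∈ Submodule.span A (t : Set B) := by rw [ht]; exact Submodule.mem_top
    induction hb using Submodule.span_induction with
    | mem c hc =>
      obtain ⟨a, ha⟩ := hs₀ c hc
      refine ⟨a, ?_⟩
      rw [← ha, traceForm_algebraMap_mul_left]
    | zero => exact ⟨0, by simp⟩
    | add c c' _ _ hc hc' =>
      obtain ⟨a, ha⟩ := hc (Submodule.mem_one.mpr ⟨c, rfl⟩)
      obtain ⟨a', ha'⟩ := hc' (Submodule.mem_one.mpr ⟨c', rfl⟩)
      refine ⟨a + a', ?_⟩
      rw [map_add, map_add, map_add, ha, ha']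
    | smul r c _ hc =>
      obtain ⟨a, ha⟩ := hc (Submodule.mem_one.mpr ⟨c, rfl⟩)
      refine ⟨r * a, ?_⟩
      rw [traceForm_algebraMap_smul_right, map_mul, ha]
  -- and `x = s₀⁻¹ • (s₀ • x)`
  have hsunit : IsUnit (algebraMap A Aₛ s₀) := IsLocalization.map_units Aₛ s₀
  obtain ⟨u, hu⟩ := hsunit
  have hx' : x = (algebraMap Aₛ Bₛ (↑u⁻¹ : Aₛ)) • (algebraMap A L s₀ * x) := by
    rw [Algebra.smul_def, ← IsScalarTower.algebraMap_apply Aₛ Bₛ L, ← mul_assoc]
    have : algebraMap Aₛ L (↑u⁻¹ : Aₛ) * algebraMap A L s₀ = 1 := by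
      rw [IsScalarTower.algebraMap_apply A K L, IsScalarTower.algebraMap_apply A Aₛ K,
        ← IsScalarTower.algebraMap_apply Aₛ K L, ← hu, ← map_mul, Units.inv_mul, map_one]
    rw [this, one_mul]
  rw [hx']
  exact Submodule.smul_mem _ _ (Submodule.subset_span hmem)

end DualLoc


section Main

attribute [local instance] FractionRing.liftAlgebra FractionRing.isScalarTower_liftAlgebra

variable (A B : Type u) [CommRing A] [CommRing B]
    [IsDedekindDomain A] [IsDedekindDomain B] [Algebra A B] [Module.Finite A B] [Module.IsTorsionFree A B]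
    [Algebra.IsSeparable (FractionRing A) (FractionRing B)]
    (S : Submonoid A) (hS : S ≤ nonZeroDivisors A)
    (Aₛ Bₛ : Type u) [CommRing Aₛ] [CommRing Bₛ] [Algebra A Aₛ] [Algebra B Bₛ] [Algebra Aₛ Bₛ]
    [Algebra A Bₛ] [IsScalarTower A Aₛ Bₛ] [IsScalarTower A B Bₛ]
    [IsLocalization S Aₛ] [IsLocalization (Algebra.algebraMapSubmonoid B S) Bₛ]
    [IsDomain Aₛ] [IsIntegrallyClosed Aₛ] [IsDedekindDomain Bₛ] [Module.IsTorsionFree Aₛ Bₛ]

include hS in
theorem main :
    Ideal.map (algebraMap B Bₛ) (differentIdeal A B) = differentIdeal Aₛ Bₛ := by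
  let K := FractionRing A
  let L := FractionRing B
  have hSunit : ∀ s : S, IsUnit (algebraMap A K s) := fun s =>
    IsUnit.mk0 _ ((map_ne_zero_iff _ (IsFractionRing.injective A K)).mpr
      (nonZeroDivisors.ne_zero (hS s.2)))
  let algAK : Algebra Aₛ K := (IsLocalization.lift (M := S) (g := algebraMap A K) hSunit).toAlgebra
  have : IsScalarTower A Aₛ K := IsScalarTower.of_algebraMap_eq
    (fun a => (IsLocalization.lift_eq hSunit a).symm)
  have : IsFractionRing Aₛ K := IsFractionRing.isFractionRing_of_isDomain_of_isLocalization S Aₛ K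
  have hinj : Function.Injective (algebraMap A B) := FaithfulSMul.algebraMap_injective A B
  have hTunit : ∀ t : Algebra.algebraMapSubmonoid B S, IsUnit (algebraMap B L t) := by
    rintro ⟨_, s, hs, rfl⟩
    refine IsUnit.mk0 _ ((map_ne_zero_iff _ (IsFractionRing.injective B L)).mpr ?_)
    exact (map_ne_zero_iff _ hinj).mpr (nonZeroDivisors.ne_zero (hS hs))
  let algBL : Algebra Bₛ L :=
    (IsLocalization.lift (M := Algebra.algebraMapSubmonoid B S) (g := algebraMap B L) hTunit).toAlgebra
  have : IsScalarTower B Bₛ L := IsScalarTower.of_algebraMap_eq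
    (fun a => (IsLocalization.lift_eq hTunit a).symm)
  have : IsFractionRing Bₛ L :=
    IsFractionRing.isFractionRing_of_isDomain_of_isLocalization (Algebra.algebraMapSubmonoid B S) Bₛ L
  let algAL : Algebra Aₛ L := ((algebraMap K L).comp (algebraMap Aₛ K)).toAlgebra
  have : IsScalarTower Aₛ K L := IsScalarTower.of_algebraMap_eq (fun _ => rfl)
  have : IsScalarTower Aₛ Bₛ L := by
    apply IsScalarTower.of_algebraMap_eq'
    apply IsLocalization.ringHom_ext S
    ext a
    simp only [RingHom.comp_apply]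
    change algebraMap K L (algebraMap Aₛ K (algebraMap A Aₛ a)) = _
    rw [← IsScalarTower.algebraMap_apply A Aₛ K, ← IsScalarTower.algebraMap_apply A K L,
      ← IsScalarTower.algebraMap_apply A Aₛ Bₛ, IsScalarTower.algebraMap_apply A B Bₛ,
      ← IsScalarTower.algebraMap_apply B Bₛ L, ← IsScalarTower.algebraMap_apply A B L]
  have : Algebra.IsIntegral A B := Algebra.IsIntegral.of_finite A B
  have : IsIntegralClosure B A L := IsIntegralClosure.of_isIntegrallyClosed B A L
  have : Module.Finite Aₛ Bₛ := Module.Finite.of_isLocalization A B S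
  have : Algebra.IsIntegral Aₛ Bₛ := Algebra.IsIntegral.of_finite Aₛ Bₛ
  have : IsIntegralClosure Bₛ Aₛ L := IsIntegralClosure.of_isIntegrallyClosed Bₛ Aₛ L
  have : FiniteDimensional K L := Module.Finite.of_isLocalization A B A⁰
  have hinjB : Function.Injective (algebraMap B Bₛ) := by
    have h1 : Function.Injective (algebraMap B L) := IsFractionRing.injective B L
    rw [IsScalarTower.algebraMap_eq B Bₛ L, RingHom.coe_comp] at h1
    exact Function.Injective.of_comp h1
  have : Module.IsTorsionFree B Bₛ := Module.isTorsionFree_iff_algebraMap_injective.mpr hinjB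
  have h1 := coeIdeal_differentIdeal A K L B
  have h2 := coeIdeal_differentIdeal Aₛ K L Bₛ
  apply FractionalIdeal.coeIdeal_injective (K := L)
  simp only
  rw [h2, ← FractionalIdeal.extendedHom_coeIdeal_eq_map L Bₛ (K := L), h1, map_inv₀]
  congr 1
  apply FractionalIdeal.coeToSubmodule_injective
  rw [FractionalIdeal.extendedHom'_apply]
  beta_reduce
  rw [FractionalIdeal.coe_extended_eq_span, FractionalIdeal.coe_dual_one]
  have hid : IsLocalization.map (S := L) L (algebraMap B Bₛ)
      (nonZeroDivisors_le_comap_nonZeroDivisors_of_injective _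
        (FaithfulSMul.algebraMap_injective B Bₛ)) = RingHom.id L := by
    apply IsLocalization.ringHom_ext B⁰
    ext b
    simp only [RingHom.comp_apply, IsLocalization.map_eq, RingHom.id_apply]
    exact (IsScalarTower.algebraMap_apply B Bₛ L b).symm
  have hset : ((FractionalIdeal.dual A K (1 : FractionalIdeal B⁰ L) : FractionalIdeal B⁰ L) : Set L) =
      ((Submodule.traceDual A K (1 : Submodule B L) : Submodule B L) : Set L) := by
    ext x
    rw [SetLike.mem_coe, SetLike.mem_coe, ← FractionalIdeal.mem_coe, FractionalIdeal.coe_dual_one]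
  rw [hid, hset, RingHom.coe_id, Set.image_id]
  exact le_antisymm (traceDual_le S Aₛ Bₛ) (le_span_traceDual S Aₛ Bₛ)

end Main

end Groth.Agent.Lib.helper22.DiffLoc
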