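import Groth.Agent.Lib.Helper22.Dual

/-!
The contragredient comodule of a finite projective comodule over a commutative Hopf algebra
over a commutative ring (helper22).
-/

set_option autoImplicit false
universe u v w w'
open scoped TensorProduct

namespace Groth.Agent.Lib.helper22.R

open Groth.Agent.Lib.helper22 (comul_antipode)

section Dual

variable {k : Type u} [CommRing k] {A : Type v} [CommRing A] [HopfAlgebra k A]
variable {V : Type w} [AddCommGroup V] [Module k V] [Module.Finite k V] [Module.Projective k V]

/-- the coaction of the contragredient comodule -/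
noncomputable def dualCoact (c : HopfRep.Comod k A V) :
    Module.Dual k V →ₗ[k] Module.Dual k V ⊗[k] A :=
  (LinearEquiv.ofBijective (dualTensorHom k V A) dualTensorHom_bijective).symm.toLinearMap ∘ₗ
    { toFun := fun f => ComodTens.dualCoactFun c f
      map_add' := ComodTens.dualCoactFun_add c
      map_smul' := fun r f => ComodTens.dualCoactFun_smul c r f }

theorem dualTensorHom_dualCoact (c : HopfRep.Comod k A V) (f : Module.Dual k V) :
    dualTensorHom k V A (dualCoact c f) = ComodTens.dualCoactFun c f :=
  (LinearEquiv.ofBijective (dualTensorHom k V A) dualTensorHom_bijective).apply_symm_apply _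

/-- auxiliary map `v ⊗ t ↦ f v • (S ⊗ S)(t swapped)` -/
noncomputable def dualAux (f : Module.Dual k V) : V ⊗[k] (A ⊗[k] A) →ₗ[k] A ⊗[k] A :=
  (TensorProduct.lid k (A ⊗[k] A)).toLinearMap ∘ₗ TensorProduct.map f
    (TensorProduct.map (HopfAlgebraStruct.antipode (R := k) (A := A))
      (HopfAlgebraStruct.antipode (R := k) (A := A)) ∘ₗ (TensorProduct.comm k A A).toLinearMap)

omit [Module.Finite k V] [Module.Projective k V] in
theorem dualAux_R (f : Module.Dual k V) (y : V ⊗[k] A) :
    CoalgebraStruct.comul (R := k) (TensorProduct.lid k A
      (TensorProduct.map f (HopfAlgebraStruct.antipode (R := k) (A := A)) y)) =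
      dualAux f ((CoalgebraStruct.comul (R := k) (A := A)).lTensor V y) := by
  induction y using TensorProduct.induction_on with
  | zero => simp
  | tmul w a =>
    simp only [TensorProduct.map_tmul, TensorProduct.lid_tmul, map_smul, LinearMap.lTensor_tmul,
      dualAux, LinearMap.comp_apply, LinearEquiv.coe_coe]
    rw [comul_antipode]
  | add y z hy hz => simp only [map_add, hy, hz]

omit [Module.Finite k V] [Module.Projective k V] in
theorem dualAux_L (c : HopfRep.Comod k A V) (f : Module.Dual k V) (y : V ⊗[k] A) :
    TensorProduct.map (HopfAlgebraStruct.antipode (R := k) (A := A)) LinearMap.id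
      (TensorProduct.comm k A A ((ComodTens.dualCoactFun c f).rTensor A y)) =
      dualAux f (TensorProduct.assoc k V A A (c.coact.rTensor A y)) := by
  induction y using TensorProduct.induction_on with
  | zero => simp
  | tmul w a =>
    simp only [LinearMap.rTensor_tmul, TensorProduct.comm_tmul, TensorProduct.map_tmul,
      LinearMap.id_apply, ComodTens.dualCoactFun_apply]
    generalize c.coact w = t
    induction t using TensorProduct.induction_on with
    | zero => simp
    | tmul w' a' =>
      simp [dualAux, TensorProduct.tmul_smul]
    | add t₁ t₂ h₁ h₂ => simp only [map_add, TensorProduct.add_tmul, TensorProduct.tmul_add, h₁, h₂]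
  | add y z hy hz => simp only [map_add, hy, hz]

omit [Module.Finite k V] [Module.Projective k V] in
theorem dualTensorHom_assoc_tmul (z : Module.Dual k V ⊗[k] A) (a : A) (v : V) :
    dualTensorHom k V (A ⊗[k] A) (TensorProduct.assoc k (Module.Dual k V) A A (z ⊗ₜ[k] a)) v =
      (dualTensorHom k V A z v) ⊗ₜ[k] a := by
  induction z using TensorProduct.induction_on with
  | zero => simp
  | tmul ψ b => simp [TensorProduct.smul_tmul']
  | add z₁ z₂ h₁ h₂ => simp only [TensorProduct.add_tmul, map_add, LinearMap.add_apply, h₁, h₂]

theorem dualAux_T (c : HopfRep.Comod k A V) (x : Module.Dual k V ⊗[k] A) (v : V) :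
    dualTensorHom k V (A ⊗[k] A)
      (TensorProduct.assoc k (Module.Dual k V) A A ((dualCoact c).rTensor A x)) v =
    TensorProduct.map (HopfAlgebraStruct.antipode (R := k) (A := A)) LinearMap.id
      (TensorProduct.comm k A A ((dualTensorHom k V A x).rTensor A (c.coact v))) := by
  induction x using TensorProduct.induction_on with
  | zero => simp
  | tmul φ a =>
    rw [LinearMap.rTensor_tmul, dualTensorHom_assoc_tmul, dualTensorHom_dualCoact,
      ComodTens.dualCoactFun_apply]
    generalize c.coact v = t
    induction t using TensorProduct.induction_on with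
    | zero => simp
    | tmul w' a' => simp [TensorProduct.smul_tmul', TensorProduct.tmul_smul]
    | add t₁ t₂ h₁ h₂ => simp only [map_add, TensorProduct.add_tmul, h₁, h₂]
  | add x y hx hy => simp only [map_add, LinearMap.add_apply, LinearMap.rTensor_add, hx, hy]

/-- the contragredient comodule -/
@[reducible] noncomputable def dualComod (c : HopfRep.Comod k A V) : HopfRep.Comod k A (Module.Dual k V) where
  coact := dualCoact c
  coassoc := by
    apply LinearMap.ext
    intro f
    apply (dualTensorHom_bijective (R := k) (M := V) (N := A ⊗[k] A)).1
    apply LinearMap.ext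
    intro v
    simp only [LinearMap.comp_apply, LinearEquiv.coe_coe]
    rw [dualAux_T, dualTensorHom_dualCoact, dualAux_L]
    have h1 := LinearMap.congr_fun (dualTensorHom_comp_lTensor (R := k) (M := V)
      (CoalgebraStruct.comul (R := k) (A := A))) (dualCoact c f)
    simp only [LinearMap.comp_apply] at h1
    rw [h1, dualTensorHom_dualCoact]
    change _ = CoalgebraStruct.comul (R := k) (ComodTens.dualCoactFun c f v)
    rw [ComodTens.dualCoactFun_apply, dualAux_R]
    congr 1
    have h2 := LinearMap.congr_fun c.coassoc v
    simp only [LinearMap.comp_apply, LinearEquiv.coe_coe] at h2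
    exact h2
  counit_comp := by
    apply LinearMap.ext
    intro f
    apply (dualTensorHom_bijective (R := k) (M := V) (N := k)).1
    apply LinearMap.ext
    intro v
    simp only [LinearMap.comp_apply]
    have h1 := LinearMap.congr_fun (dualTensorHom_comp_lTensor (R := k) (M := V)
      (CoalgebraStruct.counit (R := k) (A := A))) (dualCoact c f)
    simp only [LinearMap.comp_apply] at h1
    rw [h1, dualTensorHom_dualCoact]
    change CoalgebraStruct.counit (R := k) (ComodTens.dualCoactFun c f v) = _
    rw [ComodTens.dualCoactFun_apply]
    have key : ∀ y : V ⊗[k] A, CoalgebraStruct.counit (R := k) (TensorProduct.lid k A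
        (TensorProduct.map f (HopfAlgebraStruct.antipode (R := k) (A := A)) y)) =
        f (TensorProduct.rid k V ((CoalgebraStruct.counit (R := k) (A := A)).lTensor V y)) := by
      intro y
      induction y using TensorProduct.induction_on with
      | zero => simp
      | tmul w a => simp [mul_comm]
      | add y z hy hz => simp only [map_add, hy, hz]
    rw [key]
    have h2 := LinearMap.congr_fun c.counit_comp v
    simp only [LinearMap.comp_apply] at h2
    rw [h2]
    simp

theorem isDual_dualComod (c : HopfRep.Comod k A V) : ComodTens.Comod.IsDual c (dualComod c) :=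
  fun f => dualTensorHom_dualCoact c f

end Dual

end Groth.Agent.Lib.helper22.R
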