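import Mathlib

/-!
# Unramified extensions of a discrete valuation ring inside a field, I (helper22)

Fix a ring `OK`, a field `Ω` which is an `OK`-algebra, a field `k'` which is an `OK`-algebra and an
element `π : OK`.  A *stage* is a subalgebra `O ⊆ Ω` together with an `OK`-algebra map `ρ : O → k'`
such that every element not killed by `ρ` is a unit, and every nonzero element is `y * π ^ n` with
`ρ y ≠ 0`.  (So `O` is a discrete valuation ring with uniformizer `π` and residue field `ρ(O)`.)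

* `Stage.isLocalRing`, `Stage.isDVR`, `Stage.ρ_eq_zero_iff` (`ker ρ = (π)`),
  `Stage.maximalIdeal_eq`, `Stage.isLocalHom`.
* the preorder on stages (`S ≤ T` iff `S.O ≤ T.O` and `T.ρ` extends `S.ρ`),
  `Stage.exists_upper_bound` (chains have upper bounds), `Stage.base` (the stage `O = OK`),
  `Stage.exists_isMax` (Zorn).
* `Stage.hfac_of`: the factorization axiom from `ker ρ ⊆ (π)` and `⋂ (π ^ n) = 0`.
-/

set_option autoImplicit false
universe u v w

namespace Groth.Agent.Lib.helper22.DvrExt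

open Polynomial IsLocalRing

/-- A stage: a subalgebra of `Ω` with a map to `k'` making it a discrete valuation ring with
uniformizer `π` and residue field the image of the map. -/
structure Stage {OK : Type u} [CommRing OK] (Ω : Type v) [Field Ω] [Algebra OK Ω]
    (k' : Type w) [Field k'] [Algebra OK k'] (π : OK) where
  /-- the subalgebra -/
  O : Subalgebra OK Ω
  /-- the reduction map -/
  ρ : O →ₐ[OK] k'
  hunit : ∀ x : O, ρ x ≠ 0 → IsUnit x
  hfac : ∀ x : O, x ≠ 0 → ∃ (n : ℕ) (y : O), ρ y ≠ 0 ∧ x = y * (algebraMap OK O π) ^ n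

variable {OK : Type u} [CommRing OK] {Ω : Type v} [Field Ω] [Algebra OK Ω]
  {k' : Type w} [Field k'] [Algebra OK k'] {π : OK}

namespace Stage

variable (S : Stage Ω k' π)

/-- the uniformizer, in `S.O` -/
abbrev unif : S.O := algebraMap OK S.O π

theorem ρ_unif (hπk : algebraMap OK k' π = 0) : S.ρ S.unif = 0 := by
  rw [unif, AlgHom.commutes]; exact hπk

theorem not_isUnit_of_ρ_eq_zero {x : S.O} (hx : S.ρ x = 0) : ¬ IsUnit x := fun h => by
  have := h.map S.ρ
  rw [hx] at this
  exact not_isUnit_zero this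

theorem isUnit_iff (x : S.O) : IsUnit x ↔ S.ρ x ≠ 0 :=
  ⟨fun h hx => S.not_isUnit_of_ρ_eq_zero hx h, S.hunit x⟩

theorem isLocalRing : IsLocalRing S.O :=
  IsLocalRing.of_nonunits_add (by
    intro a b ha hb
    have ha' : S.ρ a = 0 := by
      by_contra h; exact ha (S.hunit a h)
    have hb' : S.ρ b = 0 := by
      by_contra h; exact hb (S.hunit b h)
    exact S.not_isUnit_of_ρ_eq_zero (by rw [map_add, ha', hb', add_zero]))

theorem ρ_eq_zero_iff (hπk : algebraMap OK k' π = 0) (x : S.O) : S.ρ x = 0 ↔ S.unif ∣ x := by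
  constructor
  · intro hx
    by_cases h0 : x = 0
    · subst h0; exact dvd_zero _
    obtain ⟨n, y, hy, rfl⟩ := S.hfac x h0
    rcases n with _ | n
    · simp only [pow_zero, mul_one] at hx; exact absurd hx hy
    · exact Dvd.intro_left (y * S.unif ^ n) (by rw [pow_succ]; ring)
  · rintro ⟨y, rfl⟩
    rw [map_mul, S.ρ_unif hπk, zero_mul]

theorem unif_ne_zero (hπΩ : algebraMap OK Ω π ≠ 0) : S.unif ≠ 0 := by
  intro h
  apply hπΩ
  have := congrArg (Subtype.val) h
  simpa using this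

theorem irreducible_unif (hπk : algebraMap OK k' π = 0) (hπΩ : algebraMap OK Ω π ≠ 0) :
    Irreducible S.unif := by
  refine ⟨S.not_isUnit_of_ρ_eq_zero (S.ρ_unif hπk), ?_⟩
  intro a b hab
  have h0 : S.ρ a * S.ρ b = 0 := by rw [← map_mul, ← hab, S.ρ_unif hπk]
  have hne := S.unif_ne_zero hπΩ
  rcases mul_eq_zero.mp h0 with h | h
  · right
    obtain ⟨c, rfl⟩ := (S.ρ_eq_zero_iff hπk a).mp h
    have : S.unif * 1 = S.unif * (c * b) := by rw [mul_one, ← mul_assoc]; exact hab
    have h1 := mul_left_cancel₀ hne this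
    exact IsUnit.of_mul_eq_one c (by rw [mul_comm]; exact h1.symm)
  · left
    obtain ⟨c, rfl⟩ := (S.ρ_eq_zero_iff hπk b).mp h
    have : S.unif * 1 = S.unif * (a * c) := by
      rw [mul_one]
      calc S.unif = a * (S.unif * c) := hab
        _ = S.unif * (a * c) := by ring
    have h1 := mul_left_cancel₀ hne this
    exact IsUnit.of_mul_eq_one c h1.symm

theorem isDVR (hπk : algebraMap OK k' π = 0) (hπΩ : algebraMap OK Ω π ≠ 0) :
    IsDiscreteValuationRing S.O := by
  refine IsDiscreteValuationRing.ofHasUnitMulPowIrreducibleFactorization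
    ⟨S.unif, S.irreducible_unif hπk hπΩ, fun {x} hx => ?_⟩
  obtain ⟨n, y, hy, rfl⟩ := S.hfac x hx
  exact ⟨n, (S.hunit y hy).unit, by rw [IsUnit.unit_spec, mul_comm]⟩

theorem isLocalHom : IsLocalHom (S.ρ : S.O →+* k') :=
  ⟨fun a ha => S.hunit a (by simpa using ha.ne_zero)⟩

theorem maximalIdeal_eq (hπk : algebraMap OK k' π = 0) :
    letI := S.isLocalRing
    IsLocalRing.maximalIdeal S.O = Ideal.span {S.unif} := by
  let _ := S.isLocalRing
  ext x
  rw [IsLocalRing.mem_maximalIdeal, mem_nonunits_iff, S.isUnit_iff, not_not,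
    S.ρ_eq_zero_iff hπk, Ideal.mem_span_singleton]

theorem ker_eq :
    letI := S.isLocalRing
    RingHom.ker (S.ρ : S.O →+* k') = IsLocalRing.maximalIdeal S.O := by
  let _ := S.isLocalRing
  ext x
  rw [RingHom.mem_ker, IsLocalRing.mem_maximalIdeal, mem_nonunits_iff, S.isUnit_iff, not_not]
  rfl

end Stage

/-- The factorization axiom of a stage follows from `ker ρ ⊆ (π)` and `⋂ (πⁿ) = 0`. -/
theorem hfac_of {P : Type*} [CommRing P] [IsDomain P] (ρ : P →+* k') (ϖ : P)
    (hker : ∀ x : P, ρ x = 0 → ϖ ∣ x) (hsep : ∀ x : P, x ≠ 0 → ∃ n : ℕ, ¬ ϖ ^ n ∣ x)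
    (x : P) (hx : x ≠ 0) : ∃ (n : ℕ) (y : P), ρ y ≠ 0 ∧ x = y * ϖ ^ n := by
  classical
  have hex := hsep x hx
  set m := Nat.find hex with hm
  have hm1 : ¬ ϖ ^ m ∣ x := Nat.find_spec hex
  have hm0 : m ≠ 0 := by
    intro h0
    rw [h0, pow_zero] at hm1
    exact hm1 (one_dvd x)
  obtain ⟨n, hn⟩ := Nat.exists_eq_succ_of_ne_zero hm0
  have hdvd : ϖ ^ n ∣ x := by
    by_contra hnd
    have := Nat.find_min' hex hnd
    omega
  obtain ⟨y, hy⟩ := hdvd
  refine ⟨n, y, ?_, by rw [hy, mul_comm]⟩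
  intro h0
  obtain ⟨z, rfl⟩ := hker y h0
  apply hm1
  rw [hn, hy, pow_succ]
  exact ⟨z, by ring⟩

namespace Stage

instance : Preorder (Stage Ω k' π) where
  le S T := ∃ h : S.O ≤ T.O, ∀ x : S.O, T.ρ (Subalgebra.inclusion h x) = S.ρ x
  le_refl S := ⟨le_rfl, fun x => by simp⟩
  le_trans S T U := fun ⟨h1, h1'⟩ ⟨h2, h2'⟩ => ⟨h1.trans h2, fun x => by
    rw [← h1' x, ← h2']; rfl⟩

theorem le_def (S T : Stage Ω k' π) :
    S ≤ T ↔ ∃ h : S.O ≤ T.O, ∀ x : S.O, T.ρ (Subalgebra.inclusion h x) = S.ρ x := Iff.rfl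

/-- Every nonempty chain of stages has an upper bound (the union). -/
theorem exists_upper_bound (c : Set (Stage Ω k' π)) (hc : IsChain (· ≤ ·) c) (hne : c.Nonempty) :
    ∃ ub : Stage Ω k' π, ∀ S ∈ c, S ≤ ub := by
  classical
  have : Nonempty c := hne.to_subtype
  let K : c → Subalgebra OK Ω := fun S => S.1.O
  have dir : Directed (· ≤ ·) K := by
    intro i j
    rcases hc.total i.2 j.2 with h | h
    · exact ⟨j, h.1, le_rfl⟩
    · exact ⟨i, le_rfl, h.1⟩
  let f : ∀ i : c, K i →ₐ[OK] k' := fun i => i.1.ρ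
  have hf : ∀ (i j : c) (h : K i ≤ K j), f i = (f j).comp (Subalgebra.inclusion h) := by
    intro i j h
    ext x
    rcases hc.total i.2 j.2 with ⟨h', hh⟩ | ⟨h', hh⟩
    · exact (hh x).symm
    · have := hh (Subalgebra.inclusion h x)
      simp only [AlgHom.coe_comp, Function.comp_apply]
      rw [← this]
      rfl
  let T : Subalgebra OK Ω := iSup K
  let ρT : T →ₐ[OK] k' := Subalgebra.iSupLift K dir f hf T le_rfl
  have hmem : ∀ x : T, ∃ (i : c) (y : K i), x = Subalgebra.inclusion (le_iSup K i) y := by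
    intro x
    have hx : (x : Ω) ∈ ((iSup K : Subalgebra OK Ω) : Set Ω) := x.2
    rw [Subalgebra.coe_iSup_of_directed dir, Set.mem_iUnion] at hx
    obtain ⟨i, hi⟩ := hx
    exact ⟨i, ⟨x, hi⟩, Subtype.ext rfl⟩
  have hρT : ∀ (i : c) (y : K i), ρT (Subalgebra.inclusion (le_iSup K i) y) = i.1.ρ y :=
    fun i y => Subalgebra.iSupLift_inclusion (K := K) y (le_iSup K i)
  refine ⟨⟨T, ρT, ?_, ?_⟩, fun S hS => ⟨le_iSup K ⟨S, hS⟩, fun x => hρT ⟨S, hS⟩ x⟩⟩
  · intro x hx
    obtain ⟨i, y, rfl⟩ := hmem x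
    rw [hρT] at hx
    exact (i.1.hunit y hx).map (Subalgebra.inclusion (le_iSup K i))
  · intro x hx
    obtain ⟨i, y, rfl⟩ := hmem x
    have hy : y ≠ 0 := by
      rintro rfl
      exact hx (map_zero _)
    obtain ⟨n, z, hz, rfl⟩ := i.1.hfac y hy
    refine ⟨n, Subalgebra.inclusion (le_iSup K i) z, by rw [hρT]; exact hz, ?_⟩
    rw [map_mul, map_pow, AlgHom.commutes]

/-- The base stage `O = OK`. -/
noncomputable def base [IsDomain OK] [IsDiscreteValuationRing OK]
    (hinj : Function.Injective (algebraMap OK Ω)) (hπ : Irreducible π)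
    (hloc : ∀ a : OK, algebraMap OK k' a ≠ 0 → IsUnit a) : Stage Ω k' π where
  O := ⊥
  ρ := (Algebra.ofId OK k').comp (Algebra.botEquivOfInjective hinj).toAlgHom
  hunit := by
    intro x hx
    have hx' : algebraMap OK k' (Algebra.botEquivOfInjective hinj x) ≠ 0 := hx
    have h1 := (hloc _ hx').map (algebraMap OK (⊥ : Subalgebra OK Ω))
    have h2 : algebraMap OK (⊥ : Subalgebra OK Ω) (Algebra.botEquivOfInjective hinj x) = x := by
      apply (Algebra.botEquivOfInjective hinj).injective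
      rw [AlgEquiv.commutes]
      rfl
    rwa [h2] at h1
  hfac := by
    intro x hx
    set e := Algebra.botEquivOfInjective hinj with he
    have hx' : e x ≠ 0 := by
      intro h
      exact hx (e.injective (by rw [h, map_zero]))
    obtain ⟨n, hn⟩ := IsDiscreteValuationRing.associated_pow_irreducible hx' hπ
    obtain ⟨u, hu⟩ := hn
    refine ⟨n, algebraMap OK _ (↑u⁻¹ : OK), ?_, ?_⟩
    · have h1 : ((Algebra.ofId OK k').comp e.toAlgHom) (algebraMap OK _ (↑u⁻¹ : OK)) =
          algebraMap OK k' (↑u⁻¹ : OK) := by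
        rw [AlgHom.commutes]
      rw [h1]
      exact ((u⁻¹).isUnit.map (algebraMap OK k')).ne_zero
    · apply e.injective
      rw [map_mul, map_pow, AlgEquiv.commutes, AlgEquiv.commutes]
      simp only [Algebra.algebraMap_self, RingHom.id_apply]
      rw [← hu]
      rw [mul_comm, mul_assoc, Units.mul_inv, mul_one]

/-- Zorn: there is a maximal stage. -/
theorem exists_isMax [IsDomain OK] [IsDiscreteValuationRing OK]
    (hinj : Function.Injective (algebraMap OK Ω)) (hπ : Irreducible π)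
    (hloc : ∀ a : OK, algebraMap OK k' a ≠ 0 → IsUnit a) :
    ∃ S : Stage Ω k' π, IsMax S := by
  apply zorn_le
  intro c hc
  rcases c.eq_empty_or_nonempty with rfl | hne
  · exact ⟨base hinj hπ hloc, fun S hS => absurd hS (Set.notMem_empty S)⟩
  · obtain ⟨ub, hub⟩ := exists_upper_bound c hc hne
    exact ⟨ub, hub⟩

end Stage

end Groth.Agent.Lib.helper22.DvrExt
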