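import Groth.Agent.Lib.Helper22.DvrExt1

/-!
# Unramified extensions of a discrete valuation ring inside a field, II (helper22)

The extension step.  Let `S` be a stage (`DvrExt1`), `α : k'`, and `f` a monic polynomial over `S.O`
of minimal degree among the monic polynomials whose reduction kills `α`.  If `β : Ω` is a root of
`f`, then `S.O[β] ≅ S.O[X]/(f)` carries a stage structure extending `S` with `β ↦ α`
(`Stage.exists_extension`).

* `Stage.map_eq_zero_of_lt`: a polynomial of degree `< deg f` whose reduction kills `α` reduces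
  to `0`.
* `Stage.eq_minpoly`: `f` is the minimal polynomial of `β` over `S.O`.
-/

set_option autoImplicit false
universe u v w

namespace Groth.Agent.Lib.helper22.DvrExt

open Polynomial IsLocalRing

variable {OK : Type u} [CommRing OK] {Ω : Type v} [Field Ω] [Algebra OK Ω]
  {k' : Type w} [Field k'] [Algebra OK k'] {π : OK}

namespace Stage

variable (S : Stage Ω k' π)

/-- polynomials of degree below the minimal degree that kill `α` after reduction reduce to `0`. -/
theorem map_eq_zero_of_lt (α : k') (f : S.O[X])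
    (hmin : ∀ g : S.O[X], g.Monic → eval₂ (S.ρ : S.O →+* k') α g = 0 → f.natDegree ≤ g.natDegree)
    (g : S.O[X]) (hdeg : g.natDegree < f.natDegree)
    (hg : eval₂ (S.ρ : S.O →+* k') α g = 0) : g.map (S.ρ : S.O →+* k') = 0 := by
  by_contra hne
  set ρ : S.O →+* k' := (S.ρ : S.O →+* k') with hρ
  set gb := g.map ρ with hgb
  set d := gb.natDegree with hd
  have hlc : ρ (g.coeff d) ≠ 0 := by
    have : gb.leadingCoeff ≠ 0 := leadingCoeff_ne_zero.mpr hne
    rwa [leadingCoeff, hgb, coeff_map] at this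
  have hu : IsUnit (g.coeff d) := S.hunit _ hlc
  obtain ⟨u, hu'⟩ := hu
  set c : k' := ρ (↑u⁻¹ : S.O) with hc
  have hcne : c ≠ 0 := ((u⁻¹).isUnit.map ρ).ne_zero
  have hmonic : (C c * gb).Monic := by
    rw [Monic, leadingCoeff_mul, leadingCoeff_C, leadingCoeff, ← hd, hgb, coeff_map, hc,
      ← map_mul, ← hu', Units.inv_mul, map_one]
  have hlift : (C c * gb) ∈ lifts ρ := by
    rw [mem_lifts]
    exact ⟨C (↑u⁻¹ : S.O) * g, by rw [Polynomial.map_mul, map_C]⟩
  obtain ⟨q, hq1, hq2, hq3⟩ := lifts_and_natDegree_eq_and_monic hlift hmonic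
  have hq0 : eval₂ ρ α q = 0 := by
    rw [← eval_map, hq1, eval_mul, eval_C, hgb, eval_map, hg, mul_zero]
  have h1 := hmin q hq3 hq0
  have h2 : (C c * gb).natDegree = d := by
    rw [natDegree_C_mul hcne]
  have h3 : d ≤ g.natDegree := natDegree_map_le
  omega


theorem eq_minpoly (hπk : algebraMap OK k' π = 0) (hπΩ : algebraMap OK Ω π ≠ 0)
    (α : k') (f : S.O[X]) (hf : f.Monic) (hroot : eval₂ (S.ρ : S.O →+* k') α f = 0)
    (hmin : ∀ g : S.O[X], g.Monic → eval₂ (S.ρ : S.O →+* k') α g = 0 → f.natDegree ≤ g.natDegree)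
    (β : Ω) (hβ : aeval β f = 0) : f = minpoly S.O β := by
  have := S.isDVR hπk hπΩ
  have hint : IsIntegral S.O β := ⟨f, hf, hβ⟩
  obtain ⟨ν, hν⟩ := minpoly.isIntegrallyClosed_dvd hint hβ
  have hμ : (minpoly S.O β).Monic := minpoly.monic hint
  have hνm : ν.Monic := by
    rw [hν] at hf
    exact hμ.of_mul_monic_left hf
  have hdeg : f.natDegree = (minpoly S.O β).natDegree + ν.natDegree := by
    rw [hν, hμ.natDegree_mul hνm]
  have hpos : 0 < (minpoly S.O β).natDegree := minpoly.natDegree_pos hint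
  have h0 : eval₂ (S.ρ : S.O →+* k') α (minpoly S.O β) * eval₂ (S.ρ : S.O →+* k') α ν = 0 := by
    rw [← eval₂_mul, ← hν, hroot]
  rcases mul_eq_zero.mp h0 with h | h
  · have := hmin _ hμ h
    have hν0 : ν.natDegree = 0 := by omega
    rw [Polynomial.Monic.natDegree_eq_zero hνm] at hν0
    rw [hν, hν0, mul_one]
  · have := hmin _ hνm h
    omega


/-- The extension step. -/
theorem exists_extension (hπk : algebraMap OK k' π = 0) (hπΩ : algebraMap OK Ω π ≠ 0)
    (α : k') (f : S.O[X]) (hf : f.Monic) (hroot : eval₂ (S.ρ : S.O →+* k') α f = 0)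
    (hmin : ∀ g : S.O[X], g.Monic → eval₂ (S.ρ : S.O →+* k') α g = 0 → f.natDegree ≤ g.natDegree)
    (β : Ω) (hβ : aeval β f = 0) :
    ∃ T : Stage Ω k' π, S ≤ T ∧ ∃ hβT : β ∈ T.O, T.ρ ⟨β, hβT⟩ = α := by
  classical
  let _ := S.isLocalRing
  have := S.isDVR hπk hπΩ
  have hβ' : eval₂ (S.O.val : S.O →+* Ω) β f = 0 := hβ
  let ψ : AdjoinRoot f →ₐ[OK] Ω := AdjoinRoot.liftAlgHom f S.O.val β hβ'
  let χ : AdjoinRoot f →ₐ[OK] k' := AdjoinRoot.liftAlgHom f S.ρ α hroot
  have hfmin := S.eq_minpoly hπk hπΩ α f hf hroot hmin β hβ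
  have hint : IsIntegral S.O β := ⟨f, hf, hβ⟩
  have hψinj : Function.Injective ψ := by
    rw [injective_iff_map_eq_zero]
    intro x hx
    obtain ⟨g, rfl⟩ := AdjoinRoot.mk_surjective x
    have hg : aeval β g = 0 := hx
    rw [AdjoinRoot.mk_eq_zero, hfmin]
    exact minpoly.isIntegrallyClosed_dvd hint hg
  have : IsDomain (AdjoinRoot f) := hψinj.isDomain ψ.toRingHom
  have : Module.Finite S.O (AdjoinRoot f) := hf.finite_adjoinRoot
  have : Algebra.IsIntegral S.O (AdjoinRoot f) := Algebra.IsIntegral.of_finite _ _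
  have : IsNoetherianRing (AdjoinRoot f) := IsNoetherianRing.of_finite S.O (AdjoinRoot f)
  set ϖ : AdjoinRoot f := AdjoinRoot.of f S.unif with hϖ
  have hχof : ∀ a : S.O, χ (AdjoinRoot.of f a) = S.ρ a := fun a =>
    AdjoinRoot.liftAlgHom_of f S.ρ α hroot a
  have hχϖ : χ ϖ = 0 := by rw [hϖ, hχof, S.ρ_unif hπk]
  -- kernel
  have hker : ∀ x : AdjoinRoot f, χ x = 0 → ϖ ∣ x := by
    intro x hx
    obtain ⟨g, rfl⟩ := AdjoinRoot.mk_surjective x
    have hg : eval₂ (S.ρ : S.O →+* k') α g = 0 := hx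
    have hmk : AdjoinRoot.mk f g = AdjoinRoot.mk f (g %ₘ f) := by
      rw [AdjoinRoot.mk_eq_mk, modByMonic_eq_sub_mul_div, sub_sub_cancel]
      exact dvd_mul_right _ _
    have hg' : eval₂ (S.ρ : S.O →+* k') α (g %ₘ f) = 0 := by
      rw [modByMonic_eq_sub_mul_div, eval₂_sub, eval₂_mul, hg, hroot, zero_mul, sub_zero]
    have hdeg : (g %ₘ f).natDegree < f.natDegree := by
      apply natDegree_modByMonic_lt _ hf
      rintro rfl
      simp at hroot
    have hz := S.map_eq_zero_of_lt α f hmin _ hdeg hg'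
    have hC : C S.unif ∣ g %ₘ f := by
      rw [C_dvd_iff_dvd_coeff]
      intro i
      rw [← S.ρ_eq_zero_iff hπk]
      have := congrArg (fun p => p.coeff i) hz
      simpa using this
    obtain ⟨h, hh⟩ := hC
    rw [hmk, hh, map_mul]
    exact Dvd.intro _ rfl
  have hkerle : Ideal.span {ϖ} = RingHom.ker (χ : AdjoinRoot f →+* k') := by
    apply le_antisymm
    · rw [Ideal.span_singleton_le_iff_mem]
      exact hχϖ
    · intro x hx
      exact Ideal.mem_span_singleton.mpr (hker x hx)
  -- units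
  have hkermax : (RingHom.ker (χ : AdjoinRoot f →+* k')).IsMaximal := by
    have : (RingHom.ker (χ : AdjoinRoot f →+* k')).IsPrime := RingHom.ker_isPrime _
    apply Ideal.isMaximal_of_isIntegral_of_isMaximal_comap (R := S.O)
    have : (RingHom.ker (χ : AdjoinRoot f →+* k')).comap (algebraMap S.O (AdjoinRoot f)) =
        IsLocalRing.maximalIdeal S.O := by
      rw [← S.ker_eq]
      ext a
      simp only [Ideal.mem_comap, RingHom.mem_ker]
      have := hχof a
      exact Eq.congr this rfl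
    rw [this]
    infer_instance
  have hunitP : ∀ x : AdjoinRoot f, χ x ≠ 0 → IsUnit x := by
    intro x hx
    by_contra hnu
    obtain ⟨M, hM, hxM⟩ := exists_max_ideal_of_mem_nonunits hnu
    have hcomap : M.comap (algebraMap S.O (AdjoinRoot f)) = IsLocalRing.maximalIdeal S.O :=
      IsLocalRing.eq_maximalIdeal (Ideal.isMaximal_comap_of_isIntegral_of_isMaximal (R := S.O) M)
    have hϖM : ϖ ∈ M := by
      have : S.unif ∈ M.comap (algebraMap S.O (AdjoinRoot f)) := by
        rw [hcomap, S.maximalIdeal_eq hπk]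
        exact Ideal.mem_span_singleton_self _
      exact this
    have hle : RingHom.ker (χ : AdjoinRoot f →+* k') ≤ M := by
      rw [← hkerle, Ideal.span_singleton_le_iff_mem]
      exact hϖM
    have := hkermax.eq_of_le hM.ne_top hle
    rw [← this] at hxM
    exact hx hxM
  -- separatedness
  have hsep : ∀ x : AdjoinRoot f, x ≠ 0 → ∃ n : ℕ, ¬ ϖ ^ n ∣ x := by
    intro x hx
    have hI : Ideal.span {ϖ} ≠ ⊤ := by
      rw [hkerle]
      exact hkermax.ne_top
    have h1 := Ideal.iInf_pow_eq_bot_of_isDomain (Ideal.span {ϖ}) hI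
    by_contra hall
    push Not at hall
    apply hx
    have : x ∈ ⨅ i : ℕ, Ideal.span {ϖ} ^ i := by
      rw [Ideal.mem_iInf]
      intro n
      rw [Ideal.span_singleton_pow, Ideal.mem_span_singleton]
      exact hall n
    rw [h1] at this
    exact this
  have hfacP := hfac_of (k' := k') (χ : AdjoinRoot f →+* k') ϖ hker hsep
  let e : AdjoinRoot f ≃ₐ[OK] ψ.range := AlgEquiv.ofInjective ψ hψinj
  have hψof : ∀ a : S.O, ψ (AdjoinRoot.of f a) = (a : Ω) := fun a =>
    AdjoinRoot.liftAlgHom_of f S.O.val β hβ' a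
  have hψroot : ψ (AdjoinRoot.root f) = β := AdjoinRoot.liftAlgHom_root f S.O.val β hβ'
  have hχroot : χ (AdjoinRoot.root f) = α := AdjoinRoot.liftAlgHom_root f S.ρ α hroot
  have heϖ : e ϖ = algebraMap OK ψ.range π := by
    apply Subtype.ext
    show ψ ϖ = algebraMap OK Ω π
    rw [hϖ, hψof]
    rfl
  have hesymm : ∀ (p : AdjoinRoot f) (x : ψ.range), (x : Ω) = ψ p → e.symm x = p := by
    intro p x hxp
    apply e.injective
    rw [e.apply_symm_apply]
    exact Subtype.ext hxp
  let T : Stage Ω k' π :=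
    { O := ψ.range
      ρ := χ.comp e.symm.toAlgHom
      hunit := by
        intro x hx
        have h1 : IsUnit (e.symm x) := hunitP _ hx
        have h2 := h1.map e
        rwa [AlgEquiv.apply_symm_apply] at h2
      hfac := by
        intro x hx
        have hx' : e.symm x ≠ 0 := by
          intro h
          apply hx
          rw [← e.apply_symm_apply x, h, map_zero]
        obtain ⟨n, y, hy, hxy⟩ := hfacP _ hx'
        refine ⟨n, e y, ?_, ?_⟩
        · show χ (e.symm (e y)) ≠ 0
          rw [e.symm_apply_apply]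
          exact hy
        · rw [← heϖ, ← map_pow, ← map_mul, ← hxy, e.apply_symm_apply] }
  have hle : S.O ≤ T.O := by
    intro x hx
    exact ⟨AdjoinRoot.of f ⟨x, hx⟩, hψof ⟨x, hx⟩⟩
  refine ⟨T, ⟨hle, ?_⟩, ⟨AdjoinRoot.root f, hψroot⟩, ?_⟩
  · intro x
    show χ (e.symm (Subalgebra.inclusion hle x)) = S.ρ x
    rw [hesymm (AdjoinRoot.of f x) _ (hψof x).symm, hχof]
  · show χ (e.symm _) = α
    rw [hesymm (AdjoinRoot.root f) _ hψroot.symm, hχroot]


end Stage

end Groth.Agent.Lib.helper22.DvrExt
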