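import Groth.Agent.Lib.Helper22.DvrExt2

/-!
# Unramified extensions of a discrete valuation ring inside a field, III (helper22)

Existence of minimal polynomials with nonzero derivative (`Stage.exists_minimal`), their
irreducibility (`Stage.irreducible_of_minimal`), existence of roots in a separably closed field
(`Stage.exists_root_of_isSepClosed`) and surjectivity of the reduction map of a maximal stage
(`Stage.surjective_of_isMax`).
-/

set_option autoImplicit false
universe u v w

namespace Groth.Agent.Lib.helper22.DvrExt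

open Polynomial IsLocalRing

variable {OK : Type u} [CommRing OK] {Ω : Type v} [Field Ω] [Algebra OK Ω]
  {k' : Type w} [Field k'] [Algebra OK k'] {π : OK}

namespace Stage

variable (S : Stage Ω k' π)

/-- A monic polynomial of minimal degree among those whose reduction kills `α`, with nonzero
derivative. -/
theorem exists_minimal (hπk : algebraMap OK k' π = 0) (hπΩ : algebraMap OK Ω π ≠ 0) (α : k')
    (hα : ∃ g : S.O[X], g.Monic ∧ eval₂ (S.ρ : S.O →+* k') α g = 0) :
    ∃ f : S.O[X], f.Monic ∧ eval₂ (S.ρ : S.O →+* k') α f = 0 ∧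
      (∀ g : S.O[X], g.Monic → eval₂ (S.ρ : S.O →+* k') α g = 0 → f.natDegree ≤ g.natDegree) ∧
      derivative f ≠ 0 := by
  classical
  have hex : ∃ d : ℕ, ∃ g : S.O[X], g.Monic ∧ eval₂ (S.ρ : S.O →+* k') α g = 0 ∧
      g.natDegree = d := by
    obtain ⟨g, hg1, hg2⟩ := hα
    exact ⟨_, g, hg1, hg2, rfl⟩
  obtain ⟨f, hf, hroot, hdeg⟩ := Nat.find_spec hex
  have hmin : ∀ g : S.O[X], g.Monic → eval₂ (S.ρ : S.O →+* k') α g = 0 →
      f.natDegree ≤ g.natDegree := by
    intro g hg1 hg2
    rw [hdeg]
    exact Nat.find_min' hex ⟨g, hg1, hg2, rfl⟩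
  by_cases hder : derivative f = 0
  · -- modify `f`
    have hn0 : f.natDegree ≠ 0 := by
      intro h0
      rw [Polynomial.Monic.natDegree_eq_zero hf] at h0
      rw [h0, eval₂_one] at hroot
      exact one_ne_zero hroot
    have hn1 : f.natDegree ≠ 1 := by
      intro h1
      have := congrArg (fun p => p.coeff 0) hder
      simp only [coeff_derivative, coeff_zero] at this
      have hlc : f.coeff 1 = 1 := by
        have := hf.coeff_natDegree
        rwa [h1] at this
      rw [hlc] at this
      simp at this
    have hn2 : 2 ≤ f.natDegree := by omega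
    have hdeglt : (C S.unif * X : S.O[X]).degree < f.degree := by
      calc (C S.unif * X : S.O[X]).degree ≤ 1 := by
            refine (degree_C_mul_X_le _).trans ?_
            exact le_rfl
        _ < f.degree := by
            rw [degree_eq_natDegree hf.ne_zero]
            exact_mod_cast hn2
    refine ⟨f + C S.unif * X, hf.add_of_left hdeglt, ?_, ?_, ?_⟩
    · rw [eval₂_add, hroot, eval₂_mul, eval₂_C]
      have : (S.ρ : S.O →+* k') S.unif = 0 := S.ρ_unif hπk
      rw [this, zero_mul, zero_add]
    · intro g hg1 hg2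
      rw [natDegree_add_eq_left_of_degree_lt hdeglt]
      exact hmin g hg1 hg2
    · rw [derivative_add, hder, zero_add, derivative_C_mul, derivative_X, mul_one]
      intro h
      exact S.unif_ne_zero hπΩ (C_eq_zero.mp h)
  · exact ⟨f, hf, hroot, hmin, hder⟩

/-- A monic polynomial of minimal degree whose reduction kills `α` is irreducible. -/
theorem irreducible_of_minimal (α : k') (f : S.O[X]) (hf : f.Monic)
    (hroot : eval₂ (S.ρ : S.O →+* k') α f = 0)
    (hmin : ∀ g : S.O[X], g.Monic → eval₂ (S.ρ : S.O →+* k') α g = 0 → f.natDegree ≤ g.natDegree) :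
    Irreducible f := by
  rw [hf.irreducible_iff_natDegree]
  constructor
  · rintro rfl
    rw [eval₂_one] at hroot
    exact one_ne_zero hroot
  · intro a b ha hb hab
    have hdeg : f.natDegree = a.natDegree + b.natDegree := by rw [← hab, ha.natDegree_mul hb]
    have h0 : eval₂ (S.ρ : S.O →+* k') α a * eval₂ (S.ρ : S.O →+* k') α b = 0 := by
      rw [← eval₂_mul, hab, hroot]
    rcases mul_eq_zero.mp h0 with h | h
    · right
      have := hmin a ha h
      omega
    · left
      have := hmin b hb h
      omega

/-- Such a polynomial with nonzero derivative is separable over the fraction field, hence has a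
root in a separably closed `Ω`. -/
theorem exists_root_of_isSepClosed [IsSepClosed Ω] (hπk : algebraMap OK k' π = 0)
    (hπΩ : algebraMap OK Ω π ≠ 0) (α : k') (f : S.O[X]) (hf : f.Monic)
    (hroot : eval₂ (S.ρ : S.O →+* k') α f = 0)
    (hmin : ∀ g : S.O[X], g.Monic → eval₂ (S.ρ : S.O →+* k') α g = 0 → f.natDegree ≤ g.natDegree)
    (hder : derivative f ≠ 0) : ∃ β : Ω, aeval β f = 0 := by
  have := S.isDVR hπk hπΩ
  have hirr := S.irreducible_of_minimal α f hf hroot hmin
  let F := FractionRing S.O
  have hirrF : Irreducible (f.map (algebraMap S.O F)) :=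
    (Monic.irreducible_iff_irreducible_map_fraction_map hf).mp hirr
  have hsepF : (f.map (algebraMap S.O F)).Separable := by
    rw [separable_iff_derivative_ne_zero hirrF, derivative_map]
    intro h
    apply hder
    exact (Polynomial.map_eq_zero_iff (IsFractionRing.injective S.O F)).mp h
  have hinj : Function.Injective (algebraMap S.O Ω) := Subtype.val_injective
  let j : F →+* Ω := IsFractionRing.lift hinj
  have hj : j.comp (algebraMap S.O F) = algebraMap S.O Ω := by
    ext a
    exact IsFractionRing.lift_algebraMap hinj a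
  have hsepΩ : (f.map (algebraMap S.O Ω)).Separable := by
    have := hsepF.map (f := j)
    rwa [Polynomial.map_map, hj] at this
  have hdegne : (f.map (algebraMap S.O Ω)).degree ≠ 0 := by
    rw [degree_map_eq_of_injective hinj]
    intro h
    have h1 : f.natDegree = 0 := natDegree_eq_zero_iff_degree_le_zero.mpr h.le
    rw [Polynomial.Monic.natDegree_eq_zero hf] at h1
    rw [h1, eval₂_one] at hroot
    exact one_ne_zero hroot
  obtain ⟨β, hβ⟩ := IsSepClosed.exists_root _ hdegne hsepΩ
  refine ⟨β, ?_⟩
  rwa [IsRoot.def, eval_map_algebraMap] at hβ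

/-- In a separably closed `Ω`, a maximal stage has surjective reduction map, provided every
element of `k'` is integral over `OK`. -/
theorem surjective_of_isMax [IsSepClosed Ω] (hπk : algebraMap OK k' π = 0)
    (hπΩ : algebraMap OK Ω π ≠ 0) (hmax : IsMax S)
    (halg : ∀ α : k', ∃ g : OK[X], g.Monic ∧ eval₂ (algebraMap OK k') α g = 0) :
    Function.Surjective S.ρ := by
  intro α
  have hα : ∃ g : S.O[X], g.Monic ∧ eval₂ (S.ρ : S.O →+* k') α g = 0 := by
    obtain ⟨g, hg1, hg2⟩ := halg α
    refine ⟨g.map (algebraMap OK S.O), hg1.map _, ?_⟩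
    rw [eval₂_map]
    have : (S.ρ : S.O →+* k').comp (algebraMap OK S.O) = algebraMap OK k' := by
      ext a
      exact S.ρ.commutes a
    rw [this, hg2]
  obtain ⟨f, hf, hroot, hmin, hder⟩ := S.exists_minimal hπk hπΩ α hα
  obtain ⟨β, hβ⟩ := S.exists_root_of_isSepClosed hπk hπΩ α f hf hroot hmin hder
  obtain ⟨T, hST, hβT, hρβ⟩ := S.exists_extension hπk hπΩ α f hf hroot hmin β hβ
  obtain ⟨hle, hcomp⟩ := hmax hST
  exact ⟨⟨β, hle hβT⟩, by rw [← hρβ, ← hcomp]; rfl⟩

end Stage

end Groth.Agent.Lib.helper22.DvrExt
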