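import Groth.Agent.Lib.Helper22.DvrExt3

/-!
# Unramified extensions of a discrete valuation ring inside a field, IV (helper22)

Strengthened versions of the chain bound and of the extension step, which describe the elements of
the new stage, and Zorn's lemma for stages satisfying an invariant.

* `Stage.exists_upper_bound'`: the upper bound of a chain is the union.
* `Stage.exists_extension'`: every element of the extended stage is a polynomial in `β`.
* `Stage.exists_maximal_of_inv`: Zorn for an invariant `Q` which holds for the base stage and is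
  inherited by unions of chains.
-/

set_option autoImplicit false
universe u v w

namespace Groth.Agent.Lib.helper22.DvrExt

open Polynomial IsLocalRing

variable {OK : Type u} [CommRing OK] {Ω : Type v} [Field Ω] [Algebra OK Ω]
  {k' : Type w} [Field k'] [Algebra OK k'] {π : OK}

namespace Stage

/-- Every nonempty chain of stages has an upper bound (the union), every element of which lies in
a member of the chain. -/
theorem exists_upper_bound' (c : Set (Stage Ω k' π)) (hc : IsChain (· ≤ ·) c) (hne : c.Nonempty) :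
    ∃ ub : Stage Ω k' π, (∀ S ∈ c, S ≤ ub) ∧ ∀ x ∈ ub.O, ∃ S ∈ c, x ∈ S.O := by
  classical
  have : Nonempty c := hne.to_subtype
  let K : c → Subalgebra OK Ω := fun S => S.1.O
  have dir : Directed (· ≤ ·) K := by
    intro i j
    rcases hc.total i.2 j.2 with h | h
    · exact ⟨j, h.1, le_rfl⟩
    · exact ⟨i, le_rfl, h.1⟩
  let f : ∀ i : c, K i →ₐ[OK] k' := fun i => i.1.ρ
  have hf : ∀ (i j : c) (h : K i ≤ K j), f i = (f j).comp (Subalgebra.inclusion h) := by
    intro i j h
    ext x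
    rcases hc.total i.2 j.2 with ⟨h', hh⟩ | ⟨h', hh⟩
    · exact (hh x).symm
    · have := hh (Subalgebra.inclusion h x)
      simp only [AlgHom.coe_comp, Function.comp_apply]
      rw [← this]
      rfl
  let T : Subalgebra OK Ω := iSup K
  let ρT : T →ₐ[OK] k' := Subalgebra.iSupLift K dir f hf T le_rfl
  have hmem : ∀ x : T, ∃ (i : c) (y : K i), x = Subalgebra.inclusion (le_iSup K i) y := by
    intro x
    have hx : (x : Ω) ∈ ((iSup K : Subalgebra OK Ω) : Set Ω) := x.2
    rw [Subalgebra.coe_iSup_of_directed dir, Set.mem_iUnion] at hx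
    obtain ⟨i, hi⟩ := hx
    exact ⟨i, ⟨x, hi⟩, Subtype.ext rfl⟩
  have hρT : ∀ (i : c) (y : K i), ρT (Subalgebra.inclusion (le_iSup K i) y) = i.1.ρ y :=
    fun i y => Subalgebra.iSupLift_inclusion (K := K) y (le_iSup K i)
  refine ⟨⟨T, ρT, ?_, ?_⟩, fun S hS => ⟨le_iSup K ⟨S, hS⟩, fun x => hρT ⟨S, hS⟩ x⟩, ?_⟩
  rotate_left 2
  · intro x hx
    obtain ⟨i, y, hy⟩ := hmem ⟨x, hx⟩
    refine ⟨i.1, i.2, ?_⟩
    have : x = (y : Ω) := congrArg Subtype.val hy
    rw [this]
    exact y.2
  · intro x hx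
    obtain ⟨i, y, rfl⟩ := hmem x
    rw [hρT] at hx
    exact (i.1.hunit y hx).map (Subalgebra.inclusion (le_iSup K i))
  · intro x hx
    obtain ⟨i, y, rfl⟩ := hmem x
    have hy : y ≠ 0 := by
      rintro rfl
      exact hx (map_zero _)
    obtain ⟨n, z, hz, rfl⟩ := i.1.hfac y hy
    refine ⟨n, Subalgebra.inclusion (le_iSup K i) z, by rw [hρT]; exact hz, ?_⟩
    rw [map_mul, map_pow, AlgHom.commutes]


/-- Zorn's lemma for stages satisfying an invariant. -/
theorem exists_maximal_of_inv (Q : Stage Ω k' π → Prop) (S₀ : Stage Ω k' π) (h₀ : Q S₀)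
    (hchain : ∀ (c : Set (Stage Ω k' π)), IsChain (· ≤ ·) c → c.Nonempty → (∀ S ∈ c, Q S) →
      ∀ ub : Stage Ω k' π, (∀ S ∈ c, S ≤ ub) → (∀ x ∈ ub.O, ∃ S ∈ c, x ∈ S.O) → Q ub) :
    ∃ S : Stage Ω k' π, Q S ∧ ∀ T : Stage Ω k' π, Q T → S ≤ T → T ≤ S := by
  obtain ⟨m, hm⟩ := zorn_le₀ {S : Stage Ω k' π | Q S} (by
    intro c hcs hc
    rcases c.eq_empty_or_nonempty with rfl | hne
    · exact ⟨S₀, h₀, fun S hS => absurd hS (Set.notMem_empty S)⟩
    · obtain ⟨ub, hub1, hub2⟩ := exists_upper_bound' c hc hne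
      exact ⟨ub, hchain c hc hne (fun S hS => hcs hS) ub hub1 hub2, hub1⟩)
  exact ⟨m, hm.prop, fun T hT hle => hm.le_of_ge hT hle⟩

variable (S : Stage Ω k' π)

/-- The extension step, with a description of the elements of the new stage. -/
theorem exists_extension' (hπk : algebraMap OK k' π = 0) (hπΩ : algebraMap OK Ω π ≠ 0)
    (α : k') (f : S.O[X]) (hf : f.Monic) (hroot : eval₂ (S.ρ : S.O →+* k') α f = 0)
    (hmin : ∀ g : S.O[X], g.Monic → eval₂ (S.ρ : S.O →+* k') α g = 0 → f.natDegree ≤ g.natDegree)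
    (β : Ω) (hβ : aeval β f = 0) :
    ∃ T : Stage Ω k' π, S ≤ T ∧ (∃ hβT : β ∈ T.O, T.ρ ⟨β, hβT⟩ = α) ∧
      ∀ x : T.O, ∃ g : S.O[X], aeval β g = (x : Ω) ∧
        T.ρ x = eval₂ (S.ρ : S.O →+* k') α g := by
  classical
  let _ := S.isLocalRing
  have := S.isDVR hπk hπΩ
  have hβ' : eval₂ (S.O.val : S.O →+* Ω) β f = 0 := hβ
  let ψ : AdjoinRoot f →ₐ[OK] Ω := AdjoinRoot.liftAlgHom f S.O.val β hβ'
  let χ : AdjoinRoot f →ₐ[OK] k' := AdjoinRoot.liftAlgHom f S.ρ α hroot
  have hfmin := S.eq_minpoly hπk hπΩ α f hf hroot hmin β hβ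
  have hint : IsIntegral S.O β := ⟨f, hf, hβ⟩
  have hψinj : Function.Injective ψ := by
    rw [injective_iff_map_eq_zero]
    intro x hx
    obtain ⟨g, rfl⟩ := AdjoinRoot.mk_surjective x
    have hg : aeval β g = 0 := hx
    rw [AdjoinRoot.mk_eq_zero, hfmin]
    exact minpoly.isIntegrallyClosed_dvd hint hg
  have : IsDomain (AdjoinRoot f) := hψinj.isDomain ψ.toRingHom
  have : Module.Finite S.O (AdjoinRoot f) := hf.finite_adjoinRoot
  have : Algebra.IsIntegral S.O (AdjoinRoot f) := Algebra.IsIntegral.of_finite _ _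
  have : IsNoetherianRing (AdjoinRoot f) := IsNoetherianRing.of_finite S.O (AdjoinRoot f)
  set ϖ : AdjoinRoot f := AdjoinRoot.of f S.unif with hϖ
  have hχof : ∀ a : S.O, χ (AdjoinRoot.of f a) = S.ρ a := fun a =>
    AdjoinRoot.liftAlgHom_of f S.ρ α hroot a
  have hχϖ : χ ϖ = 0 := by rw [hϖ, hχof, S.ρ_unif hπk]
  -- kernel
  have hker : ∀ x : AdjoinRoot f, χ x = 0 → ϖ ∣ x := by
    intro x hx
    obtain ⟨g, rfl⟩ := AdjoinRoot.mk_surjective x
    have hg : eval₂ (S.ρ : S.O →+* k') α g = 0 := hx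
    have hmk : AdjoinRoot.mk f g = AdjoinRoot.mk f (g %ₘ f) := by
      rw [AdjoinRoot.mk_eq_mk, modByMonic_eq_sub_mul_div, sub_sub_cancel]
      exact dvd_mul_right _ _
    have hg' : eval₂ (S.ρ : S.O →+* k') α (g %ₘ f) = 0 := by
      rw [modByMonic_eq_sub_mul_div, eval₂_sub, eval₂_mul, hg, hroot, zero_mul, sub_zero]
    have hdeg : (g %ₘ f).natDegree < f.natDegree := by
      apply natDegree_modByMonic_lt _ hf
      rintro rfl
      simp at hroot
    have hz := S.map_eq_zero_of_lt α f hmin _ hdeg hg'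
    have hC : C S.unif ∣ g %ₘ f := by
      rw [C_dvd_iff_dvd_coeff]
      intro i
      rw [← S.ρ_eq_zero_iff hπk]
      have := congrArg (fun p => p.coeff i) hz
      simpa using this
    obtain ⟨h, hh⟩ := hC
    rw [hmk, hh, map_mul]
    exact Dvd.intro _ rfl
  have hkerle : Ideal.span {ϖ} = RingHom.ker (χ : AdjoinRoot f →+* k') := by
    apply le_antisymm
    · rw [Ideal.span_singleton_le_iff_mem]
      exact hχϖ
    · intro x hx
      exact Ideal.mem_span_singleton.mpr (hker x hx)
  -- units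
  have hkermax : (RingHom.ker (χ : AdjoinRoot f →+* k')).IsMaximal := by
    have : (RingHom.ker (χ : AdjoinRoot f →+* k')).IsPrime := RingHom.ker_isPrime _
    apply Ideal.isMaximal_of_isIntegral_of_isMaximal_comap (R := S.O)
    have : (RingHom.ker (χ : AdjoinRoot f →+* k')).comap (algebraMap S.O (AdjoinRoot f)) =
        IsLocalRing.maximalIdeal S.O := by
      rw [← S.ker_eq]
      ext a
      simp only [Ideal.mem_comap, RingHom.mem_ker]
      have := hχof a
      exact Eq.congr this rfl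
    rw [this]
    infer_instance
  have hunitP : ∀ x : AdjoinRoot f, χ x ≠ 0 → IsUnit x := by
    intro x hx
    by_contra hnu
    obtain ⟨M, hM, hxM⟩ := exists_max_ideal_of_mem_nonunits hnu
    have hcomap : M.comap (algebraMap S.O (AdjoinRoot f)) = IsLocalRing.maximalIdeal S.O :=
      IsLocalRing.eq_maximalIdeal (Ideal.isMaximal_comap_of_isIntegral_of_isMaximal (R := S.O) M)
    have hϖM : ϖ ∈ M := by
      have : S.unif ∈ M.comap (algebraMap S.O (AdjoinRoot f)) := by
        rw [hcomap, S.maximalIdeal_eq hπk]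
        exact Ideal.mem_span_singleton_self _
      exact this
    have hle : RingHom.ker (χ : AdjoinRoot f →+* k') ≤ M := by
      rw [← hkerle, Ideal.span_singleton_le_iff_mem]
      exact hϖM
    have := hkermax.eq_of_le hM.ne_top hle
    rw [← this] at hxM
    exact hx hxM
  -- separatedness
  have hsep : ∀ x : AdjoinRoot f, x ≠ 0 → ∃ n : ℕ, ¬ ϖ ^ n ∣ x := by
    intro x hx
    have hI : Ideal.span {ϖ} ≠ ⊤ := by
      rw [hkerle]
      exact hkermax.ne_top
    have h1 := Ideal.iInf_pow_eq_bot_of_isDomain (Ideal.span {ϖ}) hI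
    by_contra hall
    push Not at hall
    apply hx
    have : x ∈ ⨅ i : ℕ, Ideal.span {ϖ} ^ i := by
      rw [Ideal.mem_iInf]
      intro n
      rw [Ideal.span_singleton_pow, Ideal.mem_span_singleton]
      exact hall n
    rw [h1] at this
    exact this
  have hfacP := hfac_of (k' := k') (χ : AdjoinRoot f →+* k') ϖ hker hsep
  let e : AdjoinRoot f ≃ₐ[OK] ψ.range := AlgEquiv.ofInjective ψ hψinj
  have hψof : ∀ a : S.O, ψ (AdjoinRoot.of f a) = (a : Ω) := fun a =>
    AdjoinRoot.liftAlgHom_of f S.O.val β hβ' a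
  have hψroot : ψ (AdjoinRoot.root f) = β := AdjoinRoot.liftAlgHom_root f S.O.val β hβ'
  have hχroot : χ (AdjoinRoot.root f) = α := AdjoinRoot.liftAlgHom_root f S.ρ α hroot
  have heϖ : e ϖ = algebraMap OK ψ.range π := by
    apply Subtype.ext
    show ψ ϖ = algebraMap OK Ω π
    rw [hϖ, hψof]
    rfl
  have hesymm : ∀ (p : AdjoinRoot f) (x : ψ.range), (x : Ω) = ψ p → e.symm x = p := by
    intro p x hxp
    apply e.injective
    rw [e.apply_symm_apply]
    exact Subtype.ext hxp
  let T : Stage Ω k' π :=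
    { O := ψ.range
      ρ := χ.comp e.symm.toAlgHom
      hunit := by
        intro x hx
        have h1 : IsUnit (e.symm x) := hunitP _ hx
        have h2 := h1.map e
        rwa [AlgEquiv.apply_symm_apply] at h2
      hfac := by
        intro x hx
        have hx' : e.symm x ≠ 0 := by
          intro h
          apply hx
          rw [← e.apply_symm_apply x, h, map_zero]
        obtain ⟨n, y, hy, hxy⟩ := hfacP _ hx'
        refine ⟨n, e y, ?_, ?_⟩
        · show χ (e.symm (e y)) ≠ 0
          rw [e.symm_apply_apply]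
          exact hy
        · rw [← heϖ, ← map_pow, ← map_mul, ← hxy, e.apply_symm_apply] }
  have hle : S.O ≤ T.O := by
    intro x hx
    exact ⟨AdjoinRoot.of f ⟨x, hx⟩, hψof ⟨x, hx⟩⟩
  refine ⟨T, ⟨hle, ?_⟩, ⟨⟨AdjoinRoot.root f, hψroot⟩, ?_⟩, ?_⟩
  · intro x
    show χ (e.symm (Subalgebra.inclusion hle x)) = S.ρ x
    rw [hesymm (AdjoinRoot.of f x) _ (hψof x).symm, hχof]
  · show χ (e.symm _) = α
    rw [hesymm (AdjoinRoot.root f) _ hψroot.symm, hχroot]
  · intro x
    obtain ⟨g, hg⟩ := AdjoinRoot.mk_surjective (e.symm x)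
    have hx : (x : Ω) = ψ (AdjoinRoot.mk f g) := by
      rw [hg]
      have := e.apply_symm_apply x
      exact (congrArg Subtype.val this).symm
    refine ⟨g, ?_, ?_⟩
    · rw [hx]
      rfl
    · show χ (e.symm x) = _
      rw [← hg]
      rfl


end Stage

end Groth.Agent.Lib.helper22.DvrExt
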