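import Groth.Agent.Lib.Helper22.DvrExt4

/-!
# Unramified extensions of a discrete valuation ring with perfect residue field (helper22)

Inside algebraically closed fields `Ω ⊇ OK` and `k'`, Zorn's lemma over stages (`DvrExt1`) which are
directed unions of finite free subalgebras of `p`-power rank (`IsPFree`) and whose residue field is
radicial over the image of `OK` (`IsRadicial`), extended by adjoining `p`-th roots, gives a stage
whose residue field is closed under `p`-th roots (`exists_perfect_stage`).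

* `perfHull p B`: elements of `k'` with a `p`-power-th power in the subring `B`.
* `isPFree_extension`: adjoining a `p`-th root `β` of `y` with `X ^ p - y` the minimal polynomial
  preserves `IsPFree`.
* `le_natDegree_of_pth_root`: if `ρ y` is not a `p`-th power in the residue field then every monic
  polynomial whose reduction kills `(ρ y)^(1/p)` has degree `≥ p`.
-/

set_option autoImplicit false
universe u v w

namespace Groth.Agent.Lib.helper22.DvrExt

open Polynomial IsLocalRing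

section PerfHull

variable {k' : Type w} [Field k'] (p : ℕ) [ExpChar k' p]

/-- The elements of `k'` some `p`-power-th power of which lies in the subring `B`. -/
def perfHull (B : Subring k') : Subring k' where
  carrier := {a | ∃ m : ℕ, a ^ (p ^ m) ∈ B}
  zero_mem' := ⟨0, by simp⟩
  one_mem' := ⟨0, by simp⟩
  add_mem' := by
    rintro a b ⟨m, hm⟩ ⟨n, hn⟩
    refine ⟨m + n, ?_⟩
    rw [add_pow_expChar_pow]
    refine B.add_mem ?_ ?_
    · rw [pow_add, pow_mul]
      exact B.pow_mem hm _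
    · rw [add_comm, pow_add, pow_mul]
      exact B.pow_mem hn _
  mul_mem' := by
    rintro a b ⟨m, hm⟩ ⟨n, hn⟩
    refine ⟨m + n, ?_⟩
    rw [mul_pow]
    refine B.mul_mem ?_ ?_
    · rw [pow_add, pow_mul]
      exact B.pow_mem hm _
    · rw [add_comm, pow_add, pow_mul]
      exact B.pow_mem hn _
  neg_mem' := by
    rintro a ⟨m, hm⟩
    refine ⟨m, ?_⟩
    have : (-a) ^ (p ^ m) = -(a ^ (p ^ m)) := map_neg (iterateFrobenius k' p m) a
    rw [this]
    exact B.neg_mem hm

theorem mem_perfHull {B : Subring k'} {a : k'} : a ∈ perfHull p B ↔ ∃ m : ℕ, a ^ (p ^ m) ∈ B :=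
  Iff.rfl

theorem le_perfHull (B : Subring k') : B ≤ perfHull p B := fun a ha => ⟨0, by simpa using ha⟩

theorem mem_perfHull_of_pow {B : Subring k'} {a : k'} (h : a ^ p ∈ perfHull p B) :
    a ∈ perfHull p B := by
  obtain ⟨m, hm⟩ := h
  exact ⟨m + 1, by rwa [pow_succ', pow_mul]⟩

end PerfHull

variable {OK : Type u} [CommRing OK] {Ω : Type v} [Field Ω] [Algebra OK Ω]
  {k' : Type w} [Field k'] [Algebra OK k'] {π : OK}

/-- The stage is a directed union of finite free subalgebras of `p`-power rank. -/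
def IsPFree (p : ℕ) (S : Stage Ω k' π) : Prop :=
  ∀ s : Finset Ω, (↑s : Set Ω) ⊆ S.O → ∃ T : Subalgebra OK Ω, T ≤ S.O ∧ (↑s : Set Ω) ⊆ T ∧
    Module.Finite OK T ∧ Module.Free OK T ∧ ∃ m : ℕ, Module.finrank OK T = p ^ m

/-- The residue field of the stage is radicial over the image of `OK`. -/
def IsRadicial (p : ℕ) [ExpChar k' p] (S : Stage Ω k' π) : Prop :=
  ∀ y : S.O, S.ρ y ∈ perfHull p (algebraMap OK k').range

theorem isPFree_extension [Nontrivial OK] (S T : Stage Ω k' π) (hST : S ≤ T)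
    (hπk : algebraMap OK k' π = 0) (hπΩ : algebraMap OK Ω π ≠ 0)
    (p : ℕ) (hp : p ≠ 0) (h2 : IsPFree p S)
    (y : S.O) (β : Ω) (hβp : β ^ p = (y : Ω)) (hβT : β ∈ T.O)
    (hminpoly : (X ^ p - C y : S.O[X]) = minpoly S.O β)
    (hgen : ∀ x : T.O, ∃ g : S.O[X], aeval β g = (x : Ω)) : IsPFree p T := by
  classical
  have hdvrS := S.isDVR hπk hπΩ
  intro s hs
  let G : Ω → S.O[X] := fun x => if h : x ∈ T.O then (hgen ⟨x, h⟩).choose else 0
  have hG : ∀ x ∈ s, aeval β (G x) = x := by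
    intro x hx
    have h : x ∈ T.O := hs hx
    simp only [G, dif_pos h]
    exact (hgen ⟨x, h⟩).choose_spec
  let s' : Finset Ω := (s.biUnion fun x => (G x).coeffs.image (Subtype.val)) ∪ {(y : Ω)}
  have hs' : (↑s' : Set Ω) ⊆ S.O := by
    intro z hz
    simp only [s', Finset.coe_union, Finset.coe_biUnion, Finset.coe_image, Finset.coe_singleton,
      Set.mem_union, Set.mem_iUnion, Set.mem_image, Set.mem_singleton_iff] at hz
    rcases hz with ⟨x, -, c, -, rfl⟩ | rfl
    · exact c.2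
    · exact y.2
  obtain ⟨T₀, hT₀le, hs'T₀, hfin, hfree, m, hrank⟩ := h2 s' hs'
  have hyT₀ : (y : Ω) ∈ T₀ := hs'T₀ (by simp [s'])
  let y₀ : T₀ := ⟨y, hyT₀⟩
  let f₀ : T₀[X] := X ^ p - C y₀
  have hf₀ : f₀.Monic := monic_X_pow_sub_C y₀ hp
  let incl : T₀ →ₐ[OK] S.O := Subalgebra.inclusion hT₀le
  have hincl_inj : Function.Injective incl := Subalgebra.inclusion_injective hT₀le
  have hf₀map : f₀.map (incl : T₀ →+* S.O) = X ^ p - C y := by
    simp only [f₀, Polynomial.map_sub, Polynomial.map_pow, map_X, map_C]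
    rfl
  have hβ0 : eval₂ (T₀.val : T₀ →+* Ω) β f₀ = 0 := by
    simp only [f₀, eval₂_sub, eval₂_pow, eval₂_X, eval₂_C]
    rw [hβp]
    exact sub_self _
  let φ₀ : AdjoinRoot f₀ →ₐ[OK] Ω := AdjoinRoot.liftAlgHom f₀ T₀.val β hβ0
  have hint : IsIntegral S.O β := ⟨X ^ p - C y, monic_X_pow_sub_C y hp, by
    rw [eval₂_sub, eval₂_pow, eval₂_X, eval₂_C, hβp]; exact sub_self _⟩
  have hφ₀inj : Function.Injective φ₀ := by
    rw [injective_iff_map_eq_zero]
    intro q hq
    obtain ⟨g₀, rfl⟩ := AdjoinRoot.mk_surjective q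
    have hg₀ : eval₂ (T₀.val : T₀ →+* Ω) β g₀ = 0 := hq
    have hg₁ : aeval β (g₀.map (incl : T₀ →+* S.O)) = 0 := by
      rw [aeval_def, eval₂_map]
      exact hg₀
    have hdvd := minpoly.isIntegrallyClosed_dvd hint hg₁
    rw [← hminpoly, ← hf₀map] at hdvd
    rw [AdjoinRoot.mk_eq_zero]
    exact (Polynomial.map_dvd_map (incl : T₀ →+* S.O) hincl_inj hf₀).mp hdvd
  let e₁ : AdjoinRoot f₀ ≃ₐ[OK] φ₀.range := AlgEquiv.ofInjective φ₀ hφ₀inj
  haveI : Module.Finite T₀ (AdjoinRoot f₀) := hf₀.finite_adjoinRoot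
  haveI : Module.Free T₀ (AdjoinRoot f₀) := hf₀.free_adjoinRoot
  haveI : Module.Finite OK (AdjoinRoot f₀) := Module.Finite.trans T₀ (AdjoinRoot f₀)
  haveI : Module.Free OK (AdjoinRoot f₀) := Module.Free.trans (S := T₀)
  have hrank₀ : Module.finrank T₀ (AdjoinRoot f₀) = p := by
    rw [(AdjoinRoot.powerBasis' hf₀).finrank, AdjoinRoot.powerBasis'_dim]
    exact natDegree_X_pow_sub_C
  have hval : ∀ g₀ : T₀[X], eval₂ (T₀.val : T₀ →+* Ω) β g₀ ∈ T.O := by
    intro g₀
    rw [eval₂_eq_sum_range]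
    refine Subalgebra.sum_mem _ fun i _ => ?_
    refine Subalgebra.mul_mem _ ?_ (Subalgebra.pow_mem _ hβT _)
    exact hST.1 (hT₀le (g₀.coeff i).2)
  refine ⟨φ₀.range, ?_, ?_, Module.Finite.equiv e₁.toLinearEquiv,
    Module.Free.of_equiv e₁.toLinearEquiv, m + 1, ?_⟩
  · rintro _ ⟨q, rfl⟩
    obtain ⟨g₀, rfl⟩ := AdjoinRoot.mk_surjective q
    exact hval g₀
  · intro x hx
    have hx' : x ∈ s := hx
    have hlift : G x ∈ Polynomial.lifts (incl : T₀ →+* S.O) := by
      rw [Polynomial.lifts_iff_coeffs_subset_range]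
      intro c hc
      have : (c : Ω) ∈ T₀ := hs'T₀ (by
        simp only [s', Finset.coe_union, Finset.coe_biUnion, Finset.coe_image,
          Finset.coe_singleton, Set.mem_union, Set.mem_iUnion, Set.mem_image,
          Set.mem_singleton_iff]
        exact Or.inl ⟨x, hx', c, hc, rfl⟩)
      exact ⟨⟨c, this⟩, Subtype.ext rfl⟩
    obtain ⟨g₀, hg₀⟩ := (Polynomial.mem_lifts _).mp hlift
    refine ⟨AdjoinRoot.mk f₀ g₀, ?_⟩
    show eval₂ (T₀.val : T₀ →+* Ω) β g₀ = x
    rw [← hG x hx', ← hg₀, aeval_def, eval₂_map]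
    rfl
  · rw [← e₁.toLinearEquiv.finrank_eq, ← Module.finrank_mul_finrank OK T₀ (AdjoinRoot f₀), hrank,
      hrank₀, pow_succ]


theorem le_natDegree_of_pth_root (S : Stage Ω k' π) {p : ℕ} (hp : p.Prime) (y : S.O)
    (hy : ∀ z : S.O, (S.ρ z) ^ p ≠ S.ρ y) (α : k') (hα : α ^ p = S.ρ y) (g : S.O[X])
    (hg : g.Monic) (hg0 : eval₂ (S.ρ : S.O →+* k') α g = 0) : p ≤ g.natDegree := by
  letI := S.isLocalRing
  haveI : IsLocalHom (S.ρ : S.O →+* k') := S.isLocalHom
  let ρbar : ResidueField S.O →+* k' := ResidueField.lift (S.ρ : S.O →+* k')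
  have hρbar : ∀ x, ρbar (residue S.O x) = S.ρ x := fun x =>
    ResidueField.lift_residue_apply _ x
  letI : Algebra (ResidueField S.O) k' := ρbar.toAlgebra
  set a : ResidueField S.O := residue S.O y with ha
  have hirr : Irreducible (X ^ p - C a : (ResidueField S.O)[X]) :=
    X_pow_sub_C_irreducible_of_prime hp (by
      intro b hb
      obtain ⟨b', rfl⟩ := residue_surjective b
      apply hy b'
      have := congrArg ρbar hb
      rwa [map_pow, hρbar, hρbar] at this)
  have hroot : aeval α (X ^ p - C a : (ResidueField S.O)[X]) = 0 := by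
    rw [map_sub, map_pow, aeval_X, aeval_C, hα]
    show S.ρ y - ρbar a = 0
    rw [ha, hρbar, sub_self]
  have hmp : (X ^ p - C a : (ResidueField S.O)[X]) = minpoly (ResidueField S.O) α :=
    minpoly.eq_of_irreducible_of_monic hirr hroot (monic_X_pow_sub_C a hp.ne_zero)
  have hgb : aeval α (g.map (residue S.O)) = 0 := by
    rw [aeval_def, eval₂_map]
    have : (algebraMap (ResidueField S.O) k').comp (residue S.O) = (S.ρ : S.O →+* k') := by
      ext x
      exact hρbar x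
    rw [this, hg0]
  have hdvd := minpoly.dvd (ResidueField S.O) α hgb
  rw [← hmp] at hdvd
  have h1 := natDegree_le_of_dvd hdvd ((hg.map _).ne_zero)
  rwa [natDegree_X_pow_sub_C, hg.natDegree_map] at h1


theorem isRadicial_of_chain (p : ℕ) [ExpChar k' p] (c : Set (Stage Ω k' π))
    (h : ∀ S ∈ c, IsRadicial p S) (ub : Stage Ω k' π) (hub : ∀ S ∈ c, S ≤ ub)
    (hmem : ∀ x ∈ ub.O, ∃ S ∈ c, x ∈ S.O) : IsRadicial p ub := by
  intro y
  obtain ⟨S, hS, hyS⟩ := hmem y y.2
  obtain ⟨hle, hcomp⟩ := hub S hS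
  have h1 := hcomp ⟨y, hyS⟩
  have e : Subalgebra.inclusion hle ⟨y, hyS⟩ = y := Subtype.ext rfl
  rw [e] at h1
  rw [h1]
  exact h S hS _

theorem exists_mem_chain_of_finset (c : Set (Stage Ω k' π)) (hc : IsChain (· ≤ ·) c)
    (hne : c.Nonempty) (ub : Stage Ω k' π)
    (hmem : ∀ x ∈ ub.O, ∃ S ∈ c, x ∈ S.O) (s : Finset Ω) (hs : (↑s : Set Ω) ⊆ ub.O) :
    ∃ S ∈ c, (↑s : Set Ω) ⊆ S.O := by
  classical
  induction s using Finset.induction_on with
  | empty =>
    obtain ⟨S, hS⟩ := hne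
    exact ⟨S, hS, by simp⟩
  | insert a s _ ih =>
    have hs1 : (↑s : Set Ω) ⊆ ub.O := fun x hx => hs (by simp [Finset.mem_coe.mp hx])
    obtain ⟨S₁, hS₁, h1⟩ := ih hs1
    obtain ⟨S₂, hS₂, h2⟩ := hmem a (hs (by simp))
    rcases hc.total hS₁ hS₂ with h | h
    · refine ⟨S₂, hS₂, ?_⟩
      intro x hx
      rw [Finset.coe_insert, Set.mem_insert_iff] at hx
      rcases hx with rfl | hx
      · exact h2
      · exact h.1 (h1 hx)
    · refine ⟨S₁, hS₁, ?_⟩
      intro x hx
      rw [Finset.coe_insert, Set.mem_insert_iff] at hx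
      rcases hx with rfl | hx
      · exact h.1 h2
      · exact h1 hx

theorem isPFree_of_chain (p : ℕ) (c : Set (Stage Ω k' π)) (hc : IsChain (· ≤ ·) c)
    (hne : c.Nonempty)
    (h : ∀ S ∈ c, IsPFree p S) (ub : Stage Ω k' π) (hub : ∀ S ∈ c, S ≤ ub)
    (hmem : ∀ x ∈ ub.O, ∃ S ∈ c, x ∈ S.O) : IsPFree p ub := by
  intro s hs
  obtain ⟨S, hS, hsS⟩ := exists_mem_chain_of_finset c hc hne ub hmem s hs
  obtain ⟨T, hT1, hT2, hT3⟩ := h S hS s hsS
  exact ⟨T, hT1.trans (hub S hS).1, hT2, hT3⟩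

theorem isRadicial_base (p : ℕ) [ExpChar k' p] [IsDomain OK] [IsDiscreteValuationRing OK]
    (hinj : Function.Injective (algebraMap OK Ω)) (hπ : Irreducible π)
    (hloc : ∀ a : OK, algebraMap OK k' a ≠ 0 → IsUnit a) :
    IsRadicial p (Stage.base (Ω := Ω) (k' := k') hinj hπ hloc) := by
  intro y
  apply le_perfHull
  exact ⟨Algebra.botEquivOfInjective hinj y, rfl⟩

theorem isPFree_base (p : ℕ) [IsDomain OK] [IsDiscreteValuationRing OK]
    (hinj : Function.Injective (algebraMap OK Ω)) (hπ : Irreducible π)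
    (hloc : ∀ a : OK, algebraMap OK k' a ≠ 0 → IsUnit a) :
    IsPFree p (Stage.base (Ω := Ω) (k' := k') hinj hπ hloc) := by
  intro s hs
  let e := Algebra.botEquivOfInjective hinj
  refine ⟨⊥, le_rfl, hs, Module.Finite.equiv e.symm.toLinearEquiv,
    Module.Free.of_equiv e.symm.toLinearEquiv, 0, ?_⟩
  rw [e.toLinearEquiv.finrank_eq, Module.finrank_self, pow_zero]


/-- In algebraically closed `Ω` and `k'` there is a stage whose residue field is radicial over
the image of `OK`, which is a directed union of finite free subalgebras of `p`-power rank, and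
whose residue field is closed under `p`-th roots. -/
theorem exists_perfect_stage (p : ℕ) [ExpChar k' p] [IsDomain OK] [IsDiscreteValuationRing OK]
    [IsAlgClosed k'] [IsAlgClosed Ω]
    (hinj : Function.Injective (algebraMap OK Ω)) (hπ : Irreducible π)
    (hloc : ∀ a : OK, algebraMap OK k' a ≠ 0 → IsUnit a) (hπk : algebraMap OK k' π = 0) :
    ∃ S : Stage Ω k' π, IsRadicial p S ∧ IsPFree p S ∧
      ∀ y : S.O, ∃ z : S.O, (S.ρ z) ^ p = S.ρ y := by
  have hπΩ : algebraMap OK Ω π ≠ 0 := fun h => hπ.ne_zero (hinj (by rw [h, map_zero]))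
  obtain ⟨S, ⟨hS1, hS2⟩, hmax⟩ := Stage.exists_maximal_of_inv
    (fun S : Stage Ω k' π => IsRadicial p S ∧ IsPFree p S) (Stage.base hinj hπ hloc)
    ⟨isRadicial_base p hinj hπ hloc, isPFree_base p hinj hπ hloc⟩ (by
      intro c hc hne hQ ub hub hmem
      exact ⟨isRadicial_of_chain p c (fun S hS => (hQ S hS).1) ub hub hmem,
        isPFree_of_chain p c hc hne (fun S hS => (hQ S hS).2) ub hub hmem⟩)
  refine ⟨S, hS1, hS2, ?_⟩
  intro y
  by_contra hno
  push Not at hno
  have hp : p.Prime := by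
    rcases expChar_is_prime_or_one k' p with h | h
    · exact h
    · exfalso
      subst h
      exact hno y (pow_one _)
  obtain ⟨α, hα⟩ := IsAlgClosed.exists_pow_nat_eq (S.ρ y) hp.pos
  obtain ⟨β, hβ⟩ := IsAlgClosed.exists_pow_nat_eq ((y : Ω)) hp.pos
  set f : S.O[X] := X ^ p - C y with hfdef
  have hf : f.Monic := monic_X_pow_sub_C y hp.ne_zero
  have hroot : eval₂ (S.ρ : S.O →+* k') α f = 0 := by
    rw [hfdef, eval₂_sub, eval₂_pow, eval₂_X, eval₂_C, hα]
    exact sub_self _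
  have hmin : ∀ g : S.O[X], g.Monic → eval₂ (S.ρ : S.O →+* k') α g = 0 →
      f.natDegree ≤ g.natDegree := by
    intro g hg hg0
    rw [hfdef, natDegree_X_pow_sub_C]
    exact le_natDegree_of_pth_root S hp y hno α hα g hg hg0
  have hβ0 : aeval β f = 0 := by
    rw [hfdef, map_sub, map_pow, aeval_X, aeval_C, hβ]
    exact sub_self _
  obtain ⟨T, hST, ⟨hβT, hρβ⟩, hgen⟩ := S.exists_extension' hπk hπΩ α f hf hroot hmin β hβ0
  have hminpoly := S.eq_minpoly hπk hπΩ α f hf hroot hmin β hβ0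
  have hT1 : IsRadicial p T := by
    intro x
    obtain ⟨g, -, hg⟩ := hgen x
    rw [hg, eval₂_eq_sum_range]
    refine Subring.sum_mem _ fun i _ => ?_
    refine Subring.mul_mem _ (hS1 _) (Subring.pow_mem _ ?_ _)
    apply mem_perfHull_of_pow
    rw [hα]
    exact hS1 y
  have hT2 : IsPFree p T := isPFree_extension S T hST hπk hπΩ p hp.ne_zero hS2 y β hβ hβT
    hminpoly (fun x => let ⟨g, hg, _⟩ := hgen x; ⟨g, hg⟩)
  obtain ⟨hle, hcomp⟩ := hmax T ⟨hT1, hT2⟩ hST
  apply hno ⟨β, hle hβT⟩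
  have h1 := hcomp ⟨β, hβT⟩
  have e : Subalgebra.inclusion hle ⟨β, hβT⟩ = ⟨β, hle hβT⟩ := Subtype.ext rfl
  rw [e] at h1
  rw [h1, hρβ, hα]

end Groth.Agent.Lib.helper22.DvrExt
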