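import Mathlib
import Groth.Prelude.Def_Smoothing

set_option autoImplicit false
universe u

namespace Groth.Agent.Lib.Helper22.RegSep

open MvPolynomial IsLocalRing TensorProduct

/-- uniform power data at a minimal prime of an ideal in a Noetherian ring. -/
theorem exists_pow_data {Λ : Type u} [CommRing Λ] [IsNoetherianRing Λ] (I : Ideal Λ) (𝔮 : Ideal Λ)
    (hmin : 𝔮 ∈ I.minimalPrimes) :
    ∃ n : ℕ, 0 < n ∧ ∀ x ∈ 𝔮, ∃ s : Λ, s ∉ 𝔮 ∧ s * x ^ n ∈ I := by
  classical
  have hqp : 𝔮.IsPrime := hmin.1.1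
  have hfin : I.minimalPrimes.Finite := Ideal.finite_minimalPrimes_of_isNoetherianRing Λ I
  set S : Finset (Ideal Λ) := hfin.toFinset.erase 𝔮 with hS
  have hJ : ¬ S.inf id ≤ 𝔮 := by
    intro hle
    obtain ⟨P, hPS, hP𝔮⟩ := (Ideal.IsPrime.inf_le' hqp).mp hle
    rw [hS, Finset.mem_erase, Set.Finite.mem_toFinset] at hPS
    obtain ⟨hne, hPmin⟩ := hPS
    exact hne (le_antisymm hP𝔮 (hmin.2 hPmin.1 hP𝔮))
  obtain ⟨s, hsJ, hs𝔮⟩ := SetLike.not_le_iff_exists.mp hJ
  obtain ⟨n, hn⟩ := Ideal.exists_radical_pow_le_of_fg I (IsNoetherian.noetherian I.radical)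
  refine ⟨n + 1, Nat.succ_pos n, fun x hx => ⟨s ^ (n + 1), ?_, ?_⟩⟩
  · exact fun h => hs𝔮 (hqp.mem_of_pow_mem _ h)
  · have hsx : s * x ∈ I.radical := by
      rw [← Ideal.sInf_minimalPrimes, Ideal.mem_sInf]
      intro P hP
      by_cases hP𝔮 : P = 𝔮
      · rw [hP𝔮]; exact Ideal.mul_mem_left _ _ hx
      · have hPS : P ∈ S := by
          rw [hS, Finset.mem_erase, Set.Finite.mem_toFinset]
          exact ⟨hP𝔮, hP⟩
        have : S.inf id ≤ P := Finset.inf_le (f := id) hPS
        exact Ideal.mul_mem_right _ _ (this hsJ)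
    rw [← mul_pow]
    have h1 : (s * x) ^ (n + 1) ∈ I.radical ^ (n + 1) := Ideal.pow_mem_pow hsx _
    exact hn (Ideal.pow_le_pow_right (Nat.le_succ n) h1)

/-- localizing at an element of the singular ideal gives a smooth algebra. -/
theorem smooth_localizationAway_of_mem_singularIdeal {k A : Type u} [CommRing k] [CommRing A]
    [Algebra k A] [Algebra.FinitePresentation k A] (a : A) (ha : a ∈ Smoothing.singularIdeal k A) :
    Algebra.Smooth k (Localization.Away a) := by
  rw [← Algebra.basicOpen_subset_smoothLocus_iff_smooth]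
  intro P hP
  by_contra hPs
  have h1 : a ∈ P.asIdeal := by
    rw [Smoothing.singularIdeal, PrimeSpectrum.mem_vanishingIdeal] at ha
    exact ha P hPs
  exact hP h1

/-- base change of the previous statement. -/
theorem smooth_localizationAway_tmul {k A R : Type u} [CommRing k] [CommRing A]
    [Algebra k A] [Algebra.FinitePresentation k A] [CommRing R] [Algebra k R]
    (a : A) (ha : a ∈ Smoothing.singularIdeal k A) :
    Algebra.Smooth R (Localization.Away ((1 : R) ⊗ₜ[k] a)) := by
  haveI := smooth_localizationAway_of_mem_singularIdeal a ha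
  exact Algebra.Smooth.of_equiv
    (IsLocalization.Away.tensorProductEquivTMulRight k R a (Localization.Away a))

end Groth.Agent.Lib.Helper22.RegSep
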