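import Mathlib

set_option autoImplicit false
universe u

namespace Groth.Agent.Lib.Helper22.Pop

open MvPolynomial

/-- If `ψ : B' → B` is a surjection of `R`-algebras whose kernel vanishes locally at the prime
`q.comap ψ`, then smoothness of `B'` at `q.comap ψ` implies smoothness of `B` at `q`. -/
theorem isSmoothAt_of_surjective {R B' B : Type u} [CommRing R] [CommRing B'] [CommRing B]
    [Algebra R B'] [Algebra R B] (ψ : B' →ₐ[R] B) (hψ : Function.Surjective ψ)
    (q : Ideal B) [q.IsPrime]
    (hK : ∀ x, ψ x = 0 → ∃ s : B', ψ s ∉ q ∧ s * x = 0)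
    (h : Algebra.IsSmoothAt R (q.comap ψ)) : Algebra.IsSmoothAt R q := by
  let L := Localization.AtPrime q
  let algB'L : Algebra B' L := ((algebraMap B L).comp ψ.toRingHom).toAlgebra
  have hmap : ∀ x : B', algebraMap B' L x = algebraMap B L (ψ x) := fun x => rfl
  have : IsScalarTower R B' L := IsScalarTower.of_algebraMap_eq (fun r => by
    rw [hmap, AlgHom.commutes, ← IsScalarTower.algebraMap_apply])
  have : IsLocalization.AtPrime L (q.comap ψ) := by
    rw [IsLocalization.AtPrime, isLocalization_iff]
    refine ⟨?_, ?_, ?_⟩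
    · rintro ⟨y, hy⟩
      rw [hmap]
      exact IsLocalization.map_units L (⟨ψ y, hy⟩ : q.primeCompl)
    · intro z
      obtain ⟨⟨b, s⟩, hbs⟩ := IsLocalization.surj q.primeCompl z
      obtain ⟨b', rfl⟩ := hψ b
      obtain ⟨s', hs'⟩ := hψ s.1
      refine ⟨(b', ⟨s', ?_⟩), ?_⟩
      · change s' ∈ (q.comap ψ).primeCompl
        rw [Ideal.mem_primeCompl_iff, Ideal.mem_comap, hs']
        exact s.2
      · simp only [hmap, hs']
        exact hbs
    · intro x y hxy
      rw [hmap, hmap] at hxy
      obtain ⟨c, hc⟩ := (IsLocalization.eq_iff_exists q.primeCompl L).mp hxy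
      obtain ⟨c', hc'⟩ := hψ c.1
      have h0 : ψ (c' * (x - y)) = 0 := by
        rw [map_mul, map_sub, hc', mul_sub, hc, sub_self]
      obtain ⟨s, hs, hs0⟩ := hK _ h0
      refine ⟨⟨s * c', ?_⟩, ?_⟩
      · change s * c' ∈ (q.comap ψ).primeCompl
        rw [Ideal.mem_primeCompl_iff, Ideal.mem_comap, map_mul, hc']
        exact fun hmem => (Ideal.IsPrime.mem_or_mem inferInstance hmem).elim hs c.2
      · have : s * c' * (x - y) = 0 := by rw [mul_assoc]; exact hs0
        simpa [mul_sub, sub_eq_zero] using this
  have e := (IsLocalization.algEquiv (q.comap ψ).primeCompl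
    (Localization.AtPrime (q.comap ψ)) L).restrictScalars R
  exact Algebra.FormallySmooth.of_equiv e

/-- Annihilators of `π` and `π²` agree in a flat algebra in which `r₀` is a unit. -/
theorem ann_sq_of_flat {R L : Type u} [CommRing R] [CommRing L] [Algebra R L] [Module.Flat R L]
    (π r₀ : R) (hr₀ : ∀ x : R, π ^ 2 * x = 0 → π * (r₀ * x) = 0)
    (hu : IsUnit (algebraMap R L r₀)) (y : L) (hy : algebraMap R L π ^ 2 * y = 0) :
    algebraMap R L π * y = 0 := by
  have h1 : ∑ _i : Unit, (π ^ 2) • y = 0 := by
    simp only [Finset.univ_unique, Finset.sum_singleton, Algebra.smul_def, map_pow]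
    exact hy
  obtain ⟨k, a, z, hz, ha⟩ := Module.Flat.isTrivialRelation_of_sum_smul_eq_zero
    (f := fun _ : Unit => π ^ 2) (x := fun _ : Unit => y) h1
  have hz' : y = ∑ j, a () j • z j := hz ()
  have ha' : ∀ j, π ^ 2 * a () j = 0 := fun j => by simpa using ha j
  have h2 : algebraMap R L r₀ * (algebraMap R L π * y) = 0 := by
    rw [hz', Finset.mul_sum, Finset.mul_sum]
    refine Finset.sum_eq_zero fun j _ => ?_
    rw [Algebra.smul_def, ← mul_assoc, ← mul_assoc, ← map_mul, ← map_mul]
    have : r₀ * π * a () j = 0 := by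
      have := hr₀ _ (ha' j)
      rw [← this]; ring
    rw [this, map_zero, zero_mul]
  exact (hu.mul_right_eq_zero).mp h2



/-- second order Taylor expansion of a polynomial substitution. -/
theorem taylor2 {R Q : Type*} [CommRing R] [CommRing Q] [Algebra R Q] {σ : Type*} [Fintype σ]
    [DecidableEq σ] (a e : σ → Q) (t : Q) (p : MvPolynomial σ R) :
    ∃ z : Q, aeval (fun i => a i + t * e i) p =
      aeval a p + t * ∑ i, aeval a (pderiv i p) * e i + t ^ 2 * z := by
  induction p using MvPolynomial.induction_on with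
  | C r => exact ⟨0, by simp⟩
  | add p q hp hq =>
    obtain ⟨z1, h1⟩ := hp
    obtain ⟨z2, h2⟩ := hq
    refine ⟨z1 + z2, ?_⟩
    simp only [map_add, h1, h2, add_mul, Finset.sum_add_distrib]
    ring
  | mul_X p j hp =>
    obtain ⟨z, h⟩ := hp
    refine ⟨z * a j + (∑ i, aeval a (pderiv i p) * e i) * e j + t * z * e j, ?_⟩
    have hd : ∀ i, aeval a (pderiv i (p * X j)) =
        aeval a (pderiv i p) * a j + aeval a p * (if i = j then 1 else 0) := by
      intro i
      rw [Derivation.leibniz, pderiv_X, smul_eq_mul, smul_eq_mul, map_add, map_mul, map_mul,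
        aeval_X]
      by_cases hij : i = j
      · subst hij; simp [Pi.single_eq_same]; ring
      · have : (Pi.single i 1 : σ → MvPolynomial σ R) j = 0 := Pi.single_eq_of_ne (Ne.symm hij) _
        rw [this]; simp [hij]; ring
    have hs : ∑ i, aeval a (pderiv i (p * X j)) * e i =
        (∑ i, aeval a (pderiv i p) * e i) * a j + aeval a p * e j := by
      simp_rw [hd, add_mul, Finset.sum_add_distrib]
      congr 1
      · rw [Finset.sum_mul]
        exact Finset.sum_congr rfl fun i _ => by ring
      · simp [Finset.sum_ite_eq']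
    rw [map_mul, aeval_X, h, hs, map_mul, aeval_X]
    ring

/-- first order version: the substitution differs from the value at `a` by a multiple of `t`. -/
theorem taylor1 {R Q : Type*} [CommRing R] [CommRing Q] [Algebra R Q] {σ : Type*} [Fintype σ]
    [DecidableEq σ] (a e : σ → Q) (t : Q) (p : MvPolynomial σ R) :
    ∃ z : Q, aeval (fun i => a i + t * e i) p = aeval a p + t * z := by
  obtain ⟨z, hz⟩ := taylor2 a e t p
  exact ⟨∑ i, aeval a (pderiv i p) * e i + t * z, by rw [hz]; ring⟩

/-- chain rule for partial derivatives of a substitution. -/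
theorem pderiv_aeval {R : Type*} [CommRing R] {σ τ : Type*} [Fintype σ] [DecidableEq σ]
    [DecidableEq τ]
    (s : σ → MvPolynomial τ R) (k : τ) (p : MvPolynomial σ R) :
    pderiv k (aeval s p) = ∑ i, aeval s (pderiv i p) * pderiv k (s i) := by
  induction p using MvPolynomial.induction_on with
  | C r => simp [MvPolynomial.algebraMap_eq]
  | add p q hp hq =>
    simp only [map_add, hp, hq, add_mul, Finset.sum_add_distrib]
  | mul_X p j hp =>
    have hd : ∀ i, aeval s (pderiv i (p * X j)) =
        aeval s (pderiv i p) * s j + aeval s p * (if i = j then 1 else 0) := by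
      intro i
      rw [Derivation.leibniz, pderiv_X, smul_eq_mul, smul_eq_mul, map_add, map_mul, map_mul,
        aeval_X]
      by_cases hij : i = j
      · subst hij; simp [Pi.single_eq_same]; ring
      · have : (Pi.single i 1 : σ → MvPolynomial σ R) j = 0 := Pi.single_eq_of_ne (Ne.symm hij) _
        rw [this]; simp [hij]; ring
    rw [map_mul, aeval_X, Derivation.leibniz, hp, smul_eq_mul, smul_eq_mul]
    simp_rw [hd, add_mul, Finset.sum_add_distrib]
    have h2 : ∑ i, aeval s p * (if i = j then 1 else 0) * pderiv k (s i) =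
        aeval s p * pderiv k (s j) := by
      simp [Finset.sum_ite_eq']
    rw [h2, Finset.mul_sum]
    have h3 : ∑ i, aeval s (pderiv i p) * s j * pderiv k (s i) =
        ∑ i, s j * (aeval s (pderiv i p) * pderiv k (s i)) :=
      Finset.sum_congr rfl fun i _ => by ring
    rw [h3]
    ring

/-- A right inverse up to the scalar `∑ b_cols det(M_cols)` for a `c × n` matrix. -/
theorem exists_section_of_minors {R : Type*} [CommRing R] {n c : ℕ}
    (M : Matrix (Fin c) (Fin n) R) (b : (Fin c → Fin n) → R) :
    ∃ S : Matrix (Fin n) (Fin c) R,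
      M * S = (∑ cols : Fin c → Fin n, b cols * (Matrix.of fun j k => M j (cols k)).det) •
        (1 : Matrix (Fin c) (Fin c) R) := by
  classical
  let Mc : (Fin c → Fin n) → Matrix (Fin c) (Fin c) R := fun cols =>
    Matrix.of fun j k => M j (cols k)
  let Sc : (Fin c → Fin n) → Matrix (Fin n) (Fin c) R := fun cols =>
    Matrix.of fun i k => ∑ k', if cols k' = i then (Mc cols).adjugate k' k else 0
  have hSc : ∀ cols, M * Sc cols = (Mc cols).det • (1 : Matrix (Fin c) (Fin c) R) := by
    intro cols
    rw [← Matrix.mul_adjugate]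
    ext j k
    simp only [Matrix.mul_apply, Sc, Mc, Matrix.of_apply, Finset.mul_sum]
    rw [Finset.sum_comm]
    refine Finset.sum_congr rfl fun k' _ => ?_
    simp [Finset.sum_ite_eq]
  refine ⟨∑ cols, b cols • Sc cols, ?_⟩
  rw [Matrix.mul_sum, Finset.sum_smul]
  refine Finset.sum_congr rfl fun cols _ => ?_
  rw [Matrix.mul_smul, hSc, smul_smul]


end Groth.Agent.Lib.Helper22.Pop
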