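import Groth.Agent.Lib.Helper22.PopN
import Groth.Agent.Lib.Helper22.PopA

set_option autoImplicit false
universe u

namespace Groth.Agent.Lib.Helper22.Dz

open MvPolynomial Groth.Agent.Lib.Helper22.Pop

/-- converse of `isSmoothAt_of_surjective`. -/
theorem isSmoothAt_comap_of_surjective {R B' B : Type u} [CommRing R] [CommRing B'] [CommRing B]
    [Algebra R B'] [Algebra R B] (ψ : B' →ₐ[R] B) (hψ : Function.Surjective ψ)
    (q : Ideal B) [q.IsPrime] [(q.comap ψ).IsPrime]
    (hK : ∀ x, ψ x = 0 → ∃ s : B', ψ s ∉ q ∧ s * x = 0)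
    (h : Algebra.IsSmoothAt R q) : Algebra.IsSmoothAt R (q.comap ψ) := by
  let L := Localization.AtPrime q
  let algB'L : Algebra B' L := ((algebraMap B L).comp ψ.toRingHom).toAlgebra
  have hmap : ∀ x : B', algebraMap B' L x = algebraMap B L (ψ x) := fun x => rfl
  have : IsScalarTower R B' L := IsScalarTower.of_algebraMap_eq (fun r => by
    rw [hmap, AlgHom.commutes, ← IsScalarTower.algebraMap_apply])
  have : IsLocalization.AtPrime L (q.comap ψ) := by
    rw [IsLocalization.AtPrime, isLocalization_iff]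
    refine ⟨?_, ?_, ?_⟩
    · rintro ⟨y, hy⟩
      rw [hmap]
      exact IsLocalization.map_units L (⟨ψ y, hy⟩ : q.primeCompl)
    · intro z
      obtain ⟨⟨b, s⟩, hbs⟩ := IsLocalization.surj q.primeCompl z
      obtain ⟨b', rfl⟩ := hψ b
      obtain ⟨s', hs'⟩ := hψ s.1
      refine ⟨(b', ⟨s', ?_⟩), ?_⟩
      · change s' ∈ (q.comap ψ).primeCompl
        rw [Ideal.mem_primeCompl_iff, Ideal.mem_comap, hs']
        exact s.2
      · simp only [hmap, hs']
        exact hbs
    · intro x y hxy
      rw [hmap, hmap] at hxy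
      obtain ⟨c, hc⟩ := (IsLocalization.eq_iff_exists q.primeCompl L).mp hxy
      obtain ⟨c', hc'⟩ := hψ c.1
      have h0 : ψ (c' * (x - y)) = 0 := by
        rw [map_mul, map_sub, hc', mul_sub, hc, sub_self]
      obtain ⟨s, hs, hs0⟩ := hK _ h0
      refine ⟨⟨s * c', ?_⟩, ?_⟩
      · change s * c' ∈ (q.comap ψ).primeCompl
        rw [Ideal.mem_primeCompl_iff, Ideal.mem_comap, map_mul, hc']
        exact fun hmem => (Ideal.IsPrime.mem_or_mem inferInstance hmem).elim hs c.2
      · have : s * c' * (x - y) = 0 := by rw [mul_assoc]; exact hs0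
        simpa [mul_sub, sub_eq_zero] using this
  have e := (IsLocalization.algEquiv (q.comap ψ).primeCompl
    (Localization.AtPrime (q.comap ψ)) L).restrictScalars R
  have hL : Algebra.FormallySmooth R L := h
  exact Algebra.FormallySmooth.of_equiv e.symm

/-- the Jacobian criterion `isSmoothAt_of_minor_notMem` for arbitrary finite index types. -/
theorem isSmoothAt_of_minor_notMem_gen {R : Type u} [CommRing R] {ι σ : Type} [Fintype ι]
    [Fintype σ] [DecidableEq σ] (v : σ → MvPolynomial ι R) (cols : σ → ι)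
    (q : Ideal (MvPolynomial ι R ⧸ Ideal.span (Set.range v))) [q.IsPrime]
    (hq : Ideal.Quotient.mk _ (Matrix.det (Matrix.of fun j k : σ => pderiv (cols k) (v j))) ∉ q) :
    Algebra.IsSmoothAt R q := by
  classical
  let eι : ι ≃ Fin (Fintype.card ι) := Fintype.equivFin ι
  let eσ : σ ≃ Fin (Fintype.card σ) := Fintype.equivFin σ
  let ρ : MvPolynomial ι R ≃ₐ[R] MvPolynomial (Fin (Fintype.card ι)) R := renameEquiv R eι
  have hρ : ∀ p, ρ p = rename eι p := fun p => rfl
  let v' : Fin (Fintype.card σ) → MvPolynomial (Fin (Fintype.card ι)) R :=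
    fun j => ρ (v (eσ.symm j))
  let cols' : Fin (Fintype.card σ) → Fin (Fintype.card ι) := fun j => eι (cols (eσ.symm j))
  have hI : Ideal.span (Set.range v') = (Ideal.span (Set.range v)).map (ρ : _ →ₐ[R] _) := by
    rw [Ideal.map_span]
    congr 1
    ext x
    constructor
    · rintro ⟨j, rfl⟩
      exact ⟨v (eσ.symm j), ⟨_, rfl⟩, rfl⟩
    · rintro ⟨_, ⟨j, rfl⟩, rfl⟩
      exact ⟨eσ j, by simp [v']⟩
  let E : (MvPolynomial ι R ⧸ Ideal.span (Set.range v)) ≃ₐ[R]
      (MvPolynomial (Fin (Fintype.card ι)) R ⧸ Ideal.span (Set.range v')) :=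
    Ideal.quotientEquivAlg _ _ ρ hI
  have hE : ∀ p, E (Ideal.Quotient.mk _ p) = Ideal.Quotient.mk _ (ρ p) := fun p => rfl
  have hprime : (q.comap E.symm.toAlgHom).IsPrime := Ideal.comap_isPrime _ _
  have hdet : Matrix.det (Matrix.of fun j k : Fin (Fintype.card σ) => pderiv (cols' k) (v' j)) =
      ρ (Matrix.det (Matrix.of fun j k : σ => pderiv (cols k) (v j))) := by
    rw [AlgEquiv.map_det, ← Matrix.det_submatrix_equiv_self eσ.symm]
    congr 1
    refine Matrix.ext fun j k => ?_
    simp only [Matrix.of_apply, Matrix.submatrix_apply, AlgEquiv.mapMatrix_apply, Matrix.map_apply,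
      v', cols', hρ]
    rw [pderiv_rename_of_injective eι eι.injective]
  have hsm : Algebra.IsSmoothAt R (q.comap E.symm.toAlgHom) := by
    refine isSmoothAt_of_minor_notMem v' cols' _ ?_
    rw [hdet, ← hE, Ideal.mem_comap]
    show ¬ E.symm (E _) ∈ q
    rw [AlgEquiv.symm_apply_apply]
    exact hq
  refine isSmoothAt_of_surjective E.symm.toAlgHom E.symm.surjective q ?_ hsm
  intro x hx
  refine ⟨1, ?_, ?_⟩
  · rw [map_one]; exact fun h1 => (Ideal.IsPrime.ne_top inferInstance) ((Ideal.eq_top_iff_one _).mpr h1)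
  · rw [one_mul]
    exact E.symm.injective (by rw [map_zero]; exact hx)

end Groth.Agent.Lib.Helper22.Dz
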