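import Groth.Agent.Lib.Helper22.PopJ

set_option autoImplicit false
universe u

namespace Groth.Agent.Lib.Helper22.Pop

open MvPolynomial

/-- transitivity of smoothness at a prime. -/
theorem isSmoothAt_trans {R D B : Type u} [CommRing R] [CommRing D] [CommRing B] [Algebra R D]
    [Algebra D B] [Algebra R B] [IsScalarTower R D B] (Q : Ideal B) [Q.IsPrime]
    (h1 : Algebra.IsSmoothAt R (Q.comap (algebraMap D B))) (h2 : Algebra.IsSmoothAt D Q) :
    Algebra.IsSmoothAt R Q := by
  let q := Q.comap (algebraMap D B)
  let g : Localization.AtPrime q →+* Localization.AtPrime Q :=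
    Localization.localRingHom q Q (algebraMap D B) rfl
  let _ : Algebra (Localization.AtPrime q) (Localization.AtPrime Q) := g.toAlgebra
  have hg : ∀ x : D, g (algebraMap D (Localization.AtPrime q) x) =
      algebraMap B (Localization.AtPrime Q) (algebraMap D B x) := fun x =>
    Localization.localRingHom_to_map q Q (algebraMap D B) rfl x
  have t1 : IsScalarTower D (Localization.AtPrime q) (Localization.AtPrime Q) :=
    IsScalarTower.of_algebraMap_eq (fun x => by
      rw [IsScalarTower.algebraMap_apply D B (Localization.AtPrime Q)]
      exact (hg x).symm)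
  have t2 : IsScalarTower R (Localization.AtPrime q) (Localization.AtPrime Q) :=
    IsScalarTower.of_algebraMap_eq (fun x => by
      rw [IsScalarTower.algebraMap_apply R D (Localization.AtPrime q),
        IsScalarTower.algebraMap_apply R B (Localization.AtPrime Q),
        IsScalarTower.algebraMap_apply R D B]
      exact (hg _).symm)
  have h1' : Algebra.FormallySmooth R (Localization.AtPrime q) := h1
  have h2' : Algebra.FormallySmooth D (Localization.AtPrime Q) := h2
  have h3 : Algebra.FormallySmooth (Localization.AtPrime q) (Localization.AtPrime Q) :=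
    Algebra.FormallySmooth.localization_base q.primeCompl
  exact Algebra.FormallySmooth.comp R (Localization.AtPrime q) (Localization.AtPrime Q)

/-- at a prime where `D` is smooth over `R`, the annihilator condition can be achieved. -/
theorem exists_notMem_ann {R D : Type u} [CommRing R] [IsNoetherianRing R] [CommRing D]
    [Algebra R D] [Algebra.FinitePresentation R D] (π : R)
    (hR : ∀ r : R, π ^ 2 * r = 0 → π * r = 0) (q : Ideal D) [q.IsPrime]
    (hq : Algebra.IsSmoothAt R q) :
    ∃ d : D, d ∉ q ∧ ∀ x : D, algebraMap R D π ^ 2 * x = 0 → algebraMap R D π * (d * x) = 0 := by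
  classical
  have hnoeth : IsNoetherianRing D := Algebra.FiniteType.isNoetherianRing R D
  have hflat : Module.Flat R (Localization.AtPrime q) := flat_atPrime_of_isSmoothAt q hq
  let I : Ideal D := LinearMap.ker (LinearMap.mulLeft D (algebraMap R D π ^ 2))
  have hI : ∀ x, x ∈ I ↔ algebraMap R D π ^ 2 * x = 0 := fun x => by
    rw [LinearMap.mem_ker, LinearMap.mulLeft_apply]
  obtain ⟨T, hT⟩ : I.FG := IsNoetherian.noetherian I
  have key : ∀ x ∈ I, ∃ s : D, s ∉ q ∧ s * (algebraMap R D π * x) = 0 := by
    intro x hx
    have h1 : algebraMap R (Localization.AtPrime q) π ^ 2 *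
        algebraMap D (Localization.AtPrime q) x = 0 := by
      rw [IsScalarTower.algebraMap_apply R D (Localization.AtPrime q), ← map_pow, ← map_mul,
        (hI x).mp hx, map_zero]
    have h2 := ann_sq_of_flat (L := Localization.AtPrime q) π 1
      (fun x hx => by rw [one_mul]; exact hR x hx) (by rw [map_one]; exact isUnit_one) _ h1
    rw [IsScalarTower.algebraMap_apply R D (Localization.AtPrime q), ← map_mul,
      IsLocalization.map_eq_zero_iff q.primeCompl] at h2
    obtain ⟨s, hs⟩ := h2
    exact ⟨s, s.2, hs⟩
  choose! s hs hs0 using key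
  refine ⟨∏ x ∈ T, s x, ?_, ?_⟩
  · intro h
    obtain ⟨x, hxT, hx⟩ := (Ideal.IsPrime.prod_mem_iff (hp := inferInstance)).mp h
    have hxI : x ∈ I := by rw [← hT]; exact Submodule.subset_span hxT
    exact hs x hxI hx
  · intro x hx
    have hxI : x ∈ Submodule.span D (T : Set D) := by
      change x ∈ Ideal.span (T : Set D)
      rw [hT]; exact (hI x).mpr hx
    induction hxI using Submodule.span_induction with
    | mem y hy =>
      have hyI : y ∈ I := by rw [← hT]; exact Submodule.subset_span hy
      rw [← Finset.mul_prod_erase T s hy]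
      have := hs0 y hyI
      calc algebraMap R D π * ((s y * ∏ x ∈ T.erase y, s x) * y)
          = (∏ x ∈ T.erase y, s x) * (s y * (algebraMap R D π * y)) := by ring
        _ = 0 := by rw [this, mul_zero]
    | zero => simp
    | add x y _ _ hx' hy' =>
      have hxI : x ∈ I := by rw [← hT]; change x ∈ Submodule.span D (T : Set D); assumption
      have hyI : y ∈ I := by rw [← hT]; change y ∈ Submodule.span D (T : Set D); assumption
      rw [mul_add, mul_add, hx' ((hI x).mp hxI), hy' ((hI y).mp hyI), add_zero]
    | smul a x _ hx' =>
      have hxI : x ∈ I := by rw [← hT]; change x ∈ Submodule.span D (T : Set D); assumption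
      rw [smul_eq_mul]
      calc algebraMap R D π * ((∏ x ∈ T, s x) * (a * x))
          = a * (algebraMap R D π * ((∏ x ∈ T, s x) * x)) := by ring
        _ = 0 := by rw [hx' ((hI x).mp hxI), mul_zero]

end Groth.Agent.Lib.Helper22.Pop
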