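import Mathlib
import Groth.Prelude.Def_Smoothing
import Groth.Agent.Lib.Helper22.Dz1
import Groth.Agent.Lib.Helper22.PopK

set_option autoImplicit false
universe u

namespace Groth.Agent.Lib.Helper22.SepB

open MvPolynomial

section

variable {T : Type u} [CommRing T] {d r : ℕ} (p : Fin d → T) (a : Fin r → T)

/-- the relation `p_i - Σ_j a_j z_ij`. -/
noncomputable def vrel (i : Fin d) : MvPolynomial (Fin d × Fin r) T :=
  C (p i) - ∑ j, C (a j) * X (i, j)

/-- the algebra `B = T[z_ij]/(p_i - Σ_j a_j z_ij)`. -/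
abbrev BB := MvPolynomial (Fin d × Fin r) T ⧸ Ideal.span (Set.range (vrel p a))

/-- the class of `z_ij`. -/
noncomputable def zB (i : Fin d) (j : Fin r) : BB p a :=
  Ideal.Quotient.mk _ (X (i, j))

theorem algebraMap_p_eq (i : Fin d) :
    algebraMap T (BB p a) (p i) = ∑ j, algebraMap T (BB p a) (a j) * zB p a i j := by
  have h : Ideal.Quotient.mk (Ideal.span (Set.range (vrel p a))) (vrel p a i) = 0 :=
    Ideal.Quotient.eq_zero_iff_mem.mpr (Ideal.subset_span ⟨i, rfl⟩)
  rw [vrel, map_sub, sub_eq_zero, map_sum] at h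
  have h1 : algebraMap T (BB p a) (p i) =
      Ideal.Quotient.mk (Ideal.span (Set.range (vrel p a))) (C (p i)) := rfl
  rw [h1, h]
  refine Finset.sum_congr rfl fun j _ => ?_
  rw [map_mul]
  rfl

theorem pderiv_vrel (i i' : Fin d) (j : Fin r) :
    pderiv (i', j) (vrel p a i) = if i = i' then -C (a j) else 0 := by
  classical
  simp only [vrel, map_sub, pderiv_C, zero_sub, map_sum, Derivation.leibniz, pderiv_X, smul_eq_mul,
    mul_zero, add_zero]
  by_cases h : i = i'
  · subst h
    rw [if_pos rfl, Finset.sum_eq_single j]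
    · simp
    · intro j' _ hj'
      rw [Pi.single_eq_of_ne, mul_zero]
      intro hcon
      exact hj' (Prod.mk.inj hcon).2
    · intro hj; exact absurd (Finset.mem_univ j) hj
  · rw [if_neg h, neg_eq_zero]
    refine Finset.sum_eq_zero fun j' _ => ?_
    rw [Pi.single_eq_of_ne, mul_zero]
    intro hcon
    exact h (Prod.mk.inj hcon).1

/-- `B` is smooth over `T` at primes not containing `a_j`. -/
theorem isSmoothAt_base (j : Fin r) (Q : Ideal (BB p a)) [Q.IsPrime]
    (hQ : algebraMap T (BB p a) (a j) ∉ Q) : Algebra.IsSmoothAt T Q := by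
  classical
  refine Dz.isSmoothAt_of_minor_notMem_gen (vrel p a) (fun i => (i, j)) Q ?_
  have hmat : (Matrix.of fun i i' : Fin d => pderiv ((fun i => (i, j)) i') (vrel p a i)) =
      Matrix.diagonal fun _ => -C (a j) := by
    ext i i'
    rw [Matrix.of_apply, pderiv_vrel, Matrix.diagonal_apply]
  rw [hmat, Matrix.det_diagonal, Finset.prod_const, map_pow, map_neg]
  intro hmem
  have := Ideal.IsPrime.mem_of_pow_mem inferInstance _ hmem
  rw [neg_mem_iff] at this
  exact hQ this

/-- universal property of `B`. -/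
theorem exists_lift {Λ : Type u} [CommRing Λ] (θ : T →+* Λ) (lam : Fin d → Fin r → Λ)
    (h : ∀ i, θ (p i) = ∑ j, θ (a j) * lam i j) :
    ∃ θ' : BB p a →+* Λ, ∀ t : T, θ' (algebraMap T (BB p a) t) = θ t := by
  let θ₂ : MvPolynomial (Fin d × Fin r) T →+* Λ := eval₂Hom θ (fun ij => lam ij.1 ij.2)
  have hker : ∀ x ∈ Ideal.span (Set.range (vrel p a)), θ₂ x = 0 := by
    intro x hx
    have hle : Ideal.span (Set.range (vrel p a)) ≤ RingHom.ker θ₂ := by
      rw [Ideal.span_le]
      rintro _ ⟨i, rfl⟩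
      change θ₂ (vrel p a i) = 0
      simp only [vrel, map_sub, map_sum, map_mul, θ₂, eval₂Hom_C, eval₂Hom_X']
      rw [h i, sub_self]
    exact hle hx
  refine ⟨Ideal.Quotient.lift _ θ₂ hker, fun t => ?_⟩
  change Ideal.Quotient.lift _ θ₂ hker (Ideal.Quotient.mk _ (C t)) = θ t
  rw [Ideal.Quotient.lift_mk]
  simp [θ₂]

end

end Groth.Agent.Lib.Helper22.SepB
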