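import Mathlib
import Groth.Agent.Lib.Helper22.SepB1

set_option autoImplicit false
universe u

namespace Groth.Agent.Lib.Helper22.SepB

open MvPolynomial

section

variable {R T : Type u} [CommRing R] [CommRing T] [Algebra R T] [Algebra.FinitePresentation R T]
  {d r : ℕ} (p : Fin d → T) (a : Fin r → T)

theorem finitePresentation_BB : Algebra.FinitePresentation R (BB p a) := by
  classical
  have h1 : Algebra.FinitePresentation T (BB p a) := by
    refine Algebra.FinitePresentation.quotient ?_
    refine ⟨(Finset.univ : Finset (Fin d)).image (vrel p a), ?_⟩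
    simp
  exact Algebra.FinitePresentation.trans R T (BB p a)

variable (hsm : ∀ j, Algebra.Smooth R (Localization.Away (a j)))

include hsm in
theorem isSmoothAt_of_notMem (j : Fin r) (Q : Ideal (BB p a)) [Q.IsPrime]
    (hQ : algebraMap T (BB p a) (a j) ∉ Q) : Algebra.IsSmoothAt R Q := by
  have h2 : Algebra.IsSmoothAt T Q := isSmoothAt_base p a j Q hQ
  have hsub := (Algebra.basicOpen_subset_smoothLocus_iff_smooth (R := R) (A := T)
    (f := a j)).mpr (hsm j)
  have hprime : (Q.comap (algebraMap T (BB p a))).IsPrime := Ideal.comap_isPrime _ Q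
  have h1 : Algebra.IsSmoothAt R (Q.comap (algebraMap T (BB p a))) := by
    have hmem : (⟨Q.comap (algebraMap T (BB p a)), hprime⟩ : PrimeSpectrum T) ∈
        (PrimeSpectrum.basicOpen (a j) : Set (PrimeSpectrum T)) := hQ
    exact hsub hmem
  exact Pop.isSmoothAt_trans (D := T) Q h1 h2

include hsm in
theorem smooth_away_of_pow_mem (y : BB p a) (n : ℕ)
    (hy : y ^ n ∈ Ideal.span (Set.range fun j => algebraMap T (BB p a) (a j))) :
    Algebra.Smooth R (Localization.Away y) := by
  have hfp : Algebra.FinitePresentation R (BB p a) := finitePresentation_BB p a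
  refine (Algebra.basicOpen_subset_smoothLocus_iff_smooth (R := R) (A := BB p a) (f := y)).mp ?_
  intro Q hQ
  have hyQ : y ∉ Q.asIdeal := hQ
  have hex : ∃ j, algebraMap T (BB p a) (a j) ∉ Q.asIdeal := by
    by_contra hcon
    push Not at hcon
    have hle : Ideal.span (Set.range fun j => algebraMap T (BB p a) (a j)) ≤ Q.asIdeal := by
      rw [Ideal.span_le]
      rintro _ ⟨j, rfl⟩
      exact hcon j
    exact hyQ (Ideal.IsPrime.mem_of_pow_mem Q.isPrime n (hle hy))
  obtain ⟨j, hj⟩ := hex
  exact isSmoothAt_of_notMem p a hsm j Q.asIdeal hj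

end

end Groth.Agent.Lib.Helper22.SepB
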