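import Mathlib
import Groth.Prelude.Def_Smoothing
import Groth.Agent.Lib.Helper22.SepB2
import Groth.Agent.Lib.Helper22.RegSep1

set_option autoImplicit false
universe u

namespace Groth.Agent.Lib.Helper22.DvrPop

open MvPolynomial IsLocalRing TensorProduct

/-- if the singular ideal extends to the unit ideal, the map factors through a smooth algebra. -/
theorem exists_smooth_factor_of_map_eq_top {R A Λ : Type u} [CommRing R] [IsNoetherianRing R]
    [CommRing A] [Algebra R A] [Algebra.FinitePresentation R A] [CommRing Λ] [Algebra R Λ]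
    (φ : A →ₐ[R] Λ) (htop : (Smoothing.singularIdeal R A).map φ = ⊤) :
    ∃ (B : Type u) (_ : CommRing B) (_ : Algebra R B),
      Algebra.Smooth R B ∧ ∃ (g : A →ₐ[R] B) (h : B →ₐ[R] Λ), h.comp g = φ := by
  classical
  haveI : IsNoetherianRing A := Algebra.FiniteType.isNoetherianRing R A
  obtain ⟨r, a, ha⟩ := Submodule.fg_iff_exists_fin_generating_family.mp
    (IsNoetherian.noetherian (Smoothing.singularIdeal R A))
  have hamem : ∀ j, a j ∈ Smoothing.singularIdeal R A := fun j => by
    rw [← ha]
    exact Submodule.subset_span ⟨j, rfl⟩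
  have hsm : ∀ j, Algebra.Smooth R (Localization.Away (a j)) := fun j =>
    RegSep.smooth_localizationAway_of_mem_singularIdeal (a j) (hamem j)
  have hspan : (Smoothing.singularIdeal R A).map φ = Ideal.span (Set.range fun j => φ (a j)) := by
    have h1 : (fun j => φ (a j)) = φ ∘ a := rfl
    rw [h1, Set.range_comp, ← Ideal.map_span]
    congr 1
    exact ha.symm
  have h1mem : (1 : Λ) ∈ Ideal.span (Set.range fun j => φ (a j)) := by
    rw [← hspan, htop]
    exact Submodule.mem_top
  rw [Ideal.span, Submodule.mem_span_range_iff_exists_fun] at h1mem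
  obtain ⟨lam, hlam⟩ := h1mem
  let p : Fin 1 → A := fun _ => 1
  have hfpB : Algebra.FinitePresentation R (SepB.BB p a) := SepB.finitePresentation_BB p a
  have hsmooth : Algebra.FormallySmooth R (SepB.BB p a) := by
    rw [← Algebra.smoothLocus_eq_univ_iff, Set.eq_univ_iff_forall]
    intro Q
    have hex : ∃ j, algebraMap A (SepB.BB p a) (a j) ∉ Q.asIdeal := by
      by_contra hcon
      push Not at hcon
      have h1 : algebraMap A (SepB.BB p a) (p 0) ∈ Q.asIdeal := by
        rw [SepB.algebraMap_p_eq p a 0]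
        exact Ideal.sum_mem _ fun j _ => Ideal.mul_mem_right _ _ (hcon j)
      have : (1 : SepB.BB p a) ∈ Q.asIdeal := by
        have h2 : algebraMap A (SepB.BB p a) (p 0) = 1 := map_one _
        rw [← h2]
        exact h1
      exact Q.isPrime.ne_top ((Ideal.eq_top_iff_one _).mpr this)
    obtain ⟨j, hj⟩ := hex
    exact SepB.isSmoothAt_of_notMem p a hsm j Q.asIdeal hj
  obtain ⟨θ', hθ'⟩ := SepB.exists_lift p a φ.toRingHom (fun _ j => lam j) (by
    intro i
    change φ 1 = ∑ j, φ (a j) * lam j
    rw [map_one, ← hlam]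
    refine Finset.sum_congr rfl fun j _ => ?_
    rw [smul_eq_mul, mul_comm])
  let θ'' : SepB.BB p a →ₐ[R] Λ :=
    { θ' with
      commutes' := by
        intro c
        change θ' (algebraMap R (SepB.BB p a) c) = algebraMap R Λ c
        rw [IsScalarTower.algebraMap_apply R A (SepB.BB p a), hθ']
        exact φ.commutes c }
  refine ⟨SepB.BB p a, inferInstance, inferInstance, ⟨hsmooth, hfpB⟩,
    IsScalarTower.toAlgHom R A (SepB.BB p a), θ'', ?_⟩
  ext x
  exact hθ' x

/-- if all local problems can be resolved, the algebra is ind-smooth. -/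
theorem indSmooth_of_resolvable {R Λ : Type u} [CommRing R] [IsNoetherianRing R] [CommRing Λ]
    [Algebra R Λ] [IsNoetherianRing Λ]
    (H : ∀ (A : Type u) [CommRing A] [Algebra R A] [Algebra.FinitePresentation R A]
      (φ : A →ₐ[R] Λ) (𝔮 : Ideal Λ) [𝔮.IsPrime],
      𝔮 ∈ (Smoothing.singRad R φ).minimalPrimes → Smoothing.Resolvable R φ 𝔮) :
    Smoothing.IndSmooth R Λ := by
  classical
  have key : ∀ I : Ideal Λ, ∀ (A : Type u) [CommRing A] [Algebra R A]
      [Algebra.FinitePresentation R A] (φ : A →ₐ[R] Λ), Smoothing.singRad R φ = I →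
      ∃ (B : Type u) (_ : CommRing B) (_ : Algebra R B),
        Algebra.Smooth R B ∧ ∃ (g : A →ₐ[R] B) (h : B →ₐ[R] Λ), h.comp g = φ := by
    intro I
    induction I using IsNoetherian.induction with
    | hgt I ih =>
      intro A _ _ _ φ hφ
      by_cases htop : I = ⊤
      · apply exists_smooth_factor_of_map_eq_top φ
        rw [htop] at hφ
        exact Ideal.radical_eq_top.mp hφ
      · obtain ⟨𝔮, h𝔮⟩ := Ideal.nonempty_minimalPrimes htop
        haveI : 𝔮.IsPrime := h𝔮.1.1
        obtain ⟨B, _, _, hfp, g, h, hcomp, hle, hnot⟩ := H A φ 𝔮 (hφ ▸ h𝔮)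
        have hlt : I < Smoothing.singRad R h := by
          rw [← hφ]
          refine lt_of_le_of_ne hle fun heq => hnot ?_
          rw [← heq, hφ]
          exact h𝔮.1.2
        obtain ⟨B', _, _, hsm, g', h', hcomp'⟩ := ih _ hlt B h rfl
        refine ⟨B', inferInstance, inferInstance, hsm, g'.comp g, h', ?_⟩
        rw [← AlgHom.comp_assoc, hcomp', hcomp]
  intro A _ _ hfp f
  exact key _ A f rfl

end Groth.Agent.Lib.Helper22.DvrPop
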