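import Mathlib
import Groth.Prelude.Def_Smoothing

set_option autoImplicit false
universe u

namespace Groth.Agent.Lib.Helper22.IndSm

/-- transport of ind-smoothness along a compatible pair of ring isomorphisms. -/
theorem indSmooth_of_bijective {k K R₁ Λ₁ : Type u} [CommRing k] [CommRing K] [Algebra k K]
    [CommRing R₁] [CommRing Λ₁] [Algebra R₁ Λ₁]
    (f : k →+* R₁) (hf : Function.Bijective f) (g : K →+* Λ₁) (hg : Function.Bijective g)
    (hcomm : ∀ c, g (algebraMap k K c) = algebraMap R₁ Λ₁ (f c))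
    (h : Smoothing.IndSmooth k K) : Smoothing.IndSmooth R₁ Λ₁ := by
  intro A' _ _ hfp φ'
  let fe : k ≃+* R₁ := RingEquiv.ofBijective f hf
  let ge : K ≃+* Λ₁ := RingEquiv.ofBijective g hg
  have hfe : ∀ c, fe c = f c := fun c => rfl
  have hge : ∀ x, ge x = g x := fun x => rfl
  -- `R₁` as a `k`-algebra and `A'` as a `k`-algebra
  let algkR₁ : Algebra k R₁ := f.toAlgebra
  let algkA' : Algebra k A' := ((algebraMap R₁ A').comp f).toAlgebra
  have tower1 : IsScalarTower k R₁ A' := IsScalarTower.of_algebraMap_eq' rfl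
  have hfpR₁ : Algebra.FinitePresentation k R₁ :=
    Algebra.FinitePresentation.equiv (AlgEquiv.ofBijective (Algebra.ofId k R₁) hf)
  have hfpA' : Algebra.FinitePresentation k A' := Algebra.FinitePresentation.trans k R₁ A'
  let φ : A' →ₐ[k] K :=
    { ge.symm.toRingHom.comp φ'.toRingHom with
      commutes' := by
        intro c
        change ge.symm (φ' (algebraMap R₁ A' (f c))) = algebraMap k K c
        rw [φ'.commutes, ← hcomm, ← hge, RingEquiv.symm_apply_apply] }
  have hφ : ∀ a, φ a = ge.symm (φ' a) := fun a => rfl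
  obtain ⟨B, _, _, hsm, gB, hB, hcomp⟩ := h A' hfpA' φ
  -- `k` as an `R₁`-algebra and `B` as an `R₁`-algebra
  let algR₁k : Algebra R₁ k := fe.symm.toRingHom.toAlgebra
  let algR₁B : Algebra R₁ B := ((algebraMap k B).comp fe.symm.toRingHom).toAlgebra
  have tower2 : IsScalarTower R₁ k B := IsScalarTower.of_algebraMap_eq' rfl
  have hsmk : Algebra.Smooth R₁ k := by
    have e : R₁ ≃ₐ[R₁] k := AlgEquiv.ofBijective (Algebra.ofId R₁ k) fe.symm.bijective
    exact Algebra.Smooth.of_equiv e
  have hsmB : Algebra.Smooth R₁ B := Algebra.Smooth.comp R₁ k B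
  have halgB : ∀ r : R₁, algebraMap R₁ B r = algebraMap k B (fe.symm r) := fun r => rfl
  have halgA' : ∀ c : k, algebraMap k A' c = algebraMap R₁ A' (f c) := fun c => rfl
  let gB' : A' →ₐ[R₁] B :=
    { gB.toRingHom with
      commutes' := by
        intro r
        change gB (algebraMap R₁ A' r) = algebraMap R₁ B r
        rw [halgB, ← gB.commutes, halgA', ← hfe, RingEquiv.apply_symm_apply] }
  let hB' : B →ₐ[R₁] Λ₁ :=
    { g.comp hB.toRingHom with
      commutes' := by
        intro r
        change g (hB (algebraMap R₁ B r)) = algebraMap R₁ Λ₁ r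
        rw [halgB, hB.commutes, hcomm, ← hfe, RingEquiv.apply_symm_apply] }
  refine ⟨B, inferInstance, algR₁B, hsmB, gB', hB', ?_⟩
  ext a
  change g (hB (gB a)) = φ' a
  have := congr($hcomp a)
  rw [AlgHom.comp_apply, hφ] at this
  rw [this, ← hge, RingEquiv.apply_symm_apply]

end Groth.Agent.Lib.Helper22.IndSm
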