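import Mathlib

set_option autoImplicit false
universe u

namespace Groth.Agent.Lib.Helper22.RegFlat

open MvPolynomial

/-- powers of variables form a "regular sequence" in a polynomial ring (element form). -/
theorem mem_span_pow_of_mul_mem {k : Type*} [CommRing k] {d : ℕ} (e : Fin d → ℕ) (i : Fin d)
    (m : ℕ) (y : MvPolynomial (Fin d) k)
    (h : X i ^ m * y ∈ Ideal.span ((fun j => (X j : MvPolynomial (Fin d) k) ^ e j) '' {j | j < i})) :
    y ∈ Ideal.span ((fun j => (X j : MvPolynomial (Fin d) k) ^ e j) '' {j | j < i}) := by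
  classical
  have himg : ((fun j => (X j : MvPolynomial (Fin d) k) ^ e j) '' {j | j < i}) =
      (fun s => monomial s (1 : k)) '' ((fun j => Finsupp.single j (e j)) '' {j | j < i}) := by
    rw [Set.image_image]
    refine Set.image_congr fun j _ => ?_
    rw [X_pow_eq_monomial]
  rw [himg] at h ⊢
  rw [mem_ideal_span_monomial_image] at h ⊢
  intro xi hxi
  have hxi' : Finsupp.single i m + xi ∈ (X i ^ m * y).support := by
    rw [mem_support_iff, X_pow_eq_monomial, coeff_monomial_mul, one_mul]
    exact mem_support_iff.mp hxi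
  obtain ⟨si, ⟨j, hj, rfl⟩, hle⟩ := h _ hxi'
  refine ⟨_, ⟨j, hj, rfl⟩, ?_⟩
  have hji : j ≠ i := ne_of_lt hj
  intro t
  by_cases ht : t = j
  · subst ht
    have := hle t
    simp only [Finsupp.single_eq_same, Finsupp.coe_add, Pi.add_apply] at this
    rw [Finsupp.single_eq_of_ne hji] at this
    simpa using this
  · rw [Finsupp.single_eq_of_ne ht]
    exact Nat.zero_le _

section packing

variable {S : Type*} [CommRing S]

theorem ofList_take_ofFn {d : ℕ} (v : Fin d → S) (i : ℕ) (hid : i < d) :
    (Ideal.ofList ((List.ofFn v).take i) • ⊤ : Submodule S S) =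
      Ideal.span (v '' {j | j < (⟨i, hid⟩ : Fin d)}) := by
  rw [smul_eq_mul, Ideal.mul_top]
  change Ideal.span {r | r ∈ (List.ofFn v).take i} = _
  congr 1
  ext z
  simp only [Set.mem_ofPred_eq, List.mem_take_iff_getElem, List.getElem_ofFn, List.length_ofFn,
    Set.mem_image]
  constructor
  · rintro ⟨j, hj, rfl⟩
    have hj' : j < i := lt_of_lt_of_le hj (min_le_left _ _)
    exact ⟨⟨j, by omega⟩, hj', rfl⟩
  · rintro ⟨j, hj, rfl⟩
    exact ⟨j.1, lt_min hj j.2, rfl⟩

theorem isWeaklyRegular_ofFn_iff {d : ℕ} (v : Fin d → S) :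
    RingTheory.Sequence.IsWeaklyRegular S (List.ofFn v) ↔
      ∀ (i : Fin d) (y : S), v i * y ∈ Ideal.span (v '' {j | j < i}) →
        y ∈ Ideal.span (v '' {j | j < i}) := by
  rw [RingTheory.Sequence.isWeaklyRegular_iff]
  constructor
  · intro h i y hy
    have hi : (i : ℕ) < (List.ofFn v).length := by simp
    have h1 := h i hi
    rw [List.getElem_ofFn, isSMulRegular_iff_right_eq_zero_of_smul] at h1
    have h2 := h1 (Submodule.Quotient.mk y)
    rw [← Submodule.Quotient.mk_smul, Submodule.Quotient.mk_eq_zero, Submodule.Quotient.mk_eq_zero,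
      ofList_take_ofFn v i i.2, smul_eq_mul] at h2
    exact h2 hy
  · intro h i hi
    have hid : i < d := by simpa using hi
    rw [List.getElem_ofFn, isSMulRegular_iff_right_eq_zero_of_smul]
    intro y hy
    obtain ⟨y, rfl⟩ := Submodule.Quotient.mk_surjective _ y
    rw [← Submodule.Quotient.mk_smul, Submodule.Quotient.mk_eq_zero, ofList_take_ofFn v i hid,
      smul_eq_mul] at hy
    rw [Submodule.Quotient.mk_eq_zero, ofList_take_ofFn v i hid]
    exact h ⟨i, hid⟩ y hy

end packing

theorem isWeaklyRegular_X_pow {k : Type*} [CommRing k] {d : ℕ} (e : Fin d → ℕ) :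
    RingTheory.Sequence.IsWeaklyRegular (MvPolynomial (Fin d) k)
      (List.ofFn fun j => (X j : MvPolynomial (Fin d) k) ^ e j) := by
  rw [isWeaklyRegular_ofFn_iff]
  intro i y hy
  exact mem_span_pow_of_mul_mem e i (e i) y hy

end Groth.Agent.Lib.Helper22.RegFlat
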