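import Mathlib
import Groth.Agent.Lib.Helper22.RegFlat1
import Groth.Agent.Lib.Helper17.Miracle

set_option autoImplicit false
universe u

namespace Groth.Agent.Lib.Helper22.RegFlat

open MvPolynomial IsLocalRing

theorem span_range_X_eq_ker {k : Type*} [CommRing k] {d : ℕ} :
    Ideal.span (Set.range (X : Fin d → MvPolynomial (Fin d) k)) =
      RingHom.ker (constantCoeff : MvPolynomial (Fin d) k →+* k) := by
  ext x
  rw [← Set.image_univ, mem_ideal_span_X_image, RingHom.mem_ker, constantCoeff_eq]
  constructor
  · intro h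
    by_contra hne
    obtain ⟨i, -, hi⟩ := h 0 (mem_support_iff.mpr hne)
    exact hi rfl
  · intro h m hm
    have hm0 : m ≠ 0 := by
      rintro rfl
      exact mem_support_iff.mp hm h
    obtain ⟨i, hi⟩ : ∃ i, m i ≠ 0 := by
      by_contra hcon
      push Not at hcon
      exact hm0 (Finsupp.ext hcon)
    exact ⟨i, Set.mem_univ _, hi⟩

theorem isMaximal_span_range_X {k : Type*} [Field k] {d : ℕ} :
    (Ideal.span (Set.range (X : Fin d → MvPolynomial (Fin d) k))).IsMaximal := by
  rw [span_range_X_eq_ker]
  exact RingHom.ker_isMaximal_of_surjective _ (fun c => ⟨C c, constantCoeff_C _ c⟩)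

/-- regular parameters give a flat map from the polynomial ring. -/
theorem flat_of_regular_parameters {k S : Type u} [Field k] [CommRing S] [IsRegularLocalRing S]
    {d : ℕ} (hd : (maximalIdeal S).spanFinrank = d) (u : Fin d → S)
    (hu : Ideal.span (Set.range u) = maximalIdeal S)
    [Algebra (MvPolynomial (Fin d) k) S] (hX : ∀ i, algebraMap (MvPolynomial (Fin d) k) S (X i) = u i) :
    Module.Flat (MvPolynomial (Fin d) k) S := by
  classical
  set R := MvPolynomial (Fin d) k with hR
  set 𝔪₀ : Ideal R := Ideal.span (Set.range (X : Fin d → R)) with h𝔪₀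
  have hmax : 𝔪₀.IsMaximal := isMaximal_span_range_X
  have hprime : 𝔪₀.IsPrime := hmax.isPrime
  -- the contraction of the maximal ideal
  have hcomap : (maximalIdeal S).comap (algebraMap R S) = 𝔪₀ := by
    symm
    apply hmax.eq_of_le
    · exact Ideal.comap_ne_top _ (maximalIdeal.isMaximal S).ne_top
    · rw [h𝔪₀, Ideal.span_le]
      rintro _ ⟨i, rfl⟩
      change algebraMap R S (X i) ∈ maximalIdeal S
      rw [hX, ← hu]
      exact Ideal.subset_span ⟨i, rfl⟩
  have hunits : ∀ y : 𝔪₀.primeCompl, IsUnit (algebraMap R S y) := by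
    intro y
    by_contra hnu
    have : algebraMap R S y ∈ maximalIdeal S := (mem_maximalIdeal _).mpr hnu
    have hy : (y : R) ∈ (maximalIdeal S).comap (algebraMap R S) := this
    rw [hcomap] at hy
    exact y.2 hy
  let R₀ := Localization.AtPrime 𝔪₀
  let algR₀S : Algebra R₀ S := (IsLocalization.lift (M := 𝔪₀.primeCompl) (S := R₀) hunits).toAlgebra
  have hlift : ∀ x : R, algebraMap R₀ S (algebraMap R R₀ x) = algebraMap R S x := fun x =>
    IsLocalization.lift_eq hunits x
  have tower : IsScalarTower R R₀ S := IsScalarTower.of_algebraMap_eq fun x => (hlift x).symm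
  have hloc : IsLocalHom (algebraMap R₀ S) := by
    constructor
    intro x hx
    obtain ⟨p, s, rfl⟩ := IsLocalization.exists_mk'_eq 𝔪₀.primeCompl x
    rw [IsLocalization.AtPrime.isUnit_mk'_iff R₀ 𝔪₀]
    intro hp
    have h1 : algebraMap R₀ S (IsLocalization.mk' R₀ p s) * algebraMap R S s = algebraMap R S p := by
      rw [← hlift, ← hlift, ← map_mul, IsLocalization.mk'_spec]
    have h2 : IsUnit (algebraMap R S p) := by
      rw [← h1]
      exact hx.mul (hunits s)
    have h3 : p ∈ (maximalIdeal S).comap (algebraMap R S) := by rw [hcomap]; exact hp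
    exact (mem_maximalIdeal _).mp h3 h2
  -- the regular sequence
  set fs : List R₀ := List.ofFn (fun i => algebraMap R R₀ (X i)) with hfs
  have hfsI : Ideal.ofList fs = maximalIdeal R₀ := by
    rw [hfs, Groth.Agent.Lib.helper17.Miracle.ofList_ofFn,
      ← IsLocalization.AtPrime.map_eq_maximalIdeal 𝔪₀ R₀]
    have : Ideal.map (algebraMap R R₀) 𝔪₀ =
        Ideal.span (algebraMap R R₀ '' Set.range (X : Fin d → R)) := Ideal.map_span _ _
    rw [this]
    congr 1
    ext z
    simp
  have hmem : ∀ f ∈ fs, f ∈ maximalIdeal R₀ := by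
    intro f hf
    rw [← hfsI]
    exact Ideal.subset_span hf
  have hflatR₀ : Module.Flat R R₀ := IsLocalization.flat R₀ 𝔪₀.primeCompl
  have hA : RingTheory.Sequence.IsWeaklyRegular R₀ fs := by
    have h1 := isWeaklyRegular_X_pow (k := k) (d := d) (fun _ => 1)
    simp only [pow_one] at h1
    have h2 := RingTheory.Sequence.IsWeaklyRegular.of_flat (S := R₀) h1
    rw [List.map_ofFn] at h2
    exact h2
  have hregS : RingTheory.Sequence.IsWeaklyRegular S fs := by
    refine (RingTheory.Sequence.isWeaklyRegular_map_algebraMap_iff S S fs).mp ?_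
    have : fs.map (algebraMap R₀ S) = List.ofFn u := by
      rw [hfs, List.map_ofFn]
      congr 1
      funext i
      simp only [Function.comp_apply]
      rw [hlift, hX]
    rw [this]
    exact Groth.Agent.Lib.helper15.isWeaklyRegular_ofFn S d hd u hu
  have hflat : Module.Flat R₀ S := by
    refine (Groth.Agent.S5777.result R₀ S S fs hmem hA).mpr ⟨?_, hregS⟩
    have hmaxfs : (Ideal.ofList fs).IsMaximal := hfsI ▸ maximalIdeal.isMaximal R₀
    let _ : Field (R₀ ⧸ Ideal.ofList fs) := Ideal.Quotient.field _
    exact Module.Flat.of_free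
  exact Module.Flat.trans R R₀ S

end Groth.Agent.Lib.Helper22.RegFlat
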