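import Mathlib
import Groth.Agent.Lib.Helper22.RegFlat2

set_option autoImplicit false
universe u

namespace Groth.Agent.Lib.Helper22.IndSm

open MvPolynomial TensorProduct

/-- flatness passes to quotients by an extended ideal. -/
theorem flat_quotient {A B : Type*} [CommRing A] [CommRing B] [Algebra A B] [Module.Flat A B]
    (I : Ideal A) : Module.Flat (A ⧸ I) (B ⧸ I.map (algebraMap A B)) :=
  Module.Flat.of_linearEquiv
    (Algebra.TensorProduct.quotIdealMapEquivQuotTensor B I).toLinearEquiv

section poly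

variable {k : Type*} [Field k] {d : ℕ}

theorem sub_C_constantCoeff_mem (p : MvPolynomial (Fin d) k) :
    p - C (constantCoeff p) ∈ Ideal.span (Set.range (X : Fin d → MvPolynomial (Fin d) k)) := by
  rw [RegFlat.span_range_X_eq_ker, RingHom.mem_ker, map_sub, constantCoeff_C, sub_self]

variable (K : Ideal (MvPolynomial (Fin d) k)) (E : ℕ)
  (hK : ∀ i, (X i : MvPolynomial (Fin d) k) ^ E ∈ K)

include hK in
theorem map_span_X_le_nilradical :
    (Ideal.span (Set.range (X : Fin d → MvPolynomial (Fin d) k))).map (Ideal.Quotient.mk K) ≤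
      nilradical (MvPolynomial (Fin d) k ⧸ K) := by
  rw [Ideal.map_span, Ideal.span_le]
  rintro _ ⟨_, ⟨i, rfl⟩, rfl⟩
  refine ⟨E, ?_⟩
  rw [← map_pow]
  exact Ideal.Quotient.eq_zero_iff_mem.mpr (hK i)

include hK in
theorem isNilpotent_map_span_X :
    IsNilpotent ((Ideal.span (Set.range (X : Fin d → MvPolynomial (Fin d) k))).map
      (Ideal.Quotient.mk K)) := by
  classical
  have hfg : ((Ideal.span (Set.range (X : Fin d → MvPolynomial (Fin d) k))).map
      (Ideal.Quotient.mk K)).FG :=
    Ideal.FG.map ⟨(Finset.univ : Finset (Fin d)).image X, by simp⟩ _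
  exact (Ideal.FG.isNilpotent_iff_le_nilradical hfg).mpr (map_span_X_le_nilradical K E hK)

include hK in
theorem isUnit_mk_of_notMem (p : MvPolynomial (Fin d) k)
    (hp : p ∉ Ideal.span (Set.range (X : Fin d → MvPolynomial (Fin d) k))) :
    IsUnit (Ideal.Quotient.mk K p) := by
  have hmax : (Ideal.span (Set.range (X : Fin d → MvPolynomial (Fin d) k))).IsMaximal :=
    RegFlat.isMaximal_span_range_X
  obtain ⟨y, i, hi, hyi⟩ := hmax.exists_inv hp
  have hnil : IsNilpotent (Ideal.Quotient.mk K i) :=
    map_span_X_le_nilradical K E hK (Ideal.mem_map_of_mem _ hi)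
  have h1 : Ideal.Quotient.mk K y * Ideal.Quotient.mk K p = 1 - Ideal.Quotient.mk K i := by
    rw [← map_mul, ← map_one (Ideal.Quotient.mk K), ← map_sub, ← hyi]
    congr 1
    ring
  have h2 : IsUnit (Ideal.Quotient.mk K y * Ideal.Quotient.mk K p) := by
    rw [h1]; exact hnil.isUnit_one_sub
  exact isUnit_of_mul_isUnit_right h2

end poly

end Groth.Agent.Lib.Helper22.IndSm
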