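import Mathlib

/-!
# Lifting standard smooth algebras along `A → A/I` (helper22)

Adapted from helper26's `FiniteEtaleLift.exists_etale_lift` (étale case).

* `isStandardSmooth_away_jacobian`: `A[X_ι]/(r_j)[1/Δ]` is standard smooth, `Δ` the Jacobian.
* `exists_isStandardSmooth_lift`: every standard smooth `A/I`-algebra is the reduction of a
  standard smooth `A`-algebra.
* `nonempty_tensor_algEquiv_of_surjective`, `nonempty_quotient_algEquiv_of_surjective`.
-/

universe u

namespace Groth.Agent.Lib.helper22.SmoothLiftStd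

variable {A : Type u} [CommRing A] (I : Ideal A)

/-- A surjection `ψ : B → C` onto an `A/I`-algebra with kernel `IB` identifies `C` with
`B/IB`. -/
theorem nonempty_quotient_algEquiv_of_surjective (B : Type u) [CommRing B] [Algebra A B]
    (C : Type u) [CommRing C] [Algebra (A ⧸ I) C] (ψ : B →+* C)
    (hψA : ∀ a, ψ (algebraMap A B a) = algebraMap (A ⧸ I) C (Ideal.Quotient.mk I a))
    (hsurj : Function.Surjective ψ) (hker : RingHom.ker ψ = I.map (algebraMap A B)) :
    Nonempty ((B ⧸ I.map (algebraMap A B)) ≃ₐ[A ⧸ I] C) := by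
  let ε₀ : B ⧸ RingHom.ker ψ ≃+* C := RingHom.quotientKerEquivOfSurjective hsurj
  let ε : B ⧸ I.map (algebraMap A B) ≃+* C := (Ideal.quotEquivOfEq hker.symm).trans ε₀
  have hε : ∀ b : B, ε (Ideal.Quotient.mk _ b) = ψ b := fun b => rfl
  exact ⟨AlgEquiv.ofRingEquiv (f := ε) (by
    intro x
    obtain ⟨a, rfl⟩ := Ideal.Quotient.mk_surjective x
    exact (hε _).trans (hψA a))⟩

/-- A surjection `ψ : B → C` onto an `A/I`-algebra with kernel `IB` identifies `C` with
`(A/I) ⊗ B`. -/
theorem nonempty_tensor_algEquiv_of_surjective (B : Type u) [CommRing B] [Algebra A B]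
    (C : Type u) [CommRing C] [Algebra (A ⧸ I) C] (ψ : B →+* C)
    (hψA : ∀ a, ψ (algebraMap A B a) = algebraMap (A ⧸ I) C (Ideal.Quotient.mk I a))
    (hsurj : Function.Surjective ψ) (hker : RingHom.ker ψ = I.map (algebraMap A B)) :
    Nonempty (TensorProduct A (A ⧸ I) B ≃ₐ[A ⧸ I] C) := by
  obtain ⟨ε'⟩ := nonempty_quotient_algEquiv_of_surjective I B C ψ hψA hsurj hker
  exact ⟨(Algebra.TensorProduct.quotIdealMapEquivQuotTensor B I).symm.trans ε'⟩

open MvPolynomial in
/-- `A[X_ι]/(r_j)[1/Δ]` is standard smooth, `Δ` the Jacobian. -/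
theorem isStandardSmooth_away_jacobian {ι σ : Type} [Finite ι] [Finite σ]
    (r : σ → MvPolynomial ι A) (m : σ → ι) (hm : Function.Injective m) :
    Algebra.IsStandardSmooth A (Localization.Away
      (Algebra.PreSubmersivePresentation.naive (R := A) (v := r) m hm).jacobian) := by
  set Pre := Algebra.PreSubmersivePresentation.naive (R := A) (v := r) m hm with hPre
  set Δ := Pre.jacobian with hΔdef
  have hΔ : IsUnit (algebraMap _ (Localization.Away Δ) Δ) :=
    IsLocalization.Away.algebraMap_isUnit _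
  let SP : Algebra.SubmersivePresentation A (Localization.Away Δ) _ _ :=
    { toPreSubmersivePresentation := .comp (.localizationAway (Localization.Away Δ) Δ) Pre,
      jacobian_isUnit := by simpa [Algebra.smul_def, -isUnit_map_iff, hΔ] }
  exact SP.isStandardSmooth

open MvPolynomial in
/-- Standard smooth algebras lift along `A → A/I`. -/
theorem exists_isStandardSmooth_lift (C : Type u) [CommRing C] [Algebra (A ⧸ I) C]
    [Algebra.IsStandardSmooth (A ⧸ I) C] :
    ∃ (B₁ : Type u) (_ : CommRing B₁) (_ : Algebra A B₁) (_ : Algebra.IsStandardSmooth A B₁)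
      (ψ : B₁ →+* C),
      (∀ a, ψ (algebraMap A B₁ a) = algebraMap (A ⧸ I) C (Ideal.Quotient.mk I a)) ∧
      Function.Surjective ψ ∧ RingHom.ker ψ = I.map (algebraMap A B₁) := by
  classical
  obtain ⟨ι, σ, _, _, ⟨P⟩⟩ := Algebra.IsStandardSmooth.out (R := A ⧸ I) (S := C)
  have := Fintype.ofFinite σ
  have hlift : ∀ j : σ, ∃ q : MvPolynomial ι A, map (Ideal.Quotient.mk I) q = P.relation j :=
    fun j => map_surjective _ Ideal.Quotient.mk_surjective _
  choose r hr using hlift
  set Pre := Algebra.PreSubmersivePresentation.naive (R := A) (v := r) P.map P.map_inj with hPre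
  set Δ := Pre.jacobian with hΔdef
  have het : Algebra.IsStandardSmooth A (Localization.Away Δ) :=
    isStandardSmooth_away_jacobian r P.map P.map_inj
  let Q₀ := MvPolynomial ι A ⧸ Ideal.span (Set.range r)
  let B₁ := Localization.Away Δ
  -- the map `ψ₀ : A[X] → C`
  let g : A →+* C := (algebraMap (A ⧸ I) C).comp (Ideal.Quotient.mk I)
  let ψ₀ : MvPolynomial ι A →+* C := eval₂Hom g P.val
  have hψ₀ : ∀ q, ψ₀ q = aeval P.val (map (Ideal.Quotient.mk I) q) := by
    intro q
    show eval₂ g P.val q = _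
    rw [aeval_def, eval₂_map]
  have hψ₀r : ∀ q ∈ Ideal.span (Set.range r), ψ₀ q = 0 := by
    have hle : Ideal.span (Set.range r) ≤ RingHom.ker ψ₀ := by
      rw [Ideal.span_le]
      rintro _ ⟨j, rfl⟩
      show ψ₀ (r j) = 0
      rw [hψ₀, hr, Algebra.Presentation.aeval_val_relation]
    exact fun q hq => hle hq
  let ψ₁ : Q₀ →+* C := Ideal.Quotient.lift _ ψ₀ hψ₀r
  have hψ₁ : ∀ q, ψ₁ (Ideal.Quotient.mk _ q) = ψ₀ q := fun q => rfl
  have hring : ∀ q : MvPolynomial ι A, algebraMap Pre.Ring Q₀ q = Ideal.Quotient.mk _ q := by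
    intro q
    have h1 : (algebraMap Pre.Ring Q₀ : MvPolynomial ι A →+* Q₀) = Ideal.Quotient.mk _ := by
      apply MvPolynomial.ringHom_ext
      · intro a
        rw [Algebra.Generators.algebraMap_apply]
        simp
        rfl
      · intro i
        rw [Algebra.Generators.algebraMap_apply, aeval_X]
        rfl
    exact RingHom.congr_fun h1 q
  have hΔeq : ψ₁ Δ = P.jacobian := by
    rw [hΔdef, Algebra.PreSubmersivePresentation.jacobian_eq_jacobiMatrix_det, hring, hψ₁,
      Algebra.PreSubmersivePresentation.jacobian_eq_jacobiMatrix_det, RingHom.map_det,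
      RingHom.map_det]
    congr 1
    ext i j
    rw [RingHom.mapMatrix_apply, RingHom.mapMatrix_apply, Matrix.map_apply, Matrix.map_apply, hPre,
      Algebra.PreSubmersivePresentation.jacobiMatrix_naive,
      Algebra.PreSubmersivePresentation.jacobiMatrix_apply, hψ₀, ← pderiv_map, hr,
      Algebra.Generators.algebraMap_apply]
  have hΔu : IsUnit (ψ₁ Δ) := by
    rw [hΔeq]
    exact P.jacobian_isUnit
  let ψ : B₁ →+* C := IsLocalization.Away.lift Δ (g := ψ₁) hΔu
  have hψ : ∀ z : Q₀, ψ (algebraMap Q₀ B₁ z) = ψ₁ z := fun z =>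
    IsLocalization.Away.lift_eq Δ hΔu z
  have hAQ₀ : ∀ a : A, algebraMap A Q₀ a = Ideal.Quotient.mk _ (MvPolynomial.C a) := fun a => rfl
  have hcompat : ∀ a, ψ (algebraMap A B₁ a) = algebraMap (A ⧸ I) C (Ideal.Quotient.mk I a) := by
    intro a
    rw [IsScalarTower.algebraMap_apply A Q₀ B₁, hψ, hAQ₀, hψ₁]
    show eval₂ g P.val (MvPolynomial.C a) = _
    rw [eval₂_C]
    rfl
  refine ⟨B₁, inferInstance, inferInstance, het, ψ, hcompat, ?_, ?_⟩
  · intro c
    obtain ⟨p, rfl⟩ := P.algebraMap_surjective c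
    obtain ⟨q, rfl⟩ := map_surjective (Ideal.Quotient.mk I) Ideal.Quotient.mk_surjective p
    refine ⟨algebraMap Q₀ B₁ (Ideal.Quotient.mk _ q), ?_⟩
    rw [hψ, hψ₁, hψ₀, Algebra.Generators.algebraMap_apply]
  · apply le_antisymm
    · intro y hy
      rw [RingHom.mem_ker] at hy
      obtain ⟨⟨z, ⟨_, k, rfl⟩⟩, hz⟩ := IsLocalization.surj (Submonoid.powers Δ) y
      simp only at hz
      obtain ⟨q, rfl⟩ := Ideal.Quotient.mk_surjective z
      have h1 : ψ₀ q = 0 := by
        have := congrArg ψ hz
        rw [map_mul, hy, zero_mul, hψ, hψ₁] at this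
        exact this.symm
      -- `q` lies in `(r) + I A[X]`
      rw [hψ₀, ← Algebra.Generators.algebraMap_apply, ← RingHom.mem_ker] at h1
      have h2 : map (Ideal.Quotient.mk I) q ∈
          (Ideal.span (Set.range r)).map (map (Ideal.Quotient.mk I)) := by
        rw [Ideal.map_span, ← Set.range_comp]
        have h3 : (map (Ideal.Quotient.mk I) ∘ r) = P.relation := funext hr
        rw [h3, P.span_range_relation_eq_ker]
        exact h1
      obtain ⟨q', hq', hqq'⟩ := (Ideal.mem_map_iff_of_surjective _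
        (map_surjective _ Ideal.Quotient.mk_surjective)).mp h2
      have h4 : q - q' ∈ I.map (MvPolynomial.C : A →+* MvPolynomial ι A) := by
        have : q - q' ∈ RingHom.ker (map (Ideal.Quotient.mk I) : MvPolynomial ι A →+* _) := by
          rw [RingHom.mem_ker, map_sub, hqq', sub_self]
        rwa [ker_map, Ideal.mk_ker] at this
      have h5 : Ideal.Quotient.mk (Ideal.span (Set.range r)) q ∈ I.map (algebraMap A Q₀) := by
        have h6 : Ideal.Quotient.mk (Ideal.span (Set.range r)) q =
            Ideal.Quotient.mk (Ideal.span (Set.range r)) (q - q') := by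
          rw [map_sub, Ideal.Quotient.eq_zero_iff_mem.mpr hq', sub_zero]
        have h7 : I.map (algebraMap A Q₀) =
            (I.map (MvPolynomial.C : A →+* MvPolynomial ι A)).map (Ideal.Quotient.mk _) := by
          rw [Ideal.map_map]
          rfl
        rw [h6, h7]
        exact Ideal.mem_map_of_mem _ h4
      have h8 : algebraMap Q₀ B₁ (Ideal.Quotient.mk _ q) ∈ I.map (algebraMap A B₁) := by
        have h9 : I.map (algebraMap A B₁) = (I.map (algebraMap A Q₀)).map (algebraMap Q₀ B₁) := by
          rw [Ideal.map_map, ← IsScalarTower.algebraMap_eq]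
        rw [h9]
        exact Ideal.mem_map_of_mem _ h5
      have hu : IsUnit (algebraMap Q₀ B₁ (Δ ^ k)) :=
        (IsLocalization.Away.algebraMap_isUnit (S := B₁) Δ).map (powMonoidHom k) |> fun h => by
          rw [map_pow]; exact h
      rw [← hz] at h8
      exact (Ideal.unit_mul_mem_iff_mem _ hu).mp (by rwa [mul_comm] at h8)
    · rw [Ideal.map_le_iff_le_comap]
      intro i hi
      rw [Ideal.mem_comap, RingHom.mem_ker, hcompat, Ideal.Quotient.eq_zero_iff_mem.mpr hi,
        map_zero]

end Groth.Agent.Lib.helper22.SmoothLiftStd
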