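import Mathlib
import Groth.Prelude.Def_Smoothing
import Groth.Agent.S2022
import Groth.Agent.Lib.Helper22.IndSm4
import Groth.Agent.Lib.Helper22.IndSm2

set_option autoImplicit false
universe u

namespace Groth.Agent.Lib.Helper22.DvrPop

open IsLocalRing TensorProduct

/-- for a flat local map of local rings with `𝔪_R Λ = 𝔪_Λ` and ind-smooth residue field extension,
the reduction modulo an `𝔪_R`-primary ideal is ind-smooth. -/
theorem indSmooth_quotient_of_residueField {R Λ : Type u} [CommRing R] [IsLocalRing R] [CommRing Λ]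
    [IsLocalRing Λ] [Algebra R Λ] [IsLocalHom (algebraMap R Λ)] [Module.Flat R Λ]
    (he : (maximalIdeal R).map (algebraMap R Λ) = maximalIdeal Λ)
    (hres : Smoothing.IndSmooth (ResidueField R) (ResidueField Λ))
    (K : Ideal R) (hK : K ≤ maximalIdeal R) (N : ℕ) (hN : maximalIdeal R ^ N ≤ K) :
    Smoothing.IndSmooth (R ⧸ K) (Λ ⧸ K.map (algebraMap R Λ)) := by
  classical
  set KΛ := K.map (algebraMap R Λ) with hKΛ
  have hKΛle : KΛ ≤ maximalIdeal Λ := by
    rw [← he]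
    exact Ideal.map_mono hK
  set I : Ideal (R ⧸ K) := (maximalIdeal R).map (Ideal.Quotient.mk K) with hI
  have hInil : IsNilpotent I := by
    refine ⟨N, ?_⟩
    rw [hI, ← Ideal.map_pow, Ideal.zero_eq_bot, eq_bot_iff]
    calc (maximalIdeal R ^ N).map (Ideal.Quotient.mk K) ≤ K.map (Ideal.Quotient.mk K) :=
          Ideal.map_mono hN
      _ = ⊥ := Ideal.map_quotient_self K
  haveI : Module.Flat (R ⧸ K) (Λ ⧸ KΛ) := IndSm.flat_quotient K
  refine Groth.Agent.S2022.result I hInil ?_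
  set J : Ideal (Λ ⧸ KΛ) := I.map (algebraMap (R ⧸ K) (Λ ⧸ KΛ)) with hJ
  have hJeq : J = (maximalIdeal Λ).map (Ideal.Quotient.mk KΛ) := by
    have hcomp : (algebraMap (R ⧸ K) (Λ ⧸ KΛ)).comp (Ideal.Quotient.mk K) =
        (Ideal.Quotient.mk KΛ).comp (algebraMap R Λ) := by
      ext r
      exact Ideal.Quotient.algebraMap_quotient_map_quotient _
    calc J = (maximalIdeal R).map ((algebraMap (R ⧸ K) (Λ ⧸ KΛ)).comp (Ideal.Quotient.mk K)) :=
          Ideal.map_map _ _
      _ = (maximalIdeal R).map ((Ideal.Quotient.mk KΛ).comp (algebraMap R Λ)) := by rw [hcomp]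
      _ = ((maximalIdeal R).map (algebraMap R Λ)).map (Ideal.Quotient.mk KΛ) :=
          (Ideal.map_map _ _).symm
      _ = (maximalIdeal Λ).map (Ideal.Quotient.mk KΛ) := by rw [he]
  let f : ResidueField R →+* (R ⧸ K) ⧸ I := (DoubleQuot.quotQuotEquivQuotOfLE hK).symm.toRingHom
  let g₁ : ResidueField Λ ≃+* (Λ ⧸ KΛ) ⧸ (maximalIdeal Λ).map (Ideal.Quotient.mk KΛ) :=
    (DoubleQuot.quotQuotEquivQuotOfLE hKΛle).symm
  let g₂ : ((Λ ⧸ KΛ) ⧸ (maximalIdeal Λ).map (Ideal.Quotient.mk KΛ)) ≃+* (Λ ⧸ KΛ) ⧸ J :=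
    Ideal.quotEquivOfEq hJeq.symm
  let g : ResidueField Λ →+* (Λ ⧸ KΛ) ⧸ J := (g₁.trans g₂).toRingHom
  refine IndSm.indSmooth_of_bijective f (RingEquiv.bijective _) g (RingEquiv.bijective _) ?_ hres
  intro c
  obtain ⟨r, rfl⟩ := residue_surjective c
  rw [ResidueField.algebraMap_residue]
  have hf : f (residue R r) = Ideal.Quotient.mk I (Ideal.Quotient.mk K r) :=
    DoubleQuot.quotQuotEquivQuotOfLE_symm_mk r hK
  have hg : g (residue Λ (algebraMap R Λ r)) =
      Ideal.Quotient.mk J (Ideal.Quotient.mk KΛ (algebraMap R Λ r)) := by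
    change g₂ (g₁ (Ideal.Quotient.mk _ (algebraMap R Λ r))) = _
    have : g₁ (Ideal.Quotient.mk _ (algebraMap R Λ r)) =
        Ideal.Quotient.mk _ (Ideal.Quotient.mk KΛ (algebraMap R Λ r)) :=
      DoubleQuot.quotQuotEquivQuotOfLE_symm_mk _ hKΛle
    rw [this]
    rfl
  rw [hf, hg, Ideal.Quotient.algebraMap_quotient_map_quotient,
    Ideal.Quotient.algebraMap_quotient_map_quotient]

end Groth.Agent.Lib.Helper22.DvrPop
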