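import Mathlib
import Groth.Prelude.Def_Smoothing
import Groth.Agent.S9442

set_option autoImplicit false
universe u

namespace Groth.Agent.Lib.Helper22.IndSm

open IsLocalRing

theorem isRegularLocalRing_atPrime_bot (S : Type u) [CommRing S] [IsDomain S] [IsNoetherianRing S] :
    IsRegularLocalRing (Localization.AtPrime (⊥ : Ideal S)) := by
  have hmax : maximalIdeal (Localization.AtPrime (⊥ : Ideal S)) = ⊥ := by
    rw [← IsLocalization.AtPrime.map_eq_maximalIdeal (⊥ : Ideal S), Ideal.map_bot]
  have isf : IsField (Localization.AtPrime (⊥ : Ideal S)) :=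
    IsLocalRing.isField_iff_maximalIdeal_eq.mpr hmax
  let _ := isf.toField
  infer_instance

/-- a geometrically reduced field extension is ind-smooth. -/
theorem indSmooth_of_geometricallyReduced {k K : Type u} [Field k] [Field K] [Algebra k K]
    [Algebra.IsGeometricallyReduced k K] : Smoothing.IndSmooth k K := by
  classical
  intro A _ _ hfp f
  set 𝔭 : Ideal A := RingHom.ker f.toRingHom with h𝔭
  have hprime : 𝔭.IsPrime := RingHom.ker_isPrime f.toRingHom
  let A₁ := A ⧸ 𝔭
  let f₁ : A₁ →ₐ[k] K := Ideal.Quotient.liftₐ 𝔭 f (fun a ha => ha)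
  have hf₁mk : ∀ a, f₁ (Ideal.Quotient.mk 𝔭 a) = f a := fun a => rfl
  have hf₁inj : Function.Injective f₁ := by
    rw [injective_iff_map_eq_zero]
    intro x hx
    obtain ⟨a, rfl⟩ := Ideal.Quotient.mk_surjective x
    rw [hf₁mk] at hx
    exact Ideal.Quotient.eq_zero_iff_mem.mpr hx
  have hdom : IsDomain A₁ := Ideal.Quotient.isDomain 𝔭
  have hnoethA : IsNoetherianRing A := Algebra.FiniteType.isNoetherianRing k A
  have hfp₁ : Algebra.FinitePresentation k A₁ :=
    Algebra.FinitePresentation.of_finiteType.mp inferInstance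
  -- the residue field at the generic point embeds into `K`
  let ι : (⊥ : Ideal A₁).ResidueField →ₐ[k] K :=
    Ideal.ResidueField.liftₐ (⊥ : Ideal A₁) f₁ bot_le (by
      intro x hx
      have hx0 : x ≠ 0 := fun h => hx (by rw [h]; exact Ideal.zero_mem _)
      change IsUnit (f₁ x)
      exact isUnit_iff_ne_zero.mpr (fun h => hx0 (hf₁inj (by rw [h, map_zero]))))
  have hgr : Algebra.IsGeometricallyReduced k (⊥ : Ideal A₁).ResidueField :=
    Algebra.IsGeometricallyReduced.of_injective ι (RingHom.injective ι.toRingHom)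
  have hreg : IsRegularLocalRing (Localization.AtPrime (⊥ : Ideal A₁)) :=
    isRegularLocalRing_atPrime_bot A₁
  have hsm : Algebra.IsSmoothAt k (⊥ : Ideal A₁) :=
    (Groth.Agent.S9442.result k A₁ (⊥ : Ideal A₁)).mpr hreg
  obtain ⟨g, hg, hgsm⟩ := Algebra.IsSmoothAt.exists_notMem_smooth k (⊥ : Ideal A₁)
  have hg0 : g ≠ 0 := fun h => hg (by rw [h]; exact Ideal.zero_mem _)
  have hunit : ∀ y : Submonoid.powers g, IsUnit (f₁ y) := by
    rintro ⟨_, n, rfl⟩
    rw [map_pow]
    exact (isUnit_iff_ne_zero.mpr (fun h => hg0 (hf₁inj (by rw [h, map_zero])))).pow n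
  let h : Localization.Away g →ₐ[k] K := IsLocalization.liftAlgHom (M := Submonoid.powers g) hunit
  refine ⟨Localization.Away g, inferInstance, inferInstance, hgsm,
    (IsScalarTower.toAlgHom k A₁ (Localization.Away g)).comp (Ideal.Quotient.mkₐ k 𝔭), h, ?_⟩
  ext a
  change IsLocalization.lift hunit (algebraMap A₁ (Localization.Away g) (Ideal.Quotient.mk 𝔭 a)) = f a
  rw [IsLocalization.lift_eq]
  rfl

end Groth.Agent.Lib.Helper22.IndSm
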