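import Groth.Agent.Lib.Helper22.Dz7
import Groth.Agent.Lib.Helper22.Deloc12

set_option autoImplicit false
universe u

namespace Groth.Agent.Lib.Helper22.Dz

open MvPolynomial TensorProduct Groth.Agent.Lib.Helper22.Pop

/-- in the zero-dimensional localization every element of `𝔮` is killed, up to a power, by an
element outside `𝔮`. -/
theorem exists_notMem_mul_pow_eq_zero {Λ Λq : Type u} [CommRing Λ] [CommRing Λq] [Algebra Λ Λq]
    (𝔮 : Ideal Λ) [𝔮.IsPrime] [IsLocalization.AtPrime Λq 𝔮] (hdim : ringKrullDim Λq = 0)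
    {r : ℕ} (x : Fin r → Λ) (hx : ∀ i, x i ∈ 𝔮) :
    ∃ (N : ℕ) (l : Λ), l ∉ 𝔮 ∧ ∀ i, l * x i ^ N = 0 := by
  classical
  have hloc : IsLocalRing Λq := IsLocalization.AtPrime.isLocalRing Λq 𝔮
  have hK : Ring.KrullDimLE 0 Λq := by
    rw [Ring.krullDimLE_iff, hdim]; rfl
  have h1 : ∀ i, ∃ (k : ℕ) (t : Λ), t ∉ 𝔮 ∧ t * x i ^ k = 0 := by
    intro i
    have hnu : algebraMap Λ Λq (x i) ∈ nonunits Λq := by
      rw [mem_nonunits_iff, IsLocalization.AtPrime.isUnit_to_map_iff Λq 𝔮]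
      exact fun h => h (hx i)
    obtain ⟨k, hk⟩ := (Ring.KrullDimLE.isNilpotent_iff_mem_nonunits).mpr hnu
    rw [← map_pow] at hk
    obtain ⟨t, ht⟩ := (IsLocalization.map_eq_zero_iff 𝔮.primeCompl Λq _).mp hk
    exact ⟨k, t, t.2, ht⟩
  choose k t ht hkt using h1
  refine ⟨∑ i, k i, ∏ i, t i, ?_, ?_⟩
  · intro hmem
    obtain ⟨i, -, hi⟩ := (Ideal.IsPrime.prod_mem_iff).mp hmem
    exact ht i hi
  · intro i
    have h2 : (∏ i, t i) = (∏ j ∈ Finset.univ.erase i, t j) * t i :=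
      (Finset.prod_erase_mul _ _ (Finset.mem_univ i)).symm
    have h3 : (∑ i, k i) = k i + ∑ j ∈ Finset.univ.erase i, k j :=
      (Finset.add_sum_erase _ _ (Finset.mem_univ i)).symm
    rw [h2, h3, pow_add, mul_assoc, ← mul_assoc (t i), hkt, zero_mul, mul_zero]

theorem resolvable_of_dim_zero {R A Λ Rₚ Λq : Type u} [CommRing R] [IsNoetherianRing R]
    [CommRing A] [Algebra R A] [Algebra.FinitePresentation R A] [CommRing Λ] [Algebra R Λ]
    (φ : A →ₐ[R] Λ) (𝔮 : Ideal Λ) [𝔮.IsPrime]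
    (hmin : 𝔮 ∈ (Smoothing.singRad R φ).minimalPrimes)
    [CommRing Rₚ] [Algebra R Rₚ] [IsLocalization.AtPrime Rₚ (𝔮.comap (algebraMap R Λ))]
    [CommRing Λq] [Algebra Λ Λq] [IsLocalization.AtPrime Λq 𝔮] [Algebra R Λq] [IsScalarTower R Λ Λq]
    [Algebra Rₚ Λq] [IsScalarTower R Rₚ Λq] (hdim : ringKrullDim Λq = 0)
    (hres : Smoothing.Resolvable Rₚ
      (Algebra.TensorProduct.lift (Algebra.ofId Rₚ Λq) ((IsScalarTower.toAlgHom R Λ Λq).comp φ)
        (fun _ _ => Commute.all _ _) : Rₚ ⊗[R] A →ₐ[Rₚ] Λq) (𝔮.map (algebraMap Λ Λq))) :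
    Smoothing.Resolvable R φ 𝔮 := by
  classical
  obtain ⟨C, _, _, hfpC, g, h, hgh, c, hc, hcq⟩ :=
    Groth.Agent.Lib.Helper22.Deloc.delocalize_weak φ 𝔮 hres
  have hnoethA : IsNoetherianRing A := Algebra.FiniteType.isNoetherianRing R A
  obtain ⟨r, a, ha⟩ := Submodule.fg_iff_exists_fin_generating_family.mp
    ((isNoetherianRing_iff_ideal_fg A).mp hnoethA (Smoothing.singularIdeal R A))
  have hle : Smoothing.singRad R φ ≤ 𝔮 := hmin.1.2
  have hx : ∀ i, φ (a i) ∈ 𝔮 := by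
    intro i
    apply hle
    apply Ideal.le_radical
    apply Ideal.mem_map_of_mem
    rw [← ha]
    exact Submodule.subset_span ⟨i, rfl⟩
  obtain ⟨N, l, hl, hla⟩ := exists_notMem_mul_pow_eq_zero (Λq := Λq) 𝔮 hdim (fun i => φ (a i)) hx
  exact resolve_core φ 𝔮 g h hgh c hc hcq a ha.symm N l hl hla

end Groth.Agent.Lib.Helper22.Dz
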