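import Mathlib
import Groth.Prelude.Def_Smoothing
import Groth.Agent.S2034
import Groth.Agent.Lib.Helper22.Deloc11

set_option autoImplicit false
universe u

namespace Groth.Agent.Lib.Helper22.IndSm

open TensorProduct

/-- the singular ideal of a smooth algebra is the unit ideal. -/
theorem singularIdeal_eq_top_of_smooth {R B : Type u} [CommRing R] [CommRing B] [Algebra R B]
    [Algebra.Smooth R B] : Smoothing.singularIdeal R B = ⊤ := by
  unfold Smoothing.singularIdeal
  rw [Algebra.smoothLocus_eq_univ, Set.compl_univ, PrimeSpectrum.vanishingIdeal_empty]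

/-- an ind-smooth target makes every problem resolvable. -/
theorem resolvable_of_indSmooth {R A Λ : Type u} [CommRing R] [CommRing A] [Algebra R A]
    [Algebra.FinitePresentation R A] [CommRing Λ] [Algebra R Λ] (φ : A →ₐ[R] Λ) (𝔪 : Ideal Λ)
    (h𝔪 : 𝔪 ≠ ⊤) (hind : Smoothing.IndSmooth R Λ) : Smoothing.Resolvable R φ 𝔪 := by
  obtain ⟨B, _, _, hsm, g, h, hcomp⟩ := hind A inferInstance φ
  have hfp : Algebra.FinitePresentation R B := hsm.finitePresentation
  have htop : Smoothing.singRad R h = ⊤ := by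
    unfold Smoothing.singRad
    rw [singularIdeal_eq_top_of_smooth, Ideal.map_top, Ideal.radical_top]
  refine ⟨B, inferInstance, inferInstance, hfp, g, h, hcomp, ?_, ?_⟩
  · rw [htop]; exact le_top
  · rw [htop]
    intro hle
    exact h𝔪 (top_le_iff.mp hle)

/-- dimension zero: if the localization at `𝔮` is ind-smooth over `R` (which is local at the
contraction), the problem is resolvable. -/
theorem resolvable_of_indSmooth_localization {R C Λ Λq : Type u} [CommRing R] [IsNoetherianRing R]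
    [CommRing C] [Algebra R C] [Algebra.FinitePresentation R C] [CommRing Λ] [Algebra R Λ]
    (ψ : C →ₐ[R] Λ) (𝔮 : Ideal Λ) [𝔮.IsPrime]
    (hunits : ∀ r : R, algebraMap R Λ r ∉ 𝔮 → IsUnit r)
    [CommRing Λq] [Algebra Λ Λq] [IsLocalization.AtPrime Λq 𝔮] [Algebra R Λq]
    [IsScalarTower R Λ Λq] (hdim : ringKrullDim Λq = 0) (hind : Smoothing.IndSmooth R Λq) :
    Smoothing.Resolvable R ψ 𝔮 := by
  classical
  by_cases hle : Smoothing.singRad R ψ ≤ 𝔮
  · -- `𝔮` is minimal
    have hK : Ring.KrullDimLE 0 Λq := by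
      rw [Ring.krullDimLE_iff, hdim]; rfl
    have hdisj : ∀ p : Ideal Λ, p ≤ 𝔮 → Disjoint (𝔮.primeCompl : Set Λ) (p : Set Λ) := by
      intro p hp
      rw [Set.disjoint_left]
      intro x hx hxp
      exact hx (hp hxp)
    have hmin : 𝔮 ∈ (Smoothing.singRad R ψ).minimalPrimes := by
      refine ⟨⟨inferInstance, hle⟩, ?_⟩
      rintro p ⟨hp, -⟩ hp𝔮
      have hpP : (p.map (algebraMap Λ Λq)).IsPrime :=
        IsLocalization.isPrime_of_isPrime_disjoint 𝔮.primeCompl Λq p hp (hdisj p hp𝔮)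
      have hqP : (𝔮.map (algebraMap Λ Λq)).IsPrime := Deloc.isPrime_map_atPrime 𝔮
      have hpM : (p.map (algebraMap Λ Λq)).IsMaximal := hpP.isMaximal'
      have heq : p.map (algebraMap Λ Λq) = 𝔮.map (algebraMap Λ Λq) :=
        hpM.eq_of_le hqP.ne_top (Ideal.map_mono hp𝔮)
      have h1 := IsLocalization.under_map_of_isPrime_disjoint 𝔮.primeCompl Λq hp (hdisj p hp𝔮)
      have h2 := IsLocalization.under_map_of_isPrime_disjoint 𝔮.primeCompl Λq
        (inferInstance : 𝔮.IsPrime) (hdisj 𝔮 le_rfl)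
      rw [← h1, ← h2, heq]
    have hloc : IsLocalization.AtPrime R (𝔮.comap (algebraMap R Λ)) := by
      apply IsLocalization.of_le_isUnit
      intro r hr
      exact hunits r hr
    have h𝔪 : 𝔮.map (algebraMap Λ Λq) ≠ ⊤ := (Deloc.isPrime_map_atPrime 𝔮).ne_top
    exact Groth.Agent.S2034.result (Rₚ := R) (Λq := Λq) ψ 𝔮 hmin hdim
      (resolvable_of_indSmooth _ _ h𝔪 hind)
  · exact ⟨C, inferInstance, inferInstance, inferInstance, AlgHom.id R C, ψ, AlgHom.comp_id ψ,
      le_rfl, hle⟩

end Groth.Agent.Lib.Helper22.IndSm
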