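import Mathlib
import Groth.Agent.Lib.Helper22.IndSm4

set_option autoImplicit false
universe u

namespace Groth.Agent.Lib.Helper22.IndSm

open IsLocalRing

section A

variable {Λ : Type u} [CommRing Λ] (𝔮 : Ideal Λ) [𝔮.IsPrime] (J : Ideal Λ) (hJ : J ≤ 𝔮)

include hJ in
theorem isPrime_map_mk : (𝔮.map (Ideal.Quotient.mk J)).IsPrime :=
  Ideal.map_isPrime_of_surjective Ideal.Quotient.mk_surjective (by rwa [Ideal.mk_ker])

omit [𝔮.IsPrime] in
include hJ in
theorem mk_mem_map_iff (y : Λ) : Ideal.Quotient.mk J y ∈ 𝔮.map (Ideal.Quotient.mk J) ↔ y ∈ 𝔮 := by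
  constructor
  · intro h
    obtain ⟨z, hz, hzy⟩ := (Ideal.mem_map_iff_of_surjective _ Ideal.Quotient.mk_surjective).mp h
    have : y - z ∈ J := by
      rw [← Ideal.Quotient.eq_zero_iff_mem, map_sub, hzy, sub_self]
    have : y = z + (y - z) := by ring
    rw [this]
    exact Ideal.add_mem _ hz (hJ ‹_›)
  · exact fun h => Ideal.mem_map_of_mem _ h

include hJ in
theorem algebraMapSubmonoid_eq_primeCompl
    (hp : (𝔮.map (Ideal.Quotient.mk J)).IsPrime) :
    Algebra.algebraMapSubmonoid (Λ ⧸ J) 𝔮.primeCompl = (𝔮.map (Ideal.Quotient.mk J)).primeCompl := by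
  ext x
  constructor
  · rintro ⟨y, hy, rfl⟩
    intro h
    exact hy ((mk_mem_map_iff 𝔮 J hJ y).mp h)
  · intro hx
    obtain ⟨y, rfl⟩ := Ideal.Quotient.mk_surjective x
    refine ⟨y, fun hy => hx ((mk_mem_map_iff 𝔮 J hJ y).mpr hy), rfl⟩

include hJ in
theorem isLocalization_atPrime_quotient (hp : (𝔮.map (Ideal.Quotient.mk J)).IsPrime) :
    IsLocalization.AtPrime
      (Localization.AtPrime 𝔮 ⧸ J.map (algebraMap Λ (Localization.AtPrime 𝔮)))
      (𝔮.map (Ideal.Quotient.mk J)) := by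
  change IsLocalization (𝔮.map (Ideal.Quotient.mk J)).primeCompl _
  rw [← algebraMapSubmonoid_eq_primeCompl 𝔮 J hJ hp]
  infer_instance

end A

section B

/-- a local ring modulo an ideal whose radical contains the maximal ideal has dimension zero. -/
theorem ringKrullDim_quotient_eq_zero {S : Type u} [CommRing S] [IsLocalRing S] (J : Ideal S)
    (hJ : J ≠ ⊤) (hrad : maximalIdeal S ≤ J.radical) : ringKrullDim (S ⧸ J) = 0 := by
  have hnt : Nontrivial (S ⧸ J) := Ideal.Quotient.nontrivial_iff.mpr hJ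
  rw [← ringKrullDimZero_iff_ringKrullDim_eq_zero]
  refine Ring.KrullDimLE.mk₀ fun P hP => ?_
  have hP₀ : (P.comap (Ideal.Quotient.mk J)).IsPrime := Ideal.comap_isPrime _ P
  have hJle : J ≤ P.comap (Ideal.Quotient.mk J) := by
    intro x hx
    change Ideal.Quotient.mk J x ∈ P
    rw [Ideal.Quotient.eq_zero_iff_mem.mpr hx]
    exact Ideal.zero_mem _
  have hmax_le : maximalIdeal S ≤ P.comap (Ideal.Quotient.mk J) :=
    hrad.trans (hP₀.radical_le_iff.mpr hJle)
  have heq : P.comap (Ideal.Quotient.mk J) = maximalIdeal S :=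
    ((maximalIdeal.isMaximal S).eq_of_le hP₀.ne_top hmax_le).symm
  have hmap : (P.comap (Ideal.Quotient.mk J)).map (Ideal.Quotient.mk J) = P :=
    Ideal.map_comap_of_surjective _ Ideal.Quotient.mk_surjective P
  rw [← hmap, heq]
  rcases Ideal.map_eq_top_or_isMaximal_of_surjective (Ideal.Quotient.mk J)
    Ideal.Quotient.mk_surjective (maximalIdeal.isMaximal S) with h | h
  · exfalso
    rw [← heq, hmap] at h
    exact hP.ne_top h
  · exact h

end B

end Groth.Agent.Lib.Helper22.IndSm
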