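import Mathlib
import Groth.Agent.Lib.Helper22.IndSm1
import Groth.Agent.Lib.Helper22.IndSm2
import Groth.Agent.Lib.Helper22.IndSm3
import Groth.Agent.Lib.Helper22.IndSm5
import Groth.Agent.S2022

set_option autoImplicit false
universe u

namespace Groth.Agent.Lib.Helper22.IndSm

open IsLocalRing MvPolynomial

set_option maxHeartbeats 1600000 in
/-- Resolution of the problem modulo powers of regular parameters (dimension zero case). -/
theorem resolvable_mod_powers {k Λ : Type u} [Field k] [CommRing Λ] [Algebra k Λ] (𝔮 : Ideal Λ)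
    [𝔮.IsPrime] [IsRegularLocalRing (Localization.AtPrime 𝔮)]
    [Algebra.IsGeometricallyReduced k 𝔮.ResidueField] {d : ℕ}
    (hd : (maximalIdeal (Localization.AtPrime 𝔮)).spanFinrank = d)
    [Algebra (MvPolynomial (Fin d) k) Λ] [IsScalarTower k (MvPolynomial (Fin d) k) Λ]
    (hgen : Ideal.span (Set.range fun i => algebraMap Λ (Localization.AtPrime 𝔮)
      (algebraMap (MvPolynomial (Fin d) k) Λ (X i))) = maximalIdeal (Localization.AtPrime 𝔮))
    (E : ℕ) (hE : 0 < E) (K : Ideal (MvPolynomial (Fin d) k))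
    (hK : K = Ideal.span (Set.range fun i => (X i : MvPolynomial (Fin d) k) ^ E))
    {C' : Type u} [CommRing C'] [Algebra (MvPolynomial (Fin d) k ⧸ K) C']
    [Algebra.FinitePresentation (MvPolynomial (Fin d) k ⧸ K) C']
    (φK : C' →ₐ[MvPolynomial (Fin d) k ⧸ K] (Λ ⧸ K.map (algebraMap (MvPolynomial (Fin d) k) Λ))) :
    Smoothing.Resolvable (MvPolynomial (Fin d) k ⧸ K) φK
      (𝔮.map (Ideal.Quotient.mk (K.map (algebraMap (MvPolynomial (Fin d) k) Λ)))) := by
  classical
  set R := MvPolynomial (Fin d) k with hR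
  set KΛ : Ideal Λ := K.map (algebraMap R Λ) with hKΛ
  let Λq := Localization.AtPrime 𝔮
  set 𝔪₀ : Ideal R := Ideal.span (Set.range (X : Fin d → R)) with h𝔪₀
  let u : Fin d → Λq := fun i => algebraMap Λ Λq (algebraMap R Λ (X i))
  have hu : Ideal.span (Set.range u) = maximalIdeal Λq := hgen
  have hXK : ∀ i, (X i : R) ^ E ∈ K := fun i => by rw [hK]; exact Ideal.subset_span ⟨i, rfl⟩
  -- the parameters lie in `𝔮`
  have ht𝔮 : ∀ i, algebraMap R Λ (X i) ∈ 𝔮 := by
    intro i
    rw [← IsLocalization.AtPrime.to_map_mem_maximal_iff Λq 𝔮, ← hu]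
    exact Ideal.subset_span ⟨i, rfl⟩
  have h𝔪₀𝔮 : ∀ p ∈ 𝔪₀, algebraMap R Λ p ∈ 𝔮 := by
    intro p hp
    have : 𝔪₀ ≤ 𝔮.comap (algebraMap R Λ) := by
      rw [h𝔪₀, Ideal.span_le]
      rintro _ ⟨i, rfl⟩
      exact ht𝔮 i
    exact this hp
  have hKΛle : KΛ ≤ 𝔮 := by
    rw [hKΛ, hK, Ideal.map_span, Ideal.span_le]
    rintro _ ⟨_, ⟨i, rfl⟩, rfl⟩
    rw [map_pow]
    exact Ideal.pow_mem_of_mem _ (ht𝔮 i) E hE
  have hprime' : (𝔮.map (Ideal.Quotient.mk KΛ)).IsPrime := isPrime_map_mk 𝔮 KΛ hKΛle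
  -- the localization of the quotient
  let Λq' := Λq ⧸ KΛ.map (algebraMap Λ Λq)
  have hloc' : IsLocalization.AtPrime Λq' (𝔮.map (Ideal.Quotient.mk KΛ)) :=
    isLocalization_atPrime_quotient 𝔮 KΛ hKΛle hprime'
  let algR'Λq' : Algebra (R ⧸ K) Λq' :=
    ((algebraMap (Λ ⧸ KΛ) Λq').comp (algebraMap (R ⧸ K) (Λ ⧸ KΛ))).toAlgebra
  have tower' : IsScalarTower (R ⧸ K) (Λ ⧸ KΛ) Λq' := IsScalarTower.of_algebraMap_eq' rfl
  have halg : ∀ p : R, algebraMap (R ⧸ K) Λq' (Ideal.Quotient.mk K p) =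
      Ideal.Quotient.mk _ (algebraMap R Λq p) := by
    intro p
    change algebraMap (Λ ⧸ KΛ) Λq' (algebraMap (R ⧸ K) (Λ ⧸ KΛ) (Ideal.Quotient.mk K p)) = _
    rw [Ideal.Quotient.algebraMap_quotient_map_quotient,
      Ideal.Quotient.algebraMap_quotient_map_quotient, ← IsScalarTower.algebraMap_apply]
  -- units outside the contraction
  have hunits : ∀ r : R ⧸ K, algebraMap (R ⧸ K) (Λ ⧸ KΛ) r ∉ 𝔮.map (Ideal.Quotient.mk KΛ) →
      IsUnit r := by
    intro r hr
    obtain ⟨p, rfl⟩ := Ideal.Quotient.mk_surjective r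
    apply isUnit_mk_of_notMem K E hXK
    intro hp
    apply hr
    rw [Ideal.Quotient.algebraMap_quotient_map_quotient]
    exact Ideal.mem_map_of_mem _ (h𝔪₀𝔮 p hp)
  -- dimension zero
  have hJne : KΛ.map (algebraMap Λ Λq) ≠ ⊤ := by
    intro htop
    have hle : KΛ.map (algebraMap Λ Λq) ≤ maximalIdeal Λq := by
      rw [← IsLocalization.AtPrime.map_eq_maximalIdeal 𝔮 Λq]
      exact Ideal.map_mono hKΛle
    rw [htop] at hle
    exact (maximalIdeal.isMaximal Λq).ne_top (top_le_iff.mp hle)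
  have hdim : ringKrullDim Λq' = 0 := by
    refine ringKrullDim_quotient_eq_zero _ hJne ?_
    rw [← hu, Ideal.span_le]
    rintro _ ⟨i, rfl⟩
    refine ⟨E, ?_⟩
    have : u i ^ E = algebraMap Λ Λq (algebraMap R Λ ((X i : R) ^ E)) := by
      simp only [u, map_pow]
    rw [this]
    exact Ideal.mem_map_of_mem _ (Ideal.mem_map_of_mem _ (hXK i))
  -- flatness
  have hflatR : Module.Flat R Λq :=
    RegFlat.flat_of_regular_parameters hd u hu (fun i => by
      rw [IsScalarTower.algebraMap_apply R Λ Λq])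
  have hideal : K.map (algebraMap R Λq) = KΛ.map (algebraMap Λ Λq) := by
    rw [hKΛ, Ideal.map_map, ← IsScalarTower.algebraMap_eq]
  have hflat₁ : Module.Flat (R ⧸ K) (Λq ⧸ K.map (algebraMap R Λq)) := flat_quotient K
  have hflat : Module.Flat (R ⧸ K) Λq' := by
    let e := Ideal.quotEquivOfEq hideal
    let e' : Λq' ≃ₗ[R ⧸ K] (Λq ⧸ K.map (algebraMap R Λq)) :=
      { e.symm.toAddEquiv with
        map_smul' := by
          intro r x
          obtain ⟨p, rfl⟩ := Ideal.Quotient.mk_surjective r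
          obtain ⟨y, rfl⟩ := Ideal.Quotient.mk_surjective x
          change e.symm (Ideal.Quotient.mk K p • Ideal.Quotient.mk _ y) =
            Ideal.Quotient.mk K p • e.symm (Ideal.Quotient.mk _ y)
          rw [Algebra.smul_def, Algebra.smul_def, halg,
            Ideal.Quotient.algebraMap_quotient_map_quotient, ← map_mul, map_mul]
          rfl }
    exact Module.Flat.of_linearEquiv e'
  -- the nilpotent ideal
  set I : Ideal (R ⧸ K) := 𝔪₀.map (Ideal.Quotient.mk K) with hI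
  have hInil : IsNilpotent I := isNilpotent_map_span_X K E hXK
  -- the extended ideal is the image of the maximal ideal
  have hL : I.map (algebraMap (R ⧸ K) Λq') = Ideal.span (Set.range fun i =>
      Ideal.Quotient.mk (KΛ.map (algebraMap Λ Λq)) (u i)) := by
    have hI' : I = Ideal.span (Set.range fun i => Ideal.Quotient.mk K (X i : R)) := by
      rw [hI, h𝔪₀, Ideal.map_span]
      congr 1
      ext z
      simp
    rw [hI', Ideal.map_span]
    congr 1
    ext z
    constructor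
    · rintro ⟨_, ⟨i, rfl⟩, rfl⟩
      exact ⟨i, by rw [halg, IsScalarTower.algebraMap_apply R Λ Λq]⟩
    · rintro ⟨i, rfl⟩
      exact ⟨_, ⟨i, rfl⟩, by rw [halg, IsScalarTower.algebraMap_apply R Λ Λq]⟩
  have hRr : (maximalIdeal Λq).map (Ideal.Quotient.mk (KΛ.map (algebraMap Λ Λq))) =
      Ideal.span (Set.range fun i => Ideal.Quotient.mk (KΛ.map (algebraMap Λ Λq)) (u i)) := by
    have : maximalIdeal Λq = Ideal.span (Set.range u) := hu.symm
    rw [this, Ideal.map_span]
    congr 1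
    ext z
    simp
  have hImap : I.map (algebraMap (R ⧸ K) Λq') =
      (maximalIdeal Λq).map (Ideal.Quotient.mk (KΛ.map (algebraMap Λ Λq))) := by
    rw [hL, hRr]
  have hKle : KΛ.map (algebraMap Λ Λq) ≤ maximalIdeal Λq := by
    rw [← IsLocalization.AtPrime.map_eq_maximalIdeal 𝔮 Λq]
    exact Ideal.map_mono hKΛle
  -- the two isomorphisms
  let eΛ : (Λq' ⧸ I.map (algebraMap (R ⧸ K) Λq')) ≃+* 𝔮.ResidueField :=
    (Ideal.quotEquivOfEq hImap).trans (DoubleQuot.quotQuotEquivQuotOfLE hKle)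
  have heΛ : ∀ x : Λq, eΛ (Ideal.Quotient.mk _ (Ideal.Quotient.mk _ x)) = residue Λq x :=
    fun x => rfl
  let f : k →+* (R ⧸ K) ⧸ I := (Ideal.Quotient.mk I).comp ((Ideal.Quotient.mk K).comp C)
  have hfsurj : Function.Surjective f := by
    intro z
    obtain ⟨z', rfl⟩ := Ideal.Quotient.mk_surjective z
    obtain ⟨p, rfl⟩ := Ideal.Quotient.mk_surjective z'
    refine ⟨constantCoeff p, ?_⟩
    change Ideal.Quotient.mk I (Ideal.Quotient.mk K (C (constantCoeff p))) = _
    symm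
    rw [← sub_eq_zero, ← map_sub, ← map_sub, Ideal.Quotient.eq_zero_iff_mem]
    exact Ideal.mem_map_of_mem _ (sub_C_constantCoeff_mem p)
  have hnt : Nontrivial ((R ⧸ K) ⧸ I) := by
    rw [Ideal.Quotient.nontrivial_iff]
    intro htop
    have h1 : (1 : R ⧸ K) ∈ I := by rw [htop]; trivial
    have h2 : IsNilpotent (1 : R ⧸ K) := map_span_X_le_nilradical K E hXK h1
    have hntR : Nontrivial (R ⧸ K) := by
      rw [Ideal.Quotient.nontrivial_iff]
      intro hKtop
      have : (1 : R) ∈ 𝔪₀ := by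
        have hKle𝔪 : K ≤ 𝔪₀ := by
          rw [hK, Ideal.span_le]
          rintro _ ⟨i, rfl⟩
          change (X i : R) ^ E ∈ 𝔪₀
          exact Ideal.pow_mem_of_mem _ (Ideal.subset_span (Set.mem_range_self i)) E hE
        exact hKle𝔪 (by rw [hKtop]; trivial)
      exact (RegFlat.isMaximal_span_range_X (k := k) (d := d)).ne_top
        ((Ideal.eq_top_iff_one _).mpr this)
    exact not_isNilpotent_one h2
  have hfbij : Function.Bijective f := And.intro (RingHom.injective f) hfsurj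
  have hindk : Smoothing.IndSmooth k 𝔮.ResidueField := indSmooth_of_geometricallyReduced
  have hind₀ : Smoothing.IndSmooth ((R ⧸ K) ⧸ I) (Λq' ⧸ I.map (algebraMap (R ⧸ K) Λq')) := by
    refine indSmooth_of_bijective f hfbij eΛ.symm.toRingHom eΛ.symm.bijective ?_ hindk
    intro c
    change eΛ.symm (algebraMap k 𝔮.ResidueField c) = _
    rw [RingEquiv.symm_apply_eq]
    change _ = eΛ (algebraMap ((R ⧸ K) ⧸ I) (Λq' ⧸ I.map (algebraMap (R ⧸ K) Λq'))
      (Ideal.Quotient.mk I (Ideal.Quotient.mk K (C c))))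
    rw [Ideal.Quotient.algebraMap_quotient_map_quotient, halg, heΛ]
    rw [IsScalarTower.algebraMap_apply k Λq 𝔮.ResidueField]
    congr 1
    rw [IsScalarTower.algebraMap_apply k R Λq]
    rfl
  have hind : Smoothing.IndSmooth (R ⧸ K) Λq' := Groth.Agent.S2022.result I hInil hind₀
  exact resolvable_of_indSmooth_localization (Λq := Λq') φK _ hunits hdim hind

end Groth.Agent.Lib.Helper22.IndSm
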