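import Mathlib
import Groth.Prelude.Def_Smoothing

set_option autoImplicit false
universe u

namespace Groth.Agent.Lib.Helper22.RegSep

open MvPolynomial IsLocalRing TensorProduct

/-- the singular ideal over a formally smooth extension of the base is contained in the singular
ideal over the base. -/
theorem singularIdeal_le_of_tower {k R B : Type u} [CommRing k] [CommRing R] [Algebra k R]
    [Algebra.FormallySmooth k R] [CommRing B] [Algebra R B] [Algebra k B] [IsScalarTower k R B] :
    Smoothing.singularIdeal R B ≤ Smoothing.singularIdeal k B := by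
  unfold Smoothing.singularIdeal
  apply PrimeSpectrum.vanishingIdeal_anti_mono
  rw [Set.compl_subset_compl]
  intro Q hQ
  have h1 : Algebra.FormallySmooth R (Localization.AtPrime Q.asIdeal) := hQ
  change Algebra.FormallySmooth k (Localization.AtPrime Q.asIdeal)
  exact Algebra.FormallySmooth.comp k R _

/-- descending resolvability along a smooth finitely presented extension of the base. -/
theorem resolvable_of_resolvable_over {k R A Cr Λ : Type u} [CommRing k] [CommRing R] [Algebra k R]
    [Algebra.FinitePresentation k R] [Algebra.FormallySmooth k R]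
    [CommRing A] [Algebra k A] [CommRing Cr] [Algebra R Cr] [Algebra k Cr] [IsScalarTower k R Cr]
    [CommRing Λ] [Algebra k Λ] [Algebra R Λ] [IsScalarTower k R Λ]
    (φ : A →ₐ[k] Λ) (ψ : Cr →ₐ[R] Λ) (γ : A →ₐ[k] Cr) (hγ : ∀ a, ψ (γ a) = φ a)
    (𝔮 : Ideal Λ)
    (hsing : (Smoothing.singularIdeal k A).map φ ≤ Smoothing.singRad R ψ)
    (h : Smoothing.Resolvable R ψ 𝔮) : Smoothing.Resolvable k φ 𝔮 := by
  obtain ⟨B', instB, algB, hfp, g', h', hcomp, hle, hnot⟩ := h
  letI : Algebra k B' := Algebra.compHom B' (algebraMap k R)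
  haveI : IsScalarTower k R B' := IsScalarTower.of_algebraMap_eq fun _ => rfl
  have hfpk : Algebra.FinitePresentation k B' := Algebra.FinitePresentation.trans k R B'
  have hkey : Smoothing.singRad R h' ≤ Smoothing.singRad k (h'.restrictScalars k) := by
    unfold Smoothing.singRad
    apply Ideal.radical_mono
    have : (Smoothing.singularIdeal R B').map h' ≤ (Smoothing.singularIdeal k B').map h' :=
      Ideal.map_mono singularIdeal_le_of_tower
    exact this
  refine ⟨B', instB, inferInstance, hfpk, (g'.restrictScalars k).comp γ, h'.restrictScalars k,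
    ?_, ?_, ?_⟩
  · ext a
    change h' (g' (γ a)) = φ a
    have : h' (g' (γ a)) = (h'.comp g') (γ a) := rfl
    rw [this, hcomp, hγ]
  · refine le_trans ?_ (le_trans hle hkey)
    unfold Smoothing.singRad at hsing ⊢
    calc ((Smoothing.singularIdeal k A).map φ).radical
        ≤ (((Smoothing.singularIdeal R Cr).map ψ).radical).radical := Ideal.radical_mono hsing
      _ = ((Smoothing.singularIdeal R Cr).map ψ).radical := Ideal.radical_idem _
  · exact fun hc => hnot (le_trans hkey hc)

section quot

variable {R A Λ : Type u} [CommRing R] [CommRing A] [Algebra R A] [CommRing Λ] [Algebra R Λ]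

/-- reduction of an `R`-algebra map modulo `I`, as an `R/I`-algebra map. -/
noncomputable def quotMapBar (I : Ideal R) (φ : A →ₐ[R] Λ) :
    (A ⧸ I.map (algebraMap R A)) →ₐ[R ⧸ I] (Λ ⧸ I.map (algebraMap R Λ)) :=
  have hle : I.map (algebraMap R A) ≤ (I.map (algebraMap R Λ)).comap φ := by
    rw [Ideal.map_le_iff_le_comap]
    intro r hr
    rw [Ideal.mem_comap, Ideal.mem_comap, φ.commutes]
    exact Ideal.mem_map_of_mem _ hr
  { toRingHom := (Ideal.quotientMapₐ _ φ hle).toRingHom
    commutes' := by
      intro x
      obtain ⟨r, rfl⟩ := Ideal.Quotient.mk_surjective x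
      change (Ideal.quotientMapₐ _ φ hle) (algebraMap (R ⧸ I) _ (Ideal.Quotient.mk I r)) = _
      rw [Ideal.Quotient.algebraMap_quotient_map_quotient]
      change Ideal.Quotient.mk _ (φ (algebraMap R A r)) = _
      rw [φ.commutes, Ideal.Quotient.algebraMap_quotient_map_quotient] }

theorem quotMapBar_mk (I : Ideal R) (φ : A →ₐ[R] Λ) (a : A) :
    quotMapBar I φ (Ideal.Quotient.mk _ a) = Ideal.Quotient.mk _ (φ a) := rfl

theorem finitePresentation_quot [Algebra.FinitePresentation R A] (I : Ideal R) :
    Algebra.FinitePresentation (R ⧸ I) (A ⧸ I.map (algebraMap R A)) :=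
  Algebra.FinitePresentation.equiv (Algebra.TensorProduct.quotIdealMapEquivQuotTensor A I).symm

end quot

end Groth.Agent.Lib.Helper22.RegSep
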