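import Mathlib
import Groth.Agent.Lib.Helper22.SymKaehler
open TensorProduct KaehlerDifferential
universe u

namespace Groth.Agent.Lib.helper22.SymKaehler2
open Groth.Agent.Lib.helper22.SymKaehler

theorem symMap_surjective {A : Type u} [CommRing A] {P Q : Type u} [AddCommGroup P] [Module A P]
    [AddCommGroup Q] [Module A Q] (f : P →ₗ[A] Q) (hf : Function.Surjective f) :
    Function.Surjective (symMap A f) := by
  intro y
  induction y using SymmetricAlgebra.induction with
  | algebraMap r => exact ⟨algebraMap A _ r, by simp⟩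
  | ι q =>
    obtain ⟨p, rfl⟩ := hf q
    exact ⟨SymmetricAlgebra.ι A P p, by simp [symMap]⟩
  | mul a b ha hb =>
    obtain ⟨a', rfl⟩ := ha
    obtain ⟨b', rfl⟩ := hb
    exact ⟨a' * b', map_mul _ _ _⟩
  | add a b ha hb =>
    obtain ⟨a', rfl⟩ := ha
    obtain ⟨b', rfl⟩ := hb
    exact ⟨a' + b', map_add _ _ _⟩

theorem finiteType_sym (A : Type u) [CommRing A] (N : Type u) [AddCommGroup N] [Module A N]
    [Module.Finite A N] : Algebra.FiniteType A (SymmetricAlgebra A N) := by
  obtain ⟨n, f, hf⟩ := Module.Finite.exists_fin' A N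
  have : Algebra.FiniteType A (SymmetricAlgebra A (Fin n → A)) :=
    Algebra.FiniteType.equiv inferInstance
      (SymmetricAlgebra.equivMvPolynomial (Pi.basisFun A (Fin n))).symm
  exact Algebra.FiniteType.of_surjective (symMap A f) (symMap_surjective f hf)

/-- after inverting `a` with `A_a` formally smooth, the conormal sequence splits. -/
theorem exists_split_localization {R A : Type u} [CommRing R] [CommRing A] [Algebra R A] {n : ℕ}
    (P : Algebra.Generators R A (Fin n)) (a : A) (T : Type u) [CommRing T] [Algebra A T]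
    [Algebra R T] [IsScalarTower R A T] [IsLocalization.Away a T] [Algebra.FormallySmooth R T] :
    Module.Projective T (T ⊗[A] P.toExtension.Cotangent) ∧
      Nonempty (T ⊗[A] P.toExtension.CotangentSpace ≃ₗ[T]
        (T ⊗[A] P.toExtension.Cotangent) × Ω[T⁄R]) := by
  haveI : Module.Flat A T := IsLocalization.flat T (Submonoid.powers a)
  haveI : Algebra.FormallyEtale A T := Algebra.FormallyEtale.of_isLocalization (.powers a)
  set δ := P.toExtension.cotangentComplex with hδ
  set π := P.toExtension.toKaehler with hπ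
  have hex : Function.Exact δ π := P.toExtension.exact_cotangentComplex_toKaehler
  have hsurj : Function.Surjective π := P.toExtension.toKaehler_surjective
  -- T ⊗ ker δ is trivial
  have hsub : Subsingleton (T ⊗[A] P.toExtension.H1Cotangent) := by
    have e1 : T ⊗[A] P.toExtension.H1Cotangent ≃ₗ[T] T ⊗[A] Algebra.H1Cotangent R A :=
      TensorProduct.AlgebraTensorModule.congr (LinearEquiv.refl T T) P.equivH1Cotangent
    have e2 := Algebra.tensorH1CotangentOfIsLocalization R T (Submonoid.powers a)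
    exact (e1.trans e2).toEquiv.subsingleton
  have hexT1 : Function.Exact ((LinearMap.ker δ).subtype.lTensor T) (δ.lTensor T) :=
    Module.Flat.lTensor_exact T (LinearMap.exact_subtype_ker_map δ)
  have hinjT : Function.Injective (δ.lTensor T) := by
    rw [injective_iff_map_eq_zero]
    intro x hx
    obtain ⟨y, rfl⟩ := (hexT1 x).mp hx
    haveI : Subsingleton (T ⊗[A] ↥(LinearMap.ker δ)) := hsub
    have : y = 0 := Subsingleton.elim _ _
    rw [this, map_zero]
  have hexT2 : Function.Exact (δ.lTensor T) (π.lTensor T) := lTensor_exact T hex hsurj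
  have hsurjT : Function.Surjective (π.lTensor T) := LinearMap.lTensor_surjective T hsurj
  -- T-linear versions
  have hexB : Function.Exact (δ.baseChange T) (π.baseChange T) := hexT2
  have hinjB : Function.Injective (δ.baseChange T) := hinjT
  have hsurjB : Function.Surjective (π.baseChange T) := hsurjT
  let eΩ : T ⊗[A] Ω[A⁄R] ≃ₗ[T] Ω[T⁄R] := tensorKaehlerEquivOfFormallyEtale R A T
  haveI : Module.Projective T (T ⊗[A] Ω[A⁄R]) := Module.Projective.of_equiv eΩ.symm
  obtain ⟨l, hl⟩ := Module.projective_lifting_property (π.baseChange T) LinearMap.id hsurjB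
  have h02 := hexB.split_tfae'.out 0 2
  obtain ⟨e, he1, he2⟩ := h02.mp ⟨hinjB, l, hl⟩
  haveI : Module.Free T (T ⊗[A] P.toExtension.CotangentSpace) :=
    Module.Free.of_basis (P.cotangentSpaceBasis.baseChange T)
  refine ⟨?_, ⟨e.trans (LinearEquiv.prodCongr (LinearEquiv.refl T _) eΩ)⟩⟩
  -- retraction of δ_T
  have h01 := hexB.split_tfae'.out 0 1
  obtain ⟨-, r, hr⟩ := h01.mp ⟨hinjB, l, hl⟩
  exact Module.Projective.of_split (δ.baseChange T) r hr


section Loc
variable {A : Type u} [CommRing A] (N : Type u) [AddCommGroup N] [Module A N] (a : A)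
  (T : Type u) [CommRing T] [Algebra A T] [IsLocalization.Away a T]
  (B : Type u) [CommRing B] [Algebra (SymmetricAlgebra A N) B] [Algebra A B]
  [IsScalarTower A (SymmetricAlgebra A N) B]
  [IsLocalization.Away (algebraMap A (SymmetricAlgebra A N) a) B]
  [Algebra T B] [IsScalarTower A T B]

local notation "C" => SymmetricAlgebra A N

include a in
theorem formallySmooth_localization_sym [Module.Projective T (T ⊗[A] N)] :
    Algebra.FormallySmooth T B := by
  refine Algebra.FormallySmooth.of_comp_surjective fun Q _ _ J hJ f => ?_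
  letI algAQ : Algebra A Q := ((algebraMap T Q).comp (algebraMap A T)).toAlgebra
  haveI : IsScalarTower A T Q := IsScalarTower.of_algebraMap_eq' rfl
  -- the linear map N → Q/J
  let f₀ : C →ₐ[A] Q ⧸ J := (f.restrictScalars A).comp (IsScalarTower.toAlgHom A C B)
  let φbar : N →ₗ[A] Q ⧸ J := f₀.toLinearMap ∘ₗ SymmetricAlgebra.ι A N
  obtain ⟨φ', hφ'⟩ := Module.projective_lifting_property
    ((Ideal.Quotient.mkₐ T J).toLinearMap) (LinearMap.liftBaseChange T φbar)
    Ideal.Quotient.mk_surjective
  let φ : N →ₗ[A] Q := φ'.restrictScalars A ∘ₗ (TensorProduct.mk A T N 1)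
  let g₀ : C →ₐ[A] Q := SymmetricAlgebra.lift φ
  have hg₀ : (Ideal.Quotient.mkₐ A J).comp g₀ = f₀ := by
    apply SymmetricAlgebra.algHom_ext
    ext x
    have := congr($hφ' (1 ⊗ₜ x))
    simpa [g₀, φ, φbar] using this
  have hunit : IsUnit (g₀ (algebraMap A C a)) := by
    rw [g₀.commutes]
    change IsUnit (algebraMap T Q (algebraMap A T a))
    exact (IsLocalization.Away.algebraMap_isUnit a).map _
  let g₁ : B →+* Q := IsLocalization.Away.lift (algebraMap A C a) (g := g₀.toRingHom) hunit
  have hg₁ : ∀ c : C, g₁ (algebraMap C B c) = g₀ c := fun c =>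
    IsLocalization.Away.lift_eq _ hunit c
  have hcomm : ∀ t : T, g₁ (algebraMap T B t) = algebraMap T Q t := by
    intro t
    have : g₁.comp (algebraMap T B) = algebraMap T Q := by
      apply IsLocalization.ringHom_ext (Submonoid.powers a)
      ext x
      simp only [RingHom.comp_apply]
      rw [← IsScalarTower.algebraMap_apply A T B, IsScalarTower.algebraMap_apply A C B, hg₁,
        g₀.commutes]
      rfl
    exact congr($this t)
  let g : B →ₐ[T] Q := { g₁ with commutes' := hcomm }
  refine ⟨g, ?_⟩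
  apply AlgHom.coe_ringHom_injective
  apply IsLocalization.ringHom_ext (Submonoid.powers (algebraMap A C a))
  ext c
  change Ideal.Quotient.mk J (g₁ (algebraMap C B c)) = f (algebraMap C B c)
  rw [hg₁]
  exact congr($hg₀ c)

end Loc


section Loc2
variable {A : Type u} [CommRing A] (N : Type u) [AddCommGroup N] [Module A N] (a : A)
  (T : Type u) [CommRing T] [Algebra A T] [IsLocalization.Away a T]
  (B : Type u) [CommRing B] [Algebra (SymmetricAlgebra A N) B] [Algebra A B]
  [IsScalarTower A (SymmetricAlgebra A N) B]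
  [IsLocalization.Away (algebraMap A (SymmetricAlgebra A N) a) B]
  [Algebra T B] [IsScalarTower A T B]

local notation "C" => SymmetricAlgebra A N

include a in
theorem nonempty_kaehlerEquiv_localization_sym :
    Nonempty (Ω[B⁄T] ≃ₗ[B] B ⊗[T] (T ⊗[A] N)) := by
  haveI : Algebra.FormallyEtale A T := Algebra.FormallyEtale.of_isLocalization (.powers a)
  haveI : Algebra.FormallyEtale C B :=
    Algebra.FormallyEtale.of_isLocalization (.powers (algebraMap A C a))
  -- Ω[B/A] ≃ Ω[B/T]
  have hsurj : Function.Surjective (KaehlerDifferential.map A T B B) :=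
    KaehlerDifferential.map_surjective A T B
  have hinj : Function.Injective (KaehlerDifferential.map A T B B) := by
    rw [injective_iff_map_eq_zero]
    intro x hx
    obtain ⟨y, rfl⟩ := (KaehlerDifferential.exact_mapBaseChange_map A T B x).mp hx
    have : y = 0 := Subsingleton.elim _ _
    rw [this, map_zero]
  let e_a : Ω[B⁄A] ≃ₗ[B] Ω[B⁄T] := LinearEquiv.ofBijective _ ⟨hinj, hsurj⟩
  let e_b : Ω[B⁄A] ≃ₗ[B] B ⊗[C] Ω[C⁄A] := (tensorKaehlerEquivOfFormallyEtale A C B).symm
  let e_c1 : B ⊗[C] Ω[C⁄A] ≃ₗ[B] B ⊗[C] (C ⊗[A] N) :=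
    TensorProduct.AlgebraTensorModule.congr (LinearEquiv.refl B B)
      (Groth.Agent.Lib.helper22.SymKaehler.symKaehlerEquiv A N)
  let e_c2 : B ⊗[C] (C ⊗[A] N) ≃ₗ[B] B ⊗[A] N :=
    TensorProduct.AlgebraTensorModule.cancelBaseChange A C B B N
  let e_d : B ⊗[A] N ≃ₗ[B] B ⊗[T] (T ⊗[A] N) :=
    (TensorProduct.AlgebraTensorModule.cancelBaseChange A T B B N).symm
  exact ⟨(((e_a.symm.trans e_b).trans e_c1).trans e_c2).trans e_d⟩

end Loc2

/-- Generalisation of `nonempty_kaehler_equiv_pi`. -/
theorem nonempty_kaehler_equiv_pi' (R T B : Type u) [CommRing R] [CommRing T] [CommRing B]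
    [Algebra R T] [Algebra T B] [Algebra R B] [IsScalarTower R T B] [Algebra.FormallySmooth T B]
    (N' V' : Type u) [AddCommGroup N'] [Module T N'] [AddCommGroup V'] [Module T V'] {n : ℕ}
    (e : Module.Basis (Fin n) T V') (split : V' ≃ₗ[T] N' × Ω[T⁄R])
    (e2 : Ω[B⁄T] ≃ₗ[B] B ⊗[T] N') :
    Nonempty (Ω[B⁄R] ≃ₗ[B] (Fin n → B)) := by
  obtain ⟨e1⟩ := Groth.Agent.Lib.helper22.SymKaehler.nonempty_kaehler_split R T B
  let e3 : ((B ⊗[T] Ω[T⁄R]) × (B ⊗[T] N')) ≃ₗ[B] B ⊗[T] (Ω[T⁄R] × N') :=
    (TensorProduct.prodRight T B B Ω[T⁄R] N').symm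
  let e4 : B ⊗[T] (Ω[T⁄R] × N') ≃ₗ[B] B ⊗[T] V' :=
    TensorProduct.AlgebraTensorModule.congr (LinearEquiv.refl B B)
      ((LinearEquiv.prodComm T Ω[T⁄R] N').trans split.symm)
  let e5 : B ⊗[T] V' ≃ₗ[B] B ⊗[T] (Fin n → T) :=
    TensorProduct.AlgebraTensorModule.congr (LinearEquiv.refl B B) e.equivFun
  let e6 : B ⊗[T] (Fin n → T) ≃ₗ[B] (Fin n → B) := TensorProduct.piScalarRight T B B (Fin n)
  exact ⟨(((e1.trans (LinearEquiv.prodCongr (LinearEquiv.refl B _) e2)).trans e3).trans e4).trans
    (e5.trans e6)⟩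

end Groth.Agent.Lib.helper22.SymKaehler2
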