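import Mathlib
import Groth.Agent.Lib.Helper22.SymKaehler2
import Groth.Agent.Lib.Helper22.Deloc3

set_option autoImplicit false
universe u

namespace Groth.Agent.Lib.Helper22.SSPow

open TensorProduct KaehlerDifferential

/-- after inverting `a` with `A_a` formally smooth, the conormal sequence is split exact: explicit
retraction and decomposition. -/
theorem exists_retraction_localization {R A : Type u} [CommRing R] [CommRing A] [Algebra R A]
    {n : ℕ} (P : Algebra.Generators R A (Fin n)) (a : A) (T : Type u) [CommRing T] [Algebra A T]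
    [Algebra R T] [IsScalarTower R A T] [IsLocalization.Away a T] [Algebra.FormallySmooth R T] :
    (∃ r : T ⊗[A] P.toExtension.CotangentSpace →ₗ[T] T ⊗[A] P.toExtension.Cotangent,
      r ∘ₗ (P.toExtension.cotangentComplex.baseChange T) = LinearMap.id) ∧
      Nonempty (T ⊗[A] P.toExtension.CotangentSpace ≃ₗ[T]
        (T ⊗[A] P.toExtension.Cotangent) × Ω[T⁄R]) := by
  haveI : Module.Flat A T := IsLocalization.flat T (Submonoid.powers a)
  haveI : Algebra.FormallyEtale A T := Algebra.FormallyEtale.of_isLocalization (.powers a)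
  set δ := P.toExtension.cotangentComplex with hδ
  set π := P.toExtension.toKaehler with hπ
  have hex : Function.Exact δ π := P.toExtension.exact_cotangentComplex_toKaehler
  have hsurj : Function.Surjective π := P.toExtension.toKaehler_surjective
  have hsub : Subsingleton (T ⊗[A] P.toExtension.H1Cotangent) := by
    have e1 : T ⊗[A] P.toExtension.H1Cotangent ≃ₗ[T] T ⊗[A] Algebra.H1Cotangent R A :=
      TensorProduct.AlgebraTensorModule.congr (LinearEquiv.refl T T) P.equivH1Cotangent
    have e2 := Algebra.tensorH1CotangentOfIsLocalization R T (Submonoid.powers a)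
    exact (e1.trans e2).toEquiv.subsingleton
  have hexT1 : Function.Exact ((LinearMap.ker δ).subtype.lTensor T) (δ.lTensor T) :=
    Module.Flat.lTensor_exact T (LinearMap.exact_subtype_ker_map δ)
  have hinjT : Function.Injective (δ.lTensor T) := by
    rw [injective_iff_map_eq_zero]
    intro x hx
    obtain ⟨y, rfl⟩ := (hexT1 x).mp hx
    haveI : Subsingleton (T ⊗[A] ↥(LinearMap.ker δ)) := hsub
    have : y = 0 := Subsingleton.elim _ _
    rw [this, map_zero]
  have hexT2 : Function.Exact (δ.lTensor T) (π.lTensor T) := lTensor_exact T hex hsurj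
  have hsurjT : Function.Surjective (π.lTensor T) := LinearMap.lTensor_surjective T hsurj
  have hexB : Function.Exact (δ.baseChange T) (π.baseChange T) := hexT2
  have hinjB : Function.Injective (δ.baseChange T) := hinjT
  have hsurjB : Function.Surjective (π.baseChange T) := hsurjT
  let eΩ : T ⊗[A] Ω[A⁄R] ≃ₗ[T] Ω[T⁄R] := tensorKaehlerEquivOfFormallyEtale R A T
  haveI : Module.Projective T (T ⊗[A] Ω[A⁄R]) := Module.Projective.of_equiv eΩ.symm
  obtain ⟨l, hl⟩ := Module.projective_lifting_property (π.baseChange T) LinearMap.id hsurjB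
  have h02 := hexB.split_tfae'.out 0 2
  obtain ⟨e, he1, he2⟩ := h02.mp ⟨hinjB, l, hl⟩
  have h01 := hexB.split_tfae'.out 0 1
  obtain ⟨-, r, hr⟩ := h01.mp ⟨hinjB, l, hl⟩
  exact ⟨⟨r, hr⟩, ⟨e.trans (LinearEquiv.prodCongr (LinearEquiv.refl T _) eΩ)⟩⟩

/-- stably free differentials make the localized conormal module stably free. -/
theorem nonempty_basis_of_stablyFree {T : Type u} [CommRing T] {n p q : ℕ}
    {M Ω' : Type u} [AddCommGroup M] [Module T M] [AddCommGroup Ω'] [Module T Ω']
    (split : (Fin n → T) ≃ₗ[T] M × Ω')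
    (e : (Ω' × (Fin p → T)) ≃ₗ[T] (Fin q → T)) :
    Nonempty (Module.Basis (Fin (n + p)) T (M × (Fin q → T))) := by
  let e1 : (M × (Fin q → T)) ≃ₗ[T] M × (Ω' × (Fin p → T)) :=
    LinearEquiv.prodCongr (LinearEquiv.refl T M) e.symm
  let e2 : (M × (Ω' × (Fin p → T))) ≃ₗ[T] (M × Ω') × (Fin p → T) :=
    (LinearEquiv.prodAssoc T M Ω' (Fin p → T)).symm
  let e3 : ((M × Ω') × (Fin p → T)) ≃ₗ[T] (Fin n → T) × (Fin p → T) :=
    LinearEquiv.prodCongr split.symm (LinearEquiv.refl T _)
  let e4 : ((Fin n → T) × (Fin p → T)) ≃ₗ[T] (Fin n ⊕ Fin p → T) :=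
    (LinearEquiv.sumArrowLequivProdArrow (Fin n) (Fin p) T T).symm
  let e5 : (Fin n ⊕ Fin p → T) ≃ₗ[T] (Fin (n + p) → T) :=
    LinearEquiv.funCongrLeft T T finSumFinEquiv.symm
  exact ⟨Module.Basis.ofEquivFun (e1.trans (e2.trans (e3.trans (e4.trans e5))))⟩

section loc

variable {A : Type u} [CommRing A] (a : A) (T : Type u) [CommRing T] [Algebra A T]
  [IsLocalization.Away a T]

include a in
/-- a basis of `(T ⊗ M) × T^q` can be rescaled to consist of integral vectors. -/
theorem exists_integral_basis {M : Type u} [AddCommGroup M] [Module A M] {c q : ℕ}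
    (B₀ : Module.Basis (Fin c) T ((T ⊗[A] M) × (Fin q → T))) :
    ∃ (B : Module.Basis (Fin c) T ((T ⊗[A] M) × (Fin q → T))) (m : Fin c → M)
      (b : Fin c → Fin q → A), ∀ k, B k = ((1 : T) ⊗ₜ[A] m k, fun j => algebraMap A T (b k j)) := by
  classical
  have key : ∀ y : (T ⊗[A] M) × (Fin q → T), ∃ (u : Tˣ) (m : M) (b : Fin q → A),
      (u : T) • y = ((1 : T) ⊗ₜ[A] m, fun j => algebraMap A T (b j)) := by
    intro y
    obtain ⟨u₁, m₁, h₁⟩ := Deloc.exists_unit_smul_eq_one_tmul (Submonoid.powers a) (Rₛ := T) y.1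
    obtain ⟨s, hs⟩ := IsLocalization.exist_integer_multiples (Submonoid.powers a)
      (Finset.univ : Finset (Fin q)) (fun j => (u₁ : T) * y.2 j)
    choose b hb using fun j => hs j (Finset.mem_univ j)
    have hsu : IsUnit (algebraMap A T (s : A)) := IsLocalization.map_units T s
    refine ⟨hsu.unit * u₁, (s : A) • m₁, b, ?_⟩
    refine Prod.ext ?_ ?_
    · change ((hsu.unit * u₁ : Tˣ) : T) • y.1 = _
      rw [Units.val_mul, IsUnit.unit_spec, mul_smul, h₁, algebraMap_smul, TensorProduct.tmul_smul]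
    · funext j
      change ((hsu.unit * u₁ : Tˣ) : T) • y.2 j = _
      rw [Units.val_mul, IsUnit.unit_spec]
      change _ = algebraMap A T (b j)
      rw [hb j, smul_eq_mul]
      change _ = (s : A) • _
      rw [Algebra.smul_def, mul_assoc]
  choose u m b h using fun k => key (B₀ k)
  refine ⟨B₀.unitsSMul u, m, b, fun k => ?_⟩
  rw [Module.Basis.unitsSMul_apply]
  exact h k

include a in
/-- coordinates with respect to a basis have a common denominator. -/
theorem exists_integral_coords {N : Type u} [AddCommGroup N] [Module T N] {c : ℕ}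
    (B : Module.Basis (Fin c) T N) (y : N) :
    ∃ (s : ℕ) (β : Fin c → A), (algebraMap A T a ^ s) • y = ∑ k, algebraMap A T (β k) • B k := by
  classical
  obtain ⟨⟨_, s, rfl⟩, hs⟩ := IsLocalization.exist_integer_multiples (Submonoid.powers a)
    (Finset.univ : Finset (Fin c)) (fun k => B.repr y k)
  choose β hβ using fun k => hs k (Finset.mem_univ k)
  refine ⟨s, β, ?_⟩
  conv_lhs => rw [← B.sum_repr y, Finset.smul_sum]
  refine Finset.sum_congr rfl fun k _ => ?_
  rw [hβ k, smul_smul, Algebra.smul_def, map_pow]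

include a in
theorem exists_pow_mul_eq_zero (x : A) (hx : algebraMap A T x = 0) : ∃ u : ℕ, a ^ u * x = 0 := by
  obtain ⟨⟨_, u, rfl⟩, hu⟩ := (IsLocalization.map_eq_zero_iff (Submonoid.powers a) T x).mp hx
  exact ⟨u, hu⟩

include a in
theorem exists_pow_smul_eq_zero {M : Type u} [AddCommGroup M] [Module A M] (m : M)
    (hm : (1 : T) ⊗ₜ[A] m = 0) : ∃ u : ℕ, a ^ u • m = 0 := by
  obtain ⟨_, ⟨u, rfl⟩, hu⟩ := Deloc.one_tmul_eq_zero (Submonoid.powers a) (Rₛ := T) m hm
  exact ⟨u, hu⟩

end loc

end Groth.Agent.Lib.Helper22.SSPow
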