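import Groth.Agent.Lib.Helper22.PopM

set_option autoImplicit false
universe u

namespace Groth.Agent.Lib.Helper22.Pop

open MvPolynomial

section general

/-- a presentation with as many relations as chosen columns is smooth at the primes
not containing the corresponding Jacobian minor. -/
theorem isSmoothAt_of_minor_notMem {R : Type u} [CommRing R] {N M : ℕ}
    (v : Fin M → MvPolynomial (Fin N) R) (cols : Fin M → Fin N)
    (q : Ideal (MvPolynomial (Fin N) R ⧸ Ideal.span (Set.range v))) [q.IsPrime]
    (hq : Ideal.Quotient.mk _ (Matrix.det (Matrix.of fun j k : Fin M => pderiv (cols k) (v j))) ∉ q) :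
    Algebra.IsSmoothAt R q := by
  classical
  have hfp : Algebra.FinitePresentation R (MvPolynomial (Fin N) R ⧸ Ideal.span (Set.range v)) :=
    Algebra.FinitePresentation.quotient (Submodule.fg_span (Set.finite_range _))
  set t : MvPolynomial (Fin N) R ⧸ Ideal.span (Set.range v) :=
    Ideal.Quotient.mk _ (Matrix.det (Matrix.of fun j k : Fin M => pderiv (cols k) (v j))) with ht
  have hunit : Ideal.span (Set.range fun cols' : Fin M → Fin N =>
        algebraMap (MvPolynomial (Fin N) R ⧸ Ideal.span (Set.range v)) (Localization.Away t)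
          (Ideal.Quotient.mk _
            (Matrix.det (Matrix.of fun j k : Fin M =>
              pderiv (cols' k) (v j))))) = ⊤ := by
    refine Ideal.eq_top_of_isUnit_mem _
      (Ideal.subset_span (Set.mem_range_self cols)) ?_
    exact IsLocalization.Away.algebraMap_isUnit t
  have hsm := (Groth.Agent.S2030.smooth_stablyFree_of_minors_unit v
    (S := Localization.Away t) t hunit).1
  have hsub := Algebra.basicOpen_subset_smoothLocus_iff_smooth.mpr hsm
  have hmem : (⟨q, inferInstance⟩ : PrimeSpectrum (MvPolynomial (Fin N) R ⧸ Ideal.span (Set.range v))) ∈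
      (PrimeSpectrum.basicOpen t : Set (PrimeSpectrum _)) := by
    rw [SetLike.mem_coe, PrimeSpectrum.mem_basicOpen]
    exact hq
  exact hsub hmem

theorem pderiv_rename_of_injective {R : Type*} [CommRing R] {σ τ : Type*} [DecidableEq σ]
    [DecidableEq τ] (k : σ → τ) (hk : Function.Injective k) (i : σ) (F : MvPolynomial σ R) :
    pderiv (k i) (rename k F) = rename k (pderiv i F) := by
  induction F using MvPolynomial.induction_on with
  | C r => simp
  | add p q hp hq => simp only [map_add, hp, hq]
  | mul_X p j hp =>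
    simp only [map_mul, rename_X, Derivation.leibniz, hp, pderiv_X, smul_eq_mul]
    by_cases hij : j = i
    · subst hij; simp
    · have : k j ≠ k i := fun h => hij (hk h)
      simp [Pi.single_eq_of_ne hij, Pi.single_eq_of_ne this]

theorem pderiv_rename_of_notMem_range {R : Type*} [CommRing R] {σ τ : Type*}
    [DecidableEq τ] (k : σ → τ) (t : τ) (ht : ∀ i, k i ≠ t) (F : MvPolynomial σ R) :
    pderiv t (rename k F) = 0 := by
  induction F using MvPolynomial.induction_on with
  | C r => simp
  | add p q hp hq => simp only [map_add, hp, hq, add_zero]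
  | mul_X p j hp =>
    simp only [map_mul, rename_X, Derivation.leibniz, hp, pderiv_X, smul_eq_mul]
    simp [Pi.single_eq_of_ne (ht j)]

/-- the Jacobian trick: if `∑ c_j f_{rows j}` is a multiple of `π²`, then the Jacobian minor
multiplies each `c_j` into `(f) + (π²)`. -/
theorem minor_mul_mem {R : Type*} [CommRing R] (π : R) {n m c : ℕ}
    (f : Fin m → MvPolynomial (Fin n) R) (rows : Fin c → Fin m) (cols : Fin c → Fin n)
    (cc : Fin c → MvPolynomial (Fin n) R) (G : MvPolynomial (Fin n) R)
    (h : ∑ j, cc j * f (rows j) = C (π ^ 2) * G) (j : Fin c) :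
    Smoothing.jacobianMinor f rows cols * cc j ∈
      Ideal.span (Set.range f) ⊔ Ideal.span {(C (π ^ 2) : MvPolynomial (Fin n) R)} := by
  classical
  set T : Ideal (MvPolynomial (Fin n) R) :=
    Ideal.span (Set.range f) ⊔ Ideal.span {(C (π ^ 2) : MvPolynomial (Fin n) R)} with hT
  have hfT : ∀ j, f j ∈ T := fun j => Ideal.mem_sup_left (Ideal.subset_span ⟨j, rfl⟩)
  have hπT : (C (π ^ 2) : MvPolynomial (Fin n) R) ∈ T :=
    Ideal.mem_sup_right (Ideal.subset_span rfl)
  let J : Matrix (Fin c) (Fin c) (MvPolynomial (Fin n) R) :=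
    Matrix.of fun j k => pderiv (cols k) (f (rows j))
  -- derivative of the relation
  have hder : ∀ i : Fin n, ∑ j, cc j * pderiv i (f (rows j)) ∈ T := by
    intro i
    have h1 := congrArg (pderiv i) h
    rw [map_sum] at h1
    simp only [Derivation.leibniz, smul_eq_mul, pderiv_C, mul_zero, add_zero] at h1
    rw [Finset.sum_add_distrib] at h1
    have h2 : ∑ j, cc j * pderiv i (f (rows j)) =
        C (π ^ 2) * pderiv i G - ∑ j, f (rows j) * pderiv i (cc j) := by
      rw [← h1]; ring
    rw [h2]
    exact Ideal.sub_mem _ (Ideal.mul_mem_right _ _ hπT)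
      (Ideal.sum_mem _ fun j _ => Ideal.mul_mem_right _ _ (hfT _))
  have hvec : ∀ k : Fin c, (Matrix.vecMul cc J) k ∈ T := by
    intro k
    have := hder (cols k)
    simpa [Matrix.vecMul, dotProduct, J] using this
  have hadj : Matrix.vecMul (Matrix.vecMul cc J) J.adjugate = J.det • cc := by
    rw [Matrix.vecMul_vecMul, Matrix.mul_adjugate, Matrix.vecMul_smul, Matrix.vecMul_one]
  have hj := congrFun hadj j
  rw [Pi.smul_apply, smul_eq_mul] at hj
  change J.det * cc j ∈ T
  rw [← hj, Matrix.vecMul, dotProduct]
  exact Ideal.sum_mem _ fun k _ => Ideal.mul_mem_right _ _ (hvec k)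

/-- in a smooth local ring over `R` with `Ann π = Ann π²`, an element which is both divisible by
`π` and killed by `π` dies locally. -/
theorem exists_notMem_mul_eq_zero_of_dvd {R B' : Type u} [CommRing R] [CommRing B'] [Algebra R B']
    [Algebra.FinitePresentation R B'] (π : R)
    (hR : ∀ x : R, π ^ 2 * x = 0 → π * x = 0)
    (q' : Ideal B') [q'.IsPrime] (hsm : Algebra.IsSmoothAt R q') (κ t : B')
    (h1 : κ = algebraMap R B' π * t) (h2 : algebraMap R B' π * κ = 0) :
    ∃ s : B', s ∉ q' ∧ s * κ = 0 := by
  have hflat : Module.Flat R (Localization.AtPrime q') := flat_atPrime_of_isSmoothAt q' hsm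
  have h3 : algebraMap R (Localization.AtPrime q') π ^ 2 *
      algebraMap B' (Localization.AtPrime q') t = 0 := by
    rw [IsScalarTower.algebraMap_apply R B' (Localization.AtPrime q'), ← map_pow, ← map_mul]
    have : algebraMap R B' π ^ 2 * t = 0 := by rw [← h2, h1]; ring
    rw [this, map_zero]
  have h4 := ann_sq_of_flat (L := Localization.AtPrime q') π 1
    (fun x hx => by rw [one_mul]; exact hR x hx) (by rw [map_one]; exact isUnit_one) _ h3
  rw [IsScalarTower.algebraMap_apply R B' (Localization.AtPrime q'), ← map_mul, ← h1,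
    IsLocalization.map_eq_zero_iff q'.primeCompl] at h4
  obtain ⟨s, hs⟩ := h4
  exact ⟨s, s.2, hs⟩

end general

end Groth.Agent.Lib.Helper22.Pop
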