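import Mathlib
import Groth.Prelude.Def_Smoothing
import Groth.Agent.Lib.Helper22.PopN

set_option autoImplicit false
universe u

namespace Groth.Agent.Lib.Helper22.SSPow

open MvPolynomial

/-- strictly standard elements from a presentation given as leading + tail relations. -/
theorem isStrictlyStandard_of_lead_tail {R A : Type u} [CommRing R] [CommRing A] [Algebra R A]
    {n c m₂ : ℕ} (hcn : c ≤ n) (lead : Fin c → MvPolynomial (Fin n) R)
    (tail : Fin m₂ → MvPolynomial (Fin n) R) (hom : MvPolynomial (Fin n) R →ₐ[R] A)
    (hsurj : Function.Surjective hom)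
    (hker : RingHom.ker hom.toRingHom = Ideal.span (Set.range lead ∪ Set.range tail))
    (x : A)
    (h1 : x ∈ Ideal.span (Set.range fun cols : Fin c → Fin n =>
      hom (Matrix.det (Matrix.of fun j k : Fin c => pderiv (cols k) (lead j)))))
    (h2 : ∀ a' : MvPolynomial (Fin n) R, hom a' = x → ∀ t : Fin m₂,
      a' * tail t ∈ Ideal.span (Set.range lead) ⊔ RingHom.ker hom.toRingHom ^ 2) :
    Smoothing.IsStrictlyStandard R A x := by
  classical
  have hrange : Set.range (Fin.append lead tail) = Set.range lead ∪ Set.range tail := by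
    ext y
    constructor
    · rintro ⟨j, rfl⟩
      induction j using Fin.addCases with
      | left j => left; exact ⟨j, by simp⟩
      | right j => right; exact ⟨j, by simp⟩
    · rintro (⟨j, rfl⟩ | ⟨j, rfl⟩)
      · exact ⟨Fin.castAdd m₂ j, by simp⟩
      · exact ⟨Fin.natAdd c j, by simp⟩
  let P : Smoothing.MarkedPresentation R A :=
    { n := n, m := c + m₂, c := c, hcn := hcn, hcm := Nat.le_add_right c m₂
      rel := Fin.append lead tail, hom := hom, surj := hsurj
      ker_eq := by rw [hker, hrange] }
  have hlead : ∀ j : Fin c, Fin.append lead tail (Fin.castLE (Nat.le_add_right c m₂) j) = lead j :=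
    fun j => Fin.append_left lead tail j
  refine ⟨P, ?_, ?_⟩
  · have : (fun cols : Fin P.c → Fin P.n =>
        P.hom (Smoothing.jacobianMinor P.rel (Fin.castLE P.hcm) cols)) =
        fun cols : Fin c → Fin n =>
          hom (Matrix.det (Matrix.of fun j k : Fin c => pderiv (cols k) (lead j))) := by
      funext cols
      change hom (Matrix.det (Matrix.of fun j k : Fin c => pderiv (cols k)
        (Fin.append lead tail (Fin.castLE (Nat.le_add_right c m₂) j)))) = _
      simp_rw [hlead]
    rw [this]
    exact h1
  · intro a' ha' j hj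
    change c ≤ (j : ℕ) at hj
    change a' * Fin.append lead tail j ∈
      Ideal.span (Fin.append lead tail '' {j' : Fin (c + m₂) | (j' : ℕ) < c}) ⊔
        Ideal.span (Set.range (Fin.append lead tail)) ^ 2
    have himage : Fin.append lead tail '' {j' : Fin (c + m₂) | (j' : ℕ) < c} = Set.range lead := by
      ext y
      constructor
      · rintro ⟨j', hj', rfl⟩
        change (j' : ℕ) < c at hj'
        refine ⟨⟨j', hj'⟩, ?_⟩
        have : j' = Fin.castAdd m₂ ⟨j', hj'⟩ := by ext; rfl
        conv_rhs => rw [this, Fin.append_left]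
      · rintro ⟨j', rfl⟩
        exact ⟨Fin.castAdd m₂ j', j'.2, by simp⟩
    rw [himage, hrange, ← hker]
    obtain ⟨t, rfl⟩ : ∃ t : Fin m₂, j = Fin.natAdd c t := by
      have hjlt : (j : ℕ) < c + m₂ := j.2
      refine ⟨⟨(j : ℕ) - c, by omega⟩, ?_⟩
      ext
      simp; omega
    rw [Fin.append_right]
    exact h2 a' ha' t

section ext

variable {R A : Type u} [CommRing R] [CommRing A] [Algebra R A] {n : ℕ} (q : ℕ) (val : Fin n → A)

/-- inclusion of the polynomial ring into the one with `q` more variables. -/
noncomputable def inc : MvPolynomial (Fin n) R →ₐ[R] MvPolynomial (Fin (n + q)) R :=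
  rename (Fin.castAdd q)

/-- the extended surjection killing the new variables. -/
noncomputable def extHom : MvPolynomial (Fin (n + q)) R →ₐ[R] A :=
  aeval (Fin.append val (fun _ : Fin q => (0 : A)))

/-- setting the new variables to zero. -/
noncomputable def zed : MvPolynomial (Fin (n + q)) R →ₐ[R] MvPolynomial (Fin n) R :=
  aeval (Fin.append X (fun _ : Fin q => (0 : MvPolynomial (Fin n) R)))

/-- the new variables. -/
noncomputable def newX (j : Fin q) : MvPolynomial (Fin (n + q)) R := X (Fin.natAdd n j)

/-- the polynomial `ι h + Σ ι (d j) x_{n+j}`. -/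
noncomputable def GG (h : MvPolynomial (Fin n) R) (d : Fin q → MvPolynomial (Fin n) R) :
    MvPolynomial (Fin (n + q)) R :=
  inc q h + ∑ j, inc q (d j) * newX (R := R) (n := n) q j

theorem extHom_inc (p : MvPolynomial (Fin n) R) : extHom q val (inc q p) = aeval val p := by
  rw [extHom, inc, aeval_rename]
  congr 2
  funext i
  simp

theorem extHom_newX (j : Fin q) : extHom (R := R) q val (newX q j) = 0 := by
  simp [extHom, newX]

theorem extHom_GG (h : MvPolynomial (Fin n) R) (d : Fin q → MvPolynomial (Fin n) R) :
    extHom q val (GG q h d) = aeval val h := by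
  simp [GG, extHom_inc, extHom_newX]

theorem sub_inc_zed_mem (p : MvPolynomial (Fin (n + q)) R) :
    p - inc q (zed q p) ∈ Ideal.span (Set.range (newX (R := R) (n := n) q)) := by
  set J := Ideal.span (Set.range (newX (R := R) (n := n) q))
  have h : (Ideal.Quotient.mkₐ R J).comp ((inc q).comp (zed q)) = Ideal.Quotient.mkₐ R J := by
    apply MvPolynomial.algHom_ext
    intro i
    induction i using Fin.addCases with
    | left i => simp [zed, inc]
    | right j =>
      simp only [AlgHom.comp_apply, zed, aeval_X, Fin.append_right, map_zero]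
      symm
      exact Ideal.Quotient.eq_zero_iff_mem.mpr (Ideal.subset_span ⟨j, rfl⟩)
  have := congr($h p)
  simp only [AlgHom.comp_apply, Ideal.Quotient.mkₐ_eq_mk] at this
  rw [← Ideal.Quotient.eq_zero_iff_mem, map_sub, this, sub_self]

theorem extHom_eq_aeval_zed (p : MvPolynomial (Fin (n + q)) R) :
    extHom q val p = aeval val (zed q p) := by
  have h : extHom (R := R) q val = (aeval val).comp (zed q) := by
    apply MvPolynomial.algHom_ext
    intro i
    induction i using Fin.addCases with
    | left i => simp [zed, extHom]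
    | right j => simp [zed, extHom]
  exact congr($h p)

theorem ker_extHom {m : ℕ} (f : Fin m → MvPolynomial (Fin n) R)
    (hf : RingHom.ker (aeval val : MvPolynomial (Fin n) R →ₐ[R] A).toRingHom =
      Ideal.span (Set.range f)) :
    RingHom.ker (extHom (R := R) q val).toRingHom =
      Ideal.span (Set.range (fun l => inc q (f l)) ∪ Set.range (newX (R := R) (n := n) q)) := by
  apply le_antisymm
  · intro p hp
    have hp' : extHom q val p = 0 := hp
    rw [extHom_eq_aeval_zed] at hp'
    have hz : zed q p ∈ Ideal.span (Set.range f) := by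
      rw [← hf]; exact hp'
    have h1 : inc q (zed q p) ∈ Ideal.span (Set.range fun l => inc q (f l)) := by
      have := Ideal.mem_map_of_mem (inc (R := R) (n := n) q).toRingHom hz
      rw [Ideal.map_span, ← Set.range_comp] at this
      exact this
    have h2 := sub_inc_zed_mem q p
    have : p = inc q (zed q p) + (p - inc q (zed q p)) := by ring
    rw [this]
    exact Ideal.add_mem _ (Ideal.span_mono Set.subset_union_left h1)
      (Ideal.span_mono Set.subset_union_right h2)
  · rw [Ideal.span_le]
    rintro _ (⟨l, rfl⟩ | ⟨j, rfl⟩)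
    · change extHom q val (inc q (f l)) = 0
      rw [extHom_inc]
      have : f l ∈ RingHom.ker (aeval val : MvPolynomial (Fin n) R →ₐ[R] A).toRingHom := by
        rw [hf]; exact Ideal.subset_span ⟨l, rfl⟩
      exact this
    · exact extHom_newX q val j

theorem extHom_surjective (hval : Function.Surjective (aeval val : MvPolynomial (Fin n) R →ₐ[R] A)) :
    Function.Surjective (extHom (R := R) q val) := by
  intro y
  obtain ⟨p, rfl⟩ := hval y
  exact ⟨inc q p, extHom_inc q val p⟩

theorem extHom_pderiv_castAdd_GG (h : MvPolynomial (Fin n) R) (d : Fin q → MvPolynomial (Fin n) R)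
    (i : Fin n) :
    extHom q val (pderiv (Fin.castAdd q i) (GG q h d)) = aeval val (pderiv i h) := by
  classical
  have h1 : ∀ p : MvPolynomial (Fin n) R,
      pderiv (Fin.castAdd q i) (inc q p) = inc q (pderiv i p) := fun p =>
    Pop.pderiv_rename_of_injective _ (Fin.castAdd_injective n q) i p
  have h2 : ∀ j : Fin q, pderiv (Fin.castAdd q i) (newX (R := R) (n := n) q j) = 0 := by
    intro j
    rw [newX, pderiv_X, Pi.single_eq_of_ne]
    intro hne
    have := congrArg Fin.val hne
    simp at this
    omega
  simp only [GG, map_add, map_sum, Derivation.leibniz, h1, h2, smul_zero, zero_add, smul_eq_mul,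
    map_mul, extHom_newX, zero_mul, mul_zero, map_zero, Finset.sum_const_zero, add_zero, extHom_inc]

theorem extHom_pderiv_natAdd_GG (h : MvPolynomial (Fin n) R) (d : Fin q → MvPolynomial (Fin n) R)
    (j₀ : Fin q) :
    extHom q val (pderiv (Fin.natAdd n j₀) (GG q h d)) = aeval val (d j₀) := by
  classical
  have h1 : ∀ p : MvPolynomial (Fin n) R, pderiv (Fin.natAdd n j₀) (inc q p) = 0 := fun p =>
    Pop.pderiv_rename_of_notMem_range _ _ (fun i hne => by
      have := congrArg Fin.val hne
      simp at this
      omega) p
  have h2 : ∀ j : Fin q, pderiv (Fin.natAdd n j₀) (newX (R := R) (n := n) q j) =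
      if j = j₀ then 1 else 0 := by
    intro j
    rw [newX, pderiv_X]
    by_cases hj : j = j₀
    · subst hj; simp
    · rw [if_neg hj, Pi.single_eq_of_ne]
      intro hne
      exact hj (Fin.natAdd_injective _ _ hne)
  simp only [GG, map_add, map_sum, Derivation.leibniz, h1, h2, smul_zero, zero_add, smul_eq_mul,
    add_zero, mul_ite, mul_one, mul_zero, Finset.sum_ite_eq', Finset.mem_univ, if_true, extHom_inc]

end ext

end Groth.Agent.Lib.Helper22.SSPow
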