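import Mathlib
import Groth.Agent.Lib.Helper22.SSPow1
import Groth.Agent.Lib.Helper22.SSPow2

set_option autoImplicit false
universe u

namespace Groth.Agent.Lib.Helper22.SSPow

open MvPolynomial TensorProduct

theorem decomp_identity {S : Type*} [CommRing S] {κ ι : Type*} [Fintype κ] [Fintype ι]
    (I H : S) (U s : ℕ) (D X : ι → S) (Bt Gk : κ → S) (Bk : κ → ι → S) :
    I ^ (U + s) * (H + ∑ j, D j * X j) =
      ∑ k, I ^ U * Bt k * (Gk k + ∑ j, Bk k j * X j) +
      (I ^ U * (I ^ s * H - ∑ k, Bt k * Gk k) +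
        ∑ j, I ^ U * (I ^ s * D j - ∑ k, Bt k * Bk k j) * X j) := by
  have e1 : ∑ k, I ^ U * Bt k * (Gk k + ∑ j, Bk k j * X j) =
      I ^ U * ∑ k, Bt k * Gk k + I ^ U * ∑ j, (∑ k, Bt k * Bk k j) * X j := by
    simp only [mul_add, Finset.sum_add_distrib, Finset.mul_sum, Finset.sum_mul]
    congr 1
    · refine Finset.sum_congr rfl fun k _ => by ring
    · rw [Finset.sum_comm]
      refine Finset.sum_congr rfl fun j _ => Finset.sum_congr rfl fun k _ => by ring
  have e2 : ∑ j, I ^ U * (I ^ s * D j - ∑ k, Bt k * Bk k j) * X j =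
      I ^ U * I ^ s * ∑ j, D j * X j - I ^ U * ∑ j, (∑ k, Bt k * Bk k j) * X j := by
    rw [Finset.mul_sum, Finset.mul_sum, ← Finset.sum_sub_distrib]
    refine Finset.sum_congr rfl fun j _ => by ring
  rw [e1, e2, pow_add]
  ring

section tail

variable {R A : Type u} [CommRing R] [CommRing A] [Algebra R A] {n : ℕ}
  (P : Algebra.Generators R A (Fin n)) (a : A) (T : Type u) [CommRing T] [Algebra A T]
  [IsLocalization.Away a T]

/-- the plain kernel ideal. -/
noncomputable abbrev kerI : Ideal (MvPolynomial (Fin n) R) :=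
  RingHom.ker (aeval P.val : MvPolynomial (Fin n) R →ₐ[R] A).toRingHom

theorem mem_kerI_iff (x : MvPolynomial (Fin n) R) : x ∈ kerI P ↔ x ∈ P.toExtension.ker := by
  change aeval P.val x = 0 ↔ algebraMap P.Ring A x = 0
  rw [P.algebraMap_apply]

include a T in
theorem exists_pow_mul_mem_sq {c : ℕ} (a₀ : MvPolynomial (Fin n) R) (ha₀ : aeval P.val a₀ = a)
    (s : ℕ) (h₀ : MvPolynomial (Fin n) R) (hh₀ : h₀ ∈ P.toExtension.ker)
    (g : Fin c → MvPolynomial (Fin n) R) (hg : ∀ k, g k ∈ P.toExtension.ker)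
    (β' : Fin c → MvPolynomial (Fin n) R)
    (h : (1 : T) ⊗ₜ[A] ((a ^ s) • Algebra.Extension.Cotangent.mk (P := P.toExtension) ⟨h₀, hh₀⟩ -
      ∑ k, aeval P.val (β' k) •
        Algebra.Extension.Cotangent.mk (P := P.toExtension) ⟨g k, hg k⟩) = 0) :
    ∃ u : ℕ, a₀ ^ u * (a₀ ^ s * h₀ - ∑ k, β' k * g k) ∈ kerI P ^ 2 := by
  classical
  obtain ⟨u, hu⟩ := exists_pow_smul_eq_zero a T _ h
  refine ⟨u, ?_⟩
  have hact : ∀ (p : P.toExtension.Ring) (m : P.toExtension.Cotangent),
      (aeval P.val p : A) • m = p • m := by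
    intro p m
    have : aeval P.val p = algebraMap P.toExtension.Ring A p := (P.algebraMap_apply p).symm
    rw [this]
    exact algebraMap_smul A p m
  let a₁ : P.toExtension.Ring := a₀
  let β₁ : Fin c → P.toExtension.Ring := β'
  let z : P.toExtension.ker :=
    (a₁ ^ u) • ((a₁ ^ s) • (⟨h₀, hh₀⟩ : P.toExtension.ker) -
      ∑ k, β₁ k • (⟨g k, hg k⟩ : P.toExtension.ker))
  have hz : Algebra.Extension.Cotangent.mk (P := P.toExtension) z = 0 := by
    change Algebra.Extension.Cotangent.mk (P := P.toExtension)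
      ((a₁ ^ u) • ((a₁ ^ s) • (⟨h₀, hh₀⟩ : P.toExtension.ker) -
        ∑ k, β₁ k • (⟨g k, hg k⟩ : P.toExtension.ker))) = 0
    rw [map_smul, map_sub, map_smul, map_sum]
    simp_rw [map_smul]
    have ha₁ : aeval P.val a₁ = a := ha₀
    rw [← hu, ← ha₁, ← map_pow, ← map_pow, hact, hact]
    congr 2
    refine Finset.sum_congr rfl fun k _ => ?_
    exact (hact (β₁ k) _).symm
  have hz2 := (Algebra.Extension.Cotangent.mk_eq_zero_iff z).mp hz
  let h₁ : P.toExtension.Ring := h₀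
  let g₁ : Fin c → P.toExtension.Ring := g
  have hzval : z.1 = a₁ ^ u * (a₁ ^ s * h₁ - ∑ k, β₁ k * g₁ k) := by
    simp [z, h₁, g₁]
  rw [hzval] at hz2
  have hk : kerI P = P.toExtension.ker := by
    ext x; exact mem_kerI_iff P x
  rw [hk]
  exact hz2

variable {q c : ℕ}
  (B : Module.Basis (Fin c) T ((T ⊗[A] P.toExtension.Cotangent) × (Fin q → T)))
  (g : Fin c → MvPolynomial (Fin n) R) (hg : ∀ k, g k ∈ P.toExtension.ker)
  (b' : Fin c → Fin q → MvPolynomial (Fin n) R)
  (hB : ∀ k, B k = ((1 : T) ⊗ₜ[A] Algebra.Extension.Cotangent.mk (P := P.toExtension) ⟨g k, hg k⟩,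
    fun j => algebraMap A T (aeval P.val (b' k j))))

include hB in
theorem exists_pow_mul_GG_mem (a₀ : MvPolynomial (Fin n) R) (ha₀ : aeval P.val a₀ = a)
    (h₀ : MvPolynomial (Fin n) R) (hh₀ : h₀ ∈ P.toExtension.ker)
    (d' : Fin q → MvPolynomial (Fin n) R) :
    ∃ e : ℕ, (inc q a₀) ^ e * GG q h₀ d' ∈
      Ideal.span (Set.range fun k => GG q (g k) (b' k)) ⊔
        RingHom.ker (extHom (R := R) q P.val).toRingHom ^ 2 := by
  classical
  set K := RingHom.ker (extHom (R := R) q P.val).toRingHom with hK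
  let y : (T ⊗[A] P.toExtension.Cotangent) × (Fin q → T) :=
    ((1 : T) ⊗ₜ[A] Algebra.Extension.Cotangent.mk (P := P.toExtension) ⟨h₀, hh₀⟩,
      fun j => algebraMap A T (aeval P.val (d' j)))
  obtain ⟨s, β, hβ⟩ := exists_integral_coords a T B y
  have hsurj : Function.Surjective (aeval P.val : MvPolynomial (Fin n) R →ₐ[R] A) := by
    intro x
    obtain ⟨p, hp⟩ := P.algebraMap_surjective x
    exact ⟨p, by rw [← P.algebraMap_apply]; exact hp⟩
  choose β' hβ' using fun k => hsurj (β k)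
  -- first component
  have h1 : (1 : T) ⊗ₜ[A] ((a ^ s) • Algebra.Extension.Cotangent.mk (P := P.toExtension) ⟨h₀, hh₀⟩ -
      ∑ k, aeval P.val (β' k) •
        Algebra.Extension.Cotangent.mk (P := P.toExtension) ⟨g k, hg k⟩) = 0 := by
    have := congrArg Prod.fst hβ
    simp only [Prod.fst_sum, Prod.smul_fst, hB, y] at this
    rw [TensorProduct.tmul_sub, TensorProduct.tmul_sum, sub_eq_zero]
    rw [← map_pow, algebraMap_smul, ← TensorProduct.tmul_smul] at this
    rw [this]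
    refine Finset.sum_congr rfl fun k _ => ?_
    rw [hβ' k, algebraMap_smul, ← TensorProduct.tmul_smul]
  obtain ⟨u, h1'⟩ := exists_pow_mul_mem_sq P a T a₀ ha₀ s h₀ hh₀ g hg β' h1
  -- second component
  have h2 : ∀ j, ∃ uj : ℕ, a ^ uj * (a ^ s * aeval P.val (d' j) -
      ∑ k, β k * aeval P.val (b' k j)) = 0 := by
    intro j
    apply exists_pow_mul_eq_zero a T
    have := congrFun (congrArg Prod.snd hβ) j
    simp only [Prod.snd_sum, Prod.smul_snd, hB, y, Pi.smul_apply, Finset.sum_apply,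
      smul_eq_mul] at this
    rw [map_sub, map_mul, map_pow, this, map_sum, sub_eq_zero]
    refine Finset.sum_congr rfl fun k _ => ?_
    rw [map_mul]
  choose uj huj using h2
  set U := u + ∑ j, uj j with hU
  have h2' : ∀ j, aeval P.val (a₀ ^ U * (a₀ ^ s * d' j - ∑ k, β' k * b' k j)) = 0 := by
    intro j
    have hle : uj j ≤ U := by
      rw [hU]
      exact le_add_left (Finset.single_le_sum (f := uj) (fun _ _ => Nat.zero_le _) (Finset.mem_univ j))
    obtain ⟨w, hw⟩ := Nat.exists_eq_add_of_le hle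
    simp only [map_mul, map_pow, map_sub, map_sum, ha₀, hβ']
    rw [hw, pow_add, mul_comm (a ^ uj j), mul_assoc, huj j, mul_zero]
  refine ⟨U + s, ?_⟩
  have hdecomp : (inc q a₀) ^ (U + s) * GG q h₀ d' =
      ∑ k, inc q (a₀ ^ U * β' k) * GG q (g k) (b' k) +
      (inc q (a₀ ^ U * (a₀ ^ s * h₀ - ∑ k, β' k * g k)) +
        ∑ j, inc q (a₀ ^ U * (a₀ ^ s * d' j - ∑ k, β' k * b' k j)) * newX q j) := by
    simp only [GG, map_mul, map_sub, map_pow, map_sum]
    exact decomp_identity _ _ _ _ _ _ _ _ _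
  rw [hdecomp]
  refine Ideal.add_mem _ (Ideal.mem_sup_left (Ideal.sum_mem _ fun k _ =>
    Ideal.mul_mem_left _ _ (Ideal.subset_span ⟨k, rfl⟩))) (Ideal.mem_sup_right (Ideal.add_mem _ ?_ ?_))
  · -- inc of ker² in K²
    have hle : (kerI P ^ 2).map (inc (R := R) (n := n) q).toRingHom ≤ K ^ 2 := by
      rw [Ideal.map_pow]
      refine Ideal.pow_right_mono ?_ 2
      rw [Ideal.map_le_iff_le_comap]
      intro x hx
      change extHom q P.val (inc q x) = 0
      rw [extHom_inc]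
      exact hx
    have hU1 : a₀ ^ U * (a₀ ^ s * h₀ - ∑ k, β' k * g k) ∈ kerI P ^ 2 := by
      have : a₀ ^ U = a₀ ^ (∑ j, uj j) * a₀ ^ u := by rw [hU, pow_add, mul_comm]
      rw [this, mul_assoc]
      exact Ideal.mul_mem_left _ _ h1'
    exact hle (Ideal.mem_map_of_mem _ hU1)
  · refine Ideal.sum_mem _ fun j _ => ?_
    rw [pow_two]
    refine Ideal.mul_mem_mul ?_ ?_
    · change extHom q P.val (inc q _) = 0
      rw [extHom_inc]
      exact h2' j
    · exact extHom_newX q P.val j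

end tail

end Groth.Agent.Lib.Helper22.SSPow
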