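import Mathlib
import Groth.Agent.Lib.Helper22.SSPow3
import Groth.Agent.Lib.Helper22.WeakCB

set_option autoImplicit false
universe u

namespace Groth.Agent.Lib.Helper22.SSPow

open MvPolynomial TensorProduct

section loc
variable {A : Type u} [CommRing A] (a : A) (T : Type u) [CommRing T] [Algebra A T]
  [IsLocalization.Away a T]

include a in
theorem exists_pow_mem_of_one_mem_map (I : Ideal A) (h : (1 : T) ∈ I.map (algebraMap A T)) :
    ∃ e : ℕ, a ^ e ∈ I := by
  have htop : I.map (algebraMap A T) = ⊤ := (Ideal.eq_top_iff_one _).mpr h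
  by_contra hcon
  push Not at hcon
  have hdisj : Disjoint (Submonoid.powers a : Set A) (I : Set A) := by
    rw [Set.disjoint_left]
    rintro _ ⟨e, rfl⟩ hI
    exact hcon e hI
  exact (IsLocalization.map_algebraMap_ne_top_iff_disjoint (Submonoid.powers a) T I).mpr hdisj htop

end loc

section minors

variable {R A : Type u} [CommRing R] [CommRing A] [Algebra R A] {n : ℕ}
  (P : Algebra.Generators R A (Fin n)) (a : A) (T : Type u) [CommRing T] [Algebra A T]
  [IsLocalization.Away a T]
  (r : T ⊗[A] P.toExtension.CotangentSpace →ₗ[T] T ⊗[A] P.toExtension.Cotangent)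
  (hr : r ∘ₗ (P.toExtension.cotangentComplex.baseChange T) = LinearMap.id)
  {q c : ℕ}
  (B : Module.Basis (Fin c) T ((T ⊗[A] P.toExtension.Cotangent) × (Fin q → T)))
  (g : Fin c → MvPolynomial (Fin n) R) (hg : ∀ k, g k ∈ P.toExtension.ker)
  (b' : Fin c → Fin q → MvPolynomial (Fin n) R)
  (hB : ∀ k, B k = ((1 : T) ⊗ₜ[A] Algebra.Extension.Cotangent.mk (P := P.toExtension) ⟨g k, hg k⟩,
    fun j => algebraMap A T (aeval P.val (b' k j))))

/-- the basis of the target `T ⊗ CotangentSpace × T^q`. -/
noncomputable def tb : Module.Basis (Fin n ⊕ Fin q) T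
    ((T ⊗[A] P.toExtension.CotangentSpace) × (Fin q → T)) :=
  (P.cotangentSpaceBasis.baseChange T).prod (Pi.basisFun T (Fin q))

/-- the map `δ_T × id`. -/
noncomputable def Phi : ((T ⊗[A] P.toExtension.Cotangent) × (Fin q → T)) →ₗ[T]
    ((T ⊗[A] P.toExtension.CotangentSpace) × (Fin q → T)) :=
  LinearMap.prodMap (P.toExtension.cotangentComplex.baseChange T) LinearMap.id

include hB in
theorem tb_repr_Phi (k : Fin c) (l : Fin n ⊕ Fin q) :
    (tb P T (q := q)).repr (Phi P T (B k)) l =
      algebraMap A T (extHom q P.val (pderiv (finSumFinEquiv l) (GG q (g k) (b' k)))) := by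
  rw [hB k]
  cases l with
  | inl i =>
    rw [finSumFinEquiv_apply_left, extHom_pderiv_castAdd_GG]
    simp only [tb, Phi, Module.Basis.prod_repr_inl, LinearMap.prodMap_apply,
      LinearMap.baseChange_tmul, Module.Basis.baseChange_repr_tmul,
      Algebra.Extension.cotangentComplex_mk]
    rw [Algebra.Generators.cotangentSpaceBasis_repr_one_tmul, Algebra.smul_def, mul_one]
  | inr j =>
    rw [finSumFinEquiv_apply_right, extHom_pderiv_natAdd_GG]
    simp [tb, Phi, Module.Basis.prod_repr_inr]

include hr hB in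
theorem exists_pow_mem_span_minors :
    ∃ e₁ : ℕ, a ^ e₁ ∈ Ideal.span (Set.range fun cols : Fin c → Fin (n + q) =>
      extHom q P.val (Matrix.det (Matrix.of fun j k : Fin c =>
        pderiv (cols k) (GG q (g j) (b' j))))) := by
  classical
  apply exists_pow_mem_of_one_mem_map a T
  set I := Ideal.span (Set.range fun cols : Fin c → Fin (n + q) =>
      extHom q P.val (Matrix.det (Matrix.of fun j k : Fin c =>
        pderiv (cols k) (GG q (g j) (b' j))))) with hI
  let ρ : ((T ⊗[A] P.toExtension.CotangentSpace) × (Fin q → T)) →ₗ[T]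
      ((T ⊗[A] P.toExtension.Cotangent) × (Fin q → T)) := LinearMap.prodMap r LinearMap.id
  have hρ : ρ ∘ₗ Phi P T = LinearMap.id := by
    change LinearMap.prodMap r LinearMap.id ∘ₗ
      LinearMap.prodMap (P.toExtension.cotangentComplex.baseChange T) LinearMap.id = _
    rw [LinearMap.prodMap_comp, hr, LinearMap.comp_id, LinearMap.prodMap_id]
  let MΦ := LinearMap.toMatrix B (tb P T (q := q)) (Phi P T)
  let Mρ := LinearMap.toMatrix (tb P T (q := q)) B ρ
  have hmul : Mρ * MΦ = 1 := by
    rw [← LinearMap.toMatrix_comp, hρ, LinearMap.toMatrix_id]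
  have hdet : (Mρ * MΦ).det = 1 := by rw [hmul, Matrix.det_one]
  rw [Groth.Agent.Lib.helper22.WeakCB.det_mul_eq_sum] at hdet
  rw [← hdet]
  refine Ideal.sum_mem _ fun φ _ => Ideal.mul_mem_left _ _ ?_
  have hminor : (MΦ.submatrix φ id).det = algebraMap A T (extHom q P.val (Matrix.det
      (Matrix.of fun j k : Fin c =>
        pderiv ((fun k => finSumFinEquiv (φ k)) k) (GG q (g j) (b' j))))) := by
    rw [← AlgHom.coe_toRingHom (extHom q P.val), ← RingHom.comp_apply, RingHom.map_det,
      ← Matrix.det_transpose]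
    congr 1
    ext j k
    simp only [Matrix.transpose_apply, Matrix.submatrix_apply, id_eq, RingHom.mapMatrix_apply,
      Matrix.map_apply, Matrix.of_apply, RingHom.comp_apply, MΦ, LinearMap.toMatrix_apply]
    exact tb_repr_Phi P T B g hg b' hB j (φ k)
  rw [hminor]
  exact Ideal.mem_map_of_mem _ (Ideal.subset_span ⟨fun k => finSumFinEquiv (φ k), rfl⟩)

end minors

end Groth.Agent.Lib.Helper22.SSPow
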