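import Mathlib
import Groth.Agent.Lib.Helper22.SSPow4

set_option autoImplicit false
universe u

namespace Groth.Agent.Lib.Helper22.SSPow

open MvPolynomial TensorProduct KaehlerDifferential

theorem isStrictlyStandard_zero {R A : Type u} [CommRing R] [CommRing A] [Algebra R A]
    [Algebra.FinitePresentation R A] : Smoothing.IsStrictlyStandard R A (0 : A) := by
  obtain ⟨n, φ, hφ, hfg⟩ := (Algebra.FinitePresentation.out : ∃ (n : ℕ)
    (f : MvPolynomial (Fin n) R →ₐ[R] A), Function.Surjective f ∧ (RingHom.ker f.toRingHom).FG)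
  obtain ⟨m, f, hf⟩ := Submodule.fg_iff_exists_fin_generating_family.mp hfg
  have hker : RingHom.ker φ.toRingHom = Ideal.span (Set.range f) := hf.symm
  refine isStrictlyStandard_of_lead_tail (Nat.zero_le n) (Fin.elim0) f φ hφ ?_ 0 (Ideal.zero_mem _) ?_
  · rw [hker]
    congr 1
    ext x
    simp
  · intro a' ha' t
    refine Ideal.mem_sup_right ?_
    rw [pow_two]
    refine Ideal.mul_mem_mul ha' ?_
    rw [hker]
    exact Ideal.subset_span ⟨t, rfl⟩

theorem pow_isStrictlyStandard_aux {R A : Type u} [CommRing R] [CommRing A] [Algebra R A] {n m : ℕ}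
    (P : Algebra.Generators R A (Fin n)) (f : Fin m → MvPolynomial (Fin n) R)
    (hf : RingHom.ker (aeval P.val : MvPolynomial (Fin n) R →ₐ[R] A).toRingHom =
      Ideal.span (Set.range f))
    (a : A) (T : Type u) [CommRing T] [Algebra A T] [Algebra R T] [IsScalarTower R A T]
    [IsLocalization.Away a T] [Algebra.FormallySmooth R T] [Nontrivial T] (p q : ℕ)
    (e : (Ω[T⁄R] × (Fin p → T)) ≃ₗ[T] (Fin q → T)) :
    ∃ e₀ : ℕ, ∀ N : ℕ, e₀ ≤ N → Smoothing.IsStrictlyStandard R A (a ^ N) := by
  classical
  obtain ⟨⟨r, hr⟩, ⟨split⟩⟩ := exists_retraction_localization P a T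
  let split' : (Fin n → T) ≃ₗ[T] (T ⊗[A] P.toExtension.Cotangent) × Ω[T⁄R] :=
    (P.cotangentSpaceBasis.baseChange T).equivFun.symm.trans split
  obtain ⟨B₀⟩ := nonempty_basis_of_stablyFree split' e
  obtain ⟨B, mv, b, hBmb⟩ := exists_integral_basis a T B₀
  have hsurj : Function.Surjective (aeval P.val : MvPolynomial (Fin n) R →ₐ[R] A) := by
    intro x
    obtain ⟨y, hy⟩ := P.algebraMap_surjective x
    exact ⟨y, by rw [← P.algebraMap_apply]; exact hy⟩
  choose gk hgk using fun k => Algebra.Extension.Cotangent.mk_surjective (P := P.toExtension) (mv k)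
  let g : Fin (n + p) → MvPolynomial (Fin n) R := fun k => (gk k).1
  have hg : ∀ k, g k ∈ P.toExtension.ker := fun k => (gk k).2
  choose b' hb' using fun k j => hsurj (b k j)
  have hB : ∀ k, B k = ((1 : T) ⊗ₜ[A]
      Algebra.Extension.Cotangent.mk (P := P.toExtension) ⟨g k, hg k⟩,
      fun j => algebraMap A T (aeval P.val (b' k j))) := by
    intro k
    rw [hBmb k]
    refine Prod.ext ?_ ?_
    · change _ = (1 : T) ⊗ₜ[A] Algebra.Extension.Cotangent.mk (P := P.toExtension) (gk k)
      rw [hgk k]
    · funext j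
      change _ = algebraMap A T (aeval P.val (b' k j))
      rw [hb' k j]
  -- numerical bound
  have hcn : n + p ≤ n + q := by
    have hinj : Function.Injective (Phi P T (q := q)) := by
      have hρ : (LinearMap.prodMap r LinearMap.id) ∘ₗ Phi P T (q := q) = LinearMap.id := by
        change LinearMap.prodMap r LinearMap.id ∘ₗ
          LinearMap.prodMap (P.toExtension.cotangentComplex.baseChange T) LinearMap.id = _
        rw [LinearMap.prodMap_comp, hr, LinearMap.comp_id, LinearMap.prodMap_id]
      intro x y hxy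
      have := congrArg (LinearMap.prodMap r (LinearMap.id : (Fin q → T) →ₗ[T] (Fin q → T))) hxy
      rw [← LinearMap.comp_apply, ← LinearMap.comp_apply, hρ] at this
      exact this
    have hfin : Module.Finite T ((T ⊗[A] P.toExtension.CotangentSpace) × (Fin q → T)) :=
      Module.Finite.of_basis (tb P T (q := q))
    have h1 := LinearMap.finrank_le_finrank_of_injective hinj
    rw [Module.finrank_eq_card_basis B, Module.finrank_eq_card_basis (tb P T (q := q))] at h1
    simpa using h1
  obtain ⟨a₀, ha₀⟩ := hsurj a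
  obtain ⟨e₁, he₁⟩ := exists_pow_mem_span_minors P a T r hr B g hg b' hB
  -- tail
  let tail : Fin (m + q) → MvPolynomial (Fin (n + q)) R :=
    Fin.append (fun l => inc q (f l)) (newX (R := R) (n := n) q)
  have hfker : ∀ l, f l ∈ P.toExtension.ker := by
    intro l
    rw [← mem_kerI_iff]
    change f l ∈ RingHom.ker (aeval P.val : MvPolynomial (Fin n) R →ₐ[R] A).toRingHom
    rw [hf]
    exact Ideal.subset_span ⟨l, rfl⟩
  have htail : ∀ t, ∃ et : ℕ, (inc q a₀) ^ et * tail t ∈
      Ideal.span (Set.range fun k => GG q (g k) (b' k)) ⊔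
        RingHom.ker (extHom (R := R) q P.val).toRingHom ^ 2 := by
    intro t
    induction t using Fin.addCases with
    | left l =>
      have h1 : tail (Fin.castAdd q l) = GG q (f l) 0 := by
        simp [tail, GG]
      rw [h1]
      exact exists_pow_mul_GG_mem P a T B g hg b' hB a₀ ha₀ (f l) (hfker l) 0
    | right j₀ =>
      have h1 : tail (Fin.natAdd m j₀) = GG q 0 (Pi.single j₀ 1) := by
        simp only [tail, Fin.append_right, GG, map_zero, zero_add]
        rw [Finset.sum_eq_single j₀]
        · simp
        · intro j _ hj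
          rw [Pi.single_eq_of_ne hj, map_zero, zero_mul]
        · intro h; exact absurd (Finset.mem_univ _) h
      rw [h1]
      exact exists_pow_mul_GG_mem P a T B g hg b' hB a₀ ha₀ 0 (Ideal.zero_mem _) _
  choose et het using htail
  have hrange_tail : Set.range tail =
      Set.range (fun l => inc q (f l)) ∪ Set.range (newX (R := R) (n := n) q) := by
    ext y
    constructor
    · rintro ⟨j, rfl⟩
      induction j using Fin.addCases with
      | left j => left; exact ⟨j, by simp [tail]⟩
      | right j => right; exact ⟨j, by simp [tail]⟩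
    · rintro (⟨j, rfl⟩ | ⟨j, rfl⟩)
      · exact ⟨Fin.castAdd q j, by simp [tail]⟩
      · exact ⟨Fin.natAdd m j, by simp [tail]⟩
  have hker0 := ker_extHom q P.val f hf
  rw [← hrange_tail] at hker0
  have hlead_mem : ∀ k, GG q (g k) (b' k) ∈ RingHom.ker (extHom (R := R) q P.val).toRingHom := by
    intro k
    change extHom q P.val (GG q (g k) (b' k)) = 0
    rw [extHom_GG]
    exact (mem_kerI_iff P (g k)).mpr (hg k)
  have hker : RingHom.ker (extHom (R := R) q P.val).toRingHom =
      Ideal.span (Set.range (fun k => GG q (g k) (b' k)) ∪ Set.range tail) := by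
    apply le_antisymm
    · rw [hker0]
      exact Ideal.span_mono Set.subset_union_right
    · rw [Ideal.span_le]
      rintro _ (⟨k, rfl⟩ | ⟨t, rfl⟩)
      · exact hlead_mem k
      · rw [hker0]
        exact Ideal.subset_span ⟨t, rfl⟩
  refine ⟨e₁ + ∑ t, et t, fun N hN => ?_⟩
  refine isStrictlyStandard_of_lead_tail hcn (fun k => GG q (g k) (b' k)) tail (extHom q P.val)
    (extHom_surjective q P.val hsurj) hker (a ^ N) ?_ ?_
  · obtain ⟨w, rfl⟩ := Nat.exists_eq_add_of_le (le_trans (Nat.le_add_right _ _) hN)
    rw [pow_add]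
    exact Ideal.mul_mem_right _ _ he₁
  · intro a' ha' t
    have hle : et t ≤ N := by
      refine le_trans ?_ hN
      exact le_add_left (Finset.single_le_sum (f := et) (fun _ _ => Nat.zero_le _) (Finset.mem_univ t))
    obtain ⟨w, hw⟩ := Nat.exists_eq_add_of_le hle
    have hdiff : a' - inc q a₀ ^ N ∈ RingHom.ker (extHom (R := R) q P.val).toRingHom := by
      change extHom q P.val (a' - inc q a₀ ^ N) = 0
      rw [map_sub, ha', map_pow, extHom_inc, ha₀, sub_self]
    have hdecomp : a' * tail t = (a' - inc q a₀ ^ N) * tail t +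
        inc q a₀ ^ w * (inc q a₀ ^ et t * tail t) := by
      rw [hw, pow_add]; ring
    rw [hdecomp]
    refine Ideal.add_mem _ (Ideal.mem_sup_right ?_) (Ideal.mul_mem_left _ _ (het t))
    rw [pow_two]
    refine Ideal.mul_mem_mul hdiff ?_
    rw [hker0]
    exact Ideal.subset_span ⟨t, rfl⟩

/-- `a ^ e` is strictly standard for all large `e` when `A_a` is smooth with stably free
differentials. -/
theorem pow_isStrictlyStandard {R A : Type u} [CommRing R] [CommRing A]
    [Algebra R A] [Algebra.FinitePresentation R A] (a : A) [Algebra.Smooth R (Localization.Away a)]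
    (p q : ℕ) (e : (Ω[Localization.Away a⁄R] × (Fin p → Localization.Away a)) ≃ₗ[Localization.Away a]
      (Fin q → Localization.Away a)) :
    ∃ e₀ : ℕ, ∀ n : ℕ, e₀ ≤ n → Smoothing.IsStrictlyStandard R A (a ^ n) := by
  classical
  rcases subsingleton_or_nontrivial (Localization.Away a) with hsub | hnt
  · -- `a` nilpotent
    have h0 : (0 : A) ∈ Submonoid.powers a :=
      (IsLocalization.subsingleton_iff (S := Localization.Away a) (M := Submonoid.powers a)).mp hsub
    obtain ⟨e₀, he₀⟩ := h0
    refine ⟨e₀, fun n hn => ?_⟩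
    obtain ⟨w, rfl⟩ := Nat.exists_eq_add_of_le hn
    change a ^ e₀ = 0 at he₀
    rw [pow_add, he₀, zero_mul]
    exact isStrictlyStandard_zero
  · obtain ⟨n, φ, hφ, hfg⟩ := (Algebra.FinitePresentation.out : ∃ (n : ℕ)
      (f : MvPolynomial (Fin n) R →ₐ[R] A), Function.Surjective f ∧ (RingHom.ker f.toRingHom).FG)
    obtain ⟨m, f, hf⟩ := Submodule.fg_iff_exists_fin_generating_family.mp hfg
    have haeval : (aeval (fun i => φ (X i)) : MvPolynomial (Fin n) R →ₐ[R] A) = φ := by
      apply MvPolynomial.algHom_ext
      intro i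
      simp
    let P : Algebra.Generators R A (Fin n) :=
      Algebra.Generators.ofSurjective (fun i => φ (X i)) (by rw [haeval]; exact hφ)
    have hPval : P.val = fun i => φ (X i) := rfl
    have hker : RingHom.ker (aeval P.val : MvPolynomial (Fin n) R →ₐ[R] A).toRingHom =
        Ideal.span (Set.range f) := by
      rw [hPval, haeval]
      exact hf.symm
    have : Algebra.FormallySmooth R (Localization.Away a) := Algebra.Smooth.formallySmooth
    exact pow_isStrictlyStandard_aux P f hker a (Localization.Away a) p q e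

end Groth.Agent.Lib.Helper22.SSPow
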