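import Mathlib
import Groth.Agent.Lib.Helper22.SepB2
import Groth.Agent.Lib.Helper22.SymKaehler2
import Groth.Agent.Lib.Helper22.SSPow5
import Groth.Agent.Lib.Helper22.Deloc9

set_option autoImplicit false
universe u

namespace Groth.Agent.Lib.Helper22.SepB

open TensorProduct KaehlerDifferential Groth.Agent.Lib.helper22.SymKaehler
  Groth.Agent.Lib.helper22.SymKaehler2

theorem smooth_free_localization_sym {R A : Type u} [CommRing R] [CommRing A] [Algebra R A] {n : ℕ}
    (P : Algebra.Generators R A (Fin n)) (a : A)
    (T : Type u) [CommRing T] [Algebra A T] [Algebra R T] [IsScalarTower R A T]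
    [IsLocalization.Away a T] [Algebra.FormallySmooth R T]
    (B : Type u) [CommRing B] [Algebra (SymmetricAlgebra A P.toExtension.Cotangent) B]
    [Algebra A B] [IsScalarTower A (SymmetricAlgebra A P.toExtension.Cotangent) B]
    [Algebra R B] [IsScalarTower R A B]
    [IsLocalization.Away (algebraMap A (SymmetricAlgebra A P.toExtension.Cotangent) a) B] :
    Algebra.FormallySmooth R B ∧ Module.Free B Ω[B⁄R] := by
  classical
  have hunit : IsUnit (algebraMap A B a) := by
    rw [IsScalarTower.algebraMap_apply A (SymmetricAlgebra A P.toExtension.Cotangent) B]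
    exact IsLocalization.Away.algebraMap_isUnit _
  let algTB : Algebra T B := (IsLocalization.Away.lift a (g := algebraMap A B) hunit).toAlgebra
  have : IsScalarTower A T B := IsScalarTower.of_algebraMap_eq' (by
    ext x
    exact (IsLocalization.Away.lift_eq a hunit x).symm)
  have : IsScalarTower R T B := IsScalarTower.of_algebraMap_eq' (by
    ext r
    change algebraMap R B r = algebraMap T B (algebraMap R T r)
    rw [IsScalarTower.algebraMap_apply R A T, ← IsScalarTower.algebraMap_apply A T B,
      ← IsScalarTower.algebraMap_apply R A B])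
  obtain ⟨hproj, ⟨split⟩⟩ := exists_split_localization P a T
  have := hproj
  have hfs : Algebra.FormallySmooth T B :=
    formallySmooth_localization_sym P.toExtension.Cotangent a T B
  obtain ⟨e2⟩ := nonempty_kaehlerEquiv_localization_sym P.toExtension.Cotangent a T B
  obtain ⟨ε⟩ := nonempty_kaehler_equiv_pi' R T B (T ⊗[A] P.toExtension.Cotangent)
    (T ⊗[A] P.toExtension.CotangentSpace)
    (P.cotangentSpaceBasis.baseChange T) split e2
  exact ⟨Algebra.FormallySmooth.comp R T B, Module.Free.of_equiv ε.symm⟩

end Groth.Agent.Lib.Helper22.SepB
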