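import Mathlib
import Groth.Agent.Lib.Helper22.SepB3

set_option autoImplicit false
universe u

namespace Groth.Agent.Lib.Helper22.SepB

open TensorProduct KaehlerDifferential MvPolynomial

theorem exists_stablyFree_equiv_of_free (L M : Type u) [CommRing L] [AddCommGroup M] [Module L M]
    [Module.Free L M] [Module.Finite L M] :
    ∃ q : ℕ, Nonempty ((M × (Fin 0 → L)) ≃ₗ[L] (Fin q → L)) := by
  rcases subsingleton_or_nontrivial L with hL | hL
  · have : Subsingleton M := Module.subsingleton L M
    exact ⟨0, ⟨LinearEquiv.ofSubsingleton _ _⟩⟩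
  · exact ⟨Module.finrank L M,
      ⟨(LinearEquiv.prodUnique (R := L) (M := M) (M₂ := Fin 0 → L)).trans
        (Module.finBasis L M).equivFun⟩⟩

set_option maxHeartbeats 1600000 in
theorem exists_package {R T : Type u} [CommRing R] [IsNoetherianRing R] [CommRing T] [Algebra R T]
    [Algebra.FinitePresentation R T] {d r : ℕ} (x : Fin d → R) (n : ℕ) (a : Fin r → T)
    (hsm : ∀ j, Algebra.Smooth R (Localization.Away (a j))) :
    ∃ (Cr : Type u) (_ : CommRing Cr) (_ : Algebra R Cr), Algebra.FinitePresentation R Cr ∧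
      ∃ ι : T →ₐ[R] Cr,
        (∀ i, ∃ e₀ : ℕ, ∀ e, e₀ ≤ e →
          Smoothing.IsStrictlyStandard R Cr (algebraMap R Cr (x i) ^ e)) ∧
        (∀ j, ι (a j) ∈ Smoothing.singularIdeal R Cr) ∧
        ∀ (Λ : Type u) [CommRing Λ] [Algebra R Λ] (θ : T →ₐ[R] Λ),
          (∀ i, algebraMap R Λ (x i) ^ n ∈ Ideal.span (Set.range fun j => θ (a j))) →
            ∃ ψ : Cr →ₐ[R] Λ, ∀ t, ψ (ι t) = θ t := by
  classical
  let p : Fin d → T := fun i => algebraMap R T (x i) ^ n
  have hfpB : Algebra.FinitePresentation R (BB p a) := finitePresentation_BB p a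
  let PB := Algebra.Presentation.ofFinitePresentation R (BB p a)
  have hfinM : Module.Finite (BB p a) PB.toExtension.Cotangent :=
    Algebra.Extension.Cotangent.finite PB.fg_ker
  let Cr := SymmetricAlgebra (BB p a) PB.toExtension.Cotangent
  have hftC : Algebra.FiniteType R Cr := by
    have h1 : Algebra.FiniteType (BB p a) Cr :=
      Groth.Agent.Lib.helper22.SymKaehler2.finiteType_sym (BB p a) _
    exact Algebra.FiniteType.trans (S := BB p a) inferInstance h1
  have hfpC : Algebra.FinitePresentation R Cr := Algebra.FinitePresentation.of_finiteType.mp hftC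
  -- the key: smoothness + freeness after inverting `b`
  have key : ∀ b : BB p a, Algebra.Smooth R (Localization.Away b) →
      Algebra.Smooth R (Localization.Away (algebraMap (BB p a) Cr b)) ∧
        Module.Free (Localization.Away (algebraMap (BB p a) Cr b))
          Ω[Localization.Away (algebraMap (BB p a) Cr b)⁄R] := by
    intro b hb
    have hfs : Algebra.FormallySmooth R (Localization.Away b) := hb.formallySmooth
    obtain ⟨h1, h2⟩ := smooth_free_localization_sym PB.toGenerators b (Localization.Away b)
      (Localization.Away (algebraMap (BB p a) Cr b))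
    have hfpL : Algebra.FinitePresentation R (Localization.Away (algebraMap (BB p a) Cr b)) :=
      Algebra.FinitePresentation.trans R Cr _
    exact ⟨⟨h1, hfpL⟩, h2⟩
  let ι : T →ₐ[R] Cr := (IsScalarTower.toAlgHom R (BB p a) Cr).comp
    (IsScalarTower.toAlgHom R T (BB p a))
  have hι : ∀ t, ι t = algebraMap (BB p a) Cr (algebraMap T (BB p a) t) := fun t => rfl
  refine ⟨Cr, inferInstance, inferInstance, hfpC, ι, ?_, ?_, ?_⟩
  · intro i
    set y : BB p a := algebraMap R (BB p a) (x i) with hy
    have hyn : y ^ n ∈ Ideal.span (Set.range fun j => algebraMap T (BB p a) (a j)) := by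
      have : y ^ n = algebraMap T (BB p a) (p i) := by
        rw [hy, IsScalarTower.algebraMap_apply R T (BB p a), ← map_pow]
      rw [this, algebraMap_p_eq]
      exact Ideal.sum_mem _ fun j _ => Ideal.mul_mem_right _ _ (Ideal.subset_span ⟨j, rfl⟩)
    have hsmy : Algebra.Smooth R (Localization.Away y) := smooth_away_of_pow_mem p a hsm y n hyn
    obtain ⟨hsmL, hfree⟩ := key y hsmy
    obtain ⟨q, ⟨e⟩⟩ := exists_stablyFree_equiv_of_free
      (Localization.Away (algebraMap (BB p a) Cr y))
      Ω[Localization.Away (algebraMap (BB p a) Cr y)⁄R]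
    have := SSPow.pow_isStrictlyStandard (R := R) (algebraMap (BB p a) Cr y) 0 q e
    have hxy : algebraMap R Cr (x i) = algebraMap (BB p a) Cr y := by
      rw [hy, ← IsScalarTower.algebraMap_apply]
    rw [hxy]
    exact this
  · intro j
    have hsmj : Algebra.Smooth R (Localization.Away (algebraMap T (BB p a) (a j))) := by
      refine smooth_away_of_pow_mem p a hsm _ 1 ?_
      rw [pow_one]
      exact Ideal.subset_span ⟨j, rfl⟩
    obtain ⟨hsmL, -⟩ := key _ hsmj
    rw [hι]
    exact Deloc.mem_singularIdeal_of_smooth_localizationAway _ hsmL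
  · intro Λ _ _ θ hθ
    have hlam : ∀ i, ∃ lam : Fin r → Λ, ∑ j, lam j * θ (a j) = algebraMap R Λ (x i) ^ n := by
      intro i
      have := hθ i
      rw [Ideal.span, Submodule.mem_span_range_iff_exists_fun] at this
      obtain ⟨c, hc⟩ := this
      exact ⟨c, by simpa [smul_eq_mul] using hc⟩
    choose lam hlam using hlam
    obtain ⟨θ', hθ'⟩ := exists_lift p a θ.toRingHom lam (by
      intro i
      change θ (algebraMap R T (x i) ^ n) = ∑ j, θ (a j) * lam i j
      rw [map_pow, θ.commutes, ← hlam i]
      refine Finset.sum_congr rfl fun j _ => mul_comm _ _)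
    let θ'' : BB p a →ₐ[R] Λ :=
      { θ' with
        commutes' := by
          intro c
          change θ' (algebraMap R (BB p a) c) = algebraMap R Λ c
          rw [IsScalarTower.algebraMap_apply R T (BB p a), hθ']
          exact θ.commutes c }
    let ρ : Cr →ₐ[BB p a] BB p a := SymmetricAlgebra.algebraMapInv
    refine ⟨θ''.comp (ρ.restrictScalars R), fun t => ?_⟩
    change θ' (ρ (ι t)) = θ t
    rw [hι, ρ.commutes]
    exact hθ' t

end Groth.Agent.Lib.Helper22.SepB
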