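import Groth.Agent.Lib.Helper22.PopY5

set_option autoImplicit false
universe u

namespace Groth.Agent.Lib.Helper22.Pop

open TensorProduct

section chain

variable {R : Type u} [CommRing R] {r : ℕ} (π : Fin r → R)

/-- the ideal generated by the eighth powers of the first `i` elements. -/
def Kid (i : ℕ) : Ideal R :=
  Ideal.span (Set.range fun j : {j : Fin r // (j : ℕ) < i} => π j ^ 8)

theorem Kid_zero : Kid π 0 = ⊥ := by
  rw [Kid, Ideal.span_eq_bot]
  rintro _ ⟨⟨j, hj⟩, rfl⟩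
  exact absurd hj (Nat.not_lt_zero _)

theorem Kid_succ (i : ℕ) (hi : i < r) :
    Kid π (i + 1) = Kid π i ⊔ Ideal.span {π ⟨i, hi⟩ ^ 8} := by
  apply le_antisymm
  · rw [Kid, Ideal.span_le]
    rintro _ ⟨⟨j, hj⟩, rfl⟩
    rcases Nat.lt_succ_iff_lt_or_eq.mp hj with h | h
    · exact Ideal.mem_sup_left (Ideal.subset_span ⟨⟨j, h⟩, rfl⟩)
    · have : j = ⟨i, hi⟩ := Fin.ext h
      subst this
      exact Ideal.mem_sup_right (Ideal.subset_span rfl)
  · rw [sup_le_iff]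
    constructor
    · rw [Kid, Ideal.span_le]
      rintro _ ⟨⟨j, hj⟩, rfl⟩
      exact Ideal.subset_span ⟨⟨j, Nat.lt_succ_of_lt hj⟩, rfl⟩
    · rw [Ideal.span_le]
      rintro _ rfl
      exact Ideal.subset_span ⟨⟨⟨i, hi⟩, Nat.lt_succ_self i⟩, rfl⟩

theorem Kid_top : Kid π r = Ideal.span (Set.range fun i => π i ^ 8) := by
  apply le_antisymm
  · rw [Kid, Ideal.span_le]
    rintro _ ⟨⟨j, hj⟩, rfl⟩
    exact Ideal.subset_span ⟨j, rfl⟩
  · rw [Ideal.span_le]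
    rintro _ ⟨j, rfl⟩
    exact Ideal.subset_span ⟨⟨j, j.2⟩, rfl⟩

theorem Kid_map {Λ : Type u} [CommRing Λ] [Algebra R Λ] (i : ℕ) :
    (Kid π i).map (algebraMap R Λ) =
      Ideal.span (Set.range fun j : {j : Fin r // (j : ℕ) < i} => algebraMap R Λ (π j) ^ 8) := by
  rw [Kid, Ideal.map_span, ← Set.range_comp]
  congr 2
  funext j
  simp

end chain

theorem resolvable_of_resolvable_mod_pow_eight {R A Λ : Type u} [CommRing R] [IsNoetherianRing R]
    [CommRing A] [Algebra R A] [Algebra.FinitePresentation R A] [CommRing Λ] [Algebra R Λ]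
    (φ : A →ₐ[R] Λ) (𝔮 : Ideal Λ) [𝔮.IsPrime] {r : ℕ} (hr : 0 < r) (π : Fin r → R)
    (hπ𝔮 : ∀ i, algebraMap R Λ (π i) ∈ 𝔮)
    (hR : ∀ i : Fin r, ∀ x : R ⧸ Ideal.span (Set.range fun j : {j : Fin r // (j : ℕ) < (i : ℕ)} => π j ^ 8),
      Ideal.Quotient.mk _ (π i) ^ 2 * x = 0 → Ideal.Quotient.mk _ (π i) * x = 0)
    (hΛ : ∀ i : Fin r, ∀ x : Λ ⧸ Ideal.span (Set.range fun j : {j : Fin r // (j : ℕ) < (i : ℕ)} =>
        algebraMap R Λ (π j) ^ 8),
      Ideal.Quotient.mk _ (algebraMap R Λ (π i)) ^ 2 * x = 0 → Ideal.Quotient.mk _ (algebraMap R Λ (π i)) * x = 0)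
    (hstd : ∀ i, Smoothing.IsStrictlyStandard R A (algebraMap R A (π i)))
    (K : Ideal R) (hK : K = Ideal.span (Set.range fun i => π i ^ 8))
    (φK : (A ⧸ K.map (algebraMap R A)) →ₐ[R ⧸ K] (Λ ⧸ K.map (algebraMap R Λ)))
    (hφK : ∀ a : A, φK (Ideal.Quotient.mk _ a) = Ideal.Quotient.mk _ (φ a))
    (hres : Smoothing.Resolvable (R ⧸ K) φK (𝔮.map (Ideal.Quotient.mk (K.map (algebraMap R Λ))))) :
    Smoothing.Resolvable R φ 𝔮 := by
  classical
  -- elementary forms of the hypotheses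
  have hRel : ∀ (i : ℕ) (hi : i < r) (x : R), π ⟨i, hi⟩ ^ 2 * x ∈ Kid π i →
      π ⟨i, hi⟩ * x ∈ Kid π i := by
    intro i hi x hx
    have h1 := hR ⟨i, hi⟩ (Ideal.Quotient.mk _ x)
    rw [← map_pow, ← map_mul, ← map_mul, Ideal.Quotient.eq_zero_iff_mem,
      Ideal.Quotient.eq_zero_iff_mem] at h1
    exact h1 hx
  have hΛel : ∀ (i : ℕ) (hi : i < r) (y : Λ),
      algebraMap R Λ (π ⟨i, hi⟩) ^ 2 * y ∈ (Kid π i).map (algebraMap R Λ) →
      algebraMap R Λ (π ⟨i, hi⟩) * y ∈ (Kid π i).map (algebraMap R Λ) := by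
    intro i hi y hy
    rw [Kid_map] at hy ⊢
    have h1 := hΛ ⟨i, hi⟩ (Ideal.Quotient.mk _ y)
    rw [← map_pow, ← map_mul, ← map_mul, Ideal.Quotient.eq_zero_iff_mem,
      Ideal.Quotient.eq_zero_iff_mem] at h1
    exact h1 hy
  have hK𝔮 : ∀ i, (Kid π i).map (algebraMap R Λ) ≤ 𝔮 := by
    intro i
    rw [Kid_map, Ideal.span_le]
    rintro _ ⟨j, rfl⟩
    exact Ideal.pow_mem_of_mem _ (hπ𝔮 j) 8 (by norm_num)
  -- the top level
  have htop : LevelRes φ 𝔮 (Kid π r) := by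
    rw [Kid_top, ← hK]
    exact levelRes_top φ 𝔮 K φK hφK hres
  -- the chain
  have hchain : ∀ d, d < r → LevelRes φ 𝔮 (Kid π (r - d)) := by
    intro d
    induction d with
    | zero => intro _; exact htop
    | succ d ih =>
      intro hd
      have hd' : d < r := Nat.lt_of_succ_lt hd
      have hi : r - (d + 1) < r := by omega
      have heq : r - d = (r - (d + 1)) + 1 := by omega
      have h1 := ih hd'
      rw [heq] at h1
      exact levelRes_step φ 𝔮 (Kid π (r - (d + 1))) (Kid π (r - (d + 1) + 1)) (π ⟨_, hi⟩)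
        (Kid_succ π _ hi) (hRel _ hi) (hΛel _ hi) (hstd _) (hπ𝔮 _) (hK𝔮 _) h1
  have h1 : LevelRes φ 𝔮 (Kid π 1) := by
    have := hchain (r - 1) (by omega)
    have heq : r - (r - 1) = 1 := by omega
    rw [heq] at this
    exact this
  refine levelRes_base φ 𝔮 (Kid π 1) (π ⟨0, hr⟩) ?_ ?_ ?_ (hstd _) (hπ𝔮 _) h1
  · rw [Kid_succ π 0 hr, Kid_zero, bot_sup_eq]
  · intro x hx
    have := hRel 0 hr x (by rw [hx]; exact Ideal.zero_mem _)
    rw [Kid_zero] at this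
    exact this
  · intro y hy
    have := hΛel 0 hr y (by rw [hy]; exact Ideal.zero_mem _)
    rw [Kid_zero, Ideal.map_bot] at this
    exact this

end Groth.Agent.Lib.Helper22.Pop
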