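import Mathlib
import Groth.Prelude.Def_Smoothing
import Groth.Agent.S2034
import Groth.Agent.S6822
import Groth.Agent.Lib.Helper22.SepB4
import Groth.Agent.Lib.Helper22.RegSep2
import Groth.Agent.Lib.Helper22.IndSm6
import Groth.Agent.Lib.Helper22.DvrPop1
import Groth.Agent.Lib.Helper22.DvrPop2

set_option autoImplicit false
universe u

namespace Groth.Agent.Lib.Helper22.DvrPop

open IsLocalRing TensorProduct

/-- the generic point: resolvable since the fraction field extension is separable. -/
theorem resolvable_bot {R Λ K L A : Type u} [CommRing R] [IsDomain R] [IsNoetherianRing R]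
    [CommRing Λ] [IsDomain Λ] [Algebra R Λ] [NoZeroSMulDivisors R Λ]
    [Field K] [Algebra R K] [IsFractionRing R K] [Field L] [Algebra Λ L] [IsFractionRing Λ L]
    [Algebra K L] [Algebra R L] [IsScalarTower R K L] [IsScalarTower R Λ L]
    [Algebra.IsGeometricallyReduced K L]
    [CommRing A] [Algebra R A] [Algebra.FinitePresentation R A] (φ : A →ₐ[R] Λ)
    [(⊥ : Ideal Λ).IsPrime]
    (hmin : (⊥ : Ideal Λ) ∈ (Smoothing.singRad R φ).minimalPrimes) :
    Smoothing.Resolvable R φ ⊥ := by
  have hinj : Function.Injective (algebraMap R Λ) := FaithfulSMul.algebraMap_injective R Λ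
  have hpc : ((⊥ : Ideal Λ).comap (algebraMap R Λ)).primeCompl = nonZeroDivisors R := by
    ext x
    rw [Ideal.mem_primeCompl_iff, Ideal.mem_comap, Ideal.mem_bot, mem_nonZeroDivisors_iff_ne_zero,
      map_eq_zero_iff _ hinj]
  haveI : IsLocalization.AtPrime K ((⊥ : Ideal Λ).comap (algebraMap R Λ)) := by
    change IsLocalization ((⊥ : Ideal Λ).comap (algebraMap R Λ)).primeCompl K
    rw [hpc]
    infer_instance
  haveI : IsLocalization.AtPrime L (⊥ : Ideal Λ) := by
    change IsLocalization (⊥ : Ideal Λ).primeCompl L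
    rw [Ideal.primeCompl_bot]
    infer_instance
  have hdim : ringKrullDim L = 0 := ringKrullDim_eq_zero_of_field L
  have hind : Smoothing.IndSmooth K L := IndSm.indSmooth_of_geometricallyReduced
  have hne : (⊥ : Ideal Λ).map (algebraMap Λ L) ≠ ⊤ := by
    rw [Ideal.map_bot]
    exact bot_ne_top
  exact Groth.Agent.S2034.result (Rₚ := K) (Λq := L) φ ⊥ hmin hdim
    (IndSm.resolvable_of_indSmooth _ _ hne hind)

set_option maxHeartbeats 1600000 in
/-- the closed point. -/
theorem resolvable_max {R Λ A : Type u} [CommRing R] [IsDomain R] [IsDiscreteValuationRing R]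
    [CommRing Λ] [IsDomain Λ] [IsDiscreteValuationRing Λ]
    [Algebra R Λ] [NoZeroSMulDivisors R Λ] [IsLocalHom (algebraMap R Λ)]
    (he : (maximalIdeal R).map (algebraMap R Λ) = maximalIdeal Λ)
    [Algebra.IsGeometricallyReduced (ResidueField R) (ResidueField Λ)]
    [CommRing A] [Algebra R A] [Algebra.FinitePresentation R A] (φ : A →ₐ[R] Λ)
    (hmin : maximalIdeal Λ ∈ (Smoothing.singRad R φ).minimalPrimes) :
    Smoothing.Resolvable R φ (maximalIdeal Λ) := by
  classical
  obtain ⟨ϖ, hϖ⟩ := IsDiscreteValuationRing.exists_irreducible R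
  have hmR : maximalIdeal R = Ideal.span {ϖ} := hϖ.maximalIdeal_eq
  have hϖ0 : ϖ ≠ 0 := hϖ.ne_zero
  have hinj : Function.Injective (algebraMap R Λ) := FaithfulSMul.algebraMap_injective R Λ
  have hϖΛ : algebraMap R Λ ϖ ∈ maximalIdeal Λ := by
    rw [← he]
    refine Ideal.mem_map_of_mem _ ?_
    rw [hmR]
    exact Ideal.mem_span_singleton_self ϖ
  have hϖΛ0 : algebraMap R Λ ϖ ≠ 0 := fun h => hϖ0 (hinj (by rw [h, map_zero]))
  set H := Smoothing.singularIdeal R A with hH
  set H' := H.map φ with hH'
  have hmin' : maximalIdeal Λ ∈ H'.minimalPrimes := by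
    have : Smoothing.singRad R φ = H'.radical := rfl
    rw [this, Ideal.radical_minimalPrimes] at hmin
    exact hmin
  obtain ⟨n, hn, hpow⟩ := RegSep.exists_pow_data H' _ hmin'
  obtain ⟨s, hs, hsx⟩ := hpow _ hϖΛ
  have hsu : IsUnit s := by
    by_contra hcon
    exact hs ((IsLocalRing.mem_maximalIdeal s).mpr hcon)
  have hxn : algebraMap R Λ ϖ ^ n ∈ H' := by
    have := Ideal.mul_mem_left H' (↑hsu.unit⁻¹ : Λ) hsx
    rwa [← mul_assoc, IsUnit.val_inv_mul, one_mul] at this
  -- generators
  haveI : IsNoetherianRing A := Algebra.FiniteType.isNoetherianRing R A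
  obtain ⟨r, a', ha'⟩ :=
    Submodule.fg_iff_exists_fin_generating_family.mp (IsNoetherian.noetherian H)
  have ha'mem : ∀ j, a' j ∈ H := fun j => by
    rw [← ha']
    exact Submodule.subset_span ⟨j, rfl⟩
  have hsm : ∀ j, Algebra.Smooth R (Localization.Away (a' j)) := fun j =>
    RegSep.smooth_localizationAway_of_mem_singularIdeal (a' j) (ha'mem j)
  have hH'span : H' = Ideal.span (Set.range fun j => φ (a' j)) := by
    have h1 : (fun j => φ (a' j)) = φ ∘ a' := rfl
    rw [h1, Set.range_comp, ← Ideal.map_span, hH']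
    congr 1
    exact ha'.symm
  obtain ⟨Cr, instCr, algCr, hfpCr, ι, hstd₀, hsing, hlift⟩ :=
    SepB.exists_package (R := R) (T := A) (x := fun _ : Fin 1 => ϖ) n a' hsm
  obtain ⟨e₀, he₀⟩ := hstd₀ 0
  set c := e₀ + 1 with hc
  have hcpos : 0 < c := Nat.succ_pos _
  obtain ⟨ψ, hψ⟩ := hlift Λ φ (fun i => by
    change algebraMap R Λ ϖ ^ n ∈ _
    rw [← hH'span]
    exact hxn)
  have hcore : Smoothing.Resolvable R ψ (maximalIdeal Λ) := by
    set K : Ideal R := Ideal.span (Set.range fun _ : Fin 1 => (ϖ ^ c) ^ 8) with hK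
    have hempty : ∀ i : Fin 1, IsEmpty {j : Fin 1 // (j : ℕ) < (i : ℕ)} := fun i =>
      ⟨fun ⟨j, hj⟩ => by have := i.2; omega⟩
    refine Groth.Agent.S6822.result ψ _ (r := 1) one_pos (fun _ => ϖ ^ c) ?_ ?_ ?_ ?_ K hK
      (RegSep.quotMapBar K ψ) (RegSep.quotMapBar_mk K ψ) ?_
    · intro i
      rw [map_pow]
      exact Ideal.pow_mem_of_mem _ hϖΛ c hcpos
    · intro i x hx
      haveI := hempty i
      obtain ⟨y, rfl⟩ := Ideal.Quotient.mk_surjective x
      rw [← map_pow (Ideal.Quotient.mk _), ← map_mul (Ideal.Quotient.mk _),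
        Ideal.Quotient.eq_zero_iff_mem, Set.range_eq_empty, Ideal.span_empty, Ideal.mem_bot] at hx
      have hy : y = 0 := by
        rcases mul_eq_zero.mp hx with h | h
        · exact absurd (pow_eq_zero_iff (by norm_num)|>.mp h) (pow_ne_zero _ hϖ0)
        · exact h
      rw [hy, map_zero, mul_zero]
    · intro i x hx
      haveI := hempty i
      obtain ⟨y, rfl⟩ := Ideal.Quotient.mk_surjective x
      rw [← map_pow (Ideal.Quotient.mk _), ← map_mul (Ideal.Quotient.mk _),
        Ideal.Quotient.eq_zero_iff_mem, Set.range_eq_empty, Ideal.span_empty, Ideal.mem_bot] at hx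
      have hy : y = 0 := by
        rcases mul_eq_zero.mp hx with h | h
        · refine absurd (pow_eq_zero_iff (by norm_num)|>.mp h) ?_
          rw [map_pow]
          exact pow_ne_zero _ hϖΛ0
        · exact h
      rw [hy, map_zero, mul_zero]
    · intro i
      rw [map_pow]
      exact he₀ c (Nat.le_succ _)
    · haveI := RegSep.finitePresentation_quot (A := Cr) K
      have hKeq : K = Ideal.span {ϖ ^ (c * 8)} := by
        rw [hK, Set.range_const, pow_mul]
      have hKle : K ≤ maximalIdeal R := by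
        rw [hKeq, Ideal.span_singleton_le_iff_mem, hmR]
        exact Ideal.pow_mem_of_mem _ (Ideal.mem_span_singleton_self ϖ) _ (by positivity)
      have hN : maximalIdeal R ^ (c * 8) ≤ K := by
        rw [hmR, Ideal.span_singleton_pow, hKeq]
      have hind := indSmooth_quotient_of_residueField he
        IndSm.indSmooth_of_geometricallyReduced K hKle (c * 8) hN
      have hKΛle : K.map (algebraMap R Λ) ≤ maximalIdeal Λ := by
        rw [← he]
        exact Ideal.map_mono hKle
      exact IndSm.resolvable_of_indSmooth _ _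
        (IndSm.isPrime_map_mk (maximalIdeal Λ) _ hKΛle).ne_top hind
  obtain ⟨B, instB, algB, hfpB, g', h', hcomp, hle, hnot⟩ := hcore
  refine ⟨B, instB, algB, hfpB, g'.comp ι, h', ?_, ?_, hnot⟩
  · ext a
    change h' (g' (ι a)) = φ a
    have : h' (g' (ι a)) = (h'.comp g') (ι a) := rfl
    rw [this, hcomp, hψ]
  · refine le_trans ?_ hle
    unfold Smoothing.singRad
    rw [← hH, ← hH']
    have h1 : H' ≤ ((Smoothing.singularIdeal R Cr).map ψ).radical := by
      rw [hH'span, Ideal.span_le]
      rintro _ ⟨j, rfl⟩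
      change φ (a' j) ∈ _
      rw [← hψ]
      exact Ideal.le_radical (Ideal.mem_map_of_mem ψ (hsing j))
    calc H'.radical ≤ (((Smoothing.singularIdeal R Cr).map ψ).radical).radical :=
          Ideal.radical_mono h1
      _ = ((Smoothing.singularIdeal R Cr).map ψ).radical := Ideal.radical_idem _

/-- Néron–Popescu for unramified extensions of discrete valuation rings with separable residue
and fraction field extensions. -/
theorem main {R Λ K L : Type u} [CommRing R] [IsDomain R]
    [IsDiscreteValuationRing R] [CommRing Λ] [IsDomain Λ] [IsDiscreteValuationRing Λ] [Algebra R Λ]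
    [NoZeroSMulDivisors R Λ] [IsLocalHom (algebraMap R Λ)]
    (he : (IsLocalRing.maximalIdeal R).map (algebraMap R Λ) = IsLocalRing.maximalIdeal Λ)
    [Algebra.IsGeometricallyReduced (IsLocalRing.ResidueField R) (IsLocalRing.ResidueField Λ)]
    [Field K] [Algebra R K] [IsFractionRing R K] [Field L] [Algebra Λ L] [IsFractionRing Λ L]
    [Algebra K L] [Algebra R L] [IsScalarTower R K L] [IsScalarTower R Λ L]
    [Algebra.IsGeometricallyReduced K L] :
    Smoothing.IndSmooth R Λ := by
  apply indSmooth_of_resolvable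
  intro A _ _ _ φ 𝔮 h𝔮 hmin
  by_cases hbot : 𝔮 = ⊥
  · subst hbot
    exact resolvable_bot (K := K) (L := L) φ hmin
  · have hmax : 𝔮.IsMaximal := Ring.DimensionLEOne.maximalOfPrime hbot h𝔮
    have : 𝔮 = maximalIdeal Λ := IsLocalRing.eq_maximalIdeal hmax
    subst this
    exact resolvable_max he φ hmin

end Groth.Agent.Lib.Helper22.DvrPop
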