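import Groth.Agent.Lib.Helper22.Dz1

set_option autoImplicit false
universe u

namespace Groth.Agent.Lib.Helper22.Dz

open MvPolynomial Groth.Agent.Lib.Helper22.Pop

/-- Jacobian criterion with tail relations that are locally (at `q`) in the ideal of the leading
relations. -/
theorem isSmoothAt_of_minor_notMem_tail {R : Type u} [CommRing R] {ι σ τ : Type} [Fintype ι]
    [Fintype σ] [DecidableEq σ] (v : σ → MvPolynomial ι R) (w : τ → MvPolynomial ι R)
    (cols : σ → ι)
    (q : Ideal (MvPolynomial ι R ⧸ Ideal.span (Set.range v ∪ Set.range w))) [q.IsPrime]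
    (hq : Ideal.Quotient.mk _ (Matrix.det (Matrix.of fun j k : σ => pderiv (cols k) (v j))) ∉ q)
    (d : MvPolynomial ι R) (hd : Ideal.Quotient.mk _ d ∉ q)
    (hdw : ∀ t, d * w t ∈ Ideal.span (Set.range v)) : Algebra.IsSmoothAt R q := by
  classical
  have hle : Ideal.span (Set.range v) ≤ Ideal.span (Set.range v ∪ Set.range w) :=
    Ideal.span_mono Set.subset_union_left
  let ψ : (MvPolynomial ι R ⧸ Ideal.span (Set.range v)) →ₐ[R]
      (MvPolynomial ι R ⧸ Ideal.span (Set.range v ∪ Set.range w)) := Ideal.Quotient.factorₐ R hle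
  have hψmk : ∀ p, ψ (Ideal.Quotient.mk _ p) = Ideal.Quotient.mk _ p := fun p => rfl
  have hψsurj : Function.Surjective ψ := by
    intro x
    obtain ⟨p, rfl⟩ := Ideal.Quotient.mk_surjective x
    exact ⟨Ideal.Quotient.mk _ p, rfl⟩
  have hprime : (q.comap ψ).IsPrime := Ideal.comap_isPrime ψ q
  have hdall : ∀ p ∈ Ideal.span (Set.range v ∪ Set.range w), d * p ∈ Ideal.span (Set.range v) := by
    intro p hp
    induction hp using Submodule.span_induction with
    | mem x hx =>
      rcases hx with ⟨j, rfl⟩ | ⟨t, rfl⟩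
      · exact Ideal.mul_mem_left _ _ (Ideal.subset_span ⟨j, rfl⟩)
      · exact hdw t
    | zero => rw [mul_zero]; exact Ideal.zero_mem _
    | add x y _ _ hx hy => rw [mul_add]; exact Ideal.add_mem _ hx hy
    | smul a x _ hx =>
      rw [smul_eq_mul, mul_left_comm]; exact Ideal.mul_mem_left _ _ hx
  refine isSmoothAt_of_surjective ψ hψsurj q ?_ ?_
  · intro x hx
    obtain ⟨p, rfl⟩ := Ideal.Quotient.mk_surjective x
    rw [hψmk, Ideal.Quotient.eq_zero_iff_mem] at hx
    refine ⟨Ideal.Quotient.mk _ d, ?_, ?_⟩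
    · rw [hψmk]; exact hd
    · rw [← map_mul, Ideal.Quotient.eq_zero_iff_mem]
      exact hdall p hx
  · refine isSmoothAt_of_minor_notMem_gen v cols _ ?_
    rw [Ideal.mem_comap, hψmk]
    exact hq

end Groth.Agent.Lib.Helper22.Dz
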