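import Groth.Agent.Lib.Helper22.Dz2

set_option autoImplicit false
universe u

namespace Groth.Agent.Lib.Helper22.Dz

open MvPolynomial Groth.Agent.Lib.Helper22.Pop

theorem isSmoothAt_of_minor_notMem_tail' {R : Type u} [CommRing R] {ι σ τ : Type} [Fintype ι]
    [Fintype σ] [DecidableEq σ] (v : σ → MvPolynomial ι R) (w : τ → MvPolynomial ι R)
    (cols : σ → ι) (I : Ideal (MvPolynomial ι R))
    (hI : I = Ideal.span (Set.range v ∪ Set.range w))
    (q : Ideal (MvPolynomial ι R ⧸ I)) [q.IsPrime]
    (hq : Ideal.Quotient.mk _ (Matrix.det (Matrix.of fun j k : σ => pderiv (cols k) (v j))) ∉ q)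
    (d : MvPolynomial ι R) (hd : Ideal.Quotient.mk _ d ∉ q)
    (hdw : ∀ t, d * w t ∈ Ideal.span (Set.range v)) : Algebra.IsSmoothAt R q := by
  subst hI
  exact isSmoothAt_of_minor_notMem_tail v w cols q hq d hd hdw

/-- variables `x_k`, `y_i`, `z`, `t_ij`. -/
abbrev Idx (n m r : ℕ) : Type := Fin n ⊕ (Fin r ⊕ (Unit ⊕ Fin r × Fin m))

section construction

variable {A : Type u} [CommRing A] {n m r : ℕ}

noncomputable def vy (A : Type u) [CommRing A] (n m : ℕ) {r : ℕ} (i : Fin r) :
    MvPolynomial (Idx n m r) A := X (Sum.inr (Sum.inl i))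
noncomputable def vz (A : Type u) [CommRing A] (n m r : ℕ) : MvPolynomial (Idx n m r) A :=
  X (Sum.inr (Sum.inr (Sum.inl ())))
noncomputable def vt (A : Type u) [CommRing A] (n : ℕ) {m r : ℕ} (i : Fin r) (j : Fin m) :
    MvPolynomial (Idx n m r) A := X (Sum.inr (Sum.inr (Sum.inr (i, j))))

noncomputable def relF (r : ℕ) (f : Fin m → MvPolynomial (Fin n) A) (j : Fin m) :
    MvPolynomial (Idx n m r) A :=
  rename Sum.inl (f j) - ∑ i : Fin r, vy A n m i * vt A n i j

noncomputable def relZ (A : Type u) [CommRing A] (n m : ℕ) {r : ℕ} (i : Fin r) :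
    MvPolynomial (Idx n m r) A := vz A n m r * vy A n m i

noncomputable def relIdeal (r : ℕ) (f : Fin m → MvPolynomial (Fin n) A) :
    Ideal (MvPolynomial (Idx n m r) A) :=
  Ideal.span (Set.range (relF r f) ∪ Set.range (relZ A n m (r := r)))

/-- claim Y: the algebra is smooth over `A` at primes not containing `y_ℓ`. -/
theorem isSmoothAt_of_vy_notMem (f : Fin m → MvPolynomial (Fin n) A) (ℓ : Fin r)
    (Q : Ideal (MvPolynomial (Idx n m r) A ⧸ relIdeal r f)) [Q.IsPrime]
    (hQ : Ideal.Quotient.mk _ (vy A n m ℓ) ∉ Q) : Algebra.IsSmoothAt A Q := by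
  classical
  let v : Fin m ⊕ Unit → MvPolynomial (Idx n m r) A :=
    Sum.elim (relF r f) (fun _ => relZ A n m ℓ)
  let cols : Fin m ⊕ Unit → Idx n m r :=
    Sum.elim (fun j => Sum.inr (Sum.inr (Sum.inr (ℓ, j)))) (fun _ => Sum.inr (Sum.inr (Sum.inl ())))
  have hI : relIdeal r f = Ideal.span (Set.range v ∪ Set.range (relZ A n m (r := r))) := by
    unfold relIdeal
    apply le_antisymm
    · refine Ideal.span_mono ?_
      rintro x (⟨j, rfl⟩ | ⟨i, rfl⟩)
      · exact Or.inl ⟨Sum.inl j, rfl⟩
      · exact Or.inr ⟨i, rfl⟩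
    · refine Ideal.span_mono ?_
      rintro x (⟨(j | u), rfl⟩ | ⟨i, rfl⟩)
      · exact Or.inl ⟨j, rfl⟩
      · exact Or.inr ⟨ℓ, rfl⟩
      · exact Or.inr ⟨i, rfl⟩
  have hdet : Matrix.det (Matrix.of fun a b : Fin m ⊕ Unit => pderiv (cols b) (v a)) =
      (- vy A n m ℓ) ^ m * vy A n m ℓ := by
    have hM : (Matrix.of fun a b : Fin m ⊕ Unit => pderiv (cols b) (v a)) =
        Matrix.diagonal (Sum.elim (fun _ : Fin m => - vy A n m ℓ) (fun _ : Unit => vy A n m ℓ)) := by
      refine Matrix.ext fun a b => ?_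
      rcases a with j | u <;> rcases b with j' | u'
      · simp only [Matrix.of_apply, v, cols, Sum.elim_inl, relF, map_sub, map_sum,
          Matrix.diagonal_apply]
        rw [pderiv_rename_of_notMem_range _ _ (by intro k; simp)]
        simp only [vy, vt, Derivation.leibniz, pderiv_X, smul_eq_mul]
        by_cases hjj : j = j'
        · subst hjj
          simp [Pi.single_apply, Finset.sum_ite_eq']
        · simp [Pi.single_apply, hjj, Ne.symm hjj]
      · simp only [Matrix.of_apply, v, cols, Sum.elim_inl, Sum.elim_inr, relF, map_sub, map_sum,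
          Matrix.diagonal_apply]
        rw [pderiv_rename_of_notMem_range _ _ (by intro k; simp)]
        simp [vy, vt, Derivation.leibniz, pderiv_X, Pi.single_apply]
      · simp [Matrix.of_apply, v, cols, relZ, vz, vy, Derivation.leibniz, pderiv_X,
          Pi.single_apply, Matrix.diagonal_apply]
      · simp [Matrix.of_apply, v, cols, relZ, vz, vy, Derivation.leibniz, pderiv_X,
          Pi.single_apply, Matrix.diagonal_apply]
    rw [hM, Matrix.det_diagonal, Fintype.prod_sum_type]
    simp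
  refine isSmoothAt_of_minor_notMem_tail' v (relZ A n m (r := r)) cols _ hI Q ?_
    (vy A n m ℓ) hQ ?_
  · rw [hdet, map_mul, map_pow, map_neg]
    intro hmem
    rcases Ideal.IsPrime.mem_or_mem inferInstance hmem with h1 | h1
    · exact hQ (by simpa using Ideal.IsPrime.mem_of_pow_mem inferInstance _ h1)
    · exact hQ h1
  · intro i
    have : vy A n m ℓ * relZ A n m i = vy A n m i * v (Sum.inr ()) := by
      simp only [relZ, v, Sum.elim_inr]; ring
    rw [this]
    exact Ideal.mul_mem_left _ _ (Ideal.subset_span ⟨Sum.inr (), rfl⟩)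

end construction

end Groth.Agent.Lib.Helper22.Dz
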