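import Groth.Agent.Lib.Helper22.Dz3

set_option autoImplicit false
universe u

namespace Groth.Agent.Lib.Helper22.Dz

open MvPolynomial Groth.Agent.Lib.Helper22.Pop

/-- variables `z`, `t_ij`. -/
abbrev Kap (m r : ℕ) : Type := Unit ⊕ Fin r × Fin m

section claimZ

variable {A : Type u} [CommRing A] {n m : ℕ} (r : ℕ) {Cr : Type u} [CommRing Cr] [Algebra A Cr]
  (f : Fin m → MvPolynomial (Fin n) A) (πC : MvPolynomial (Fin n) A →ₐ[A] Cr)

/-- `x ↦ x̄`, `y ↦ 0`, `z ↦ z`, `t ↦ t`. -/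
noncomputable def PsiHom : MvPolynomial (Idx n m r) A →ₐ[A] MvPolynomial (Kap m r) Cr :=
  aeval (Sum.elim (fun k => C (πC (X k))) (Sum.elim (fun _ => 0) (fun k => X k)))

lemma PsiHom_rename (p : MvPolynomial (Fin n) A) :
    PsiHom (m := m) r πC (rename Sum.inl p) = C (πC p) := by
  unfold PsiHom
  rw [aeval_rename]
  have : (aeval ((Sum.elim (fun k => C (πC (X k))) (Sum.elim (fun _ => 0) (fun k => X k)) :
      Idx n m r → MvPolynomial (Kap m r) Cr) ∘ Sum.inl) : MvPolynomial (Fin n) A →ₐ[A] _) =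
      (IsScalarTower.toAlgHom A Cr (MvPolynomial (Kap m r) Cr)).comp πC := by
    apply MvPolynomial.algHom_ext
    intro k
    simp
  rw [this]
  rfl

lemma PsiHom_vy (i : Fin r) : PsiHom r πC (vy A n m i) = 0 := by
  simp [PsiHom, vy]

lemma PsiHom_vz : PsiHom r πC (vz A n m r) = X (Sum.inl ()) := by
  simp [PsiHom, vz]

lemma PsiHom_vt (i : Fin r) (j : Fin m) : PsiHom r πC (vt A n i j) = X (Sum.inr (i, j)) := by
  simp [PsiHom, vt]

variable (hker : RingHom.ker πC.toRingHom = Ideal.span (Set.range f))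
include hker

lemma PsiHom_relF (j : Fin m) : PsiHom r πC (relF r f j) = 0 := by
  have h0 : πC (f j) = 0 := by
    have : f j ∈ RingHom.ker πC.toRingHom := by rw [hker]; exact Ideal.subset_span ⟨j, rfl⟩
    exact this
  unfold relF
  rw [map_sub, PsiHom_rename, h0, map_zero, map_sum, zero_sub, neg_eq_zero]
  refine Finset.sum_eq_zero fun i _ => ?_
  rw [map_mul, PsiHom_vy, zero_mul]

omit hker in
lemma PsiHom_relZ (i : Fin r) : PsiHom r πC (relZ A n m i) = 0 := by
  unfold relZ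
  rw [map_mul, PsiHom_vy, mul_zero]

lemma PsiHom_mem (p : MvPolynomial (Idx n m r) A) (hp : p ∈ relIdeal r f) : PsiHom r πC p = 0 := by
  have : relIdeal r f ≤ RingHom.ker (PsiHom r πC).toRingHom := by
    unfold relIdeal
    rw [Ideal.span_le]
    rintro x (⟨j, rfl⟩ | ⟨i, rfl⟩)
    · exact PsiHom_relF r f πC hker j
    · exact PsiHom_relZ r πC i
  exact this hp

/-- the induced map `B → C[z,t]`. -/
noncomputable def psi : (MvPolynomial (Idx n m r) A ⧸ relIdeal r f) →ₐ[A] MvPolynomial (Kap m r) Cr :=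
  Ideal.Quotient.liftₐ (relIdeal r f) (PsiHom r πC) (PsiHom_mem r f πC hker)

lemma psi_mk (p : MvPolynomial (Idx n m r) A) :
    psi r f πC hker (Ideal.Quotient.mk _ p) = PsiHom r πC p := rfl

lemma psi_surjective (hπ : Function.Surjective πC) : Function.Surjective (psi r f πC hker) := by
  intro d
  induction d using MvPolynomial.induction_on with
  | C c =>
    obtain ⟨p, rfl⟩ := hπ c
    exact ⟨Ideal.Quotient.mk _ (rename Sum.inl p), by rw [psi_mk, PsiHom_rename]⟩
  | add p q hp hq =>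
    obtain ⟨a, rfl⟩ := hp
    obtain ⟨b, rfl⟩ := hq
    exact ⟨a + b, map_add _ _ _⟩
  | mul_X p k hp =>
    obtain ⟨a, rfl⟩ := hp
    refine ⟨a * Ideal.Quotient.mk _ (X (Sum.inr (Sum.inr k))), ?_⟩
    rw [map_mul, psi_mk]
    congr 1
    simp [PsiHom]

end claimZ

end Groth.Agent.Lib.Helper22.Dz
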