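import Groth.Agent.Lib.Helper22.Dz4

set_option autoImplicit false
universe u

namespace Groth.Agent.Lib.Helper22.Dz

open MvPolynomial Groth.Agent.Lib.Helper22.Pop

section kernel

variable {A : Type u} [CommRing A] {n m : ℕ} (r : ℕ) {Cr : Type u} [CommRing Cr] [Algebra A Cr]
  (f : Fin m → MvPolynomial (Fin n) A) (πC : MvPolynomial (Fin n) A →ₐ[A] Cr)

/-- the ideal `(f_j(x), y_i)`. -/
noncomputable def Jid : Ideal (MvPolynomial (Idx n m r) A) :=
  Ideal.span (Set.range (fun j => rename Sum.inl (f j)) ∪ Set.range (vy A n m (r := r)))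

theorem mem_Jid_of_PsiHom_eq_zero
    (hker : RingHom.ker πC.toRingHom = Ideal.span (Set.range f)) (hπ : Function.Surjective πC)
    (p : MvPolynomial (Idx n m r) A) (hp : PsiHom r πC p = 0) : p ∈ Jid r f := by
  classical
  have hH : RingHom.ker πC.toRingHom ≤ RingHom.ker ((Ideal.Quotient.mkₐ A (Jid r f)).comp
      (rename Sum.inl : MvPolynomial (Fin n) A →ₐ[A] MvPolynomial (Idx n m r) A)).toRingHom := by
    rw [hker, Ideal.span_le]
    rintro _ ⟨j, rfl⟩
    show Ideal.Quotient.mk (Jid r f) (rename Sum.inl (f j)) = 0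
    rw [Ideal.Quotient.eq_zero_iff_mem]
    exact Ideal.subset_span (Or.inl ⟨j, rfl⟩)
  let ρC : Cr →ₐ[A] (MvPolynomial (Idx n m r) A ⧸ Jid r f) := AlgHom.liftOfSurjective πC hπ _ hH
  have hρC : ∀ q, ρC (πC q) = Ideal.Quotient.mk (Jid r f) (rename Sum.inl q) := fun q =>
    AlgHom.liftOfSurjective_apply πC hπ _ hH q
  let algC : Algebra Cr (MvPolynomial (Idx n m r) A ⧸ Jid r f) := ρC.toRingHom.toAlgebra
  have tow : IsScalarTower A Cr (MvPolynomial (Idx n m r) A ⧸ Jid r f) :=
    IsScalarTower.of_algebraMap_eq (fun a => (ρC.commutes a).symm)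
  let Θ : MvPolynomial (Kap m r) Cr →ₐ[Cr] (MvPolynomial (Idx n m r) A ⧸ Jid r f) :=
    aeval (fun k => Ideal.Quotient.mk (Jid r f) (X (Sum.inr (Sum.inr k))))
  have hΘ : ∀ p, Θ (PsiHom r πC p) = Ideal.Quotient.mk (Jid r f) p := by
    intro p
    induction p using MvPolynomial.induction_on with
    | C a =>
      rw [← MvPolynomial.algebraMap_eq, AlgHom.commutes,
        IsScalarTower.algebraMap_apply A Cr (MvPolynomial (Kap m r) Cr), AlgHom.commutes,
        ← IsScalarTower.algebraMap_apply]
      rfl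
    | add p q hp hq => rw [map_add, map_add, map_add, hp, hq]
    | mul_X p i hp =>
      rw [map_mul, map_mul, map_mul, hp]
      congr 1
      rcases i with k | i | k
      · have : PsiHom (m := m) r πC (X (Sum.inl k)) = C (πC (X k)) := by simp [PsiHom]
        rw [this, aeval_C]
        show ρC (πC (X k)) = _
        rw [hρC, rename_X]
      · have : PsiHom (m := m) r πC (X (Sum.inr (Sum.inl i))) = 0 := by simp [PsiHom]
        rw [this, map_zero]
        symm
        rw [Ideal.Quotient.eq_zero_iff_mem]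
        exact Ideal.subset_span (Or.inr ⟨i, rfl⟩)
      · have : PsiHom (m := m) r πC (X (Sum.inr (Sum.inr k))) = X k := by simp [PsiHom]
        rw [this, aeval_X]
  have h1 := hΘ p
  rw [hp, map_zero] at h1
  exact Ideal.Quotient.eq_zero_iff_mem.mp h1.symm

theorem vz_mul_mem_of_mem_Jid (p : MvPolynomial (Idx n m r) A) (hp : p ∈ Jid r f) :
    vz A n m r * p ∈ relIdeal r f := by
  induction hp using Submodule.span_induction with
  | mem x hx =>
    rcases hx with ⟨j, rfl⟩ | ⟨i, rfl⟩
    · have : vz A n m r * rename Sum.inl (f j) =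
          vz A n m r * relF r f j + ∑ i : Fin r, vt A n i j * relZ A n m i := by
        unfold relF relZ
        rw [mul_sub, Finset.mul_sum, sub_add_eq_add_sub, eq_sub_iff_add_eq, add_right_inj]
        refine Finset.sum_congr rfl fun i _ => ?_
        ring
      rw [this]
      refine Ideal.add_mem _ (Ideal.mul_mem_left _ _ (Ideal.subset_span (Or.inl ⟨j, rfl⟩)))
        (Ideal.sum_mem _ fun i _ => Ideal.mul_mem_left _ _ (Ideal.subset_span (Or.inr ⟨i, rfl⟩)))
    · exact Ideal.subset_span (Or.inr ⟨i, rfl⟩)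
  | zero => rw [mul_zero]; exact Ideal.zero_mem _
  | add x y _ _ hx hy => rw [mul_add]; exact Ideal.add_mem _ hx hy
  | smul a x _ hx => rw [smul_eq_mul, mul_left_comm]; exact Ideal.mul_mem_left _ _ hx

end kernel

end Groth.Agent.Lib.Helper22.Dz
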