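import Groth.Agent.Lib.Helper22.PopL

set_option autoImplicit false
universe u

namespace Groth.Agent.Lib.Helper22.Pop

open MvPolynomial TensorProduct

theorem desingularize_strictly_standard_aux {R Λ A D : Type u} [CommRing R] [IsNoetherianRing R]
    [CommRing Λ] [Algebra R Λ] (π : R) (hR : ∀ r : R, π ^ 2 * r = 0 → π * r = 0)
    (hΛ : ∀ x : Λ, π ^ 2 • x = 0 → π • x = 0) [CommRing A] [Algebra R A]
    [Algebra.FinitePresentation R A] [CommRing D] [Algebra R D] [Algebra.FinitePresentation R D]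
    [Algebra D Λ] [IsScalarTower R D Λ]
    (φ : A →ₐ[R] Λ) (δ : D →ₐ[R] Λ) (hδ : ∀ d, algebraMap D Λ d = δ d)
    (hπ : Smoothing.IsStrictlyStandard R A (algebraMap R A π))
    (ψ : A →ₐ[R] D ⧸ Ideal.span {algebraMap R D (π ^ 4)})
    (hψ : ∀ (a : A) (d : D), Ideal.Quotient.mk (Ideal.span {algebraMap R D (π ^ 4)}) d = ψ a →
      δ d - φ a ∈ Ideal.span {algebraMap R Λ (π ^ 4)}) :
    ∃ (B : Type u) (_ : CommRing B) (_ : Algebra R B) (_ : Algebra D B) (_ : IsScalarTower R D B),
      Algebra.FinitePresentation R B ∧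
      ∃ (α : A →ₐ[R] B) (β : B →ₐ[R] Λ), β.comp α = φ ∧
        β.comp (IsScalarTower.toAlgHom R D B) = δ ∧
        (Smoothing.singularIdeal R D).map (algebraMap D B) ≤ Smoothing.singularIdeal D B ∧
        (Smoothing.singularIdeal R D).map (algebraMap D B) ≤ Smoothing.singularIdeal R B := by
  classical
  obtain ⟨B, instB, instDB, hfp, α', β', hβα, hsing⟩ :=
    desingularize_rel (D := D) π hΛ φ hπ ψ (fun a d hd => by rw [hδ]; exact hψ a d hd)
  let instRB : Algebra R B := ((algebraMap D B).comp (algebraMap R D)).toAlgebra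
  have tower : IsScalarTower R D B := IsScalarTower.of_algebraMap_eq (fun r => rfl)
  refine ⟨B, instB, instRB, instDB, tower, ?_, ?_⟩
  · exact Algebra.FinitePresentation.trans R D B
  -- key smoothness statement
  have key : ∀ (h : D), h ∈ Smoothing.singularIdeal R D → ∀ (Q : Ideal B) [Q.IsPrime],
      algebraMap D B h ∉ Q →
      Algebra.IsSmoothAt R (Q.comap (algebraMap D B)) ∧ Algebra.IsSmoothAt D Q := by
    intro h hh Q _ hhQ
    have hq : Algebra.IsSmoothAt R (Q.comap (algebraMap D B)) := by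
      by_contra hns
      rw [Smoothing.singularIdeal, PrimeSpectrum.mem_vanishingIdeal] at hh
      exact hhQ (hh ⟨Q.comap (algebraMap D B), inferInstance⟩ hns)
    refine ⟨hq, ?_⟩
    obtain ⟨d, hdq, hd⟩ := exists_notMem_ann π hR (Q.comap (algebraMap D B)) hq
    have h1 := hsing d hd
    by_contra hns
    rw [Smoothing.singularIdeal, PrimeSpectrum.mem_vanishingIdeal] at h1
    exact hdq (h1 ⟨Q, inferInstance⟩ hns)
  refine ⟨(α'.restrictScalars R).comp Algebra.TensorProduct.includeRight,
    β'.restrictScalars R, ?_, ?_, ?_, ?_⟩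
  · apply AlgHom.ext
    intro a
    exact hβα a
  · apply AlgHom.ext
    intro d
    change β' (algebraMap D B d) = δ d
    rw [β'.commutes, hδ]
  · rw [Ideal.map_le_iff_le_comap]
    intro h hh
    rw [Ideal.mem_comap, Smoothing.singularIdeal, PrimeSpectrum.mem_vanishingIdeal]
    intro Q hQ
    by_contra hhQ
    exact hQ (key h hh Q.asIdeal hhQ).2
  · rw [Ideal.map_le_iff_le_comap]
    intro h hh
    rw [Ideal.mem_comap, Smoothing.singularIdeal, PrimeSpectrum.mem_vanishingIdeal]
    intro Q hQ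
    by_contra hhQ
    obtain ⟨h1, h2⟩ := key h hh Q.asIdeal hhQ
    exact hQ (isSmoothAt_trans Q.asIdeal h1 h2)

end Groth.Agent.Lib.Helper22.Pop
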