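import Groth.Agent.Lib.Helper22.PopW
import Groth.Agent.S2028

set_option autoImplicit false
universe u

namespace Groth.Agent.Lib.Helper22.Pop

open MvPolynomial

theorem isSmoothAt_congr {R A : Type u} [CommRing R] [CommRing A] [Algebra R A]
    {p q : Ideal A} [p.IsPrime] [q.IsPrime] (h : p = q) (hp : Algebra.IsSmoothAt R p) :
    Algebra.IsSmoothAt R q := by
  subst h
  exact hp

/-- at a smooth prime some element of the singular ideal does not vanish. -/
theorem exists_mem_singularIdeal_notMem {R D : Type u} [CommRing R] [CommRing D] [Algebra R D]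
    [Algebra.FinitePresentation R D] (q : Ideal D) [q.IsPrime] (hq : Algebra.IsSmoothAt R q) :
    ∃ h ∈ Smoothing.singularIdeal R D, h ∉ q := by
  have := hq
  obtain ⟨f, hf, hsm⟩ := Algebra.IsSmoothAt.exists_notMem_smooth R q
  refine ⟨f, ?_, hf⟩
  rw [Smoothing.singularIdeal, PrimeSpectrum.mem_vanishingIdeal]
  intro x hx
  by_contra hfx
  have hsub := Algebra.basicOpen_subset_smoothLocus_iff_smooth.mpr hsm
  exact hx (hsub (by rw [SetLike.mem_coe, PrimeSpectrum.mem_basicOpen]; exact hfx))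

theorem mem_singularIdeal_of_smooth_away {R B : Type u} [CommRing R] [CommRing B] [Algebra R B]
    (b : B) (h : ∀ (Q : Ideal B) [Q.IsPrime], b ∉ Q → Algebra.IsSmoothAt R Q) :
    b ∈ Smoothing.singularIdeal R B := by
  rw [Smoothing.singularIdeal, PrimeSpectrum.mem_vanishingIdeal]
  intro x hx
  by_contra hbx
  exact hx (h x.asIdeal hbx)

theorem ann_pow_of_ann_sq {M : Type*} [Monoid M] {X : Type*} [Zero X] [MulAction M X]
    (p : M) (hann : ∀ x : X, p ^ 2 • x = (0 : X) → p • x = 0) (k : ℕ) (x : X)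
    (hx : p ^ (k + 1) • x = (0 : X)) : p • x = 0 := by
  induction k generalizing x with
  | zero => simpa using hx
  | succ k ih =>
    apply ih
    have h1 : p ^ 2 • (p ^ k • x) = 0 := by
      rw [← mul_smul, ← pow_add, add_comm]; exact hx
    have h2 := hann _ h1
    rw [← mul_smul, ← pow_succ'] at h2
    exact h2

theorem desingularize_lifting_apply {R Λ A C' : Type u} [CommRing R] [IsNoetherianRing R]
    [CommRing Λ] [Algebra R Λ] (π : R) (hR : ∀ r : R, π ^ 2 * r = 0 → π * r = 0)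
    (hΛ : ∀ x : Λ, π ^ 2 • x = 0 → π • x = 0) [CommRing A] [Algebra R A]
    [Algebra.FinitePresentation R A] (φ : A →ₐ[R] Λ)
    (hπ : Smoothing.IsStrictlyStandard R A (algebraMap R A π))
    [CommRing C'] [Algebra R C'] [Algebra (R ⧸ Ideal.span {π ^ 8}) C']
    [IsScalarTower R (R ⧸ Ideal.span {π ^ 8}) C']
    [Algebra.FinitePresentation (R ⧸ Ideal.span {π ^ 8}) C']
    (γ : A →ₐ[R] C') (g : C' →ₐ[R] Λ ⧸ Ideal.span {algebraMap R Λ (π ^ 8)})
    (hfac : ∀ a : A, g (γ a) = Ideal.Quotient.mk (Ideal.span {algebraMap R Λ (π ^ 8)}) (φ a)) :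
    ∃ (B : Type u) (_ : CommRing B) (_ : Algebra R B), Algebra.FinitePresentation R B ∧
      ∃ (α : A →ₐ[R] B) (β : B →ₐ[R] Λ), β.comp α = φ ∧
        (∀ (Q : Ideal B) [Q.IsPrime], algebraMap R B π ∉ Q → Algebra.IsSmoothAt R Q) ∧
        (Smoothing.singularIdeal (R ⧸ Ideal.span {π ^ 8}) C').map g ≤
          ((Smoothing.singularIdeal R B).map β).radical.map
            (Ideal.Quotient.mk (Ideal.span {algebraMap R Λ (π ^ 8)})) := by
  classical
  -- annihilator conditions for π^4
  have hR4 : ∀ r : R, (π ^ 4) ^ 2 * r = 0 → π ^ 4 * r = 0 := by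
    intro r hr
    have h1 : π • r = 0 := ann_pow_of_ann_sq (X := R) π (fun x hx => hR x hx) 7 r
      (by rw [smul_eq_mul, ← hr]; ring)
    rw [smul_eq_mul] at h1
    calc π ^ 4 * r = π ^ 3 * (π * r) := by ring
      _ = 0 := by rw [h1, mul_zero]
  have hΛ4 : ∀ x : Λ, (π ^ 4) ^ 2 • x = 0 → π ^ 4 • x = 0 := by
    intro x hx
    have h1 : π • x = 0 := ann_pow_of_ann_sq (X := Λ) π hΛ 7 x
      (by rw [← hx, ← pow_mul])
    rw [show π ^ 4 = π ^ 3 * π by ring, mul_smul, h1, smul_zero]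
  obtain ⟨D, instD, instRD, hfpD, δ, ψ, hcompat, hbD, hcD⟩ :=
    lifting_lemma_gen (R := R) (Λ := Λ) (C' := C') (Rb := R ⧸ Ideal.span {π ^ 8}) (π ^ 4) hR4 hΛ4
      Ideal.Quotient.mk_surjective
      (by
        change RingHom.ker (Ideal.Quotient.mk (Ideal.span {π ^ 8})) = _
        rw [Ideal.mk_ker, ← pow_mul])
      (Ideal.span {algebraMap R Λ (π ^ 8)}) (by rw [← pow_mul]) g
  obtain ⟨B, instB, instRB, instDB, tower, hfpB, α, β, hβα, hβδ, hincl1, hincl2⟩ :=
    Groth.Agent.S2028.result π hR hΛ φ δ hπ (ψ.comp γ)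
      (fun a d hd => hcompat (γ a) d (φ a) hd (hfac a).symm)
  have hβD : ∀ d : D, β (algebraMap D B d) = δ d := fun d => DFunLike.congr_fun hβδ d
  -- smoothness of `B` away from `π`
  have hbB : ∀ (Q : Ideal B) [Q.IsPrime], algebraMap R B π ∉ Q → Algebra.IsSmoothAt R Q := by
    intro Q _ hQ
    have hprime : (Q.comap (algebraMap D B)).IsPrime := Ideal.comap_isPrime _ Q
    have hq : algebraMap R D (π ^ 4) ∉ Q.comap (algebraMap D B) := by
      rw [Ideal.mem_comap, ← IsScalarTower.algebraMap_apply, map_pow]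
      exact fun hmem => hQ (Ideal.IsPrime.mem_of_pow_mem inferInstance _ hmem)
    obtain ⟨h0, hh0, hh0q⟩ := exists_mem_singularIdeal_notMem _ (hbD _ hq)
    have h1 : algebraMap D B h0 ∈ Smoothing.singularIdeal R B :=
      hincl2 (Ideal.mem_map_of_mem _ hh0)
    by_contra hns
    rw [Smoothing.singularIdeal, PrimeSpectrum.mem_vanishingIdeal] at h1
    exact hh0q (h1 ⟨Q, inferInstance⟩ hns)
  refine ⟨B, instB, instRB, hfpB, α, β, hβα, hbB, ?_⟩
  have hπB : algebraMap R B π ∈ Smoothing.singularIdeal R B :=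
    mem_singularIdeal_of_smooth_away _ hbB
  rw [Ideal.map_le_iff_le_comap]
  intro cb hcb
  rw [Ideal.mem_comap]
  obtain ⟨d, hd⟩ := Ideal.Quotient.mk_surjective (ψ cb)
  obtain ⟨l, hl⟩ := Ideal.Quotient.mk_surjective (g cb)
  have h1 := hcompat cb d l hd hl
  obtain ⟨w, hw⟩ := Ideal.mem_span_singleton'.mp h1
  -- `d` lies in the singular ideal of `D`
  have hdsing : d ∈ Smoothing.singularIdeal R D := by
    rw [Smoothing.singularIdeal, PrimeSpectrum.mem_vanishingIdeal]
    intro x hx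
    have hπx : algebraMap R D (π ^ 4) ∈ x.asIdeal := by
      by_contra hπx
      exact hx (hbD x.asIdeal hπx)
    have hkerle : RingHom.ker (Ideal.Quotient.mk (Ideal.span {algebraMap R D (π ^ 4)})) ≤
        x.asIdeal := by
      rw [Ideal.mk_ker, Ideal.span_le]
      rintro _ rfl
      exact hπx
    have hQprime : (x.asIdeal.map (Ideal.Quotient.mk (Ideal.span {algebraMap R D (π ^ 4)}))).IsPrime :=
      Ideal.map_isPrime_of_surjective Ideal.Quotient.mk_surjective hkerle
    have hQcomap : (x.asIdeal.map (Ideal.Quotient.mk (Ideal.span {algebraMap R D (π ^ 4)}))).comap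
        (Ideal.Quotient.mk (Ideal.span {algebraMap R D (π ^ 4)})) = x.asIdeal := by
      rw [Ideal.comap_map_of_surjective _ Ideal.Quotient.mk_surjective]
      exact sup_eq_left.mpr hkerle
    have hCns : ¬ Algebra.IsSmoothAt (R ⧸ Ideal.span {π ^ 8})
        ((x.asIdeal.map (Ideal.Quotient.mk (Ideal.span {algebraMap R D (π ^ 4)}))).comap ψ) := by
      intro hsm
      exact hx (isSmoothAt_congr hQcomap (hcD _ hsm))
    have hprimeC : ((x.asIdeal.map
        (Ideal.Quotient.mk (Ideal.span {algebraMap R D (π ^ 4)}))).comap ψ).IsPrime :=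
      Ideal.comap_isPrime ψ _
    rw [Smoothing.singularIdeal, PrimeSpectrum.mem_vanishingIdeal] at hcb
    have h2 := hcb ⟨_, hprimeC⟩ hCns
    change cb ∈ Ideal.comap ψ _ at h2
    rw [Ideal.mem_comap, ← hd] at h2
    have h3 : d ∈ (x.asIdeal.map (Ideal.Quotient.mk (Ideal.span {algebraMap R D (π ^ 4)}))).comap
        (Ideal.Quotient.mk (Ideal.span {algebraMap R D (π ^ 4)})) := h2
    rw [hQcomap] at h3
    exact h3
  have h4 : δ d ∈ (Smoothing.singularIdeal R B).map β := by
    rw [← hβD]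
    exact Ideal.mem_map_of_mem _ (hincl2 (Ideal.mem_map_of_mem _ hdsing))
  have h5 : algebraMap R Λ (π ^ 4) ∈ (Smoothing.singularIdeal R B).map β := by
    have : algebraMap R Λ (π ^ 4) = β (algebraMap R B π ^ 3 * algebraMap R B π) := by
      rw [← pow_succ, ← map_pow, AlgHom.commutes]
    rw [this]
    exact Ideal.mem_map_of_mem _ (Ideal.mul_mem_left _ _ hπB)
  have h6 : l ∈ (Smoothing.singularIdeal R B).map β := by
    have : l = δ d - w * algebraMap R Λ (π ^ 4) := by rw [hw]; ring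
    rw [this]
    exact Ideal.sub_mem _ h4 (Ideal.mul_mem_left _ _ h5)
  rw [← hl]
  exact Ideal.mem_map_of_mem _ (Ideal.le_radical h6)

end Groth.Agent.Lib.Helper22.Pop
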