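import Groth.Agent.Lib.Helper22.Dz5
import Groth.Agent.Lib.Helper22.PopK
import Groth.Agent.Lib.Helper22.PopX

set_option autoImplicit false
universe u

namespace Groth.Agent.Lib.Helper22.Dz

open MvPolynomial Groth.Agent.Lib.Helper22.Pop

theorem isSmoothAt_of_mem_singularIdeal_notMem {R D : Type u} [CommRing R] [CommRing D]
    [Algebra R D] (c : D) (hc : c ∈ Smoothing.singularIdeal R D) (q : Ideal D) [q.IsPrime]
    (hcq : c ∉ q) : Algebra.IsSmoothAt R q := by
  by_contra hns
  rw [Smoothing.singularIdeal, PrimeSpectrum.mem_vanishingIdeal] at hc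
  exact hcq (hc ⟨q, inferInstance⟩ hns)

/-- claim Z: the algebra is smooth over `R` at primes not containing `z · c̃`. -/
theorem isSmoothAt_of_vz_notMem {R A Cr : Type u} [CommRing R] [CommRing A] [Algebra R A]
    [CommRing Cr] [Algebra A Cr] [Algebra R Cr] [IsScalarTower R A Cr] {n m : ℕ} (r : ℕ)
    (f : Fin m → MvPolynomial (Fin n) A) (πC : MvPolynomial (Fin n) A →ₐ[A] Cr)
    (hker : RingHom.ker πC.toRingHom = Ideal.span (Set.range f)) (hπ : Function.Surjective πC)
    (c₀ : MvPolynomial (Fin n) A) (hc : πC c₀ ∈ Smoothing.singularIdeal R Cr)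
    (Q : Ideal (MvPolynomial (Idx n m r) A ⧸ relIdeal r f)) [Q.IsPrime]
    (hz : Ideal.Quotient.mk _ (vz A n m r) ∉ Q)
    (hc₀ : Ideal.Quotient.mk _ (rename Sum.inl c₀) ∉ Q) : Algebra.IsSmoothAt R Q := by
  classical
  let ψ := psi r f πC hker
  have hsurj : Function.Surjective ψ := psi_surjective r f πC hker hπ
  have hkerz : ∀ x, ψ x = 0 → Ideal.Quotient.mk (relIdeal r f) (vz A n m r) * x = 0 := by
    intro x hx
    obtain ⟨p, rfl⟩ := Ideal.Quotient.mk_surjective x
    rw [← map_mul, Ideal.Quotient.eq_zero_iff_mem]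
    exact vz_mul_mem_of_mem_Jid r f p (mem_Jid_of_PsiHom_eq_zero r f πC hker hπ p hx)
  have hkerle : RingHom.ker ψ ≤ Q := by
    intro x hx
    have h0 : Ideal.Quotient.mk (relIdeal r f) (vz A n m r) * x ∈ Q := by
      rw [hkerz x hx]; exact Q.zero_mem
    exact (Ideal.IsPrime.mem_or_mem inferInstance h0).resolve_left hz
  have hQDprime : (Q.map ψ).IsPrime := Ideal.map_isPrime_of_surjective hsurj hkerle
  have hcomap : (Q.map ψ).comap ψ = Q := by
    rw [Ideal.comap_map_of_surjective ψ hsurj Q]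
    exact sup_eq_left.mpr hkerle
  have hmemQD : ∀ x, ψ x ∈ Q.map ψ ↔ x ∈ Q := by
    intro x
    rw [← Ideal.mem_comap, hcomap]
  have h1 : Algebra.IsSmoothAt R ((Q.map ψ).comap (algebraMap Cr (MvPolynomial (Kap m r) Cr))) := by
    refine isSmoothAt_of_mem_singularIdeal_notMem _ hc _ ?_
    rw [Ideal.mem_comap]
    have : algebraMap Cr (MvPolynomial (Kap m r) Cr) (πC c₀) =
        ψ (Ideal.Quotient.mk _ (rename Sum.inl c₀)) := by
      rw [psi_mk, PsiHom_rename]; rfl
    rw [this, hmemQD]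
    exact hc₀
  have h2 : Algebra.IsSmoothAt Cr (Q.map ψ) :=
    (inferInstance : Algebra.FormallySmooth Cr (Localization.AtPrime (Q.map ψ)))
  have h3 : Algebra.IsSmoothAt R (Q.map ψ) := isSmoothAt_trans (D := Cr) (Q.map ψ) h1 h2
  have hprime' : ((Q.map ψ).comap (ψ.restrictScalars R)).IsPrime := Ideal.comap_isPrime _ _
  have h4 : Algebra.IsSmoothAt R ((Q.map ψ).comap (ψ.restrictScalars R)) := by
    refine isSmoothAt_comap_of_surjective (ψ.restrictScalars R) hsurj (Q.map ψ) ?_ h3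
    intro x hx
    refine ⟨Ideal.Quotient.mk _ (vz A n m r), ?_, hkerz x hx⟩
    show ¬ ψ _ ∈ _
    rw [hmemQD]
    exact hz
  exact isSmoothAt_congr hcomap h4

end Groth.Agent.Lib.Helper22.Dz
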