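import Groth.Agent.Lib.Helper22.Dz6

set_option autoImplicit false
universe u

namespace Groth.Agent.Lib.Helper22.Dz

open MvPolynomial Groth.Agent.Lib.Helper22.Pop

theorem resolve_core {R A Λ Cr : Type u} [CommRing R] [CommRing A] [Algebra R A]
    [Algebra.FinitePresentation R A] [CommRing Λ] [Algebra R Λ] (φ : A →ₐ[R] Λ) (𝔮 : Ideal Λ)
    [𝔮.IsPrime] [CommRing Cr] [Algebra R Cr] [Algebra.FinitePresentation R Cr] (gC : A →ₐ[R] Cr)
    (hC : Cr →ₐ[R] Λ) (hcomp : hC.comp gC = φ) (c : Cr) (hc : c ∈ Smoothing.singularIdeal R Cr)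
    (hcq : hC c ∉ 𝔮) {r : ℕ} (a : Fin r → A)
    (ha : Smoothing.singularIdeal R A = Ideal.span (Set.range a)) (N : ℕ) (l : Λ) (hl : l ∉ 𝔮)
    (hla : ∀ i, l * φ (a i) ^ N = 0) : Smoothing.Resolvable R φ 𝔮 := by
  classical
  let algAC : Algebra A Cr := gC.toRingHom.toAlgebra
  have towAC : IsScalarTower R A Cr := IsScalarTower.of_algebraMap_eq (fun x => (gC.commutes x).symm)
  let algAΛ : Algebra A Λ := φ.toRingHom.toAlgebra
  have towAΛ : IsScalarTower R A Λ := IsScalarTower.of_algebraMap_eq (fun x => (φ.commutes x).symm)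
  have hfpAC : Algebra.FinitePresentation A Cr :=
    Algebra.FinitePresentation.of_restrict_scalars_finitePresentation R A Cr
  obtain ⟨n, πC, hπ, hfg⟩ := (Algebra.FinitePresentation.out : ∃ (n : ℕ)
    (f : MvPolynomial (Fin n) A →ₐ[A] Cr), Function.Surjective f ∧ (RingHom.ker f.toRingHom).FG)
  obtain ⟨m, f, hf⟩ := Submodule.fg_iff_exists_fin_generating_family.mp hfg
  have hker : RingHom.ker πC.toRingHom = Ideal.span (Set.range f) := hf.symm
  obtain ⟨c₀, hc₀⟩ := hπ c
  -- `hC` is `A`-linear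
  let hCA : Cr →ₐ[A] Λ := { hC.toRingHom with
    commutes' := fun x => by
      show hC (gC x) = φ x
      rw [← AlgHom.comp_apply, hcomp] }
  have hhCA : ∀ x, hCA x = hC x := fun x => rfl
  -- the map to Λ
  let β₀ : MvPolynomial (Idx n m r) A →ₐ[A] Λ :=
    aeval (Sum.elim (fun k => hC (πC (X k)))
      (Sum.elim (fun i => φ (a i) ^ N) (Sum.elim (fun _ => l) (fun _ => 0))))
  have hβ₀ren : ∀ p : MvPolynomial (Fin n) A, β₀ (rename Sum.inl p) = hC (πC p) := by
    intro p
    show aeval _ (rename Sum.inl p) = _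
    rw [aeval_rename]
    have : (aeval ((Sum.elim (fun k => hC (πC (X k)))
        (Sum.elim (fun i => φ (a i) ^ N) (Sum.elim (fun _ => l) (fun _ => 0))) :
          Idx n m r → Λ) ∘ Sum.inl) : MvPolynomial (Fin n) A →ₐ[A] Λ) = hCA.comp πC := by
      apply MvPolynomial.algHom_ext
      intro k
      simp [hhCA]
    rw [this]
    rfl
  have hβ₀y : ∀ i, β₀ (vy A n m i) = φ (a i) ^ N := fun i => by simp [β₀, vy]
  have hβ₀z : β₀ (vz A n m r) = l := by simp [β₀, vz]
  have hβ₀t : ∀ i j, β₀ (vt A n i j) = 0 := fun i j => by simp [β₀, vt]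
  have hπf : ∀ j, πC (f j) = 0 := fun j => by
    have : f j ∈ RingHom.ker πC.toRingHom := by rw [hker]; exact Ideal.subset_span ⟨j, rfl⟩
    exact this
  have hβ₀I : ∀ p ∈ relIdeal r f, β₀ p = 0 := by
    have : relIdeal r f ≤ RingHom.ker β₀.toRingHom := by
      unfold relIdeal
      rw [Ideal.span_le]
      rintro x (⟨j, rfl⟩ | ⟨i, rfl⟩)
      · show β₀ (relF r f j) = 0
        unfold relF
        rw [map_sub, hβ₀ren, hπf, map_zero, zero_sub, neg_eq_zero, map_sum]
        refine Finset.sum_eq_zero fun i _ => ?_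
        rw [map_mul, hβ₀t, mul_zero]
      · show β₀ (relZ A n m i) = 0
        unfold relZ
        rw [map_mul, hβ₀z, hβ₀y, hla]
    exact fun p hp => this hp
  let hBA : (MvPolynomial (Idx n m r) A ⧸ relIdeal r f) →ₐ[A] Λ :=
    Ideal.Quotient.liftₐ (relIdeal r f) β₀ hβ₀I
  have hhBA : ∀ p, hBA (Ideal.Quotient.mk _ p) = β₀ p := fun p => rfl
  have hfpBA : Algebra.FinitePresentation A (MvPolynomial (Idx n m r) A ⧸ relIdeal r f) := by
    refine Algebra.FinitePresentation.quotient ?_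
    unfold relIdeal
    exact Submodule.fg_span ((Set.finite_range _).union (Set.finite_range _))
  have hfpB : Algebra.FinitePresentation R (MvPolynomial (Idx n m r) A ⧸ relIdeal r f) :=
    Algebra.FinitePresentation.trans R A _
  refine ⟨MvPolynomial (Idx n m r) A ⧸ relIdeal r f, inferInstance, inferInstance, hfpB,
    IsScalarTower.toAlgHom R A _, hBA.restrictScalars R, ?_, ?_, ?_⟩
  · ext x
    show hBA (algebraMap A _ x) = φ x
    rw [AlgHom.commutes]
    rfl
  · -- singRad φ ≤ singRad h_B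
    unfold Smoothing.singRad
    rw [Ideal.IsRadical.radical_le_iff (Ideal.radical_isRadical _), ha, Ideal.map_span,
      Ideal.span_le]
    rintro _ ⟨_, ⟨ℓ, rfl⟩, rfl⟩
    have hmem : Ideal.Quotient.mk (relIdeal r f) (vy A n m ℓ) *
        algebraMap A (MvPolynomial (Idx n m r) A ⧸ relIdeal r f) (a ℓ) ∈
        Smoothing.singularIdeal R (MvPolynomial (Idx n m r) A ⧸ relIdeal r f) := by
      refine mem_singularIdeal_of_smooth_away _ ?_
      intro Q _ hQ
      have hy : Ideal.Quotient.mk (relIdeal r f) (vy A n m ℓ) ∉ Q :=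
        fun h => hQ (Ideal.mul_mem_right _ _ h)
      have haQ : algebraMap A (MvPolynomial (Idx n m r) A ⧸ relIdeal r f) (a ℓ) ∉ Q :=
        fun h => hQ (Ideal.mul_mem_left _ _ h)
      refine isSmoothAt_trans (D := A) Q ?_ (isSmoothAt_of_vy_notMem f ℓ Q hy)
      refine isSmoothAt_of_mem_singularIdeal_notMem (a ℓ) ?_ _ haQ
      rw [ha]
      exact Ideal.subset_span ⟨ℓ, rfl⟩
    have h1 := Ideal.mem_map_of_mem (hBA.restrictScalars R) hmem
    have h2 : (hBA.restrictScalars R) (Ideal.Quotient.mk (relIdeal r f) (vy A n m ℓ) *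
        algebraMap A (MvPolynomial (Idx n m r) A ⧸ relIdeal r f) (a ℓ)) = φ (a ℓ) ^ (N + 1) := by
      show hBA (_ * _) = _
      rw [map_mul, hhBA, hβ₀y, AlgHom.commutes, pow_succ]
      rfl
    rw [h2] at h1
    exact ⟨N + 1, h1⟩
  · -- ¬ singRad h_B ≤ 𝔮
    intro hle
    have hmem : Ideal.Quotient.mk (relIdeal r f) (vz A n m r) *
        Ideal.Quotient.mk (relIdeal r f) (rename Sum.inl c₀) ∈
        Smoothing.singularIdeal R (MvPolynomial (Idx n m r) A ⧸ relIdeal r f) := by
      refine mem_singularIdeal_of_smooth_away _ ?_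
      intro Q _ hQ
      have hz : Ideal.Quotient.mk (relIdeal r f) (vz A n m r) ∉ Q :=
        fun h => hQ (Ideal.mul_mem_right _ _ h)
      have hcQ : Ideal.Quotient.mk (relIdeal r f) (rename Sum.inl c₀) ∉ Q :=
        fun h => hQ (Ideal.mul_mem_left _ _ h)
      exact isSmoothAt_of_vz_notMem r f πC hker hπ c₀ (by rw [hc₀]; exact hc) Q hz hcQ
    have h1 : (hBA.restrictScalars R) (Ideal.Quotient.mk (relIdeal r f) (vz A n m r) *
        Ideal.Quotient.mk (relIdeal r f) (rename Sum.inl c₀)) ∈ 𝔮 :=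
      hle (Ideal.le_radical (Ideal.mem_map_of_mem _ hmem))
    have h2 : (hBA.restrictScalars R) (Ideal.Quotient.mk (relIdeal r f) (vz A n m r) *
        Ideal.Quotient.mk (relIdeal r f) (rename Sum.inl c₀)) = l * hC c := by
      show hBA (_ * _) = _
      rw [map_mul, hhBA, hhBA, hβ₀z, hβ₀ren, hc₀]
    rw [h2] at h1
    rcases Ideal.IsPrime.mem_or_mem inferInstance h1 with h | h
    · exact hl h
    · exact hcq h

end Groth.Agent.Lib.Helper22.Dz
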