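import Mathlib

set_option autoImplicit false

namespace Groth.Agent.Lib.helper22.EndIso

variable {A : Type*} [Ring A]

section Core

variable {P : Type*} [AddCommGroup P] [Module A P]

/-- an endomorphism of a finite module congruent to the identity modulo the radical is surjective -/
theorem surjective_of_congr [Module.Finite A P] (h : P →ₗ[A] P)
    (hh : ∀ p, h p - p ∈ Ring.jacobson A • (⊤ : Submodule A P)) : Function.Surjective h := by
  rw [← LinearMap.range_eq_top]
  set N := LinearMap.range h with hN
  have hfg : (⊤ : Submodule A (P ⧸ N)).FG := Module.Finite.fg_top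
  have hle : (⊤ : Submodule A (P ⧸ N)) ≤ Ring.jacobson A • (⊤ : Submodule A (P ⧸ N)) := by
    intro x _
    obtain ⟨p, rfl⟩ := N.mkQ_surjective x
    have h1 : N.mkQ p = N.mkQ (-(h p - p)) := by
      rw [map_neg, map_sub, neg_sub]
      have : N.mkQ (h p) = 0 := by
        rw [Submodule.mkQ_apply, Submodule.Quotient.mk_eq_zero]
        exact LinearMap.mem_range_self h p
      rw [this, sub_zero]
    rw [h1]
    have h2 : -(h p - p) ∈ Ring.jacobson A • (⊤ : Submodule A P) := Submodule.neg_mem _ (hh p)
    have h3 := Submodule.mem_map_of_mem (f := N.mkQ) h2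
    rw [Submodule.map_smul'', Submodule.map_top, Submodule.range_mkQ] at h3
    exact h3
  have hbot := Submodule.FG.eq_bot_of_le_jacobson_smul hfg hle
  have hsub : Subsingleton (P ⧸ N) := by
    rw [← Submodule.subsingleton_iff A, ← subsingleton_iff_bot_eq_top]
    exact hbot.symm
  exact Submodule.Quotient.subsingleton_iff.mp hsub

/-- an endomorphism of a finite projective module congruent to the identity modulo the radical
is bijective -/
theorem bijective_of_congr [Module.Finite A P] [Module.Projective A P] (h : P →ₗ[A] P)
    (hh : ∀ p, h p - p ∈ Ring.jacobson A • (⊤ : Submodule A P)) : Function.Bijective h := by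
  have hsurj := surjective_of_congr h hh
  obtain ⟨s, hs⟩ := Module.projective_lifting_property h LinearMap.id hsurj
  have hs' : ∀ p, h (s p) = p := fun p => LinearMap.congr_fun hs p
  have hss : ∀ p, s p - p ∈ Ring.jacobson A • (⊤ : Submodule A P) := by
    intro p
    have := hh (s p)
    rw [hs'] at this
    have h2 := Submodule.neg_mem _ this
    rwa [neg_sub] at h2
  have hssurj := surjective_of_congr s hss
  refine ⟨?_, hsurj⟩
  intro x x' hxx'
  obtain ⟨y, rfl⟩ := hssurj x
  obtain ⟨y', rfl⟩ := hssurj x'
  rw [hs', hs'] at hxx'
  rw [hxx']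

end Core

end Groth.Agent.Lib.helper22.EndIso
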