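import Mathlib

set_option autoImplicit false

namespace Groth.Agent.Lib.helper22.EndIso

variable (A : Type*) [Ring A]

/-- the reduction of a module modulo the Jacobson radical -/
abbrev Bar (P : Type*) [AddCommGroup P] [Module A P] : Type _ :=
  P ⧸ (Ring.jacobson A • (⊤ : Submodule A P))

variable {A}
variable {P Q T : Type*} [AddCommGroup P] [Module A P] [AddCommGroup Q] [Module A Q]
  [AddCommGroup T] [Module A T]


variable (A) in
/-- the quotient map -/
def barMk (P : Type*) [AddCommGroup P] [Module A P] : P →ₗ[A] Bar A P :=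
  (Ring.jacobson A • (⊤ : Submodule A P)).mkQ

theorem barMk_surjective : Function.Surjective (barMk A P) := Submodule.mkQ_surjective _

theorem barMk_eq_zero_iff (p : P) :
    barMk A P p = 0 ↔ p ∈ Ring.jacobson A • (⊤ : Submodule A P) := by
  simp [barMk]

theorem mk_smul_bar (a : A) (x : Bar A P) : (Ideal.Quotient.mk (Ring.jacobson A) a) • x = a • x :=
  rfl

/-- reduction of a linear map, `A`-linear version -/
def redA (f : P →ₗ[A] Q) : Bar A P →ₗ[A] Bar A Q :=
  Submodule.mapQ _ _ f (by
    rw [Submodule.smul_le]
    intro r hr p _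
    rw [Submodule.mem_comap, map_smul]
    exact Submodule.smul_mem_smul hr Submodule.mem_top)

@[simp] theorem redA_barMk (f : P →ₗ[A] Q) (p : P) : redA f (barMk A P p) = barMk A Q (f p) := rfl

/-- reduction of a linear map -/
def red (f : P →ₗ[A] Q) : Bar A P →ₗ[A ⧸ Ring.jacobson A] Bar A Q where
  toFun := redA f
  map_add' := map_add _
  map_smul' := by
    intro c x
    obtain ⟨a, rfl⟩ := Ideal.Quotient.mk_surjective c
    rw [mk_smul_bar, map_smul, RingHom.id_apply, mk_smul_bar]

@[simp] theorem red_barMk (f : P →ₗ[A] Q) (p : P) : red f (barMk A P p) = barMk A Q (f p) := rfl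

theorem red_comp (g : Q →ₗ[A] T) (f : P →ₗ[A] Q) : red (g ∘ₗ f) = red g ∘ₗ red f := by
  apply LinearMap.ext
  intro x
  obtain ⟨p, rfl⟩ := barMk_surjective x
  simp

theorem red_id : red (LinearMap.id : P →ₗ[A] P) = LinearMap.id := by
  apply LinearMap.ext
  intro x
  obtain ⟨p, rfl⟩ := barMk_surjective x
  simp

theorem red_add (f g : P →ₗ[A] Q) : red (f + g) = red f + red g := by
  apply LinearMap.ext
  intro x
  obtain ⟨p, rfl⟩ := barMk_surjective x
  simp

theorem red_eq_zero_iff (f : P →ₗ[A] Q) :
    red f = 0 ↔ ∀ p, f p ∈ Ring.jacobson A • (⊤ : Submodule A Q) := by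
  constructor
  · intro h p
    rw [← barMk_eq_zero_iff, ← red_barMk, h, LinearMap.zero_apply]
  · intro h
    apply LinearMap.ext
    intro x
    obtain ⟨p, rfl⟩ := barMk_surjective x
    rw [red_barMk, LinearMap.zero_apply, barMk_eq_zero_iff]
    exact h p

/-- the reduction ring homomorphism on endomorphisms -/
def redEnd (P : Type*) [AddCommGroup P] [Module A P] :
    Module.End A P →+* Module.End (A ⧸ Ring.jacobson A) (Bar A P) where
  toFun := red
  map_one' := red_id
  map_mul' f g := red_comp f g
  map_zero' := by
    apply LinearMap.ext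
    intro x
    obtain ⟨p, rfl⟩ := barMk_surjective x
    simp
  map_add' := red_add

@[simp] theorem redEnd_apply (f : Module.End A P) : redEnd P f = red f := rfl

/-- lifting along the reduction for a projective source -/
theorem exists_red_eq [Module.Projective A P] (g : Bar A P →ₗ[A ⧸ Ring.jacobson A] Bar A Q) :
    ∃ f : P →ₗ[A] Q, red f = g := by
  -- `g ∘ mk` as an `A`-linear map
  let g' : P →ₗ[A] Bar A Q :=
    { toFun := fun p => g (barMk A P p)
      map_add' := fun p p' => by rw [map_add, map_add]
      map_smul' := fun a p => by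
        rw [map_smul, ← mk_smul_bar, map_smul, RingHom.id_apply, mk_smul_bar] }
  obtain ⟨f, hf⟩ := Module.projective_lifting_property (barMk A Q) g' barMk_surjective
  refine ⟨f, ?_⟩
  apply LinearMap.ext
  intro x
  obtain ⟨p, rfl⟩ := barMk_surjective x
  rw [red_barMk]
  exact LinearMap.congr_fun hf p

theorem redEnd_surjective [Module.Projective A P] : Function.Surjective (redEnd (A := A) P) :=
  fun g => exists_red_eq g

end Groth.Agent.Lib.helper22.EndIso
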