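import Groth.Agent.Lib.Helper22.EndIso1
import Groth.Agent.Lib.Helper22.EndIso2

set_option autoImplicit false

namespace Groth.Agent.Lib.helper22.EndIso

variable {A : Type*} [Ring A]
variable {P : Type*} [AddCommGroup P] [Module A P]

instance finite_bar [Module.Finite A P] : Module.Finite (A ⧸ Ring.jacobson A) (Bar A P) :=
  Module.Finite.of_restrictScalars_finite A _ _

/-- endomorphisms congruent to one modulo the radical are units -/
theorem isUnit_of_redEnd_eq_one [Module.Finite A P] [Module.Projective A P] (u : Module.End A P)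
    (hu : redEnd P u = 1) : IsUnit u := by
  rw [Module.End.isUnit_iff]
  apply bijective_of_congr
  have h0 : red (u - 1 : Module.End A P) = 0 := by
    have : redEnd P (u - 1) = 0 := by rw [map_sub, hu, map_one, sub_self]
    exact this
  intro p
  have := (red_eq_zero_iff _).mp h0 p
  simpa using this

theorem ker_redEnd_le_jacobson [Module.Finite A P] [Module.Projective A P] :
    RingHom.ker (redEnd (A := A) P) ≤ Ring.jacobson (Module.End A P) := by
  intro x hx
  rw [RingHom.mem_ker] at hx
  rw [← Ideal.jacobson_bot, Ideal.mem_jacobson_iff]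
  intro y
  have hu : IsUnit (y * x + 1) := by
    apply isUnit_of_redEnd_eq_one
    rw [map_add, map_mul, hx, mul_zero, zero_add, map_one]
  obtain ⟨v, hv⟩ := hu
  refine ⟨(v⁻¹ : (Module.End A P)ˣ), ?_⟩
  rw [Submodule.mem_bot]
  have : (v⁻¹ : (Module.End A P)ˣ).val * y * x + (v⁻¹ : (Module.End A P)ˣ).val =
      (v⁻¹ : (Module.End A P)ˣ).val * (y * x + 1) := by
    rw [mul_add, mul_one, mul_assoc]
  rw [this, ← hv, Units.inv_mul, sub_self]

theorem jacobson_le_ker_redEnd [IsSimpleRing (A ⧸ Ring.jacobson A)]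
    [IsArtinianRing (A ⧸ Ring.jacobson A)] [Module.Finite A P] [Module.Projective A P] :
    Ring.jacobson (Module.End A P) ≤ RingHom.ker (redEnd (A := A) P) := by
  have : RingHomSurjective (redEnd (A := A) P) := ⟨redEnd_surjective⟩
  have hss : IsSemisimpleRing (Module.End (A ⧸ Ring.jacobson A) (Bar A P)) :=
    IsSemisimpleRing.moduleEnd _ _
  intro x hx
  have h1 := Ring.le_comap_jacobson (f := redEnd (A := A) P) hx
  rw [Ideal.mem_comap] at h1
  have h2 : Ring.jacobson (Module.End (A ⧸ Ring.jacobson A) (Bar A P)) = ⊥ :=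
    IsSemisimpleRing.jacobson_eq_bot _
  rw [h2, Submodule.mem_bot] at h1
  exact h1

theorem mem_jacobson_iff_redEnd [IsSimpleRing (A ⧸ Ring.jacobson A)]
    [IsArtinianRing (A ⧸ Ring.jacobson A)] [Module.Finite A P] [Module.Projective A P]
    (x : Module.End A P) : x ∈ Ring.jacobson (Module.End A P) ↔ redEnd P x = 0 :=
  ⟨fun h => jacobson_le_ker_redEnd h, fun h => ker_redEnd_le_jacobson h⟩

end Groth.Agent.Lib.helper22.EndIso
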