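import Mathlib

set_option autoImplicit false

namespace Groth.Agent.Lib.helper22.EndIso

theorem mem_jacobson_ringEquiv {R₁ R₂ : Type*} [Ring R₁] [Ring R₂] (e : R₁ ≃+* R₂) (x : R₁) :
    e x ∈ Ring.jacobson R₂ ↔ x ∈ Ring.jacobson R₁ := by
  constructor
  · intro h
    have : RingHomSurjective (e.symm : R₂ →+* R₁) := ⟨e.symm.surjective⟩
    have h1 := Ring.le_comap_jacobson (f := (e.symm : R₂ →+* R₁)) h
    rw [Ideal.mem_comap] at h1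
    simpa using h1
  · intro h
    have : RingHomSurjective (e : R₁ →+* R₂) := ⟨e.surjective⟩
    have h1 := Ring.le_comap_jacobson (f := (e : R₁ →+* R₂)) h
    rw [Ideal.mem_comap] at h1
    simpa using h1

/-- a ring isomorphism induces an isomorphism of quotients by the Jacobson radicals -/
theorem exists_ringEquiv_quot {R₁ R₂ S₁ S₂ : Type*} [Ring R₁] [Ring R₂] [Ring S₁] [Ring S₂]
    (Φ₁ : R₁ →+* S₁) (Φ₂ : R₂ →+* S₂) (h₁ : Function.Surjective Φ₁) (h₂ : Function.Surjective Φ₂)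
    (k₁ : ∀ x, x ∈ Ring.jacobson R₁ ↔ Φ₁ x = 0) (k₂ : ∀ x, x ∈ Ring.jacobson R₂ ↔ Φ₂ x = 0)
    (e : R₁ ≃+* R₂) : ∃ ψ : S₁ ≃+* S₂, ∀ x, ψ (Φ₁ x) = Φ₂ (e x) := by
  have hk : RingHom.ker Φ₁ ≤ RingHom.ker (Φ₂.comp (e : R₁ →+* R₂)) := by
    intro x hx
    rw [RingHom.mem_ker] at hx ⊢
    rw [RingHom.comp_apply, RingHom.coe_coe, ← k₂, mem_jacobson_ringEquiv, k₁]
    exact hx
  have hk' : RingHom.ker Φ₂ ≤ RingHom.ker (Φ₁.comp (e.symm : R₂ →+* R₁)) := by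
    intro x hx
    rw [RingHom.mem_ker] at hx ⊢
    rw [RingHom.comp_apply, RingHom.coe_coe, ← k₁, mem_jacobson_ringEquiv, k₂]
    exact hx
  let ψ : S₁ →+* S₂ := Φ₁.liftOfSurjective h₁ ⟨Φ₂.comp (e : R₁ →+* R₂), hk⟩
  let ψ' : S₂ →+* S₁ := Φ₂.liftOfSurjective h₂ ⟨Φ₁.comp (e.symm : R₂ →+* R₁), hk'⟩
  have hψ : ∀ x, ψ (Φ₁ x) = Φ₂ (e x) := fun x =>
    Φ₁.liftOfRightInverse_comp_apply _ _ ⟨Φ₂.comp (e : R₁ →+* R₂), hk⟩ x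
  have hψ' : ∀ x, ψ' (Φ₂ x) = Φ₁ (e.symm x) := fun x =>
    Φ₂.liftOfRightInverse_comp_apply _ _ ⟨Φ₁.comp (e.symm : R₂ →+* R₁), hk'⟩ x
  refine ⟨RingEquiv.ofRingHom ψ ψ' ?_ ?_, hψ⟩
  · ext s
    obtain ⟨x, rfl⟩ := h₂ s
    simp [hψ', hψ]
  · ext s
    obtain ⟨x, rfl⟩ := h₁ s
    simp [hψ', hψ]

end Groth.Agent.Lib.helper22.EndIso
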