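import Mathlib

set_option autoImplicit false

namespace Groth.Agent.Lib.helper22.EndIso

/-- a decomposition of one into orthogonal local idempotents -/
def HasPrimDecomp (R : Type*) [Ring R] (a : ℕ) : Prop :=
  ∃ e : Fin a → R, (∀ i, e i * e i = e i) ∧ (∀ i j, i ≠ j → e i * e j = 0) ∧ ∑ i, e i = 1 ∧
    ∀ i, e i ≠ 0 ∧ ∀ x, e i * x * e i ≠ 0 → ∃ y, (e i * y * e i) * (e i * x * e i) = e i

theorem HasPrimDecomp.of_ringEquiv {R R' : Type*} [Ring R] [Ring R'] (ψ : R ≃+* R') {a : ℕ}
    (h : HasPrimDecomp R a) : HasPrimDecomp R' a := by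
  obtain ⟨e, h1, h2, h3, h4⟩ := h
  refine ⟨fun i => ψ (e i), ?_, ?_, ?_, ?_⟩
  · intro i
    rw [← map_mul, h1]
  · intro i j hij
    rw [← map_mul, h2 i j hij, map_zero]
  · rw [← map_sum, h3, map_one]
  · intro i
    refine ⟨fun h => (h4 i).1 (by simpa using h), ?_⟩
    intro x hx
    obtain ⟨x, rfl⟩ := ψ.surjective x
    rw [← map_mul, ← map_mul] at hx
    obtain ⟨y, hy⟩ := (h4 i).2 x (fun h => hx (by rw [h, map_zero]))
    refine ⟨ψ y, ?_⟩
    rw [← map_mul, ← map_mul, ← map_mul, ← map_mul, ← map_mul, hy]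

section Pi

variable {B : Type*} [Ring B] {S : Type*} [AddCommGroup S] [Module B S]

theorem hasPrimDecomp_pi [IsSimpleModule B S] (a : ℕ) :
    HasPrimDecomp (Module.End B (Fin a → S)) a := by
  classical
  let ι : (i : Fin a) → S →ₗ[B] (Fin a → S) := fun i => LinearMap.single B (fun _ => S) i
  let π : (i : Fin a) → (Fin a → S) →ₗ[B] S := fun i => LinearMap.proj i
  have hπι : ∀ i s, π i (ι i s) = s := fun i s => by simp [ι, π]
  have hπι' : ∀ i j s, i ≠ j → π i (ι j s) = 0 := fun i j s hij => by
    simp [ι, π, hij]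
  have hE : ∀ i (v : Fin a → S), (ι i ∘ₗ π i) v = ι i (π i v) := fun i v => rfl
  refine ⟨fun i => ι i ∘ₗ π i, ?_, ?_, ?_, ?_⟩
  · intro i
    apply LinearMap.ext
    intro v
    simp only [Module.End.mul_apply, hE, hπι]
  · intro i j hij
    apply LinearMap.ext
    intro v
    simp only [Module.End.mul_apply, hE, hπι' i j _ hij, map_zero, LinearMap.zero_apply]
  · apply LinearMap.ext
    intro v
    funext j
    simp only [LinearMap.coe_sum, Finset.sum_apply, hE, Module.End.one_apply]
    rw [Finset.sum_eq_single j]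
    · simp [ι, π]
    · intro i _ hij
      simp [ι, π, hij.symm]
    · intro h
      exact absurd (Finset.mem_univ _) h
  · intro i
    constructor
    · intro h
      have : Nontrivial S := IsSimpleModule.nontrivial B S
      obtain ⟨s, hs⟩ := exists_ne (0 : S)
      apply hs
      have h1 := LinearMap.congr_fun h (ι i s)
      simp only [hE, hπι, LinearMap.zero_apply] at h1
      have h2 := congrArg (π i) h1
      rwa [hπι, map_zero] at h2
    · intro x hx
      let φ : S →ₗ[B] S := π i ∘ₗ x ∘ₗ ι i
      have hxφ : ∀ v, ((ι i ∘ₗ π i) * x * (ι i ∘ₗ π i)) v = ι i (φ (π i v)) := by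
        intro v
        simp only [Module.End.mul_apply, hE, φ, LinearMap.comp_apply]
      have hφ0 : φ ≠ 0 := by
        intro h
        apply hx
        apply LinearMap.ext
        intro v
        rw [hxφ, h]
        simp
      have hbij := LinearMap.bijective_of_ne_zero hφ0
      let φe := LinearEquiv.ofBijective φ hbij
      have hφe : ∀ s, φe.symm (φ s) = s := fun s => φe.symm_apply_apply s
      refine ⟨ι i ∘ₗ φe.symm.toLinearMap ∘ₗ π i, ?_⟩
      apply LinearMap.ext
      intro v
      rw [Module.End.mul_apply, hxφ]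
      simp only [Module.End.mul_apply, hE, LinearMap.comp_apply, hπι, LinearEquiv.coe_coe, hφe]

end Pi

section Decomp

variable {B : Type*} [Ring B] {M : Type*} [AddCommGroup M] [Module B M]

theorem isAtom_range_of_local [IsSemisimpleModule B M] (e : Module.End B M) (he : e * e = e)
    (he0 : e ≠ 0) (hloc : ∀ x, e * x * e ≠ 0 → ∃ y, (e * y * e) * (e * x * e) = e) :
    IsAtom (LinearMap.range e) := by
  have heN : ∀ m ∈ LinearMap.range e, e m = m := by
    rintro _ ⟨m, rfl⟩
    rw [← Module.End.mul_apply, he]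
  constructor
  · intro h
    exact he0 (LinearMap.range_eq_bot.mp h)
  · intro N hN
    by_contra hNbot
    obtain ⟨n, hnN, hn0⟩ := Submodule.exists_mem_ne_zero_of_ne_bot hNbot
    obtain ⟨N', hN'⟩ := exists_isCompl N
    let π : Module.End B M := N.subtype ∘ₗ Submodule.projectionOnto N N' hN'
    have hπN : ∀ m, π m ∈ N := fun m => (Submodule.projectionOnto N N' hN' m).2
    have hπid : ∀ n ∈ N, π n = n := by
      intro n hn
      have := Submodule.projectionOnto_apply_of_mem_left hN' hn
      simp only [π, LinearMap.comp_apply, Submodule.subtype_apply]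
      rw [this]
    have hx : e * π * e ≠ 0 := by
      intro h
      apply hn0
      have h1 := LinearMap.congr_fun h n
      simp only [Module.End.mul_apply, LinearMap.zero_apply] at h1
      rwa [heN n (hN.le hnN), hπid n hnN, heN n (hN.le hnN)] at h1
    obtain ⟨y, hy⟩ := hloc π hx
    have hle : LinearMap.range e ≤ N := by
      intro m hm
      have hm' : m - π m ∈ LinearMap.range e := sub_mem hm (hN.le (hπN m))
      have h0 : π (m - π m) = 0 := by rw [map_sub, hπid _ (hπN m), sub_self]
      have h1 : m - π m = 0 := by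
        have h2 := LinearMap.congr_fun hy (m - π m)
        simp only [Module.End.mul_apply] at h2
        rw [heN _ hm', h0] at h2
        simpa using h2.symm
      rw [sub_eq_zero] at h1
      rw [h1]
      exact hπN m
    exact absurd (le_antisymm hN.le hle) (ne_of_lt hN)

theorem nonempty_linearEquiv_pi_of_hasPrimDecomp [IsSemisimpleModule B M] {S : Type*}
    [AddCommGroup S] [Module B S]
    (hS : IsIsotypicOfType B M S) {a : ℕ} (h : HasPrimDecomp (Module.End B M) a) :
    Nonempty (M ≃ₗ[B] (Fin a → S)) := by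
  obtain ⟨e, h1, h2, h3, h4⟩ := h
  have hat : ∀ i, IsAtom (LinearMap.range (e i)) := fun i =>
    isAtom_range_of_local (e i) (h1 i) (h4 i).1 (h4 i).2
  have hsimple : ∀ i, IsSimpleModule B (LinearMap.range (e i)) := fun i =>
    isSimpleModule_iff_isAtom.mpr (hat i)
  have hiso : ∀ i, Nonempty (LinearMap.range (e i) ≃ₗ[B] S) := fun i => hS (LinearMap.range (e i))
  let F : M →ₗ[B] (Π i, LinearMap.range (e i)) := LinearMap.pi (fun i => (e i).rangeRestrict)
  let G : (Π i, LinearMap.range (e i)) →ₗ[B] M :=
    ∑ i, (LinearMap.range (e i)).subtype ∘ₗ LinearMap.proj i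
  have hG : ∀ y, G y = ∑ i, (y i : M) := by
    intro y
    simp [G, LinearMap.coe_sum, Finset.sum_apply]
  have heN : ∀ i, ∀ m ∈ LinearMap.range (e i), e i m = m := by
    rintro i _ ⟨m, rfl⟩
    rw [← Module.End.mul_apply, h1]
  have heN' : ∀ i j, i ≠ j → ∀ m ∈ LinearMap.range (e j), e i m = 0 := by
    rintro i j hij _ ⟨m, rfl⟩
    rw [← Module.End.mul_apply, h2 i j hij, LinearMap.zero_apply]
  have e1 : F ∘ₗ G = LinearMap.id := by
    apply LinearMap.ext
    intro y
    funext j
    apply Subtype.ext
    simp only [LinearMap.comp_apply, F, LinearMap.pi_apply, LinearMap.id_apply, hG]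
    change e j (∑ i, (y i : M)) = y j
    rw [map_sum, Finset.sum_eq_single j]
    · exact heN j _ (y j).2
    · intro i _ hij
      exact heN' j i hij.symm _ (y i).2
    · intro h
      exact absurd (Finset.mem_univ _) h
  have e2 : G ∘ₗ F = LinearMap.id := by
    apply LinearMap.ext
    intro m
    simp only [LinearMap.comp_apply, hG, F, LinearMap.pi_apply, LinearMap.id_apply]
    change ∑ i, e i m = m
    rw [← LinearMap.sum_apply, h3, Module.End.one_apply]
  let E1 : M ≃ₗ[B] (Π i, LinearMap.range (e i)) := LinearEquiv.ofLinearMap F G e1 e2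
  let E2 : (Π i, LinearMap.range (e i)) ≃ₗ[B] (Fin a → S) :=
    LinearEquiv.piCongrRight (fun i => (hiso i).some)
  exact ⟨E1.trans E2⟩

end Decomp

end Groth.Agent.Lib.helper22.EndIso
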