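import Groth.Agent.Lib.Helper22.EndIso3
import Groth.Agent.Lib.Helper22.EndIso4
import Groth.Agent.Lib.Helper22.EndIso5

set_option autoImplicit false
universe u v

namespace Groth.Agent.Lib.helper22.EndIso

theorem main (A : Type u) [Ring A] [IsSimpleRing (A ⧸ Ring.jacobson A)]
    [IsArtinianRing (A ⧸ Ring.jacobson A)] (P Q : Type v) [AddCommGroup P] [Module A P]
    [Module.Finite A P] [Module.Projective A P] [AddCommGroup Q] [Module A Q] [Module.Finite A Q]
    [Module.Projective A Q] (e : Module.End A P ≃+* Module.End A Q) : Nonempty (P ≃ₗ[A] Q) := by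
  -- a simple module over the quotient
  obtain ⟨n, hn, I₀, hI₀, -⟩ :=
    IsSimpleRing.exists_ringEquiv_matrix_end_mulOpposite (A ⧸ Ring.jacobson A)
  have hiso : ∀ (M : Type v) [AddCommGroup M] [Module (A ⧸ Ring.jacobson A) M],
      IsIsotypicOfType (A ⧸ Ring.jacobson A) M I₀ := by
    intro M _ _ m hm
    obtain ⟨I, ⟨eI⟩⟩ :=
      IsSemisimpleRing.exists_linearEquiv_ideal_of_isSimpleModule (A ⧸ Ring.jacobson A) m
    have : IsSimpleModule (A ⧸ Ring.jacobson A) I := IsSimpleModule.congr eI.symm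
    obtain ⟨e'⟩ := (IsSimpleRing.isIsotypic (A ⧸ Ring.jacobson A) (A ⧸ Ring.jacobson A)) I₀ I
    exact ⟨eI.trans e'⟩
  obtain ⟨a, ⟨eP⟩⟩ := (hiso (Bar A P)).linearEquiv_fun
  have h1 : HasPrimDecomp (Module.End (A ⧸ Ring.jacobson A) (Bar A P)) a :=
    (hasPrimDecomp_pi a).of_ringEquiv eP.symm.conjRingEquiv
  obtain ⟨ψ, -⟩ := exists_ringEquiv_quot (redEnd (A := A) P) (redEnd (A := A) Q) redEnd_surjective
    redEnd_surjective mem_jacobson_iff_redEnd mem_jacobson_iff_redEnd e
  have h2 := h1.of_ringEquiv ψ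
  obtain ⟨eQ⟩ := nonempty_linearEquiv_pi_of_hasPrimDecomp (hiso (Bar A Q)) h2
  let φ : Bar A P ≃ₗ[A ⧸ Ring.jacobson A] Bar A Q := eP.trans eQ.symm
  obtain ⟨f, hf⟩ := exists_red_eq (P := P) (Q := Q) φ.toLinearMap
  obtain ⟨g, hg⟩ := exists_red_eq (P := Q) (Q := P) φ.symm.toLinearMap
  have hgf : IsUnit (g ∘ₗ f : Module.End A P) := by
    apply isUnit_of_redEnd_eq_one
    rw [redEnd_apply, red_comp, hf, hg]
    apply LinearMap.ext
    intro x
    simp
  have hfg : IsUnit (f ∘ₗ g : Module.End A Q) := by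
    apply isUnit_of_redEnd_eq_one
    rw [redEnd_apply, red_comp, hf, hg]
    apply LinearMap.ext
    intro x
    simp
  rw [Module.End.isUnit_iff] at hgf hfg
  have hbij : Function.Bijective f := by
    constructor
    · intro x y hxy
      apply hgf.1
      simp only [LinearMap.comp_apply, hxy]
    · intro y
      obtain ⟨z, hz⟩ := hfg.2 y
      exact ⟨g z, hz⟩
  exact ⟨LinearEquiv.ofBijective f hbij⟩

end Groth.Agent.Lib.helper22.EndIso
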