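import Mathlib
import Groth.Agent.Lib.Helper22.EulerChar

/-!
# Euler characteristic for complexes of shape `ComplexShape.up' a`
Generalization of `EulerChar.euler` to an arbitrary shift `a` in an additive commutative group of
indices (e.g. pages of spectral sequences).
-/

namespace Groth.Agent.Lib.helper22.EulerChar
open CategoryTheory CategoryTheory.Limits

universe v u

section telescoping
variable {G : Type*} [AddCommGroup G]

lemma telescoping' {α : Type*} [AddCommGroup α] (a : α) (s : Finset α) (ε : α → ℤ)
    (hε : ∀ i, ε (i + a) = - ε i) (b h x : α → G)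
    (hb : ∀ i, (i ∉ s ∨ i - a ∉ s) → b i = 0)
    (hx : ∀ i, x i = b i + h i + b (i + a)) :
    ∑ i ∈ s, ε i • x i = ∑ i ∈ s, ε i • h i := by
  classical
  have h1 : ∑ i ∈ s, ε i • b (i + a) = - ∑ i ∈ s, ε i • b i := by
    set t : Finset α := s.map (addRightEmbedding a) with ht
    have hmem : ∀ j, j ∈ t ↔ j - a ∈ s := by
      intro j
      rw [ht, Finset.mem_map]
      constructor
      · rintro ⟨i, hi, rfl⟩
        simpa using hi
      · intro hj
        exact ⟨j - a, hj, by simp⟩
    have h2 : ∑ i ∈ s, ε i • b (i + a) = - ∑ j ∈ t, ε j • b j := by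
      rw [ht, Finset.sum_map, ← Finset.sum_neg_distrib]
      apply Finset.sum_congr rfl
      intro i _
      simp only [addRightEmbedding_apply]
      rw [hε, neg_smul, neg_neg]
    have h3 : ∑ j ∈ t, ε j • b j = ∑ j ∈ s ∪ t, ε j • b j := by
      apply Finset.sum_subset Finset.subset_union_right
      intro j _ hj
      rw [hb j (Or.inr (fun h => hj ((hmem j).mpr h))), smul_zero]
    have h4 : ∑ j ∈ s, ε j • b j = ∑ j ∈ s ∪ t, ε j • b j := by
      apply Finset.sum_subset Finset.subset_union_left
      intro j _ hj
      rw [hb j (Or.inl hj), smul_zero]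
    rw [h2, h3, ← h4]
  calc ∑ i ∈ s, ε i • x i
      = ∑ i ∈ s, (ε i • b i + ε i • h i + ε i • b (i + a)) := by
        apply Finset.sum_congr rfl
        intro i _
        rw [hx, smul_add, smul_add]
    _ = ∑ i ∈ s, ε i • b i + ∑ i ∈ s, ε i • h i + ∑ i ∈ s, ε i • b (i + a) := by
        rw [Finset.sum_add_distrib, Finset.sum_add_distrib]
    _ = ∑ i ∈ s, ε i • h i := by rw [h1]; abel

end telescoping

variable {C : Type u} [Category.{v} C] [Abelian C] {G : Type*} [AddCommGroup G]

namespace IsAdditiveOn

variable {φ : C → G} {P : C → Prop} (hφ : IsAdditiveOn φ P)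
include hφ

/-- Euler characteristic formula for shape `up' a`. -/
theorem euler' {α : Type*} [AddCommGroup α] (a : α)
    (E : HomologicalComplex C (ComplexShape.up' a)) (s : Finset α)
    (hs : ∀ i, i ∉ s → IsZero (E.X i)) (hP : ∀ i, P (E.X i)) (ε : α → ℤ)
    (hε : ∀ i, ε (i + a) = - ε i) :
    ∑ i ∈ s, ε i • φ (E.X i) = ∑ i ∈ s, ε i • φ (E.homology i) := by
  apply telescoping' a s ε hε (fun i => φ (Abelian.image (E.d (i - a) i)))
  · rintro i (hi | hi)
    · exact hφ.zero _ (isZero_image_of_tgt _ (hs i hi))
    · exact hφ.zero _ (isZero_image_of_src _ (hs (i - a) hi))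
  · intro i
    have h := hφ.shortComplex_formula (E.sc' (i - a) i (i + a)) (hP (i - a)) (hP i)
    have hprev : (ComplexShape.up' a).prev i = i - a :=
      ComplexShape.prev_eq' _ (show (ComplexShape.up' a).Rel (i - a) i from sub_add_cancel i a)
    have hnext : (ComplexShape.up' a).next i = i + a :=
      ComplexShape.next_eq' _ (show (ComplexShape.up' a).Rel i (i + a) from rfl)
    have hiso : φ (E.sc' (i - a) i (i + a)).homology = φ (E.homology i) :=
      (hφ.iso (E.homologyIsoSc' (i - a) i (i + a) hprev hnext)).symm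
    have htr : ∀ k (hk : k = i), φ (Abelian.image (E.d k (i + a))) =
        φ (Abelian.image (E.d i (i + a))) := by
      rintro k rfl; rfl
    rw [hiso] at h
    simp only [HomologicalComplex.shortComplexFunctor'_obj_X₂,
      HomologicalComplex.shortComplexFunctor'_obj_f,
      HomologicalComplex.shortComplexFunctor'_obj_g] at h
    show φ (E.X i) = φ (Abelian.image (E.d (i - a) i)) + φ (E.homology i) +
      φ (Abelian.image (E.d (i + a - a) (i + a)))
    rw [htr (i + a - a) (by abel)]
    exact h

end IsAdditiveOn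

end Groth.Agent.Lib.helper22.EulerChar
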