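import Mathlib

/-!
# Exterior powers commute with base change (helper22)

For commutative rings `A → B` and an `A`-module `M`, the canonical `B`-linear map
`B ⊗[A] ⋀[A]^p M → ⋀[B]^p (B ⊗[A] M)`, `b ⊗ (m₁ ∧ … ∧ m_p) ↦ b • (1 ⊗ m₁) ∧ … ∧ (1 ⊗ m_p)`,
is bijective (`extPowBC_bijective`).
-/

set_option autoImplicit false
universe u

open TensorProduct exteriorPower

namespace Groth.Agent.Lib.helper22.ExtPowBC

variable (A B : Type u) [CommRing A] [CommRing B] [Algebra A B]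
  (M : Type u) [AddCommGroup M] [Module A M]

/-- `B ⊗ M → B ⊗ E_A(M)`, `b ⊗ m ↦ b ⊗ ι m`. -/
noncomputable def f : B ⊗[A] M →ₗ[B] B ⊗[A] ExteriorAlgebra A M :=
  LinearMap.baseChange B (ExteriorAlgebra.ι A)

@[simp] theorem f_tmul (b : B) (m : M) : f A B M (b ⊗ₜ m) = b ⊗ₜ ExteriorAlgebra.ι A m := rfl

theorem f_anti (x y : B ⊗[A] M) : f A B M x * f A B M y + f A B M y * f A B M x = 0 := by
  induction x with
  | zero => simp
  | add x₁ x₂ h₁ h₂ =>
    rw [map_add, add_mul, mul_add]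
    calc _ = (f A B M x₁ * f A B M y + f A B M y * f A B M x₁) +
          (f A B M x₂ * f A B M y + f A B M y * f A B M x₂) := by abel
      _ = 0 := by rw [h₁, h₂, add_zero]
  | tmul b m =>
    induction y with
    | zero => simp
    | add y₁ y₂ h₁ h₂ =>
      rw [map_add, add_mul, mul_add]
      calc _ = (f A B M (b ⊗ₜ m) * f A B M y₁ + f A B M y₁ * f A B M (b ⊗ₜ m)) +
            (f A B M (b ⊗ₜ m) * f A B M y₂ + f A B M y₂ * f A B M (b ⊗ₜ m)) := by abel
        _ = 0 := by rw [h₁, h₂, add_zero]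
    | tmul c n =>
      rw [f_tmul, f_tmul, Algebra.TensorProduct.tmul_mul_tmul, Algebra.TensorProduct.tmul_mul_tmul,
        mul_comm c b, ← TensorProduct.tmul_add, ExteriorAlgebra.ι_add_mul_swap, TensorProduct.tmul_zero]

theorem f_sq (x : B ⊗[A] M) : f A B M x * f A B M x = 0 := by
  induction x with
  | zero => simp
  | add x y hx hy =>
    rw [map_add, add_mul, mul_add, mul_add, hx, hy]
    have := f_anti A B M x y
    calc _ = f A B M x * f A B M y + f A B M y * f A B M x := by abel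
      _ = 0 := this
  | tmul b m =>
    rw [f_tmul, Algebra.TensorProduct.tmul_mul_tmul, ExteriorAlgebra.ι_sq_zero,
      TensorProduct.tmul_zero]

/-- `E_B(B ⊗ M) → B ⊗ E_A(M)`. -/
noncomputable def F : ExteriorAlgebra B (B ⊗[A] M) →ₐ[B] B ⊗[A] ExteriorAlgebra A M :=
  ExteriorAlgebra.lift B ⟨f A B M, f_sq A B M⟩

@[simp] theorem F_ι (x : B ⊗[A] M) : F A B M (ExteriorAlgebra.ι B x) = f A B M x :=
  ExteriorAlgebra.lift_ι_apply B _ _ x

/-- `M → E_B(B ⊗ M)`, `m ↦ ι (1 ⊗ m)`. -/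
noncomputable def g₀ : M →ₗ[A] ExteriorAlgebra B (B ⊗[A] M) :=
  ((ExteriorAlgebra.ι B (M := B ⊗[A] M)).restrictScalars A).comp (TensorProduct.mk A B M 1)

@[simp] theorem g₀_apply (m : M) : g₀ A B M m = ExteriorAlgebra.ι B ((1 : B) ⊗ₜ[A] m) := rfl

/-- `E_A(M) → E_B(B ⊗ M)`. -/
noncomputable def G₀ : ExteriorAlgebra A M →ₐ[A] ExteriorAlgebra B (B ⊗[A] M) :=
  ExteriorAlgebra.lift A ⟨g₀ A B M, fun m => by rw [g₀_apply, ExteriorAlgebra.ι_sq_zero]⟩

@[simp] theorem G₀_ι (m : M) :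
    G₀ A B M (ExteriorAlgebra.ι A m) = ExteriorAlgebra.ι B ((1 : B) ⊗ₜ[A] m) :=
  ExteriorAlgebra.lift_ι_apply A _ _ m

/-- `B ⊗ E_A(M) → E_B(B ⊗ M)`. -/
noncomputable def G : B ⊗[A] ExteriorAlgebra A M →ₐ[B] ExteriorAlgebra B (B ⊗[A] M) :=
  Algebra.TensorProduct.lift (Algebra.ofId B _) (G₀ A B M)
    (fun b _ => Algebra.commute_algebraMap_left b _)

@[simp] theorem G_tmul (b : B) (e : ExteriorAlgebra A M) :
    G A B M (b ⊗ₜ e) = b • G₀ A B M e := by
  rw [G, Algebra.TensorProduct.lift_tmul, Algebra.ofId_apply, Algebra.smul_def]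

theorem F_G₀ (e : ExteriorAlgebra A M) : F A B M (G₀ A B M e) = (1 : B) ⊗ₜ e := by
  induction e using ExteriorAlgebra.induction with
  | algebraMap r =>
    rw [AlgHom.commutes, IsScalarTower.algebraMap_apply A B (ExteriorAlgebra B (B ⊗[A] M)),
      AlgHom.commutes, Algebra.TensorProduct.algebraMap_apply, Algebra.algebraMap_self,
      RingHom.id_apply, Algebra.algebraMap_eq_smul_one, Algebra.algebraMap_eq_smul_one,
      TensorProduct.smul_tmul]
  | ι m => rw [G₀_ι, F_ι, f_tmul]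
  | mul a b ha hb =>
    rw [map_mul, map_mul, ha, hb, Algebra.TensorProduct.tmul_mul_tmul, one_mul]
  | add a b ha hb => rw [map_add, map_add, ha, hb, TensorProduct.tmul_add]

theorem F_G (z : B ⊗[A] ExteriorAlgebra A M) : F A B M (G A B M z) = z := by
  induction z with
  | zero => simp
  | add x y hx hy => rw [map_add, map_add, hx, hy]
  | tmul b e =>
    rw [G_tmul, map_smul, F_G₀, TensorProduct.smul_tmul', smul_eq_mul, mul_one]

variable (p : ℕ)

/-- The `A`-alternating map `M^p → ⋀[B]^p (B ⊗ M)`, `m ↦ (1 ⊗ m₁) ∧ … ∧ (1 ⊗ m_p)`. -/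
noncomputable def alt : M [⋀^Fin p]→ₗ[A] ↥(⋀[B]^p (B ⊗[A] M)) :=
  ({ (ιMulti B p (M := B ⊗[A] M)).toMultilinearMap.restrictScalars A with
      map_eq_zero_of_eq' := fun v _ _ h hij =>
        (ιMulti B p (M := B ⊗[A] M)).map_eq_zero_of_eq v h hij } :
    (B ⊗[A] M) [⋀^Fin p]→ₗ[A] ↥(⋀[B]^p (B ⊗[A] M))).compLinearMap (TensorProduct.mk A B M 1)

theorem alt_apply (m : Fin p → M) :
    alt A B M p m = ιMulti B p (fun i => (1 : B) ⊗ₜ[A] m i) := rfl

/-- The `A`-linear map `⋀[A]^p M → ⋀[B]^p (B ⊗ M)`. -/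
noncomputable def T : ↥(⋀[A]^p M) →ₗ[A] ↥(⋀[B]^p (B ⊗[A] M)) :=
  alternatingMapLinearEquiv (alt A B M p)

@[simp] theorem T_ιMulti (m : Fin p → M) :
    T A B M p (ιMulti A p m) = ιMulti B p (fun i => (1 : B) ⊗ₜ[A] m i) := by
  rw [T, alternatingMapLinearEquiv_apply_ιMulti, alt_apply]

/-- The canonical `B`-linear map `B ⊗ ⋀[A]^p M → ⋀[B]^p (B ⊗ M)`. -/
noncomputable def Φ : B ⊗[A] ↥(⋀[A]^p M) →ₗ[B] ↥(⋀[B]^p (B ⊗[A] M)) :=
  LinearMap.liftBaseChange B (T A B M p)

@[simp] theorem Φ_tmul (b : B) (ω : ↥(⋀[A]^p M)) : Φ A B M p (b ⊗ₜ ω) = b • T A B M p ω :=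
  LinearMap.liftBaseChange_tmul _ _ _ _

theorem T_val (ω : ↥(⋀[A]^p M)) :
    ((T A B M p ω : ↥(⋀[B]^p (B ⊗[A] M))) : ExteriorAlgebra B (B ⊗[A] M)) = G₀ A B M ω.1 := by
  have hω : ω ∈ Submodule.span A (Set.range (ιMulti A p (M := M))) := by
    rw [ιMulti_span]; trivial
  induction hω using Submodule.span_induction with
  | mem y hy =>
    obtain ⟨m, rfl⟩ := hy
    rw [T_ιMulti, ιMulti_apply_coe, ιMulti_apply_coe, ExteriorAlgebra.ιMulti_apply,
      ExteriorAlgebra.ιMulti_apply, map_list_prod, List.map_ofFn]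
    congr 2
    funext i
    simp
  | zero => simp
  | add x y _ _ hx hy => rw [map_add, Submodule.coe_add, Submodule.coe_add, map_add, hx, hy]
  | smul r x _ hx =>
    rw [map_smul, Submodule.coe_smul_of_tower, Submodule.coe_smul_of_tower, map_smul, hx]

theorem Φ_val (z : B ⊗[A] ↥(⋀[A]^p M)) :
    ((Φ A B M p z : ↥(⋀[B]^p (B ⊗[A] M))) : ExteriorAlgebra B (B ⊗[A] M)) =
      G A B M (LinearMap.baseChange B (⋀[A]^p M).subtype z) := by
  induction z with
  | zero => simp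
  | add x y hx hy => rw [map_add, Submodule.coe_add, hx, hy, map_add, map_add]
  | tmul b ω =>
    rw [Φ_tmul, Submodule.coe_smul_of_tower, T_val, LinearMap.baseChange_tmul, G_tmul]
    rfl

/-- A retraction of the inclusion `⋀[A]^p M → E_A(M)`. -/
noncomputable def retr : ExteriorAlgebra A M →ₗ[A] ↥(⋀[A]^p M) :=
  (DirectSum.component A ℕ (fun i => ↥(⋀[A]^i M)) p).comp
    (DirectSum.decomposeLinearEquiv (fun i => ⋀[A]^i M)).toLinearMap

theorem retr_subtype (ω : ↥(⋀[A]^p M)) : retr A M p ω.1 = ω := by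
  apply Subtype.ext
  exact DirectSum.decompose_of_mem_same (fun i => ⋀[A]^i M) ω.2

theorem Φ_injective : Function.Injective (Φ A B M p) := by
  rw [injective_iff_map_eq_zero]
  intro z hz
  have h1 : G A B M (LinearMap.baseChange B (⋀[A]^p M).subtype z) = 0 := by
    rw [← Φ_val, hz]; rfl
  have h2 : LinearMap.baseChange B (⋀[A]^p M).subtype z = 0 := by
    rw [← F_G A B M (LinearMap.baseChange B (⋀[A]^p M).subtype z), h1, map_zero]
  have h3 : LinearMap.baseChange B (retr A M p) (LinearMap.baseChange B (⋀[A]^p M).subtype z) =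
      z := by
    rw [← LinearMap.comp_apply, ← LinearMap.baseChange_comp]
    have : (retr A M p).comp (⋀[A]^p M).subtype = LinearMap.id :=
      LinearMap.ext fun ω => retr_subtype A M p ω
    rw [this, LinearMap.baseChange_id]
    rfl
  rw [← h3, h2, map_zero]

theorem Φ_surjective : Function.Surjective (Φ A B M p) := by
  rw [← LinearMap.range_eq_top, eq_top_iff]
  have hs : Submodule.span B (Set.range (TensorProduct.mk A B M 1)) = ⊤ := by
    rw [eq_top_iff]
    rintro z -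
    induction z with
    | zero => exact Submodule.zero_mem _
    | add x y hx hy => exact Submodule.add_mem _ hx hy
    | tmul b m =>
      have : b ⊗ₜ[A] m = b • ((1 : B) ⊗ₜ[A] m) := by
        rw [TensorProduct.smul_tmul', smul_eq_mul, mul_one]
      rw [this]
      exact Submodule.smul_mem _ _ (Submodule.subset_span ⟨m, rfl⟩)
  rw [← ιMulti_span_of_span B p (B ⊗[A] M) hs, Submodule.span_le]
  rintro _ ⟨v, hv, rfl⟩
  have : ∀ i, ∃ m : M, (1 : B) ⊗ₜ[A] m = v i := fun i => hv ⟨i, rfl⟩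
  choose m hm using this
  refine ⟨(1 : B) ⊗ₜ ιMulti A p m, ?_⟩
  rw [Φ_tmul, one_smul, T_ιMulti]
  congr 1
  funext i
  exact hm i

theorem Φ_bijective : Function.Bijective (Φ A B M p) :=
  ⟨Φ_injective A B M p, Φ_surjective A B M p⟩

end Groth.Agent.Lib.helper22.ExtPowBC
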