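import Mathlib

/-!
# Extending an automorphism of the base of a Galois extension (helper22)

`K ⊆ L` Galois, `φ : K ≃+* K`, `Ω ⊇ L` normal over `L` (e.g. an algebraic closure).

* `exists_ringHom_extends`: extension of embeddings.
* `exists_algEquiv_comp`: two extensions of the same embedding of `K` to the normal extension `L`
  differ by an automorphism of `L / K`.
* `Mfield Φ := L(Φ(L))`, `isGalois_Mfield`, `tauHom : Gal(M/L) →* Gal(L/K)` (injective),
  `finiteDimensional_Mfield`, `range_subset_of_card_eq_one`.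
-/

set_option autoImplicit false

namespace Groth.Agent.Lib.helper22.FieldTwist
universe u v w

/-- extension of embeddings into an algebraically closed field -/
theorem exists_ringHom_extends {K L Ω : Type*} [Field K] [Field L] [Field Ω] [Algebra K L]
    [Algebra.IsAlgebraic K L] [IsAlgClosed Ω] (j : K →+* Ω) :
    ∃ Φ : L →+* Ω, ∀ x, Φ (algebraMap K L x) = j x := by
  letI : Algebra K Ω := j.toAlgebra
  let F : L →ₐ[K] Ω := IsAlgClosed.lift
  exact ⟨F.toRingHom, fun x => F.commutes x⟩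

/-- two ring homomorphisms out of a normal extension agreeing on the base differ by an
automorphism -/
theorem exists_algEquiv_comp {K L Ω : Type*} [Field K] [Field L] [Field Ω] [Algebra K L]
    [Normal K L] (f g : L →+* Ω) (h : ∀ x : K, f (algebraMap K L x) = g (algebraMap K L x)) :
    ∃ τ : L ≃ₐ[K] L, ∀ l, g l = f (τ l) := by
  letI : Algebra L Ω := f.toAlgebra
  letI : Algebra K Ω := (f.comp (algebraMap K L)).toAlgebra
  haveI : IsScalarTower K L Ω := IsScalarTower.of_algebraMap_eq (fun _ => rfl)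
  let g' : L →ₐ[K] Ω := { g with commutes' := fun x => (h x).symm }
  refine ⟨g'.restrictNormal' L, fun l => ?_⟩
  have := AlgHom.restrictNormal_commutes g' L l
  exact this.symm

section
variable {K : Type u} {L : Type v} {Ω : Type w} [Field K] [Field L] [Field Ω] [Algebra K L]
  [IsGalois K L] [Algebra L Ω] (φK : K ≃+* K) (Φ : L →+* Ω)
  (hΦ : ∀ x : K, Φ (algebraMap K L x) = algebraMap L Ω (algebraMap K L (φK x)))

/-- the compositum `L · Φ(L)` -/
def Mfield : IntermediateField L Ω := IntermediateField.adjoin L (Set.range Φ)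

theorem Φ_mem (l : L) : Φ l ∈ Mfield Φ := IntermediateField.subset_adjoin _ _ ⟨l, rfl⟩

/-- `Φ` with values in `M` -/
def ΦM : L →+* Mfield Φ := Φ.codRestrict (Mfield Φ).toSubfield.toSubring (Φ_mem Φ)

theorem ΦM_val (l : L) : ((ΦM Φ l : Mfield Φ) : Ω) = Φ l := rfl

omit [Algebra L Ω] in
/-- a ring endomorphism of a field containing `M` fixing `L` permutes `Φ(L)` through `Gal(L/K)` -/
theorem exists_tau {Ω' : Type*} [Field Ω'] (Ψ : L →+* Ω') (ι : L →+* Ω')
    (hΨ : ∀ x : K, Ψ (algebraMap K L x) = ι (algebraMap K L (φK x)))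
    (σ : Ω' →+* Ω') (hσ : ∀ l, σ (ι l) = ι l) :
    ∃ τ : L ≃ₐ[K] L, ∀ l, σ (Ψ l) = Ψ (τ l) := by
  apply exists_algEquiv_comp Ψ (σ.comp Ψ)
  intro x
  rw [RingHom.comp_apply, hΨ, hσ]

include hΦ in
theorem isSeparable_Φ (l : L) : IsSeparable L (Φ l) := by
  set q : Polynomial L := ((minpoly K l).map φK.toRingHom).map (algebraMap K L) with hq
  have h0 : (minpoly K l).Separable := Algebra.IsSeparable.isSeparable K l
  have hsep : q.Separable := (h0.map).map
  have hroot : Polynomial.aeval (Φ l) q = 0 := by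
    rw [Polynomial.aeval_def, hq, Polynomial.eval₂_map, Polynomial.eval₂_map]
    have h1 : ((algebraMap L Ω).comp (algebraMap K L)).comp φK.toRingHom =
        Φ.comp (algebraMap K L) := by
      ext x
      exact (hΦ x).symm
    rw [h1, ← Polynomial.hom_eval₂, ← Polynomial.aeval_def, minpoly.aeval, map_zero]
  exact hsep.of_dvd (minpoly.dvd L _ hroot)

include hΦ in
theorem isSeparable_Mfield : Algebra.IsSeparable L (Mfield Φ) := by
  rw [Mfield, IntermediateField.isSeparable_adjoin_iff_isSeparable]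
  rintro _ ⟨l, rfl⟩
  exact isSeparable_Φ φK Φ hΦ l

include hΦ in
theorem normal_Mfield [Normal L Ω] : Normal L (Mfield Φ) := by
  rw [IntermediateField.normal_iff_forall_map_le']
  intro σ
  rw [Mfield, IntermediateField.adjoin_map, IntermediateField.adjoin_le_iff]
  rintro _ ⟨_, ⟨l, rfl⟩, rfl⟩
  obtain ⟨τ, hτ⟩ := exists_tau φK Φ (algebraMap L Ω) hΦ (σ : Ω →+* Ω)
    (fun l => σ.commutes l)
  have : (σ : Ω →ₐ[L] Ω) (Φ l) = Φ (τ l) := hτ l
  rw [this]
  exact Φ_mem Φ _

include hΦ in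
theorem isGalois_Mfield [Normal L Ω] : IsGalois L (Mfield Φ) :=
  { to_isSeparable := isSeparable_Mfield φK Φ hΦ
    to_normal := normal_Mfield φK Φ hΦ }

include hΦ in
theorem exists_tau_M (σ : Mfield Φ ≃ₐ[L] Mfield Φ) :
    ∃ τ : L ≃ₐ[K] L, ∀ l, σ (ΦM Φ l) = ΦM Φ (τ l) := by
  apply exists_tau φK (ΦM Φ) (algebraMap L (Mfield Φ)) (fun x => Subtype.ext (hΦ x))
    (σ : Mfield Φ →+* Mfield Φ) (fun l => σ.commutes l)

/-- the automorphism of `L / K` induced by an automorphism of `M / L` -/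
noncomputable def tauFun (σ : Mfield Φ ≃ₐ[L] Mfield Φ) : L ≃ₐ[K] L :=
  Classical.choose (exists_tau_M φK Φ hΦ σ)

theorem tauFun_spec (σ : Mfield Φ ≃ₐ[L] Mfield Φ) (l : L) :
    σ (ΦM Φ l) = ΦM Φ (tauFun φK Φ hΦ σ l) :=
  Classical.choose_spec (exists_tau_M φK Φ hΦ σ) l

theorem tauFun_unique (σ : Mfield Φ ≃ₐ[L] Mfield Φ) (τ : L ≃ₐ[K] L)
    (h : ∀ l, σ (ΦM Φ l) = ΦM Φ (τ l)) : tauFun φK Φ hΦ σ = τ := by
  ext l
  apply (ΦM Φ).injective
  rw [← tauFun_spec, h]

/-- `Gal(M/L) → Gal(L/K)` -/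
noncomputable def tauHom : (Mfield Φ ≃ₐ[L] Mfield Φ) →* (L ≃ₐ[K] L) :=
  MonoidHom.mk' (tauFun φK Φ hΦ) (fun σ σ' => by
    apply tauFun_unique
    intro l
    rw [AlgEquiv.mul_apply, tauFun_spec φK Φ hΦ σ', tauFun_spec φK Φ hΦ σ, AlgEquiv.mul_apply])

theorem tauHom_spec (σ : Mfield Φ ≃ₐ[L] Mfield Φ) (l : L) :
    σ (ΦM Φ l) = ΦM Φ (tauHom φK Φ hΦ σ l) := tauFun_spec φK Φ hΦ σ l

theorem eq_one_of_tauHom_eq_one (σ : Mfield Φ ≃ₐ[L] Mfield Φ) (h : tauHom φK Φ hΦ σ = 1) :
    σ = 1 := by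
  have h1 : (σ : Mfield Φ →ₐ[L] Mfield Φ) = AlgHom.id L (Mfield Φ) := by
    apply IntermediateField.algHom_ext_of_eq_adjoin L (s := Set.range Φ) rfl
    rintro _ ⟨l, rfl⟩
    have := tauHom_spec φK Φ hΦ σ l
    rw [h] at this
    exact this
  ext x
  exact congrArg (fun f : Mfield Φ →ₐ[L] Mfield Φ => (f x : Ω)) h1

theorem tauHom_injective : Function.Injective (tauHom φK Φ hΦ) := by
  rw [injective_iff_map_eq_one]
  exact eq_one_of_tauHom_eq_one φK Φ hΦ

include hΦ in
theorem finite_gal_Mfield [FiniteDimensional K L] : Finite (Mfield Φ ≃ₐ[L] Mfield Φ) :=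
  Finite.of_injective _ (tauHom_injective φK Φ hΦ)

include hΦ in
theorem finiteDimensional_Mfield [FiniteDimensional K L] [Normal L Ω] :
    FiniteDimensional L (Mfield Φ) := by
  haveI := isGalois_Mfield φK Φ hΦ
  haveI := finite_gal_Mfield φK Φ hΦ
  exact IsGalois.finiteDimensional_of_finite L (Mfield Φ)

include hΦ in
theorem card_gal_dvd [FiniteDimensional K L] :
    Nat.card (Mfield Φ ≃ₐ[L] Mfield Φ) ∣ Module.finrank K L := by
  rw [← IsGalois.card_aut_eq_finrank K L]
  exact Subgroup.card_dvd_of_injective _ (tauHom_injective φK Φ hΦ)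

include hΦ in
theorem range_subset_of_card_eq_one [FiniteDimensional K L] [Normal L Ω]
    (h1 : Nat.card (Mfield Φ ≃ₐ[L] Mfield Φ) = 1) (l : L) :
    Φ l ∈ Set.range (algebraMap L Ω) := by
  haveI := isGalois_Mfield φK Φ hΦ
  haveI := finiteDimensional_Mfield φK Φ hΦ
  rw [IsGalois.card_aut_eq_finrank, IntermediateField.finrank_eq_one_iff] at h1
  have := Φ_mem Φ l
  rw [h1, IntermediateField.mem_bot] at this
  exact this

omit [IsGalois K L] in
/-- an endomorphism of a prime degree extension inducing an automorphism of the base is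
surjective -/
theorem surjective_of_extends (hp : (Module.finrank K L).Prime) (ψL : L →+* L)
    (hψ : ∀ x : K, ψL (algebraMap K L x) = algebraMap K L (φK x)) : Function.Surjective ψL := by
  let L₁ : IntermediateField K L := Subfield.toIntermediateField ψL.fieldRange
    (fun x => ⟨algebraMap K L (φK.symm x), by rw [hψ, RingEquiv.apply_symm_apply]⟩)
  have hmem : ∀ y : L, y ∈ L₁ ↔ ∃ l, ψL l = y := fun y => Iff.rfl
  haveI := IntermediateField.isSimpleOrder_of_finrank_prime K L hp
  rcases eq_bot_or_eq_top L₁ with h | h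
  · exfalso
    have h1 : (⊥ : IntermediateField K L) = ⊤ := by
      rw [eq_top_iff]
      intro l _
      have h2 : ψL l ∈ L₁ := (hmem _).mpr ⟨l, rfl⟩
      rw [h, IntermediateField.mem_bot] at h2
      obtain ⟨x, hx⟩ := h2
      rw [IntermediateField.mem_bot]
      refine ⟨φK.symm x, ψL.injective ?_⟩
      rw [hψ, RingEquiv.apply_symm_apply, hx]
    rw [IntermediateField.bot_eq_top_iff_finrank_eq_one] at h1
    rw [h1] at hp
    exact Nat.not_prime_one hp
  · intro y
    have : y ∈ L₁ := by rw [h]; trivial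
    exact (hmem y).mp this

end

end Groth.Agent.Lib.helper22.FieldTwist
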