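import Mathlib
import Groth.Agent.Lib.Helper22.FinEtAC

/-!
# Finite étale groups over an algebraically closed field: the group of points (helper22)
-/

set_option autoImplicit false
universe u v
open scoped TensorProduct
open WithConv

namespace Groth.Agent.Lib.helper22.FinEtGrp

variable (k : Type u) [Field k] (E : Type v) [CommRing E] [HopfAlgebra k E]

/-- evaluation of points at a group-like element is multiplicative -/
noncomputable def evGL (g : E) (hg : IsGroupLikeElem k g) : WithConv (E →ₐ[k] k) →* k where
  toFun χ := χ.ofConv g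
  map_one' := by
    change (1 : WithConv (E →ₐ[k] k)) g = 1
    rw [AlgHom.convOne_apply, hg.counit_eq_one, map_one]
  map_mul' χ ψ := by
    change (χ * ψ) g = _
    rw [AlgHom.convMul_apply, hg.comul_eq_tmul_self]
    simp

theorem evGL_apply (g : E) (hg : IsGroupLikeElem k g) (χ : WithConv (E →ₐ[k] k)) :
    evGL k E g hg χ = χ.ofConv g := rfl

variable [IsAlgClosed k] [FiniteDimensional k E] [IsReduced E]

/-- a finite étale group of `p`-power order in characteristic `p` has no nontrivial characters -/
theorem groupLike_eq_one (p : ℕ) [Fact p.Prime] [CharP k p] (n : ℕ)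
    (hE : Module.finrank k E = p ^ n) (g : E) (hg : IsGroupLikeElem k g) : g = 1 := by
  apply FinEtAC.eq_of_forall_point k E
  intro χ
  rw [map_one]
  have h1 : (toConv χ) ^ (p ^ n) = 1 := by
    have hc : Nat.card (WithConv (E →ₐ[k] k)) = p ^ n := by
      rw [← hE, ← FinEtAC.card_points k E]
      exact Nat.card_congr (WithConv.equiv _)
    rw [← hc]
    exact pow_card_eq_one'
  have h2 : (χ g) ^ (p ^ n) = 1 := by
    have := congrArg (evGL k E g hg) h1
    rw [map_pow, map_one] at this
    exact this
  have h3 : (χ g - 1) ^ (p ^ n) = 0 := by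
    rw [sub_pow_char_pow, h2, one_pow, sub_self]
  have h4 := pow_eq_zero_iff (pow_ne_zero n (Fact.out : p.Prime).ne_zero) |>.1 h3
  exact sub_eq_zero.1 h4

end Groth.Agent.Lib.helper22.FinEtGrp
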