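import Mathlib
import Groth.Agent.Lib.Helper22.FinEtAC

/-!
# Subgroups of the group of points of a finite étale group over an algebraically closed field
give Hopf ideals (helper22)
-/

set_option autoImplicit false
universe u v
open scoped TensorProduct
open WithConv

namespace Groth.Agent.Lib.helper22.FinEtSub

variable (k : Type u) [Field k] (A : Type v) [CommRing A] [HopfAlgebra k A]

/-- the ideal of functions vanishing on a set of points -/
def vanishing (H : Set (WithConv (A →ₐ[k] k))) : Ideal A where
  carrier := {a | ∀ h ∈ H, h.ofConv a = 0}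
  add_mem' := by
    intro a b ha hb h hh
    rw [map_add, ha h hh, hb h hh, add_zero]
  zero_mem' := by
    intro h _
    rw [map_zero]
  smul_mem' := by
    intro c a ha h hh
    rw [smul_eq_mul, map_mul, ha h hh, mul_zero]

theorem mem_vanishing {H : Set (WithConv (A →ₐ[k] k))} {a : A} :
    a ∈ vanishing k A H ↔ ∀ h ∈ H, h.ofConv a = 0 := Iff.rfl

variable [IsAlgClosed k] [FiniteDimensional k A] [IsReduced A]

section basis

variable [Fintype (A →ₐ[k] k)] [DecidableEq (A →ₐ[k] k)]

theorem point_basis (χ ψ : A →ₐ[k] k) :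
    ψ (FinEtAC.basis k A χ) = if χ = ψ then 1 else 0 := by
  rw [← FinEtAC.basis_repr, Module.Basis.repr_self, Finsupp.single_apply]

theorem basis_mem_vanishing {H : Set (WithConv (A →ₐ[k] k))} {χ : A →ₐ[k] k}
    (hχ : toConv χ ∉ H) : FinEtAC.basis k A χ ∈ vanishing k A H := by
  intro h hh
  rw [point_basis, if_neg]
  rintro rfl
  exact hχ hh

theorem tensor_repr (t : A ⊗[k] A) (χ ψ : A →ₐ[k] k) :
    ((FinEtAC.basis k A).tensorProduct (FinEtAC.basis k A)).repr t (χ, ψ) =
      Algebra.TensorProduct.lift χ ψ (fun _ _ => Commute.all _ _) t := by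
  induction t using TensorProduct.induction_on with
  | zero => simp
  | tmul x y =>
    rw [Module.Basis.tensorProduct_repr_tmul_apply, FinEtAC.basis_repr, FinEtAC.basis_repr,
      Algebra.TensorProduct.lift_tmul, smul_eq_mul, mul_comm]
  | add t t' ht ht' => rw [map_add, map_add, Finsupp.add_apply, ht, ht']

end basis

/-- the vanishing ideal of a subgroup of points is a Hopf ideal -/
theorem isHopfIdeal_vanishing (H : Subgroup (WithConv (A →ₐ[k] k))) :
    (vanishing k A (H : Set (WithConv (A →ₐ[k] k)))).IsHopfIdeal k := by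
  classical
  have : Fintype (A →ₐ[k] k) := Fintype.ofFinite _
  set I := vanishing k A (H : Set (WithConv (A →ₐ[k] k))) with hI
  refine @Ideal.IsHopfIdeal.mk _ _ _ _ _ I ?_ ?_
  · rw [Submodule.isCoideal_iff_comul_mem]
    refine ⟨?_, ?_⟩
    · intro a ha
      have := ha 1 H.one_mem
      rw [AlgHom.convOne_def] at this
      simpa using this
    · intro a ha
      let b := FinEtAC.basis k A
      rw [← (b.tensorProduct b).sum_repr (Coalgebra.comul a)]
      refine Submodule.sum_mem _ (fun p _ => ?_)
      obtain ⟨χ, ψ⟩ := p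
      rw [tensor_repr, Module.Basis.tensorProduct_apply]
      have e1 := AlgHom.convMul_apply (toConv χ) (toConv ψ) a
      change _ = Algebra.TensorProduct.lift χ ψ (fun _ _ => Commute.all _ _) _ at e1
      rw [← e1]
      by_cases hχ : toConv χ ∈ H
      · by_cases hψ : toConv ψ ∈ H
        · have : (toConv χ * toConv ψ) a = 0 := ha _ (H.mul_mem hχ hψ)
          rw [this, zero_smul]
          exact Submodule.zero_mem _
        · refine Submodule.smul_mem _ _ (Submodule.mem_sup_left ?_)
          refine ⟨b χ ⊗ₜ[k] ⟨b ψ, basis_mem_vanishing k A hψ⟩, ?_⟩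
          simp
      · refine Submodule.smul_mem _ _ (Submodule.mem_sup_right ?_)
        refine ⟨(⟨b χ, basis_mem_vanishing k A hχ⟩ : (I.restrictScalars k)) ⊗ₜ[k] b ψ, ?_⟩
        simp
  · intro a ha h hh
    have := ha h⁻¹ (H.inv_mem hh)
    exact this

theorem eq_top_of_vanishing_eq_bot (H : Subgroup (WithConv (A →ₐ[k] k)))
    (h : vanishing k A (H : Set (WithConv (A →ₐ[k] k))) = ⊥) : H = ⊤ := by
  classical
  have : Fintype (A →ₐ[k] k) := Fintype.ofFinite _
  rw [Subgroup.eq_top_iff']
  intro χ
  by_contra hχ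
  have h1 : FinEtAC.basis k A χ.ofConv ∈ vanishing k A (H : Set (WithConv (A →ₐ[k] k))) :=
    basis_mem_vanishing k A hχ
  rw [h] at h1
  exact (FinEtAC.basis k A).ne_zero χ.ofConv h1

omit [IsAlgClosed k] [FiniteDimensional k A] [IsReduced A] in
theorem eq_bot_of_vanishing_eq_ker (H : Subgroup (WithConv (A →ₐ[k] k)))
    (h : vanishing k A (H : Set (WithConv (A →ₐ[k] k))) =
      RingHom.ker (Bialgebra.counitAlgHom k A)) : H = ⊥ := by
  rw [Subgroup.eq_bot_iff_forall]
  intro χ hχ
  apply WithConv.ofConv_injective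
  ext a
  have h1 : a - algebraMap k A (Coalgebra.counit a) ∈ RingHom.ker (Bialgebra.counitAlgHom k A) := by
    rw [RingHom.mem_ker, map_sub]
    simp
  rw [← h] at h1
  have h2 := h1 χ hχ
  rw [map_sub, AlgHom.commutes, sub_eq_zero] at h2
  rw [h2]
  simp [AlgHom.convOne_def]

end Groth.Agent.Lib.helper22.FinEtSub
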