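import Groth.Prelude.Def_GLin
import Groth.Agent.Lib.Helper22.PolyCoact

/-!
Invariants of a finite group scheme: if a finite commutative Hopf algebra `A` over a field `k`
coacts on a commutative `k`-algebra `R` (by algebra maps), then `R` is integral over `R^G`.
-/

set_option autoImplicit false
universe u v w w'
open scoped TensorProduct

namespace Groth.Agent.Lib.helper22

section Cpoly

variable {k : Type u} [Field k] {A : Type v} [CommRing A] [Algebra k A] [Module.Finite k A]

variable (A) in
/-- the characteristic polynomial of multiplication by `z` on the free `R`-module `R ⊗ A` -/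
noncomputable def cpoly (R : Type w) [CommRing R] [Algebra k R] (z : R ⊗[k] A) : Polynomial R :=
  (Algebra.lmul R (R ⊗[k] A) z).charpoly

theorem cpoly_eq_matrix (R : Type w) [CommRing R] [Algebra k R] {ι : Type*} [Fintype ι]
    [DecidableEq ι] (b : Module.Basis ι k A) (z : R ⊗[k] A) :
    cpoly A R z = (Algebra.leftMulMatrix (Algebra.TensorProduct.basis R b) z).charpoly := by
  rw [Algebra.leftMulMatrix_apply, LinearMap.charpoly_toMatrix]
  rfl

omit [Module.Finite k A] in
theorem basis_repr_map {R : Type w} [CommRing R] [Algebra k R] {R' : Type w'} [CommRing R']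
    [Algebra k R'] (φ : R →ₐ[k] R') {ι : Type*} (b : Module.Basis ι k A) (z : R ⊗[k] A) (i : ι) :
    (Algebra.TensorProduct.basis R' b).repr (Algebra.TensorProduct.map φ (AlgHom.id k A) z) i =
      φ ((Algebra.TensorProduct.basis R b).repr z i) := by
  induction z using TensorProduct.induction_on with
  | zero => simp
  | tmul r a =>
    rw [Algebra.TensorProduct.map_tmul, Algebra.TensorProduct.basis_repr_tmul,
      Algebra.TensorProduct.basis_repr_tmul]
    simp
  | add x y hx hy => simp only [map_add, Finsupp.add_apply, hx, hy]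

theorem cpoly_map {R : Type w} [CommRing R] [Algebra k R] {R' : Type w'} [CommRing R']
    [Algebra k R'] (φ : R →ₐ[k] R') (z : R ⊗[k] A) :
    cpoly A R' (Algebra.TensorProduct.map φ (AlgHom.id k A) z) = (cpoly A R z).map (φ : R →+* R') := by
  classical
  let b := Module.finBasis k A
  rw [cpoly_eq_matrix R' b, cpoly_eq_matrix R b, ← Matrix.charpoly_map]
  congr 1
  ext i j
  rw [Matrix.map_apply, Algebra.leftMulMatrix_eq_repr_mul, Algebra.leftMulMatrix_eq_repr_mul]
  have h1 : Algebra.TensorProduct.map φ (AlgHom.id k A) z * (Algebra.TensorProduct.basis R' b) j =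
      Algebra.TensorProduct.map φ (AlgHom.id k A) (z * (Algebra.TensorProduct.basis R b) j) := by
    rw [map_mul, Algebra.TensorProduct.basis_apply, Algebra.TensorProduct.basis_apply,
      Algebra.TensorProduct.map_tmul, map_one, AlgHom.id_apply]
  rw [h1, basis_repr_map]
  rfl

/-- the characteristic polynomial is invariant under algebra automorphisms -/
theorem cpoly_algEquiv {R : Type w} [CommRing R] [Algebra k R]
    (e : R ⊗[k] A ≃ₐ[R] R ⊗[k] A) (z : R ⊗[k] A) : cpoly A R (e z) = cpoly A R z := by
  have h1 : Algebra.lmul R (R ⊗[k] A) (e z) = e.toLinearEquiv.conj (Algebra.lmul R (R ⊗[k] A) z) := by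
    apply LinearMap.ext
    intro y
    rw [LinearEquiv.conj_apply]
    simp
  unfold cpoly
  rw [h1, LinearEquiv.charpoly_conj]

/-- Cayley–Hamilton -/
theorem aeval_cpoly (R : Type w) [CommRing R] [Algebra k R] (z : R ⊗[k] A) :
    Polynomial.aeval z (cpoly A R z) = 0 := by
  have h1 := LinearMap.aeval_self_charpoly (Algebra.lmul R (R ⊗[k] A) z)
  rw [Polynomial.aeval_algHom_apply] at h1
  have h2 := LinearMap.congr_fun h1 1
  simp only [LinearMap.zero_apply] at h2
  unfold cpoly
  simpa using h2

theorem cpoly_monic (R : Type w) [CommRing R] [Algebra k R] (z : R ⊗[k] A) :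
    (cpoly A R z).Monic := LinearMap.charpoly_monic _

end Cpoly

section Gal

variable {k : Type u} [Field k] {A : Type v} [CommRing A] [HopfAlgebra k A]
variable {R' : Type w} [CommRing R'] [Algebra k R']

/-- the Galois map `x ⊗ a ↦ (x ⊗ 1) (j ⊗ id)(Δ a)`, linear over the left factor -/
noncomputable def galJ (j : A →ₐ[k] R') : R' ⊗[k] A →ₐ[R'] R' ⊗[k] A :=
  Algebra.TensorProduct.lift (Algebra.TensorProduct.includeLeft : R' →ₐ[R'] R' ⊗[k] A)
    ((Algebra.TensorProduct.map j (AlgHom.id k A)).comp (Bialgebra.comulAlgHom k A))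
    (fun _ _ => Commute.all _ _)

theorem galJ_tmul (j : A →ₐ[k] R') (x : R') (a : A) :
    galJ j (x ⊗ₜ[k] a) = (x ⊗ₜ[k] (1 : A)) *
      Algebra.TensorProduct.map j (AlgHom.id k A) (CoalgebraStruct.comul (R := k) a) := rfl

variable (k A) in
/-- `u ⊗ w ↦ Σ S(u) w₁ ⊗ w₂` -/
noncomputable def galG : A ⊗[k] A →ₗ[k] A ⊗[k] A :=
  (LinearMap.mul' k A).rTensor A ∘ₗ (TensorProduct.assoc k A A A).symm.toLinearMap ∘ₗ
    TensorProduct.map (HopfAlgebra.antipode k (A := A)) (CoalgebraStruct.comul (R := k) (A := A))

theorem galG_comul (a : A) :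
    galG k A (CoalgebraStruct.comul (R := k) a) = (1 : A) ⊗ₜ[k] a := by
  have h1 : TensorProduct.map (HopfAlgebra.antipode k (A := A))
      (CoalgebraStruct.comul (R := k) (A := A)) =
      (HopfAlgebra.antipode k (A := A)).rTensor (A ⊗[k] A) ∘ₗ
        (CoalgebraStruct.comul (R := k) (A := A)).lTensor A := by
    rw [LinearMap.rTensor, LinearMap.lTensor, ← TensorProduct.map_comp, LinearMap.comp_id,
      LinearMap.id_comp]
  unfold galG
  rw [h1]
  simp only [LinearMap.comp_apply, LinearEquiv.coe_coe]
  rw [← Coalgebra.coassoc_apply, ← assoc_rTensor_rTensor, LinearEquiv.symm_apply_apply,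
    ← LinearMap.rTensor_comp_apply, ← LinearMap.rTensor_comp_apply,
    LinearMap.comp_assoc, HopfAlgebra.mul_antipode_rTensor_comul, LinearMap.rTensor_comp_apply,
    Coalgebra.rTensor_counit_comul, LinearMap.rTensor_tmul, Algebra.linearMap_apply, map_one]

theorem galJ_aux (j : A →ₐ[k] R') (t : A ⊗[k] A) :
    galJ j (TensorProduct.map (j.toLinearMap ∘ₗ HopfAlgebra.antipode k (A := A)) LinearMap.id t) =
      Algebra.TensorProduct.map j (AlgHom.id k A) (galG k A t) := by
  induction t using TensorProduct.induction_on with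
  | zero => simp
  | tmul u w =>
    rw [TensorProduct.map_tmul, LinearMap.id_apply, galJ_tmul]
    unfold galG
    simp only [LinearMap.comp_apply, TensorProduct.map_tmul, LinearEquiv.coe_coe,
      AlgHom.toLinearMap_apply]
    generalize CoalgebraStruct.comul (R := k) w = r
    induction r using TensorProduct.induction_on with
    | zero => simp
    | tmul c d =>
      simp [Algebra.TensorProduct.tmul_mul_tmul]
    | add r₁ r₂ h₁ h₂ =>
      simp only [map_add, mul_add, TensorProduct.tmul_add, h₁, h₂]
  | add t₁ t₂ h₁ h₂ => simp only [map_add, h₁, h₂]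

theorem galJ_surjective (j : A →ₐ[k] R') : Function.Surjective (galJ j) := by
  intro z
  induction z using TensorProduct.induction_on with
  | zero => exact ⟨0, map_zero _⟩
  | tmul x a =>
    refine ⟨(x ⊗ₜ[k] (1 : A)) *
      TensorProduct.map (j.toLinearMap ∘ₗ HopfAlgebra.antipode k (A := A)) LinearMap.id
        (CoalgebraStruct.comul (R := k) a), ?_⟩
    rw [map_mul, galJ_aux, galG_comul, galJ_tmul, Bialgebra.comul_one, map_one, mul_one,
      Algebra.TensorProduct.map_tmul, map_one, AlgHom.id_apply,
      Algebra.TensorProduct.tmul_mul_tmul, mul_one, one_mul]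
  | add z₁ z₂ h₁ h₂ =>
    obtain ⟨w₁, hw₁⟩ := h₁
    obtain ⟨w₂, hw₂⟩ := h₂
    exact ⟨w₁ + w₂, by rw [map_add, hw₁, hw₂]⟩

theorem galJ_bijective [Module.Finite k A] (j : A →ₐ[k] R') : Function.Bijective (galJ j) :=
  ⟨OrzechProperty.injective_of_surjective_endomorphism (galJ j).toLinearMap (galJ_surjective j),
    galJ_surjective j⟩

end Gal

section Main

variable {k : Type u} [Field k] {A : Type v} [CommRing A] [HopfAlgebra k A]
variable {R : Type w} [CommRing R] [Algebra k R] [HopfRep.Comod k A R] [GLin.IsCoactAlg k A R]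

omit [HopfRep.Comod k A R] [GLin.IsCoactAlg k A R] in
theorem galJ_includeLeft (z : R ⊗[k] A) :
    galJ (Algebra.TensorProduct.includeRight : A →ₐ[k] R ⊗[k] A)
      (Algebra.TensorProduct.map (Algebra.TensorProduct.includeLeft : R →ₐ[k] R ⊗[k] A)
        (AlgHom.id k A) z) =
    (TensorProduct.assoc k R A A).symm ((CoalgebraStruct.comul (R := k) (A := A)).lTensor R z) := by
  induction z using TensorProduct.induction_on with
  | zero => simp
  | tmul r a =>
    rw [Algebra.TensorProduct.map_tmul, AlgHom.id_apply, galJ_tmul, LinearMap.lTensor_tmul]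
    generalize CoalgebraStruct.comul (R := k) a = t
    induction t using TensorProduct.induction_on with
    | zero => simp
    | tmul c d => simp [Algebra.TensorProduct.tmul_mul_tmul]
    | add t₁ t₂ h₁ h₂ => simp only [map_add, mul_add, TensorProduct.tmul_add, h₁, h₂]
  | add x y hx hy => simp only [map_add, hx, hy]

theorem galJ_coact (r : R) :
    galJ (Algebra.TensorProduct.includeRight : A →ₐ[k] R ⊗[k] A)
      (Algebra.TensorProduct.map (Algebra.TensorProduct.includeLeft : R →ₐ[k] R ⊗[k] A)
        (AlgHom.id k A) (HopfRep.Comod.coact (k := k) (A := A) r)) =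
    Algebra.TensorProduct.map (GLin.coactAlgHom k A R) (AlgHom.id k A)
      (HopfRep.Comod.coact (k := k) (A := A) r) := by
  rw [galJ_includeLeft, algMap_rTensor_apply, LinearEquiv.symm_apply_eq]
  have h := LinearMap.congr_fun (HopfRep.Comod.coassoc (k := k) (A := A) (V := R)) r
  simp only [LinearMap.comp_apply, LinearEquiv.coe_coe] at h
  exact h.symm

variable [Module.Finite k A]

theorem cpoly_coact_map_eq (r : R) :
    (cpoly A R (HopfRep.Comod.coact (k := k) (A := A) r)).map
      ((GLin.coactAlgHom k A R : R →ₐ[k] R ⊗[k] A) : R →+* R ⊗[k] A) =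
    (cpoly A R (HopfRep.Comod.coact (k := k) (A := A) r)).map
      ((Algebra.TensorProduct.includeLeft : R →ₐ[k] R ⊗[k] A) : R →+* R ⊗[k] A) := by
  rw [← cpoly_map, ← cpoly_map, ← galJ_coact]
  exact cpoly_algEquiv (AlgEquiv.ofBijective (galJ _) (galJ_bijective _)) _

theorem coeff_cpoly_mem_invariants (r : R) (n : ℕ) :
    (cpoly A R (HopfRep.Comod.coact (k := k) (A := A) r)).coeff n ∈ GLin.invariants k A R := by
  have h := congrArg (fun p => Polynomial.coeff p n) (cpoly_coact_map_eq (k := k) (A := A) r)
  simp only [Polynomial.coeff_map] at h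
  exact h

/-- `id ⊗ ε` as an `R`-algebra map -/
noncomputable def counitR : R ⊗[k] A →ₐ[R] R :=
  Algebra.TensorProduct.lift (AlgHom.id R R) ((Algebra.ofId k R).comp (Bialgebra.counitAlgHom k A))
    (fun _ _ => Commute.all _ _)

omit [HopfRep.Comod k A R] [GLin.IsCoactAlg k A R] [Module.Finite k A] in
theorem counitR_apply (z : R ⊗[k] A) :
    counitR (k := k) (A := A) (R := R) z =
      TensorProduct.rid k R ((CoalgebraStruct.counit (R := k) (A := A)).lTensor R z) := by
  induction z using TensorProduct.induction_on with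
  | zero => simp
  | tmul r a =>
    simp [counitR, Algebra.ofId_apply, Algebra.smul_def, mul_comm]
  | add x y hx hy => simp only [map_add, hx, hy]

omit [GLin.IsCoactAlg k A R] [Module.Finite k A] in
theorem counitR_coact (r : R) :
    counitR (k := k) (A := A) (R := R) (HopfRep.Comod.coact (k := k) (A := A) r) = r := by
  rw [counitR_apply]
  have h := LinearMap.congr_fun (HopfRep.Comod.counit_comp (k := k) (A := A) (V := R)) r
  simp only [LinearMap.comp_apply] at h
  rw [h]
  simp

omit [GLin.IsCoactAlg k A R] in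
theorem aeval_cpoly_coact (r : R) :
    Polynomial.aeval r (cpoly A R (HopfRep.Comod.coact (k := k) (A := A) r)) = 0 := by
  have h1 := aeval_cpoly (A := A) R (HopfRep.Comod.coact (k := k) (A := A) r)
  have h2 := congrArg (counitR (k := k) (A := A) (R := R)) h1
  rw [← Polynomial.aeval_algHom_apply, counitR_coact, map_zero] at h2
  exact h2

/-- `R` is integral over the invariants of a finite group scheme -/
theorem isIntegral_invariants (r : R) : IsIntegral (GLin.invariants k A R) r := by
  rcases subsingleton_or_nontrivial R with hR | hR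
  · have : r = 0 := Subsingleton.elim _ _
    rw [this]
    exact isIntegral_zero
  set χ := cpoly A R (HopfRep.Comod.coact (k := k) (A := A) r) with hχ
  have hl : χ ∈ Polynomial.lifts (algebraMap (GLin.invariants k A R) R) := by
    rw [Polynomial.lifts_iff_coeff_lifts]
    intro n
    exact ⟨⟨χ.coeff n, coeff_cpoly_mem_invariants r n⟩, rfl⟩
  obtain ⟨q, hq, -, hqm⟩ := Polynomial.lifts_and_degree_eq_and_monic hl (cpoly_monic R _)
  refine ⟨q, hqm, ?_⟩
  rw [← Polynomial.eval_map, hq, ← Polynomial.coe_aeval_eq_eval]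
  exact aeval_cpoly_coact r

end Main

end Groth.Agent.Lib.helper22
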