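import Groth.Agent.Lib.Helper22.FinInv
import Mathlib

/-!
# Quotients by finite group schemes (helper22): transitivity on fibres, going down, heights

`H` a finite-dimensional commutative Hopf algebra over a field `k` coacting on a commutative
`k`-algebra `R` (by algebra maps), `A = R^H` the invariants.
* `exists_prime_comap_eq_comap_coact_eq`: two primes of `R` over the same prime of `A` are of the form
  `ι⁻¹ P`, `ρ⁻¹ P` for a prime `P` of `R ⊗ H` (the fibres of `Spec R → Spec A` are orbits).
* `hasGoingDown_invariants`: going down holds for `A ⊆ R`.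
* `height_eq_height_under_invariants`: `ht Q = ht (Q ∩ A)`.
-/

set_option autoImplicit false
universe u v w
open scoped TensorProduct

namespace Groth.Agent.Lib.helper22

section FinQuot

variable {k : Type u} [Field k] {H : Type v} [CommRing H] [HopfAlgebra k H] [Module.Finite k H]
variable {R : Type w} [CommRing R] [Algebra k R]

/-- if the constant coefficient of the characteristic polynomial of `z ∈ R ⊗ H` lies in a prime
`Q` of `R`, then `z` lies in a prime of `R ⊗ H` over `Q`. -/
theorem exists_prime_comap_eq_of_coeff_zero_mem (Q : Ideal R) [Q.IsPrime] (z : R ⊗[k] H)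
    (hz : (cpoly H R z).coeff 0 ∈ Q) :
    ∃ P : Ideal (R ⊗[k] H), P.IsPrime ∧ P.comap (algebraMap R (R ⊗[k] H)) = Q ∧ z ∈ P := by
  classical
  let D := R ⧸ Q
  let K := FractionRing D
  let φ : R →ₐ[k] K := (IsScalarTower.toAlgHom k D K).comp (Ideal.Quotient.mkₐ k Q)
  have hφ : ∀ r : R, φ r = 0 ↔ r ∈ Q := by
    intro r
    change algebraMap D K (Ideal.Quotient.mk Q r) = 0 ↔ _
    rw [map_eq_zero_iff _ (IsFractionRing.injective D K), Ideal.Quotient.eq_zero_iff_mem]
  let Φ : R ⊗[k] H →ₐ[k] K ⊗[k] H := Algebra.TensorProduct.map φ (AlgHom.id k H)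
  have h0 : (cpoly H K (Φ z)).coeff 0 = 0 := by
    rw [cpoly_map, Polynomial.coeff_map]
    exact (hφ _).mpr hz
  -- `Φ z` is a zero divisor
  have hroot : (LinearMap.charpoly (Algebra.lmul K (K ⊗[k] H) (Φ z))).IsRoot 0 := by
    rw [Polynomial.IsRoot, ← Polynomial.coeff_zero_eq_eval_zero]
    exact h0
  rw [← Module.End.hasEigenvalue_iff_isRoot_charpoly] at hroot
  obtain ⟨v, hv⟩ := hroot.exists_hasEigenvector
  have hv0 : v ≠ 0 := hv.2
  have hzv : Φ z * v = 0 := by
    have := hv.apply_eq_smul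
    simpa using this
  have hnu : Φ z ∈ nonunits (K ⊗[k] H) := by
    intro hu
    exact hv0 (hu.mul_right_eq_zero.mp hzv)
  obtain ⟨𝔐, h𝔐, hz𝔐⟩ := exists_max_ideal_of_mem_nonunits hnu
  refine ⟨𝔐.comap Φ.toRingHom, Ideal.IsPrime.comap _, ?_, hz𝔐⟩
  ext r
  rw [Ideal.mem_comap, Ideal.mem_comap]
  have hr : Φ.toRingHom (algebraMap R (R ⊗[k] H) r) = algebraMap K (K ⊗[k] H) (φ r) := by
    rw [Algebra.TensorProduct.algebraMap_apply, Algebra.TensorProduct.algebraMap_apply]
    simp [Φ]
  rw [hr]
  constructor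
  · intro h
    by_contra hrQ
    have hne : φ r ≠ 0 := fun h0 => hrQ ((hφ r).mp h0)
    have hu : IsUnit (algebraMap K (K ⊗[k] H) (φ r)) := (IsUnit.mk0 _ hne).map _
    exact h𝔐.ne_top (Ideal.eq_top_of_isUnit_mem _ h hu)
  · intro h
    rw [(hφ r).mpr h, map_zero]
    exact zero_mem _

variable [HopfRep.Comod k H R] [GLin.IsCoactAlg k H R]

/-- the constant coefficient of the characteristic polynomial of `ρ f` is a multiple of `f` -/
theorem coeff_zero_cpoly_coact_mem_span (f : R) :
    (cpoly H R (HopfRep.Comod.coact (k := k) (A := H) f)).coeff 0 ∈ Ideal.span {f} := by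
  set p := cpoly H R (HopfRep.Comod.coact (k := k) (A := H) f) with hp
  have h1 : Polynomial.aeval f p = 0 := aeval_cpoly_coact f
  have h2 : p = p.divX * Polynomial.X + Polynomial.C (p.coeff 0) := (Polynomial.divX_mul_X_add p).symm
  rw [h2] at h1
  simp only [map_add, map_mul, Polynomial.aeval_X, Polynomial.aeval_C, Algebra.algebraMap_self,
    RingHom.id_apply] at h1
  have h3 : p.coeff 0 = -(Polynomial.aeval f p.divX * f) := by
    rw [eq_neg_iff_add_eq_zero, add_comm]
    exact h1
  rw [h3]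
  exact neg_mem (Ideal.mul_mem_left _ _ (Ideal.mem_span_singleton_self f))

instance isIntegral_invariants' : Algebra.IsIntegral (GLin.invariants k H R) R :=
  ⟨isIntegral_invariants⟩

/-- the coaction and the inclusion agree on invariants -/
theorem coact_eq_algebraMap_of_mem {a : R} (ha : a ∈ GLin.invariants k H R) :
    GLin.coactAlgHom k H R a = algebraMap R (R ⊗[k] H) a := by
  rw [Algebra.TensorProduct.algebraMap_apply]
  exact ha

/-- contraction to the invariants of `ρ⁻¹ P` and of `ι⁻¹ P` agree -/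
theorem comap_coact_comap_eq (P : Ideal (R ⊗[k] H)) :
    (P.comap (GLin.coactAlgHom k H R).toRingHom).comap (algebraMap (GLin.invariants k H R) R) =
      (P.comap (algebraMap R (R ⊗[k] H))).comap (algebraMap (GLin.invariants k H R) R) := by
  ext a
  simp only [Ideal.mem_comap]
  change GLin.coactAlgHom k H R (a : R) ∈ P ↔ _
  rw [coact_eq_algebraMap_of_mem a.2]
  rfl

/-- **Transitivity on fibres**: two primes of `R` with the same contraction to the invariants of a
finite group scheme are related by a prime of `R ⊗ H`. -/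
theorem exists_prime_comap_eq_comap_coact_eq (Q₁ Q₂ : Ideal R) [Q₁.IsPrime] [Q₂.IsPrime]
    (h : Q₁.comap (algebraMap (GLin.invariants k H R) R) =
      Q₂.comap (algebraMap (GLin.invariants k H R) R)) :
    ∃ P : Ideal (R ⊗[k] H), P.IsPrime ∧ P.comap (algebraMap R (R ⊗[k] H)) = Q₁ ∧
      P.comap (GLin.coactAlgHom k H R).toRingHom = Q₂ := by
  classical
  have hfin : (Q₁.primesOver (R ⊗[k] H)).Finite := Algebra.QuasiFinite.finite_primesOver Q₁
  -- every element of `Q₂` lies in some `ρ⁻¹ P`
  have hcover : (Q₂ : Set R) ⊆ ⋃ P ∈ (hfin.toFinset : Set (Ideal (R ⊗[k] H))),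
      (P.comap (GLin.coactAlgHom k H R).toRingHom : Set R) := by
    intro f hf
    have hc0 : (cpoly H R (HopfRep.Comod.coact (k := k) (A := H) f)).coeff 0 ∈ Q₂ :=
      (Ideal.span_singleton_le_iff_mem (I := Q₂)).mpr hf (coeff_zero_cpoly_coact_mem_span f)
    have hc1 : (cpoly H R (HopfRep.Comod.coact (k := k) (A := H) f)).coeff 0 ∈ Q₁ := by
      have hinv := coeff_cpoly_mem_invariants (k := k) (A := H) f 0
      have : (⟨_, hinv⟩ : GLin.invariants k H R) ∈
          Q₂.comap (algebraMap (GLin.invariants k H R) R) := hc0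
      rw [← h] at this
      exact this
    obtain ⟨P, hP, hPQ, hzP⟩ := exists_prime_comap_eq_of_coeff_zero_mem Q₁ _ hc1
    simp only [Set.mem_iUnion]
    refine ⟨P, ?_, hzP⟩
    rw [Finset.mem_coe, Set.Finite.mem_toFinset]
    exact ⟨hP, ⟨hPQ.symm⟩⟩
  rw [Ideal.subset_union_prime (R := R) (s := hfin.toFinset)
    (f := fun P => P.comap (GLin.coactAlgHom k H R).toRingHom) ⊥ ⊥] at hcover
  swap
  · intro P hP _ _
    rw [Set.Finite.mem_toFinset] at hP
    haveI := hP.1
    exact Ideal.IsPrime.comap _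
  obtain ⟨P, hP, hle⟩ := hcover
  rw [Set.Finite.mem_toFinset] at hP
  haveI := hP.1
  have hPQ : P.comap (algebraMap R (R ⊗[k] H)) = Q₁ := hP.2.over.symm
  refine ⟨P, hP.1, hPQ, ?_⟩
  by_contra hne
  have hlt : Q₂ < P.comap (GLin.coactAlgHom k H R).toRingHom := lt_of_le_of_ne hle (Ne.symm hne)
  have h2 := Ideal.IsIntegral.comap_lt_comap (R := GLin.invariants k H R) hlt
  rw [comap_coact_comap_eq, hPQ, h] at h2
  exact lt_irrefl _ h2

/-- **Going down** for the invariants of a finite group scheme. -/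
instance hasGoingDown_invariants : Algebra.HasGoingDown (GLin.invariants k H R) R := by
  refine ⟨fun {p'} _ Q _ hpQ => ?_⟩
  -- a prime of `R` over `p'`
  obtain ⟨P₀, -, hP₀prime, hP₀⟩ := Ideal.exists_ideal_over_prime_of_isIntegral p' (⊥ : Ideal R)
    (by
      rw [← RingHom.ker_eq_comap_bot,
        (RingHom.injective_iff_ker_eq_bot (algebraMap (GLin.invariants k H R) R)).mp
          (FaithfulSMul.algebraMap_injective (GLin.invariants k H R) R)]
      exact bot_le)
  have hq : (Q.under (GLin.invariants k H R)).IsPrime := Ideal.IsPrime.under _ Q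
  obtain ⟨Q', hQ'ge, hQ'prime, hQ'⟩ :=
    Ideal.exists_ideal_over_prime_of_isIntegral_of_isPrime (Q.under (GLin.invariants k H R)) P₀
      (by rw [hP₀]; exact hpQ.le)
  obtain ⟨𝔓, h𝔓, h𝔓1, h𝔓2⟩ := exists_prime_comap_eq_comap_coact_eq (k := k) (H := H) Q' Q hQ'
  haveI : 𝔓.LiesOver Q' := ⟨h𝔓1.symm⟩
  haveI : P₀.IsPrime := hP₀prime
  haveI : Q'.IsPrime := hQ'prime
  obtain ⟨𝔓', h𝔓'le, h𝔓'prime, h𝔓'over⟩ :=
    Ideal.exists_ideal_le_liesOver_of_le (p := P₀) (q := Q') 𝔓 hQ'ge
  refine ⟨𝔓'.comap (GLin.coactAlgHom k H R).toRingHom, ?_, Ideal.IsPrime.comap _, ⟨?_⟩⟩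
  · rw [← h𝔓2]
    exact Ideal.comap_mono h𝔓'le
  · rw [Ideal.under_def, comap_coact_comap_eq, ← hP₀]
    congr 1
    exact h𝔓'over.over

/-- primes in a fibre of `Spec R → Spec R^G` have the height of their image. -/
theorem height_eq_height_under_invariants [IsNoetherianRing R]
    [IsNoetherianRing (GLin.invariants k H R)] (Q : Ideal R) [Q.IsPrime] :
    Q.height = (Q.under (GLin.invariants k H R)).height := by
  haveI : (Q.under (GLin.invariants k H R)).IsPrime := Ideal.IsPrime.under _ Q
  have h1 := Ideal.height_eq_height_add_of_liesOver_of_hasGoingDown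
    (Q.under (GLin.invariants k H R)) Q
  rw [h1]
  have h2 : (Q.map (Ideal.Quotient.mk ((Q.under (GLin.invariants k H R)).map
      (algebraMap (GLin.invariants k H R) R)))).height = 0 := by
    set J := (Q.under (GLin.invariants k H R)).map (algebraMap (GLin.invariants k H R) R) with hJ
    have hmin : Q ∈ J.minimalPrimes := Ideal.IsIntegral.mem_minimalPrimes_map_under Q
    rw [Ideal.minimalPrimes_eq_comap] at hmin
    obtain ⟨q, hq, hqQ⟩ := hmin
    have : Q.map (Ideal.Quotient.mk J) = q := by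
      rw [← hqQ, Ideal.map_comap_of_surjective _ Ideal.Quotient.mk_surjective]
    rw [this]
    haveI := hq.1.1
    rw [Ideal.height_eq_zero_iff]
    exact hq
  rw [h2, add_zero]

end FinQuot

end Groth.Agent.Lib.helper22
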