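import Groth.Agent.Lib.Helper26.DepthCR
import Groth.Agent.Lib.Helper26.DepthLoc3
import Groth.Agent.Lib.Helper26.CM7
import Groth.Agent.Lib.Helper19.Depth

/-!
# Depth, `(S_r)` and Cohen–Macaulayness along finite ring extensions (helper22)

`A → B` a finite injective map of Noetherian rings.
* `exists_prime_depth_eq`: `depth_{A_p} B_p = depth B_Q` for some prime `Q` of `B` over `p`.
* `idealDepth_le_of_retract`: depth does not drop on direct summands.
* `hasSk_module_of_finite`, `hasSk_self_of_retract`: if `ht Q = ht (Q ∩ A)` for all primes `Q` of `B`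
  then `(S_r)` for `B` gives `(S_r)` for the `A`-module `B`, and for `A` if `A` is a direct summand.
* `isCohenMacaulayModule_of_finite`, `isCohenMacaulayRing_of_retract`: the Cohen–Macaulay analogues.
-/

set_option autoImplicit false
universe u

open LocCoh IsLocalRing Groth.Agent.Lib.helper26.Depth CategoryTheory Abelian

namespace Groth.Agent.Lib.helper22.FiniteDepth

section Retract

variable {R : Type u} [CommRing R] [IsNoetherianRing R] (I : Ideal R)
  {X Y : Type u} [AddCommGroup X] [Module R X] [Module.Finite R X]
  [AddCommGroup Y] [Module R Y] [Module.Finite R Y]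

/-- depth does not drop on passing to a direct summand -/
theorem idealDepth_le_of_retract (s : X →ₗ[R] Y) (π : Y →ₗ[R] X) (h : π ∘ₗ s = LinearMap.id) :
    idealDepth I Y ≤ idealDepth I X := by
  rw [← ENat.forall_natCast_le_iff_le]
  intro n hn
  rw [le_idealDepth_iff_ext] at hn ⊢
  intro i hi
  refine subsingleton_ext_of_retract (ModuleCat.ofHom s) (ModuleCat.ofHom π) ?_ i (hn i hi)
  rw [← ModuleCat.ofHom_comp, h]
  rfl

end Retract

section KL

variable {A B : Type u} [CommRing A] [CommRing B] [Algebra A B] [IsNoetherianRing A]
  [IsNoetherianRing B] [Module.Finite A B] (p : Ideal A) [p.IsPrime]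

/-- For a finite algebra `B` over `A` and a prime `p` of `A`, the depth of `B_p` over `A_p` is the
depth of `B_Q` for some prime `Q` of `B` over `p` (if it is finite). -/
theorem exists_prime_depth_eq
    (hne : depth (Localization.AtPrime p) (LocalizedModule p.primeCompl B) ≠ ⊤) :
    ∃ Q : PrimeSpectrum B, Q.asIdeal.comap (algebraMap A B) = p ∧
      depth (Localization.AtPrime Q.asIdeal) (LocalizedModule Q.asIdeal.primeCompl B) =
        depth (Localization.AtPrime p) (LocalizedModule p.primeCompl B) := by
  let S := Algebra.algebraMapSubmonoid B p.primeCompl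
  let Bp := Localization S
  let Ap := Localization.AtPrime p
  haveI : IsNoetherianRing Bp := IsLocalization.isNoetherianRing S Bp inferInstance
  haveI : Module.Finite Ap Bp :=
    Module.Finite.of_isLocalizedModule p.primeCompl ((IsScalarTower.toAlgHom A B Bp).toLinearMap)
  have h1 : depth Ap Bp = depth Ap (LocalizedModule p.primeCompl B) :=
    depth_eq_of_isLocalizedModule p B Ap Bp (IsScalarTower.toAlgHom A B Bp).toLinearMap
  set I : Ideal Bp := (maximalIdeal Ap).map (algebraMap Ap Bp) with hI
  have h2 : idealDepth (maximalIdeal Ap) Bp = idealDepth I Bp :=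
    idealDepth_map_eq (maximalIdeal Ap) Bp
  have hIM : I • (⊤ : Submodule Bp Bp) ≠ ⊤ := by
    intro htop
    apply hne
    rw [← h1]
    unfold depth
    rw [h2]
    exact idealDepth_eq_top_of_smul_top_eq_top I Bp htop
  obtain ⟨Q', hIQ', hQ'⟩ := exists_depth_localization_eq I Bp hIM
  let Q : Ideal B := Q'.asIdeal.comap (algebraMap B Bp)
  haveI hQprime : Q.IsPrime := Ideal.IsPrime.comap _
  let T := Localization.AtPrime Q'.asIdeal
  haveI hT : IsLocalization.AtPrime T Q :=
    IsLocalization.isLocalization_isLocalization_atPrime_isLocalization S T Q'.asIdeal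
  have h3 : depth T T = depth (Localization.AtPrime Q) (LocalizedModule Q.primeCompl B) :=
    depth_eq_of_isLocalizedModule Q B T T (Algebra.linearMap B T)
  have h4 : depth T (LocalizedModule Q'.asIdeal.primeCompl Bp) = depth T T :=
    depth_localizedModule_self Bp Q'.asIdeal
  refine ⟨⟨Q, hQprime⟩, ?_, ?_⟩
  · change Q.comap (algebraMap A B) = p
    ext a
    rw [Ideal.mem_comap, Ideal.mem_comap]
    have hcomm : algebraMap B Bp (algebraMap A B a) = algebraMap Ap Bp (algebraMap A Ap a) := by
      rw [← IsScalarTower.algebraMap_apply A B Bp, ← IsScalarTower.algebraMap_apply A Ap Bp]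
    constructor
    · intro ha
      by_contra hap
      have hmem : algebraMap A B a ∈ S := ⟨a, hap, rfl⟩
      have hu : IsUnit (algebraMap B Bp (algebraMap A B a)) :=
        IsLocalization.map_units Bp (⟨_, hmem⟩ : S)
      exact Q'.isPrime.ne_top (Ideal.eq_top_of_isUnit_mem _ ha hu)
    · intro ha
      rw [hcomm]
      apply hIQ'
      apply Ideal.mem_map_of_mem
      exact (IsLocalization.AtPrime.to_map_mem_maximal_iff Ap p a).mpr ha
  · change depth (Localization.AtPrime Q) (LocalizedModule Q.primeCompl B) = _
    rw [← h3, ← h4, hQ', ← h2, ← h1]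
    rfl

theorem supportDim_localizedModule_eq (hinj : Function.Injective (algebraMap A B)) :
    Module.supportDim (Localization.AtPrime p) (LocalizedModule p.primeCompl B) =
      ringKrullDim (Localization.AtPrime p) := by
  apply le_antisymm (Module.supportDim_le_ringKrullDim _ _)
  rw [← Groth.Agent.Lib.helper19.Depth.supportDim_eq A p]
  exact Module.supportDim_le_of_injective
    (LocalizedModule.map p.primeCompl (Algebra.linearMap A B))
    (LocalizedModule.map_injective _ _ hinj)

theorem depth_localizedModule_le_of_retract (E : B →ₗ[A] A)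
    (hE : ∀ a : A, E (algebraMap A B a) = a) :
    depth (Localization.AtPrime p) (LocalizedModule p.primeCompl B) ≤
      depth (Localization.AtPrime p) (LocalizedModule p.primeCompl A) := by
  unfold depth
  refine idealDepth_le_of_retract _ (LocalizedModule.map p.primeCompl (Algebra.linearMap A B))
    (LocalizedModule.map p.primeCompl E) ?_
  refine LinearMap.ext fun x => ?_
  induction x using LocalizedModule.induction_on with
  | h a s =>
    simp only [LinearMap.comp_apply, LocalizedModule.map_mk, Algebra.linearMap_apply, hE,
      LinearMap.id_apply]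

end KL

section Main

variable {A B : Type u} [CommRing A] [CommRing B] [Algebra A B] [IsNoetherianRing A]
  [IsNoetherianRing B] [Module.Finite A B]

/-- `(S_r)` of a ring `B` passes to `B` as a module over a subring `A` over which it is finite with
equidimensional fibres. -/
theorem hasSk_module_of_finite (hinj : Function.Injective (algebraMap A B))
    (hht : ∀ (Q : Ideal B) [Q.IsPrime], Q.height = (Q.comap (algebraMap A B)).height)
    (r : ℕ) (hB : HasSk r B B) : HasSk r A B := by
  intro p _
  rw [supportDim_localizedModule_eq p hinj,
    IsLocalization.AtPrime.ringKrullDim_eq_height p (Localization.AtPrime p)]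
  by_cases hne : depth (Localization.AtPrime p) (LocalizedModule p.primeCompl B) = ⊤
  · rw [hne]
    exact le_top
  obtain ⟨Q, hQp, hQd⟩ := exists_prime_depth_eq p hne
  have h1 := hB Q.asIdeal
  rw [Groth.Agent.Lib.helper19.Depth.supportDim_eq B Q.asIdeal,
    IsLocalization.AtPrime.ringKrullDim_eq_height Q.asIdeal (Localization.AtPrime Q.asIdeal),
    hht Q.asIdeal, hQp, hQd] at h1
  exact h1

theorem hasSk_self_of_retract (hinj : Function.Injective (algebraMap A B))
    (E : B →ₗ[A] A) (hE : ∀ a : A, E (algebraMap A B a) = a)
    (r : ℕ) (hB : HasSk r A B) : HasSk r A A := by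
  intro p _
  have h1 := hB p
  rw [supportDim_localizedModule_eq p hinj] at h1
  rw [Groth.Agent.Lib.helper19.Depth.supportDim_eq A p]
  refine h1.trans ?_
  exact WithBot.coe_le_coe.mpr (depth_localizedModule_le_of_retract p E hE)

/-- a finite extension `A ⊆ B` with equidimensional fibres, `B` Cohen–Macaulay: `B` is a maximal
Cohen–Macaulay `A`-module -/
theorem isCohenMacaulayModule_of_finite (hinj : Function.Injective (algebraMap A B))
    (hht : ∀ (Q : Ideal B) [Q.IsPrime], Q.height = (Q.comap (algebraMap A B)).height)
    (hB : IsCohenMacaulayRing B) (p : Ideal A) [p.IsPrime] :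
    IsCohenMacaulayModule (Localization.AtPrime p) (LocalizedModule p.primeCompl B) ∧
      Module.supportDim (Localization.AtPrime p) (LocalizedModule p.primeCompl B) =
        ringKrullDim (Localization.AtPrime p) := by
  refine ⟨?_, supportDim_localizedModule_eq p hinj⟩
  unfold IsCohenMacaulayModule
  rw [supportDim_localizedModule_eq p hinj,
    IsLocalization.AtPrime.ringKrullDim_eq_height p (Localization.AtPrime p)]
  haveI : Nontrivial (LocalizedModule p.primeCompl B) := by
    have hi : Function.Injective (LocalizedModule.map p.primeCompl (Algebra.linearMap A B)) :=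
      LocalizedModule.map_injective _ _ hinj
    haveI : Nontrivial (LocalizedModule p.primeCompl A) :=
      (selfEquiv A p).symm.toEquiv.nontrivial
    exact hi.nontrivial
  haveI : Module.Finite (Localization.AtPrime p) (LocalizedModule p.primeCompl B) :=
    Module.Finite.of_isLocalizedModule p.primeCompl (LocalizedModule.mkLinearMap p.primeCompl B)
  have hne : depth (Localization.AtPrime p) (LocalizedModule p.primeCompl B) ≠ ⊤ :=
    depth_ne_top _
  obtain ⟨Q, hQp, hQd⟩ := exists_prime_depth_eq p hne
  rw [← hQd, depth_localizedModule_self B Q.asIdeal,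
    depth_localization_eq_height_of_isCohenMacaulayLocalRing B Q.asIdeal
      (hB.isCohenMacaulayLocalRing_localization Q.asIdeal), hht Q.asIdeal, hQp]

/-- a direct summand `A` of a Cohen–Macaulay ring `B`, finite over `A` with equidimensional fibres, is
Cohen–Macaulay -/
theorem isCohenMacaulayRing_of_retract (hinj : Function.Injective (algebraMap A B))
    (hht : ∀ (Q : Ideal B) [Q.IsPrime], Q.height = (Q.comap (algebraMap A B)).height)
    (E : B →ₗ[A] A) (hE : ∀ a : A, E (algebraMap A B a) = a)
    (hB : IsCohenMacaulayRing B) : IsCohenMacaulayRing A := by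
  refine { isCohenMacaulayLocalRing_localization := fun p _ => ?_ }
  haveI : IsNoetherianRing (Localization.AtPrime p) :=
    IsLocalization.isNoetherianRing p.primeCompl _ inferInstance
  refine { supportDim_eq_depth := ?_ }
  rw [Module.supportDim_self_eq_ringKrullDim,
    IsLocalization.AtPrime.ringKrullDim_eq_height p (Localization.AtPrime p)]
  congr 1
  apply le_antisymm
  · have h1 := (isCohenMacaulayModule_of_finite hinj hht hB p).1
    unfold IsCohenMacaulayModule at h1
    rw [supportDim_localizedModule_eq p hinj,
      IsLocalization.AtPrime.ringKrullDim_eq_height p (Localization.AtPrime p)] at h1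
    have h2 : (p.height : ℕ∞) = depth (Localization.AtPrime p) (LocalizedModule p.primeCompl B) :=
      WithBot.coe_injective h1
    rw [h2, ← depth_localizedModule_self A p]
    exact depth_localizedModule_le_of_retract p E hE
  · exact depth_localization_le_height A p

end Main

end Groth.Agent.Lib.helper22.FiniteDepth
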