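import Groth.Agent.Lib.Helper22.LinRed

/-!
The Reynolds operator of a semisimple comodule over a bialgebra over a field (helper22).
-/

set_option autoImplicit false
universe u v w
open scoped TensorProduct

namespace Groth.Agent.Lib.helper22

section Reynolds

variable {k : Type u} [Field k] {A : Type v} [CommRing A] [Bialgebra k A]
variable {V : Type w} [AddCommGroup V] [Module k V] [HopfRep.Comod k A V]

theorem mem_fixedPts_iff (v : V) :
    v ∈ HopfRep.fixedPts k A V ↔ ∀ f : Module.Dual k A, actDual V f v = f 1 • v := by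
  constructor
  · intro hv f
    have hv' : HopfRep.Comod.coact (k := k) (A := A) v = v ⊗ₜ[k] (1 : A) := hv
    rw [actDual_apply, hv', slice_tmul]
  · intro h
    change HopfRep.Comod.coact (k := k) (A := A) v = v ⊗ₜ[k] (1 : A)
    rw [← sub_eq_zero]
    apply eq_zero_of_slice_eq_zero
    intro f
    rw [map_sub, slice_tmul, ← actDual_apply, h f, sub_self]

theorem isSubcomod_fixedPts :
    HopfRep.IsSubcomod (k := k) (A := A) (HopfRep.fixedPts k A V) := by
  rw [isSubcomod_iff]
  intro f w hw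
  rw [(mem_fixedPts_iff w).mp hw f]
  exact Submodule.smul_mem _ _ hw

theorem isSubcomod_inf {W W' : Submodule k V} (h : HopfRep.IsSubcomod (k := k) (A := A) W)
    (h' : HopfRep.IsSubcomod (k := k) (A := A) W') : HopfRep.IsSubcomod (k := k) (A := A) (W ⊓ W') := by
  rw [isSubcomod_iff] at h h' ⊢
  exact fun f w hw => ⟨h f w hw.1, h' f w hw.2⟩

/-- A comodule endomorphism with values in the invariants kills every subcomodule without
invariants (semisimple case). -/
theorem comodHom_eq_zero_on (hss : HopfRep.IsSemisimpleComod k A V) (g : V →ₗ[k] V)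
    (hg : Hoch.IsComodHom A g) (hgfix : ∀ v, g v ∈ HopfRep.fixedPts k A V)
    (U : Submodule k V) (hU : HopfRep.IsSubcomod (k := k) (A := A) U)
    (hUfix : U ⊓ HopfRep.fixedPts k A V = ⊥) : ∀ u ∈ U, g u = 0 := by
  intro u hu
  have hK := isSubcomod_inf (isSubcomod_ker g hg) hU
  obtain ⟨K', hK', hc⟩ := hss _ hK
  have hu' : u ∈ (LinearMap.ker g ⊓ U) ⊔ K' := by rw [hc.codisjoint.eq_top]; exact Submodule.mem_top
  obtain ⟨a, ha, b, hb, rfl⟩ := Submodule.mem_sup.mp hu'
  have hbU : b ∈ U := by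
    have : b = (a + b) - a := by abel
    rw [this]; exact U.sub_mem hu ha.2
  have hbfix : b ∈ HopfRep.fixedPts k A V := by
    rw [mem_fixedPts_iff]
    intro f
    rw [← sub_eq_zero]
    have hd1 : actDual V f b - f 1 • b ∈ K' :=
      K'.sub_mem ((isSubcomod_iff K').mp hK' f b hb) (K'.smul_mem _ hb)
    have hd2 : actDual V f b - f 1 • b ∈ U :=
      U.sub_mem ((isSubcomod_iff U).mp hU f b hbU) (U.smul_mem _ hbU)
    have hd3 : actDual V f b - f 1 • b ∈ LinearMap.ker g := by
      rw [LinearMap.mem_ker, map_sub, map_smul, actDual_comm_of_isComodHom g hg,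
        (mem_fixedPts_iff _).mp (hgfix b) f, sub_self]
    have : actDual V f b - f 1 • b ∈ (LinearMap.ker g ⊓ U) ⊓ K' := ⟨⟨hd3, hd2⟩, hd1⟩
    rw [hc.disjoint.eq_bot] at this
    exact (Submodule.mem_bot k).mp this
  have hb0 : b = 0 := by
    have : b ∈ U ⊓ HopfRep.fixedPts k A V := ⟨hbU, hbfix⟩
    rw [hUfix] at this
    exact (Submodule.mem_bot k).mp this
  rw [hb0, add_zero]
  exact LinearMap.mem_ker.mp ha.1

/-- the defining properties of a Reynolds operator -/
structure IsReynolds (E : V →ₗ[k] V) : Prop where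
  comod : Hoch.IsComodHom A E
  idem : E ∘ₗ E = E
  fix : ∀ x : V, E x = x ↔ x ∈ HopfRep.fixedPts k A V

namespace IsReynolds

variable {E E' : V →ₗ[k] V}

theorem apply_apply (hE : IsReynolds (A := A) E) (v : V) : E (E v) = E v :=
  LinearMap.congr_fun hE.idem v

theorem mem_fixedPts (hE : IsReynolds (A := A) E) (v : V) : E v ∈ HopfRep.fixedPts k A V :=
  (hE.fix _).mp (hE.apply_apply v)

theorem ker_inf (hE : IsReynolds (A := A) E) : LinearMap.ker E ⊓ HopfRep.fixedPts k A V = ⊥ := by
  rw [eq_bot_iff]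
  rintro x ⟨hx1, hx2⟩
  rw [Submodule.mem_bot, ← (hE.fix x).mpr hx2]
  exact LinearMap.mem_ker.mp hx1

theorem sub_mem_ker (hE : IsReynolds (A := A) E) (v : V) : v - E v ∈ LinearMap.ker E := by
  rw [LinearMap.mem_ker, map_sub, hE.apply_apply, sub_self]

/-- another comodule map into the invariants factors through `E` -/
theorem comp_eq (hss : HopfRep.IsSemisimpleComod k A V) (hE : IsReynolds (A := A) E)
    (g : V →ₗ[k] V) (hg : Hoch.IsComodHom A g) (hgfix : ∀ v, g v ∈ HopfRep.fixedPts k A V) (v : V) :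
    g v = g (E v) := by
  have h0 := comodHom_eq_zero_on hss g hg hgfix _ (isSubcomod_ker E hE.comod) hE.ker_inf _
    (hE.sub_mem_ker v)
  rw [map_sub, sub_eq_zero] at h0
  exact h0

theorem unique (hss : HopfRep.IsSemisimpleComod k A V) (hE : IsReynolds (A := A) E)
    (hE' : IsReynolds (A := A) E') : E = E' := by
  apply LinearMap.ext
  intro v
  rw [hE'.comp_eq hss E hE.comod hE.mem_fixedPts v, (hE.fix _).mpr (hE'.mem_fixedPts v)]

theorem mem_of_isSubcomod (hss : HopfRep.IsSemisimpleComod k A V) (hE : IsReynolds (A := A) E)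
    (W : Submodule k V) (hW : HopfRep.IsSubcomod (k := k) (A := A) W) (w : V) (hw : w ∈ W) : E w ∈ W := by
  have hW0 := isSubcomod_inf hW (isSubcomod_fixedPts (k := k) (A := A) (V := V))
  obtain ⟨Z, hZ, hc⟩ := hss _ hW0
  have hw' : w ∈ (W ⊓ HopfRep.fixedPts k A V) ⊔ Z := by
    rw [hc.codisjoint.eq_top]; exact Submodule.mem_top
  obtain ⟨a, ha, b, hb, rfl⟩ := Submodule.mem_sup.mp hw'
  have hbW : b ∈ W := by
    have : b = (a + b) - a := by abel
    rw [this]; exact W.sub_mem hw ha.1
  have hZW : (Z ⊓ W) ⊓ HopfRep.fixedPts k A V = ⊥ := by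
    rw [eq_bot_iff]
    rintro x ⟨⟨hx1, hx2⟩, hx3⟩
    have : x ∈ (W ⊓ HopfRep.fixedPts k A V) ⊓ Z := ⟨⟨hx2, hx3⟩, hx1⟩
    rw [hc.disjoint.eq_bot] at this
    exact this
  have hb0 := comodHom_eq_zero_on hss E hE.comod hE.mem_fixedPts _ (isSubcomod_inf hZ hW) hZW b
    ⟨hb, hbW⟩
  rw [map_add, hb0, add_zero, (hE.fix a).mpr ha.2]
  exact ha.1

end IsReynolds

theorem exists_isReynolds (hss : HopfRep.IsSemisimpleComod k A V) :
    ∃ E : V →ₗ[k] V, IsReynolds (A := A) E := by
  obtain ⟨U, hU, hc⟩ := hss _ (isSubcomod_fixedPts (k := k) (A := A) (V := V))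
  refine ⟨(HopfRep.fixedPts k A V).projection U hc, ?_, ?_, ?_⟩
  · rw [isComodHom_iff]
    intro f v
    change (HopfRep.fixedPts k A V).projection U hc (actDual V f v) =
      actDual V f ((HopfRep.fixedPts k A V).projection U hc v)
    conv_lhs => rw [← Submodule.projection_add_projection_eq_self hc v, map_add, map_add]
    have h1 : actDual V f ((HopfRep.fixedPts k A V).projection U hc v) ∈ HopfRep.fixedPts k A V :=
      (isSubcomod_iff _).mp isSubcomod_fixedPts f _ (Submodule.projection_apply_mem hc v)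
    have h2 : actDual V f (U.projection (HopfRep.fixedPts k A V) hc.symm v) ∈ U :=
      (isSubcomod_iff _).mp hU f _ (Submodule.projection_apply_mem hc.symm v)
    rw [Submodule.projection_apply_of_mem_left hc h1, Submodule.projection_apply_of_mem_right hc h2,
      add_zero]
  · exact (Submodule.isIdempotentElem_projection hc)
  · intro x
    constructor
    · intro hx
      rw [← hx]
      exact Submodule.projection_apply_mem hc x
    · intro hx
      exact Submodule.projection_apply_of_mem_left hc hx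

end Reynolds

section Natural

variable {k : Type u} [Field k] {A : Type v} [CommRing A] [Bialgebra k A]
variable {V : Type w} [AddCommGroup V] [Module k V] [HopfRep.Comod k A V]
variable {W : Type*} [AddCommGroup W] [Module k W] [HopfRep.Comod k A W]

/-- A comodule map with values in the invariants kills every subcomodule without invariants. -/
theorem comodHom_eq_zero_on' (hss : HopfRep.IsSemisimpleComod k A V) (g : V →ₗ[k] W)
    (hg : Hoch.IsComodHom A g) (hgfix : ∀ v, g v ∈ HopfRep.fixedPts k A W)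
    (U : Submodule k V) (hU : HopfRep.IsSubcomod (k := k) (A := A) U)
    (hUfix : U ⊓ HopfRep.fixedPts k A V = ⊥) : ∀ u ∈ U, g u = 0 := by
  intro u hu
  have hK := isSubcomod_inf (isSubcomod_ker g hg) hU
  obtain ⟨K', hK', hc⟩ := hss _ hK
  have hu' : u ∈ (LinearMap.ker g ⊓ U) ⊔ K' := by rw [hc.codisjoint.eq_top]; exact Submodule.mem_top
  obtain ⟨a, ha, b, hb, rfl⟩ := Submodule.mem_sup.mp hu'
  have hbU : b ∈ U := by
    have : b = (a + b) - a := by abel
    rw [this]; exact U.sub_mem hu ha.2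
  have hbfix : b ∈ HopfRep.fixedPts k A V := by
    rw [mem_fixedPts_iff]
    intro f
    rw [← sub_eq_zero]
    have hd1 : actDual V f b - f 1 • b ∈ K' :=
      K'.sub_mem ((isSubcomod_iff K').mp hK' f b hb) (K'.smul_mem _ hb)
    have hd2 : actDual V f b - f 1 • b ∈ U :=
      U.sub_mem ((isSubcomod_iff U).mp hU f b hbU) (U.smul_mem _ hbU)
    have hd3 : actDual V f b - f 1 • b ∈ LinearMap.ker g := by
      rw [LinearMap.mem_ker, map_sub, map_smul, actDual_comm_of_isComodHom g hg,
        (mem_fixedPts_iff _).mp (hgfix b) f, sub_self]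
    have : actDual V f b - f 1 • b ∈ (LinearMap.ker g ⊓ U) ⊓ K' := ⟨⟨hd3, hd2⟩, hd1⟩
    rw [hc.disjoint.eq_bot] at this
    exact (Submodule.mem_bot k).mp this
  have hb0 : b = 0 := by
    have : b ∈ U ⊓ HopfRep.fixedPts k A V := ⟨hbU, hbfix⟩
    rw [hUfix] at this
    exact (Submodule.mem_bot k).mp this
  rw [hb0, add_zero]
  exact LinearMap.mem_ker.mp ha.1

theorem map_mem_fixedPts (φ : V →ₗ[k] W) (hφ : Hoch.IsComodHom A φ) (v : V)
    (hv : v ∈ HopfRep.fixedPts k A V) : φ v ∈ HopfRep.fixedPts k A W := by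
  rw [mem_fixedPts_iff] at hv ⊢
  intro f
  rw [← actDual_comm_of_isComodHom φ hφ, hv f, map_smul]

/-- Reynolds operators commute with comodule maps. -/
theorem IsReynolds.natural (hss : HopfRep.IsSemisimpleComod k A V) {E : V →ₗ[k] V} {E' : W →ₗ[k] W}
    (hE : IsReynolds (A := A) E) (hE' : IsReynolds (A := A) E') (φ : V →ₗ[k] W)
    (hφ : Hoch.IsComodHom A φ) (v : V) : E' (φ v) = φ (E v) := by
  have hg : Hoch.IsComodHom A (E' ∘ₗ φ) := by
    have h₁ := hE'.comod
    unfold Hoch.IsComodHom at h₁ hφ ⊢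
    rw [← LinearMap.comp_assoc, h₁, LinearMap.comp_assoc, hφ, ← LinearMap.comp_assoc,
      ← LinearMap.rTensor_comp]
  have h0 := comodHom_eq_zero_on' hss (E' ∘ₗ φ) hg (fun v => hE'.mem_fixedPts _) _
    (isSubcomod_ker E hE.comod) hE.ker_inf _ (hE.sub_mem_ker v)
  rw [map_sub, sub_eq_zero, LinearMap.comp_apply, LinearMap.comp_apply] at h0
  rw [h0]
  exact (hE'.fix _).mpr (map_mem_fixedPts φ hφ _ (hE.mem_fixedPts v))

end Natural

section Ring

variable {k : Type u} [Field k] {A : Type v} [CommRing A] [Bialgebra k A]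
variable {R : Type w} [CommRing R] [Algebra k R] [HopfRep.Comod k A R] [GLin.IsCoactAlg k A R]

/-- a Reynolds operator on a comodule algebra is linear over the invariants -/
theorem IsReynolds.map_mul (hss : HopfRep.IsSemisimpleComod k A R) {E : R →ₗ[k] R}
    (hE : IsReynolds (A := A) E) (x y : R) (hy : y ∈ GLin.invariants k A R) : E (x * y) = E x * y := by
  have hy' : HopfRep.Comod.coact (k := k) (A := A) y = y ⊗ₜ[k] (1 : A) := hy
  have hm : Hoch.IsComodHom A (LinearMap.mulRight k y) := by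
    apply LinearMap.ext
    intro x
    simp only [LinearMap.comp_apply, LinearMap.mulRight_apply]
    rw [GLin.IsCoactAlg.coact_mul (k := k) (A := A), hy']
    generalize HopfRep.Comod.coact (k := k) (A := A) x = t
    induction t using TensorProduct.induction_on with
    | zero => simp
    | tmul b a => simp
    | add t₁ t₂ h₁ h₂ => simp only [map_add, add_mul, h₁, h₂]
  have hg : Hoch.IsComodHom A (E ∘ₗ LinearMap.mulRight k y) := by
    have h₁ := hE.comod
    unfold Hoch.IsComodHom at h₁ hm ⊢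
    rw [← LinearMap.comp_assoc, h₁, LinearMap.comp_assoc, hm, ← LinearMap.comp_assoc,
      ← LinearMap.rTensor_comp]
  have h := hE.comp_eq hss (E ∘ₗ LinearMap.mulRight k y) hg (fun v => hE.mem_fixedPts _) x
  simp only [LinearMap.comp_apply, LinearMap.mulRight_apply] at h
  rw [h]
  apply (hE.fix _).mpr
  exact (GLin.invariants k A R).mul_mem (hE.mem_fixedPts x) hy

/-- extension-contraction of ideals of the invariant ring -/
theorem comap_map_invariants_eq (hss : HopfRep.IsSemisimpleComod k A R)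
    (J : Ideal (GLin.invariants k A R)) :
    (J.map (algebraMap (GLin.invariants k A R) R)).comap (algebraMap (GLin.invariants k A R) R) = J := by
  obtain ⟨E, hE⟩ := exists_isReynolds (k := k) (A := A) (V := R) hss
  set f := algebraMap (GLin.invariants k A R) R with hf
  refine le_antisymm ?_ Ideal.le_comap_map
  intro x hx
  rw [Ideal.mem_comap] at hx
  have key : ∀ y ∈ J.map f, ∀ b : R, ∃ c₀ ∈ J, E (b * y) = (c₀ : R) := by
    intro y hy
    induction hy using Submodule.span_induction with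
    | mem y hy =>
      obtain ⟨c₀, hc₀, rfl⟩ := hy
      intro b
      refine ⟨⟨E b, hE.mem_fixedPts b⟩ * c₀, J.mul_mem_left _ hc₀, ?_⟩
      exact hE.map_mul hss b c₀.1 c₀.2
    | zero => intro b; exact ⟨0, J.zero_mem, by simp⟩
    | add y z _ _ hy hz =>
      intro b
      obtain ⟨c₁, h₁, e₁⟩ := hy b
      obtain ⟨c₂, h₂, e₂⟩ := hz b
      exact ⟨c₁ + c₂, J.add_mem h₁ h₂, by rw [mul_add, map_add, e₁, e₂]; rfl⟩
    | smul a y _ hy =>
      intro b
      obtain ⟨c₁, h₁, e₁⟩ := hy (b * a)
      exact ⟨c₁, h₁, by rw [smul_eq_mul, ← mul_assoc]; exact e₁⟩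
  obtain ⟨c₀, hc₀, e⟩ := key _ hx 1
  rw [one_mul] at e
  have e' : E (f x) = f x := (hE.fix _).mpr x.2
  have : x = c₀ := Subtype.ext (e'.symm.trans e)
  rwa [this]

end Ring

end Groth.Agent.Lib.helper22
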