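import Groth.Agent.Lib.Helper22.FinQuot
import Groth.Agent.Lib.Helper22.FiniteDepth
import Groth.Agent.Lib.Helper22.Reynolds

/-!
# `(S_r)` and Cohen–Macaulayness of invariants of finite linearly reductive group schemes (helper22)

`H` a finite-dimensional commutative Hopf algebra over a field `k` coacting on a `k`-algebra `R` of
finite type, `R` semisimple as a comodule (e.g. `H` linearly reductive), `A = R^H`.
* `exists_reynolds_linearMap`: an `A`-linear retraction `R → A`.
* `hasSk_invariants`: `(S_r)` for `R` implies `(S_r)` for the `A`-module `R` and for `A`.
* `isCohenMacaulay_invariants`: `R` Cohen–Macaulay implies `A` Cohen–Macaulay and `R` maximal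
  Cohen–Macaulay over `A`.
-/

set_option autoImplicit false
universe u v w
open scoped TensorProduct
open LocCoh

namespace Groth.Agent.Lib.helper22

section FinQuotCM

variable {k : Type u} [Field k] {H : Type v} [CommRing H] [HopfAlgebra k H]
variable {R : Type w} [CommRing R] [Algebra k R] [HopfRep.Comod k H R] [GLin.IsCoactAlg k H R]

/-- the Reynolds operator as a linear retraction onto the invariants -/
theorem exists_reynolds_linearMap (hss : HopfRep.IsSemisimpleComod k H R) :
    ∃ E : R →ₗ[GLin.invariants k H R] GLin.invariants k H R,
      ∀ a : GLin.invariants k H R, E (algebraMap (GLin.invariants k H R) R a) = a := by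
  obtain ⟨E0, hE0⟩ := exists_isReynolds (k := k) (A := H) (V := R) hss
  refine ⟨{ toFun := fun x => ⟨E0 x, hE0.mem_fixedPts x⟩
            map_add' := fun x y => by
              ext
              simp
            map_smul' := fun a x => by
              ext
              change E0 ((a : R) * x) = (a : R) * E0 x
              rw [mul_comm, hE0.map_mul hss x a a.2, mul_comm] }, ?_⟩
  intro a
  ext
  exact (hE0.fix _).mpr a.2

variable [Module.Finite k H] [Algebra.FiniteType k R]

theorem finite_invariants : Module.Finite (GLin.invariants k H R) R := by
  have hft : Algebra.FiniteType (GLin.invariants k H R) R :=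
    Algebra.FiniteType.of_restrictScalars_finiteType k _ R
  exact Algebra.IsIntegral.finite

theorem finiteType_invariants : Algebra.FiniteType k (GLin.invariants k H R) := by
  haveI := finite_invariants (k := k) (H := H) (R := R)
  refine ⟨?_⟩
  exact fg_of_fg_of_fg k (GLin.invariants k H R) R Algebra.FiniteType.out Module.Finite.fg_top
    Subtype.val_injective

theorem isNoetherianRing_invariants_of_finite : IsNoetherianRing (GLin.invariants k H R) := by
  haveI := finiteType_invariants (k := k) (H := H) (R := R)
  exact Algebra.FiniteType.isNoetherianRing k _

theorem height_comap_invariants (Q : Ideal R) [Q.IsPrime] :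
    Q.height = (Q.comap (algebraMap (GLin.invariants k H R) R)).height := by
  haveI : IsNoetherianRing R := Algebra.FiniteType.isNoetherianRing k R
  haveI := isNoetherianRing_invariants_of_finite (k := k) (H := H) (R := R)
  exact height_eq_height_under_invariants (k := k) (H := H) Q

theorem hasSk_invariants (hss : HopfRep.IsSemisimpleComod k H R) (r : ℕ) (hR : HasSk r R R) :
    HasSk r (GLin.invariants k H R) R ∧ HasSk r (GLin.invariants k H R) (GLin.invariants k H R) := by
  haveI : IsNoetherianRing R := Algebra.FiniteType.isNoetherianRing k R
  haveI := isNoetherianRing_invariants_of_finite (k := k) (H := H) (R := R)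
  haveI := finite_invariants (k := k) (H := H) (R := R)
  obtain ⟨E, hE⟩ := exists_reynolds_linearMap (k := k) (H := H) (R := R) hss
  have h1 := FiniteDepth.hasSk_module_of_finite (A := GLin.invariants k H R) (B := R)
    Subtype.val_injective (fun Q _ => height_comap_invariants (k := k) (H := H) Q) r hR
  exact ⟨h1, FiniteDepth.hasSk_self_of_retract Subtype.val_injective E hE r h1⟩

theorem isCohenMacaulay_invariants (hss : HopfRep.IsSemisimpleComod k H R)
    (hR : IsCohenMacaulayRing R) :
    IsCohenMacaulayRing (GLin.invariants k H R) ∧
      ∀ (p : Ideal (GLin.invariants k H R)) [p.IsPrime],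
        IsCohenMacaulayModule (Localization.AtPrime p) (LocalizedModule p.primeCompl R) ∧
          Module.supportDim (Localization.AtPrime p) (LocalizedModule p.primeCompl R) =
            ringKrullDim (Localization.AtPrime p) := by
  haveI : IsNoetherianRing R := Algebra.FiniteType.isNoetherianRing k R
  haveI := isNoetherianRing_invariants_of_finite (k := k) (H := H) (R := R)
  haveI := finite_invariants (k := k) (H := H) (R := R)
  obtain ⟨E, hE⟩ := exists_reynolds_linearMap (k := k) (H := H) (R := R) hss
  have hht : ∀ (Q : Ideal R) [Q.IsPrime],
      Q.height = (Q.comap (algebraMap (GLin.invariants k H R) R)).height :=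
    fun Q _ => height_comap_invariants (k := k) (H := H) Q
  refine ⟨FiniteDepth.isCohenMacaulayRing_of_retract Subtype.val_injective hht E hE hR, ?_⟩
  intro p _
  exact FiniteDepth.isCohenMacaulayModule_of_finite Subtype.val_injective hht hR p

end FinQuotCM

end Groth.Agent.Lib.helper22
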