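import Groth.Agent.Lib.Helper22.CoeffSS
import Groth.Agent.Lib.Helper22.Diag

/-!
Flags of subcomodules in finite-dimensional comodules (unipotent / trigonalizable groups).
-/

set_option autoImplicit false
universe u v
open scoped TensorProduct

namespace Groth.Agent.Lib.helper22

section Step

variable {k : Type u} [Field k] {A : Type v} [AddCommGroup A] [Module k A] [Coalgebra k A]
variable {V : Type v} [AddCommGroup V] [Module k V] [c : HopfRep.Comod k A V]

theorem isSubcomod_bot : HopfRep.IsSubcomod (k := k) (A := A) (⊥ : Submodule k V) := by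
  rw [isSubcomod_iff]
  intro f w hw
  rw [(Submodule.mem_bot k).mp hw, map_zero]
  exact zero_mem _

omit [Coalgebra k A] c in
theorem range_rTensor_subtype_mono {U U' : Submodule k V} (h : U ≤ U') :
    LinearMap.range (U.subtype.rTensor A) ≤ LinearMap.range (U'.subtype.rTensor A) := by
  rintro _ ⟨y, rfl⟩
  refine ⟨(Submodule.inclusion h).rTensor A y, ?_⟩
  rw [← LinearMap.comp_apply, ← LinearMap.rTensor_comp]
  rfl

omit [Coalgebra k A] c in
theorem tmul_mem_range_rTensor {U : Submodule k V} {v : V} (hv : v ∈ U) (a : A) :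
    v ⊗ₜ[k] a ∈ LinearMap.range (U.subtype.rTensor A) :=
  ⟨(⟨v, hv⟩ : U) ⊗ₜ[k] a, by simp⟩

/-- adjoining to a subcomodule `U` a vector which is an eigenvector modulo `U` -/
theorem step_of_eigen_mod (U : Submodule k V) (hUs : HopfRep.IsSubcomod (k := k) (A := A) U)
    [Module.Finite k V] (x : V) (a : A) (hx : x ∉ U)
    (hxa : HopfRep.Comod.coact (k := k) (A := A) x - x ⊗ₜ[k] a ∈ LinearMap.range (U.subtype.rTensor A)) :
    HopfRep.IsSubcomod (k := k) (A := A) (U ⊔ Submodule.span k {x}) ∧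
      Module.finrank k ↥(U ⊔ Submodule.span k {x}) = Module.finrank k U + 1 ∧
      ∀ v ∈ U ⊔ Submodule.span k {x}, HopfRep.Comod.coact (k := k) (A := A) v - v ⊗ₜ[k] a ∈
        LinearMap.range (U.subtype.rTensor A) := by
  have h3 : ∀ v ∈ U ⊔ Submodule.span k {x}, HopfRep.Comod.coact (k := k) (A := A) v - v ⊗ₜ[k] a ∈
      LinearMap.range (U.subtype.rTensor A) := by
    intro v hv
    obtain ⟨u, hu, y, hy, rfl⟩ := Submodule.mem_sup.mp hv
    obtain ⟨r, rfl⟩ := Submodule.mem_span_singleton.mp hy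
    have : HopfRep.Comod.coact (k := k) (A := A) (u + r • x) - (u + r • x) ⊗ₜ[k] a =
        (HopfRep.Comod.coact (k := k) (A := A) u - u ⊗ₜ[k] a) +
          r • (HopfRep.Comod.coact (k := k) (A := A) x - x ⊗ₜ[k] a) := by
      rw [map_add, map_smul, TensorProduct.add_tmul, ← TensorProduct.smul_tmul', smul_sub]
      abel
    rw [this]
    exact add_mem (sub_mem (hUs u hu) (tmul_mem_range_rTensor hu a)) (Submodule.smul_mem _ r hxa)
  refine ⟨?_, ?_, h3⟩
  · intro v hv
    have h4 := range_rTensor_subtype_mono (A := A) (le_sup_left : U ≤ U ⊔ Submodule.span k {x}) (h3 v hv)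
    have h5 := tmul_mem_range_rTensor (A := A) hv a
    have := add_mem h4 h5
    rwa [sub_add_cancel] at this
  · have hx0 : x ≠ 0 := fun h => hx (h ▸ zero_mem _)
    have hinf : U ⊓ Submodule.span k {x} = ⊥ := by
      rw [eq_bot_iff]
      rintro y ⟨hyU, hyS⟩
      obtain ⟨r, rfl⟩ := Submodule.mem_span_singleton.mp hyS
      by_cases hr : r = 0
      · rw [hr, zero_smul]; exact zero_mem _
      · exfalso
        apply hx
        have := Submodule.smul_mem U r⁻¹ hyU
        rwa [smul_smul, inv_mul_cancel₀ hr, one_smul] at this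
    have := Submodule.finrank_sup_add_finrank_inf_eq U (Submodule.span k {x})
    rw [hinf, finrank_bot, finrank_span_singleton hx0] at this
    omega

/-- a nonzero eigenvector in the quotient `V ⧸ U` gives a one-step extension of `U` -/
theorem exists_step_of_eigen_quot (U : Submodule k V) (hUs : HopfRep.IsSubcomod (k := k) (A := A) U)
    [Module.Finite k V] (q : V ⧸ U) (hq : q ≠ 0) (a : A)
    (hqa : (ComodSub.Comod.quot c U hUs).coact q = q ⊗ₜ[k] a) :
    ∃ U' : Submodule k V, HopfRep.IsSubcomod (k := k) (A := A) U' ∧ U ≤ U' ∧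
      Module.finrank k U' = Module.finrank k U + 1 ∧
      ∀ v ∈ U', HopfRep.Comod.coact (k := k) (A := A) v - v ⊗ₜ[k] a ∈
        LinearMap.range (U.subtype.rTensor A) := by
  obtain ⟨x, rfl⟩ := U.mkQ_surjective q
  have hx : x ∉ U := fun h => hq ((Submodule.Quotient.mk_eq_zero U).mpr h)
  have hex := rTensor_exact A (LinearMap.exact_subtype_mkQ U) (Submodule.mkQ_surjective U)
  have hxa : HopfRep.Comod.coact (k := k) (A := A) x - x ⊗ₜ[k] a ∈
      LinearMap.range (U.subtype.rTensor A) := by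
    rw [← LinearMap.exact_iff.mp hex, LinearMap.mem_ker, map_sub, LinearMap.rTensor_tmul]
    have := ComodSub.quot_coact_mk c U hUs x
    rw [sub_eq_zero]
    exact this.symm.trans hqa
  obtain ⟨h1, h2, h3⟩ := step_of_eigen_mod U hUs x a hx hxa
  exact ⟨_, h1, le_sup_left, h2, h3⟩

end Step

section Iterate

variable {k : Type u} [Field k] {A : Type v} [AddCommGroup A] [Module k A] [Coalgebra k A]
variable {V : Type v} [AddCommGroup V] [Module k V] [c : HopfRep.Comod k A V]

/-- iterating a one-step extension gives a full flag -/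
theorem exists_flag_of_step [Module.Finite k V] (P : Submodule k V → Submodule k V → Prop)
    (hstep : ∀ U : Submodule k V, HopfRep.IsSubcomod (k := k) (A := A) U → U ≠ ⊤ →
      ∃ U' : Submodule k V, HopfRep.IsSubcomod (k := k) (A := A) U' ∧ U ≤ U' ∧
        Module.finrank k U' = Module.finrank k U + 1 ∧ P U U')
    (htop : P ⊤ ⊤) :
    ∃ G : ℕ → Submodule k V, G 0 = ⊥ ∧ (∀ i, HopfRep.IsSubcomod (k := k) (A := A) (G i)) ∧
      (∀ i, G i ≤ G (i + 1)) ∧ (∀ i, i ≤ Module.finrank k V → Module.finrank k (G i) = i) ∧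
      (∀ i, Module.finrank k V ≤ i → G i = ⊤) ∧ ∀ i, P (G i) (G (i + 1)) := by
  classical
  let S := {U : Submodule k V // HopfRep.IsSubcomod (k := k) (A := A) U}
  let step : S → S := fun U =>
    if h : U.1 = ⊤ then U else ⟨(hstep U.1 U.2 h).choose, (hstep U.1 U.2 h).choose_spec.1⟩
  have hstep_top : ∀ U : S, U.1 = ⊤ → step U = U := by
    intro U h
    simp only [step, dif_pos h]
  have hstep_ne : ∀ U : S, U.1 ≠ ⊤ → U.1 ≤ (step U).1 ∧
      Module.finrank k (step U).1 = Module.finrank k U.1 + 1 ∧ P U.1 (step U).1 := by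
    intro U h
    have e : step U = ⟨(hstep U.1 U.2 h).choose, (hstep U.1 U.2 h).choose_spec.1⟩ := dif_neg h
    rw [e]
    exact (hstep U.1 U.2 h).choose_spec.2
  let G : ℕ → S := fun n => step^[n] ⟨⊥, isSubcomod_bot⟩
  have hG0 : (G 0).1 = ⊥ := rfl
  have hGs : ∀ n, G (n + 1) = step (G n) := fun n => Function.iterate_succ_apply' step n _
  have hrank : ∀ i, i ≤ Module.finrank k V → Module.finrank k (G i).1 = i := by
    intro i
    induction i with
    | zero => intro _; rw [hG0, finrank_bot]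
    | succ n ih =>
      intro hn
      have h1 := ih (by omega)
      have hne : (G n).1 ≠ ⊤ := by
        intro h
        rw [h, finrank_top] at h1
        omega
      rw [hGs, (hstep_ne (G n) hne).2.1, h1]
  have htopG : ∀ i, Module.finrank k V ≤ i → (G i).1 = ⊤ := by
    intro i hi
    induction i, hi using Nat.le_induction with
    | base => exact Submodule.eq_top_of_finrank_eq (hrank _ le_rfl)
    | succ n _ ih => rw [hGs, hstep_top (G n) ih, ih]
  refine ⟨fun n => (G n).1, hG0, fun i => (G i).2, ?_, hrank, htopG, ?_⟩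
  · intro i
    change (G i).1 ≤ (G (i + 1)).1
    by_cases h : (G i).1 = ⊤
    · rw [hGs, hstep_top (G i) h]
    · rw [hGs]; exact (hstep_ne (G i) h).1
  · intro i
    change P (G i).1 (G (i + 1)).1
    by_cases h : (G i).1 = ⊤
    · rw [hGs, hstep_top (G i) h, h]; exact htop
    · rw [hGs]; exact (hstep_ne (G i) h).2.2

end Iterate

section Groups

variable {k : Type u} [Field k] {A : Type v} [CommRing A] [Bialgebra k A]
variable {V : Type v} [AddCommGroup V] [Module k V] [c : HopfRep.Comod k A V]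

theorem exists_step_of_isUnipotent (hU : HopfRep.IsUnipotent k A) [Module.Finite k V]
    (U : Submodule k V) (hUs : HopfRep.IsSubcomod (k := k) (A := A) U) (hne : U ≠ ⊤) :
    ∃ U' : Submodule k V, HopfRep.IsSubcomod (k := k) (A := A) U' ∧ U ≤ U' ∧
      Module.finrank k U' = Module.finrank k U + 1 ∧
      ∀ v ∈ U', HopfRep.Comod.coact (k := k) (A := A) v - v ⊗ₜ[k] (1 : A) ∈
        LinearMap.range (U.subtype.rTensor A) := by
  have hnt : Nontrivial (V ⧸ U) := Submodule.Quotient.nontrivial_iff.mpr hne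
  have h1 := @hU (V ⧸ U) _ _ (ComodSub.Comod.quot c U hUs) inferInstance hnt
  obtain ⟨q, hq, hq0⟩ := (Submodule.ne_bot_iff _).mp h1
  exact exists_step_of_eigen_quot U hUs q hq0 1 hq

theorem exists_step_of_isTrigonalizable (hT : HopfRep.IsTrigonalizable k A) [Module.Finite k V]
    (U : Submodule k V) (hUs : HopfRep.IsSubcomod (k := k) (A := A) U) (hne : U ≠ ⊤) :
    ∃ U' : Submodule k V, HopfRep.IsSubcomod (k := k) (A := A) U' ∧ U ≤ U' ∧
      Module.finrank k U' = Module.finrank k U + 1 ∧ True := by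
  have hnt : Nontrivial (V ⧸ U) := Submodule.Quotient.nontrivial_iff.mpr hne
  obtain ⟨cQ, hcQ⟩ : ∃ cQ : HopfRep.Comod k A (V ⧸ U), cQ = ComodSub.Comod.quot c U hUs := ⟨_, rfl⟩
  obtain ⟨E, -, hE0, hE, hmin⟩ := @exists_simple_subcomod_le k _ A _ _ _ (V ⧸ U) _ _ cQ ⊤
    (@isSubcomod_top k _ A _ _ _ (V ⧸ U) _ _ cQ) top_ne_bot
  have hsimple := isSimpleComod_restr cQ E hE hE0 hmin
  have hdim : Module.finrank k E = 1 := @hT E _ _ (ComodSub.Comod.restr cQ E hE) inferInstance hsimple
  obtain ⟨l, hl0, hl⟩ := finrank_eq_one_iff'.mp hdim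
  have hl0' : (l : V ⧸ U) ≠ 0 := fun h => hl0 (Subtype.ext h)
  have heig : (l : V ⧸ U) ∈ @eigSet k _ A _ _ _ (V ⧸ U) _ _ cQ := by
    apply @mem_eigSet_of_forall_actDual k _ A _ _ _ (V ⧸ U) _ _ cQ
    intro f
    have h1 := (@isSubcomod_iff k _ A _ _ _ (V ⧸ U) _ _ cQ E).mp hE f l l.2
    obtain ⟨r, hr⟩ := hl ⟨_, h1⟩
    exact ⟨r, (congrArg Subtype.val hr).symm⟩
  obtain ⟨a, ha⟩ := heig
  subst hcQ
  obtain ⟨U', h1, h2, h3, -⟩ := exists_step_of_eigen_quot U hUs (l : V ⧸ U) hl0' a ha
  exact ⟨U', h1, h2, h3, trivial⟩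

end Groups

end Groth.Agent.Lib.helper22
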