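import Mathlib
import Groth.Agent.Lib.Helper22.SepMonic

/-!
# The monomial basis of a quotient by separated monic relations (helper22)
-/

set_option autoImplicit false

namespace Groth.Agent.Lib.helper22.SepMonicBasis
universe u v
open MvPolynomial PiTensorProduct TensorProduct SepMonic

variable {R : Type u} [CommRing R] {ι : Type v} [Fintype ι] [DecidableEq ι]
  (f : ι → Polynomial R) (hf : ∀ i, (f i).Monic) (d : ℕ) (hd : ∀ i, (f i).natDegree = d)

theorem ofT_tprod (y : Π i, AdjoinRoot (f i)) :
    ofT f (tprod R y) = ∏ i, comp f i (y i) := by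
  simp only [ofT, liftAlgHom_apply]
  rw [PiTensorProduct.lift.tprod]
  simp only [MultilinearMap.compLinearMap_apply, AlgHom.toLinearMap_apply,
    MultilinearMap.mkPiAlgebra_apply]

/-- the monomial basis -/
noncomputable def monoBasis : Module.Basis (ι → Fin d) R (MvPolynomial ι R ⧸ relIdeal f) :=
  ((Basis.piTensorProduct (fun i => (AdjoinRoot.powerBasis' (hf i)).basis)).map
    (equiv f).symm.toLinearEquiv).reindex (Equiv.piCongrRight fun i => finCongr (hd i))

theorem monoBasis_apply (e : ι → Fin d) :
    monoBasis f hf d hd e = ∏ i, (Ideal.Quotient.mk (relIdeal f) (X i)) ^ (e i).val := by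
  unfold monoBasis
  rw [Module.Basis.reindex_apply, Module.Basis.map_apply, Basis.piTensorProduct_apply]
  show ofT f _ = _
  rw [ofT_tprod]
  refine Finset.prod_congr rfl fun i _ => ?_
  rw [PowerBasis.basis_eq_pow, AdjoinRoot.powerBasis'_gen, map_pow, comp_root]
  congr 1

end Groth.Agent.Lib.helper22.SepMonicBasis
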