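import Mathlib
import Groth.Agent.Lib.Helper22.SepMonicBasis

/-!
# The Frobenius form on an Artin–Schreier-type family `R[u]/(u_i^p - α_i u_i - x_i)` (helper22)
-/

set_option autoImplicit false

namespace Groth.Agent.Lib.helper22.FrobForm
universe u v
open MvPolynomial SepMonic SepMonicBasis

/-- the top exponent -/
def top (p : ℕ) (hp : 2 ≤ p) : Fin p := ⟨p - 1, by omega⟩

variable {R : Type u} [CommRing R] {ι : Type v} [Fintype ι] [DecidableEq ι]
  (f : ι → Polynomial R) (hf : ∀ i, (f i).Monic) (p : ℕ) (hd : ∀ i, (f i).natDegree = p)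
  (hp : 2 ≤ p)

local notation "AA" => MvPolynomial ι R ⧸ relIdeal f

omit [Fintype ι] [DecidableEq ι] in
/-- scalar multiplication on the quotient is multiplication by the image -/
theorem smul_eq (r : R) (y : AA) : r • y = algebraMap R AA r * y := Algebra.smul_def r y

/-- the classes of the variables -/
noncomputable def uu (i : ι) : AA := Ideal.Quotient.mk (relIdeal f) (X i)

theorem monoBasis_apply' (e : ι → Fin p) :
    monoBasis f hf p hd e = ∏ i, (uu f i) ^ (e i).val := monoBasis_apply f hf p hd e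

/-- the Frobenius form: the coefficient of the top monomial -/
noncomputable def lam : AA →ₗ[R] R := (monoBasis f hf p hd).coord (fun _ => top p hp)

/-- `y` is a combination of `1, u_i, …, u_i^(p-1)` with top coefficient `r` -/
def HasTop (i : ι) (y : AA) (r : R) : Prop :=
  ∃ c : Fin p → R, y = ∑ j : Fin p, c j • (uu f i) ^ (j : ℕ) ∧ c (top p hp) = r

theorem lam_prod (y : ι → AA) (r : ι → R) (h : ∀ i, HasTop f p hp i (y i) (r i)) :
    lam f hf p hd hp (∏ i, y i) = ∏ i, r i := by
  choose c hc hct using h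
  have h1 : (∏ i, y i) = ∑ J : ι → Fin p, (∏ i, c i (J i)) • monoBasis f hf p hd J := by
    simp_rw [monoBasis_apply]
    calc (∏ i, y i) = ∏ i, ∑ j : Fin p, c i j • (uu f i) ^ (j : ℕ) :=
          Finset.prod_congr rfl fun i _ => hc i
      _ = ∑ J : ι → Fin p, ∏ i, c i (J i) • (uu f i) ^ ((J i : Fin p) : ℕ) := by
          rw [Finset.prod_univ_sum]
          simp
      _ = _ := by
          refine Finset.sum_congr rfl fun J _ => ?_
          rw [Finset.prod_smul]
          rfl
  rw [h1, map_sum]
  simp_rw [map_smul, lam, Module.Basis.coord_apply, Module.Basis.repr_self, smul_eq_mul]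
  rw [Finset.sum_eq_single (fun _ => top p hp)]
  · simp [hct]
  · intro J _ hJ
    rw [Finsupp.single_eq_of_ne' hJ, mul_zero]
  · intro h; exact absurd (Finset.mem_univ _) h

section hastop
omit [Fintype ι] [DecidableEq ι]

theorem hasTop_zero (i : ι) : HasTop f p hp i 0 0 :=
  ⟨fun _ => 0, by simp, rfl⟩

theorem hasTop_add (i : ι) {y y' : AA} {r r' : R} (h : HasTop f p hp i y r)
    (h' : HasTop f p hp i y' r') : HasTop f p hp i (y + y') (r + r') := by
  obtain ⟨c, rfl, rfl⟩ := h
  obtain ⟨c', rfl, rfl⟩ := h'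
  refine ⟨c + c', ?_, rfl⟩
  rw [← Finset.sum_add_distrib]
  refine Finset.sum_congr rfl fun j _ => ?_
  rw [Pi.add_apply, add_smul]

theorem hasTop_smul (i : ι) {y : AA} {r : R} (s : R) (h : HasTop f p hp i y r) :
    HasTop f p hp i (s • y) (s * r) := by
  obtain ⟨c, rfl, rfl⟩ := h
  refine ⟨s • c, ?_, rfl⟩
  rw [Finset.smul_sum]
  refine Finset.sum_congr rfl fun j _ => ?_
  rw [Pi.smul_apply, smul_eq_mul, mul_smul]

theorem hasTop_sum (i : ι) {κ : Type*} (s : Finset κ) (y : κ → AA) (r : κ → R)
    (h : ∀ j ∈ s, HasTop f p hp i (y j) (r j)) :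
    HasTop f p hp i (∑ j ∈ s, y j) (∑ j ∈ s, r j) := by
  classical
  induction s using Finset.induction_on with
  | empty => simpa using hasTop_zero f p hp i
  | insert a s ha ih =>
    rw [Finset.sum_insert ha, Finset.sum_insert ha]
    exact hasTop_add f p hp i (h a (Finset.mem_insert_self a s))
      (ih fun j hj => h j (Finset.mem_insert_of_mem hj))

theorem hasTop_pow (i : ι) (k : ℕ) (hk : k < p) :
    HasTop f p hp i ((uu f i) ^ k) (if k = p - 1 then 1 else 0) := by
  classical
  refine ⟨Pi.single ⟨k, hk⟩ 1, ?_, ?_⟩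
  · rw [Finset.sum_eq_single ⟨k, hk⟩]
    · simp
    · intro j _ hj
      rw [Pi.single_eq_of_ne hj, zero_smul]
    · intro h; exact absurd (Finset.mem_univ _) h
  · rw [Pi.single_apply]
    congr 1
    simp [top, Fin.ext_iff, eq_comm]

theorem hasTop_congr (i : ι) {y y' : AA} {r r' : R} (h : HasTop f p hp i y r) (hy : y = y')
    (hr : r = r') : HasTop f p hp i y' r' := by
  subst hy hr; exact h

end hastop

section rel
variable (α x : ι → R)

/-- the dual family in one variable -/
noncomputable def dd (i : ι) (m : Fin p) : AA :=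
  if (m : ℕ) = 0 then (uu f i) ^ (p - 1) - algebraMap R AA (α i) else (uu f i) ^ (p - 1 - (m : ℕ))

theorem hasTop_mul_dd (hrel : ∀ i, (uu f i) ^ p = algebraMap R AA (α i) * uu f i + algebraMap R AA (x i)) (i : ι) (l m : Fin p) :
    HasTop f p hp i ((uu f i) ^ (l : ℕ) * dd f p α i m) (if l = m then 1 else 0) := by
  have hl := l.2
  have hm := m.2
  unfold dd
  by_cases hm0 : (m : ℕ) = 0
  · rw [if_pos hm0]
    by_cases hl0 : (l : ℕ) = 0
    · -- `l = m = 0`
      have hlm : l = m := Fin.ext (hl0.trans hm0.symm)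
      rw [if_pos hlm, hl0, pow_zero, one_mul]
      have h1 := hasTop_add f p hp i (hasTop_pow f p hp i (p - 1) (by omega))
        (hasTop_smul f p hp i (-(α i)) (hasTop_pow f p hp i 0 (by omega)))
      refine hasTop_congr f p hp i h1 ?_ ?_
      · rw [pow_zero, smul_eq f, map_neg]; ring
      · rw [if_pos rfl, if_neg (by omega)]; ring
    · -- `l ≥ 1`, `m = 0`
      have hlm : l ≠ m := fun h => hl0 (by rw [h, hm0])
      rw [if_neg hlm]
      have h1 := hasTop_smul f p hp i (x i) (hasTop_pow f p hp i ((l : ℕ) - 1) (by omega))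
      refine hasTop_congr f p hp i h1 ?_ ?_
      · rw [smul_eq f]
        have e1 : (uu f i) ^ (l : ℕ) = (uu f i) ^ ((l : ℕ) - 1) * uu f i := by
          rw [← pow_succ]; congr 1; omega
        have e2 : (uu f i) ^ ((l : ℕ) - 1) * uu f i * (uu f i) ^ (p - 1) =
            (uu f i) ^ ((l : ℕ) - 1) * (uu f i) ^ p := by
          rw [mul_assoc, ← pow_succ']; congr 2; omega
        rw [e1, mul_sub, e2, hrel i]
        ring
      · rw [if_neg (by omega), mul_zero]
  · rw [if_neg hm0]
    by_cases hlm : (l : ℕ) ≤ (m : ℕ)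
    · rw [← pow_add]
      have h1 := hasTop_pow f p hp i ((l : ℕ) + (p - 1 - (m : ℕ))) (by omega)
      refine hasTop_congr f p hp i h1 rfl ?_
      by_cases hlm' : l = m
      · rw [if_pos hlm', if_pos (by rw [hlm']; omega)]
      · have : (l : ℕ) ≠ (m : ℕ) := fun h => hlm' (Fin.ext h)
        rw [if_neg hlm', if_neg (by omega)]
    · have hlm' : l ≠ m := fun h => hlm (by rw [h])
      rw [if_neg hlm', ← pow_add]
      have h1 := hasTop_add f p hp i
        (hasTop_smul f p hp i (α i) (hasTop_pow f p hp i ((l : ℕ) - (m : ℕ)) (by omega)))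
        (hasTop_smul f p hp i (x i) (hasTop_pow f p hp i ((l : ℕ) - (m : ℕ) - 1) (by omega)))
      refine hasTop_congr f p hp i h1 ?_ ?_
      · rw [smul_eq f, smul_eq f]
        have e1 : (l : ℕ) + (p - 1 - (m : ℕ)) = ((l : ℕ) - (m : ℕ) - 1) + p := by omega
        have e2 : (uu f i) ^ ((l : ℕ) - (m : ℕ)) = (uu f i) ^ ((l : ℕ) - (m : ℕ) - 1) * uu f i := by
          rw [← pow_succ]; congr 1; omega
        rw [e1, pow_add, hrel i, e2]
        ring
      · rw [if_neg (by omega), if_neg (by omega)]; ring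

/-- the dual family -/
noncomputable def DD (e : ι → Fin p) : AA := ∏ i, dd f p α i (e i)

theorem lam_basis_mul_DD (hrel : ∀ i, (uu f i) ^ p = algebraMap R AA (α i) * uu f i + algebraMap R AA (x i)) (l e : ι → Fin p) :
    lam f hf p hd hp (monoBasis f hf p hd l * DD f p α e) = if l = e then 1 else 0 := by
  rw [monoBasis_apply', DD, ← Finset.prod_mul_distrib,
    lam_prod f hf p hd hp _ _ (fun i => hasTop_mul_dd f p hp α x hrel i (l i) (e i))]
  by_cases hle : l = e
  · rw [if_pos hle]
    apply Finset.prod_eq_one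
    intro i _
    rw [if_pos (by rw [hle])]
  · rw [if_neg hle]
    obtain ⟨i, hi⟩ := Function.ne_iff.mp hle
    apply Finset.prod_eq_zero (Finset.mem_univ i)
    rw [if_neg hi]

/-- surjectivity of the pairing -/
theorem lam_surj (hrel : ∀ i, (uu f i) ^ p = algebraMap R AA (α i) * uu f i + algebraMap R AA (x i)) (ψ : AA →ₗ[R] R) : ∃ y : AA, ∀ z, ψ z = lam f hf p hd hp (z * y) := by
  refine ⟨∑ e : ι → Fin p, ψ (monoBasis f hf p hd e) • DD f p α e, ?_⟩
  intro z
  have h1 : ψ = (lam f hf p hd hp) ∘ₗ (LinearMap.mulRight R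
      (∑ e : ι → Fin p, ψ (monoBasis f hf p hd e) • DD f p α e)) := by
    apply (monoBasis f hf p hd).ext
    intro l
    rw [LinearMap.comp_apply, LinearMap.mulRight_apply, Finset.mul_sum, map_sum]
    simp_rw [mul_smul_comm, map_smul, lam_basis_mul_DD f hf p hd hp α x hrel, smul_eq_mul]
    simp
  exact congrArg (fun g => g z) h1

/-- injectivity of the pairing -/
theorem lam_inj (hrel : ∀ i, (uu f i) ^ p = algebraMap R AA (α i) * uu f i + algebraMap R AA (x i)) (y : AA) (hy : ∀ z, lam f hf p hd hp (z * y) = 0) : y = 0 := by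
  set b := monoBasis f hf p hd with hb
  -- `Φ y = (lam (b e * y))_e`
  let Φ : AA →ₗ[R] ((ι → Fin p) → R) :=
    LinearMap.pi fun e => (lam f hf p hd hp) ∘ₗ (LinearMap.mulLeft R (b e))
  let Ψ : ((ι → Fin p) → R) →ₗ[R] AA :=
    { toFun := fun c => ∑ e, c e • DD f p α e
      map_add' := fun c c' => by simp [add_smul, Finset.sum_add_distrib]
      map_smul' := fun s c => by simp [mul_smul, Finset.smul_sum] }
  have hΦΨ : ∀ c, Φ (Ψ c) = c := by
    intro c
    funext l
    show lam f hf p hd hp (b l * ∑ e, c e • DD f p α e) = c l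
    rw [Finset.mul_sum, map_sum]
    simp_rw [mul_smul_comm, map_smul, hb, lam_basis_mul_DD f hf p hd hp α x hrel, smul_eq_mul]
    simp
  -- `Φ ∘ b.equivFun.symm` is a surjective endomorphism of `R^E`, hence injective
  let T : ((ι → Fin p) → R) →ₗ[R] ((ι → Fin p) → R) := Φ ∘ₗ b.equivFun.symm.toLinearMap
  have hTsurj : Function.Surjective T := by
    intro c
    refine ⟨b.equivFun (Ψ c), ?_⟩
    show Φ (b.equivFun.symm (b.equivFun (Ψ c))) = c
    rw [LinearEquiv.symm_apply_apply, hΦΨ]
  have hTinj := OrzechProperty.injective_of_surjective_endomorphism T hTsurj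
  have hΦy : Φ y = 0 := by
    funext e
    exact hy (b e)
  have h2 : T (b.equivFun y) = 0 := by
    show Φ (b.equivFun.symm (b.equivFun y)) = 0
    rw [LinearEquiv.symm_apply_apply, hΦy]
  have h3 := hTinj (h2.trans (map_zero T).symm)
  exact b.equivFun.injective (h3.trans (map_zero _).symm)

end rel

section inv

omit [Fintype ι] [DecidableEq ι] in
theorem hasTop_add_pow (i : ι) (a : R) (e : ℕ) (he : e < p) :
    HasTop f p hp i ((uu f i + algebraMap R AA a) ^ e) (if e = p - 1 then 1 else 0) := by
  rw [add_pow]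
  have h1 := hasTop_sum f p hp i (Finset.range (e + 1))
    (fun m => (uu f i) ^ m * algebraMap R AA a ^ (e - m) * ((e.choose m : ℕ) : AA))
    (fun m => (a ^ (e - m) * ((e.choose m : ℕ) : R)) * (if m = p - 1 then 1 else 0))
    (fun m hm => by
      have hm' : m < p := by
        have := Finset.mem_range.mp hm
        omega
      have h2 := hasTop_smul f p hp i (a ^ (e - m) * ((e.choose m : ℕ) : R))
        (hasTop_pow f p hp i m hm')
      refine hasTop_congr f p hp i h2 ?_ rfl
      rw [smul_eq f, map_mul, map_pow, map_natCast]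
      ring)
  refine hasTop_congr f p hp i h1 rfl ?_
  by_cases hep : e = p - 1
  · rw [if_pos hep, Finset.sum_eq_single (p - 1)]
    · rw [if_pos rfl, hep, Nat.sub_self, pow_zero, Nat.choose_self]
      simp
    · intro m _ hm
      rw [if_neg hm, mul_zero]
    · intro h
      exfalso; apply h
      rw [Finset.mem_range]; omega
  · rw [if_neg hep]
    apply Finset.sum_eq_zero
    intro m hm
    have := Finset.mem_range.mp hm
    rw [if_neg (by omega), mul_zero]

/-- the Frobenius form is invariant under translations of the variables -/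
theorem lam_invariant (γ : AA →ₐ[R] AA) (a : ι → R)
    (hγ : ∀ i, γ (uu f i) = uu f i + algebraMap R AA (a i)) (y : AA) :
    lam f hf p hd hp (γ y) = lam f hf p hd hp y := by
  have h1 : (lam f hf p hd hp) ∘ₗ γ.toLinearMap = lam f hf p hd hp := by
    apply (monoBasis f hf p hd).ext
    intro l
    rw [LinearMap.comp_apply, AlgHom.toLinearMap_apply, monoBasis_apply', map_prod]
    simp_rw [map_pow, hγ]
    rw [lam_prod f hf p hd hp _ _ (fun i => hasTop_add_pow f p hp i (a i) (l i) (l i).2),
      lam_prod f hf p hd hp _ _ (fun i => hasTop_pow f p hp i (l i) (l i).2)]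
  exact congrArg (fun g => g y) h1

end inv

end Groth.Agent.Lib.helper22.FrobForm
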