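import Mathlib

set_option autoImplicit false
open Matrix

namespace Groth.Agent.Lib.helper22.GL2

variable {p : ℕ} [Fact p.Prime]

local notation "Mat" => Matrix (Fin 2) (Fin 2) ℤ_[p]

theorem toZMod_eq_zero_iff (x : ℤ_[p]) : PadicInt.toZMod x = 0 ↔ (p : ℤ_[p]) ∣ x := by
  rw [← RingHom.mem_ker, PadicInt.ker_toZMod, PadicInt.maximalIdeal_eq_span_p,
    Ideal.mem_span_singleton]

theorem toZMod_eq_iff (x y : ℤ_[p]) :
    PadicInt.toZMod x = PadicInt.toZMod y ↔ (p : ℤ_[p]) ∣ x - y := by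
  rw [← toZMod_eq_zero_iff, map_sub, sub_eq_zero]

theorem isUnit_iff_toZMod_ne_zero (x : ℤ_[p]) : IsUnit x ↔ PadicInt.toZMod x ≠ 0 := by
  rw [Ne, ← RingHom.mem_ker, PadicInt.ker_toZMod, IsLocalRing.mem_maximalIdeal, mem_nonunits_iff,
    not_not]

/-- entrywise congruence modulo `p` gives a matrix of differences -/
theorem exists_eq_add_smul_of_toZMod_eq (U W : Mat)
    (h : ∀ i j, PadicInt.toZMod (W i j) = PadicInt.toZMod (U i j)) :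
    ∃ Z : Mat, W = U + (p : ℤ_[p]) • Z := by
  have h' : ∀ i j, ∃ z, W i j - U i j = (p : ℤ_[p]) * z := fun i j =>
    (toZMod_eq_iff _ _).mp (h i j)
  choose Z hZ using h'
  refine ⟨Matrix.of Z, ?_⟩
  ext i j
  simp only [Matrix.add_apply, Matrix.smul_apply, Matrix.of_apply, smul_eq_mul, ← hZ]
  ring


variable (H : Subgroup (GL (Fin 2) ℤ_[p]))

/-- `X` is hit at level `m + 1` -/
def Hit (m : ℕ) (X : Mat) : Prop :=
  ∃ u ∈ H, ∃ Y : Mat, (u : Mat) = 1 + (p : ℤ_[p]) ^ (m + 1) • X + (p : ℤ_[p]) ^ (m + 2) • Y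

variable {H}

theorem hit_zero (m : ℕ) : Hit H m 0 :=
  ⟨1, H.one_mem, 0, by simp⟩

theorem hit_add {m : ℕ} {X X' : Mat} (h : Hit H m X) (h' : Hit H m X') : Hit H m (X + X') := by
  obtain ⟨u, hu, Y, hY⟩ := h
  obtain ⟨u', hu', Y', hY'⟩ := h'
  refine ⟨u * u', H.mul_mem hu hu',
    Y + Y' + (p : ℤ_[p]) ^ m • (X * X') + (p : ℤ_[p]) ^ (m + 1) • (X * Y' + Y * X') +
      (p : ℤ_[p]) ^ (m + 2) • (Y * Y'), ?_⟩
  rw [Matrix.GeneralLinearGroup.coe_mul, hY, hY']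
  simp only [add_mul, mul_add, one_mul, mul_one, smul_mul_assoc, mul_smul_comm, smul_add, smul_smul]
  have e1 : (p : ℤ_[p]) ^ (m + 1) * (p : ℤ_[p]) ^ (m + 1) = (p : ℤ_[p]) ^ (m + 2) * (p : ℤ_[p]) ^ m := by
    ring
  have e2 : (p : ℤ_[p]) ^ (m + 1) * (p : ℤ_[p]) ^ (m + 2) =
      (p : ℤ_[p]) ^ (m + 2) * (p : ℤ_[p]) ^ (m + 1) := by ring
  rw [e1, e2]
  abel

theorem hit_congr {m : ℕ} {X : Mat} (h : Hit H m X) (Z : Mat) :
    Hit H m (X + (p : ℤ_[p]) • Z) := by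
  obtain ⟨u, hu, Y, hY⟩ := h
  refine ⟨u, hu, Y - Z, ?_⟩
  rw [hY]
  simp only [smul_add, smul_sub, smul_smul]
  have e1 : (p : ℤ_[p]) ^ (m + 1) * (p : ℤ_[p]) = (p : ℤ_[p]) ^ (m + 2) := by ring
  rw [e1]
  abel

theorem hit_conj {m : ℕ} {X : Mat} (h : Hit H m X) {w : GL (Fin 2) ℤ_[p]} (hw : w ∈ H) :
    Hit H m ((w : Mat) * X * ((w⁻¹ : GL (Fin 2) ℤ_[p]) : Mat)) := by
  obtain ⟨u, hu, Y, hY⟩ := h
  refine ⟨w * u * w⁻¹, H.mul_mem (H.mul_mem hw hu) (H.inv_mem hw),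
    (w : Mat) * Y * ((w⁻¹ : GL (Fin 2) ℤ_[p]) : Mat), ?_⟩
  have h1 : (w : Mat) * ((w⁻¹ : GL (Fin 2) ℤ_[p]) : Mat) = 1 := by
    rw [← Matrix.GeneralLinearGroup.coe_mul, mul_inv_cancel]
    rfl
  rw [Matrix.GeneralLinearGroup.coe_mul, Matrix.GeneralLinearGroup.coe_mul, hY]
  simp only [mul_add, add_mul, mul_one, h1, mul_smul_comm, smul_mul_assoc]

end Groth.Agent.Lib.helper22.GL2
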