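import Groth.Agent.Lib.Helper22.GL2a

set_option autoImplicit false
open Matrix

namespace Groth.Agent.Lib.helper22.GL2

variable {p : ℕ} [Fact p.Prime]

local notation "Mat" => Matrix (Fin 2) (Fin 2) ℤ_[p]

variable (H : Subgroup (GL (Fin 2) ℤ_[p]))

/-- hypothesis (i): the subgroup surjects onto `GL₂(𝔽_p)` -/
def SurjModP : Prop :=
  ∀ ū : GL (Fin 2) (ZMod p), ∃ u ∈ H,
    Matrix.GeneralLinearGroup.map (n := Fin 2) (PadicInt.toZMod (p := p)) u = ū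

variable {H}

theorem exists_mem_congr_GL (hH : SurjModP H) (g₀ : GL (Fin 2) ℤ_[p]) :
    ∃ w ∈ H, ∃ Z : Mat, (w : Mat) = (g₀ : Mat) + (p : ℤ_[p]) • Z := by
  obtain ⟨w, hw, hwg⟩ := hH (Matrix.GeneralLinearGroup.map (PadicInt.toZMod (p := p)) g₀)
  refine ⟨w, hw, ?_⟩
  apply exists_eq_add_smul_of_toZMod_eq
  intro i j
  have h1 := Matrix.GeneralLinearGroup.map_apply (PadicInt.toZMod (p := p)) i j w
  have h2 := Matrix.GeneralLinearGroup.map_apply (PadicInt.toZMod (p := p)) i j g₀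
  rw [← h1, ← h2, hwg]

theorem exists_mem_congr (hH : SurjModP H) (U₀ V₀ : Mat) (hUV : U₀ * V₀ = 1) :
    ∃ w ∈ H, ∃ Z : Mat, (w : Mat) = U₀ + (p : ℤ_[p]) • Z := by
  have hVU : V₀ * U₀ = 1 := _root_.mul_eq_one_comm.mp hUV
  exact exists_mem_congr_GL hH ⟨U₀, V₀, hUV, hVU⟩

theorem hit_conj_int (hH : SurjModP H) {m : ℕ} {X : Mat} (h : Hit H m X) (U₀ V₀ : Mat)
    (hUV : U₀ * V₀ = 1) : Hit H m (U₀ * X * V₀) := by
  obtain ⟨w, hw, Z, hWZ⟩ := exists_mem_congr hH U₀ V₀ hUV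
  set W : Mat := (w : Mat) with hW
  set W' : Mat := ((w⁻¹ : GL (Fin 2) ℤ_[p]) : Mat) with hW'
  have h1 : W' * W = 1 := by
    rw [hW, hW', ← Matrix.GeneralLinearGroup.coe_mul, inv_mul_cancel]
    rfl
  have hW'eq : W' = V₀ + (p : ℤ_[p]) • (-(W' * Z * V₀)) := by
    have hpZ : (p : ℤ_[p]) • Z = W - U₀ := by rw [hWZ]; abel
    have e : (p : ℤ_[p]) • (W' * Z * V₀) = V₀ - W' := by
      calc (p : ℤ_[p]) • (W' * Z * V₀) = W' * ((p : ℤ_[p]) • Z) * V₀ := by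
            rw [Matrix.mul_smul, Matrix.smul_mul]
        _ = W' * (W - U₀) * V₀ := by rw [hpZ]
        _ = (W' * W) * V₀ - W' * (U₀ * V₀) := by
            rw [Matrix.mul_sub, Matrix.sub_mul, Matrix.mul_assoc W' U₀ V₀]
        _ = V₀ - W' := by rw [h1, hUV, Matrix.one_mul, Matrix.mul_one]
    rw [smul_neg, e]
    abel
  have hc := hit_conj h hw
  rw [← hW, ← hW'] at hc
  have key : U₀ * X * V₀ = W * X * W' +
      (p : ℤ_[p]) • (-(Z * X * W') + U₀ * X * (W' * Z * V₀)) := by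
    have e1 : W * X * W' = U₀ * X * W' + (p : ℤ_[p]) • (Z * X * W') := by
      rw [hWZ]
      simp only [add_mul, smul_mul_assoc]
    have e2 : U₀ * X * W' = U₀ * X * V₀ + (p : ℤ_[p]) • (-(U₀ * X * (W' * Z * V₀))) := by
      conv_lhs => rw [hW'eq]
      simp only [mul_add, mul_smul_comm, mul_neg]
    rw [e1, e2]
    simp only [smul_add, smul_neg]
    abel
  rw [key]
  exact hit_congr hc _

end Groth.Agent.Lib.helper22.GL2
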