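import Groth.Agent.Lib.Helper22.GL2b

set_option autoImplicit false
open Matrix

namespace Groth.Agent.Lib.helper22.GL2

variable {p : ℕ} [Fact p.Prime]

local notation "Mat" => Matrix (Fin 2) (Fin 2) ℤ_[p]

variable (H : Subgroup (GL (Fin 2) ℤ_[p]))

/-- hypothesis (ii) in subgroup form -/
def CongrElts : Prop :=
  ∀ n : ℕ, 1 ≤ n → ∃ u ∈ H, ∃ a b c d : ℤ_[p], ¬ ((p : ℤ_[p]) ∣ a) ∧
    (u : Mat) = !![1 + (p : ℤ_[p]) ^ n * a, (p : ℤ_[p]) ^ (n + 1) * b;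
                   (p : ℤ_[p]) ^ (n + 1) * c, 1 + (p : ℤ_[p]) ^ (n + 1) * d]

variable {H}

theorem hit_nsmul {m : ℕ} {X : Mat} (h : Hit H m X) (k : ℕ) : Hit H m (k • X) := by
  induction k with
  | zero => simpa using hit_zero (H := H) m
  | succ k ih =>
    rw [succ_nsmul]
    exact hit_add ih h

theorem hit_E11_base (hC : CongrElts H) (m : ℕ) :
    ∃ a : ℤ_[p], ¬ ((p : ℤ_[p]) ∣ a) ∧ Hit H m !![a, 0; 0, 0] := by
  obtain ⟨u, hu, a, b, c, d, ha, hU⟩ := hC (m + 1) (by omega)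
  refine ⟨a, ha, u, hu, !![0, b; c, d], ?_⟩
  rw [hU]
  ext i j
  fin_cases i <;> fin_cases j <;> simp

theorem hit_E11 (hC : CongrElts H) (m : ℕ) (c₀ : ℤ_[p]) : Hit H m !![c₀, 0; 0, 0] := by
  obtain ⟨a, ha, hHit⟩ := hit_E11_base hC m
  have ha' : PadicInt.toZMod a ≠ 0 := by
    rwa [Ne, toZMod_eq_zero_iff]
  set k : ℕ := ZMod.val (PadicInt.toZMod c₀ / PadicInt.toZMod a) with hk
  have hk' : PadicInt.toZMod c₀ = PadicInt.toZMod ((k : ℤ_[p]) * a) := by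
    rw [map_mul, map_natCast, hk, ZMod.natCast_zmod_val, div_mul_cancel₀ _ ha']
  obtain ⟨z, hz⟩ := (toZMod_eq_iff _ _).mp hk'
  have e : !![c₀, 0; 0, 0] = k • !![a, 0; 0, 0] + (p : ℤ_[p]) • !![z, 0; 0, 0] := by
    ext i j
    fin_cases i <;> fin_cases j <;> simp
    linear_combination hz
  rw [e]
  exact hit_congr (hit_nsmul hHit k) _

theorem hit_E22 (hH : SurjModP H) (hC : CongrElts H) (m : ℕ) (c₀ : ℤ_[p]) :
    Hit H m !![0, 0; 0, c₀] := by
  have h := hit_conj_int hH (hit_E11 hC m c₀) !![0, 1; 1, 0] !![0, 1; 1, 0]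
    (by ext i j; fin_cases i <;> fin_cases j <;> simp)
  convert h using 1
  ext i j
  fin_cases i <;> fin_cases j <;> simp

theorem hit_E12 (hH : SurjModP H) (hC : CongrElts H) (m : ℕ) (c₀ : ℤ_[p]) :
    Hit H m !![0, c₀; 0, 0] := by
  have h := hit_conj_int hH (hit_E11 hC m (-c₀)) !![1, 1; 0, 1] !![1, -1; 0, 1]
    (by ext i j; fin_cases i <;> fin_cases j <;> simp)
  have h2 := hit_add h (hit_E11 hC m c₀)
  convert h2 using 1
  ext i j
  fin_cases i <;> fin_cases j <;> simp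

theorem hit_E21 (hH : SurjModP H) (hC : CongrElts H) (m : ℕ) (c₀ : ℤ_[p]) :
    Hit H m !![0, 0; c₀, 0] := by
  have h := hit_conj_int hH (hit_E11 hC m c₀) !![1, 0; 1, 1] !![1, 0; -1, 1]
    (by ext i j; fin_cases i <;> fin_cases j <;> simp)
  have h2 := hit_add h (hit_E11 hC m (-c₀))
  convert h2 using 1
  ext i j
  fin_cases i <;> fin_cases j <;> simp

theorem hit_all (hH : SurjModP H) (hC : CongrElts H) (m : ℕ) (X : Mat) : Hit H m X := by
  have h := hit_add (hit_add (hit_E11 hC m (X 0 0)) (hit_E12 hH hC m (X 0 1)))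
    (hit_add (hit_E21 hH hC m (X 1 0)) (hit_E22 hH hC m (X 1 1)))
  convert h using 1
  ext i j
  fin_cases i <;> fin_cases j <;> simp

/-- successive approximation -/
theorem approx (hH : SurjModP H) (hC : CongrElts H) (M : GL (Fin 2) ℤ_[p]) (m : ℕ) :
    ∃ u ∈ H, ∃ Y : Mat, (u : Mat) = (M : Mat) + (p : ℤ_[p]) ^ (m + 1) • Y := by
  induction m with
  | zero =>
    obtain ⟨w, hw, Z, hZ⟩ := exists_mem_congr_GL hH M
    exact ⟨w, hw, Z, by simpa using hZ⟩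
  | succ m ih =>
    obtain ⟨u, hu, Y, hY⟩ := ih
    obtain ⟨v, hv, Y₂, hY₂⟩ := hit_all hH hC m (-(((u⁻¹ : GL (Fin 2) ℤ_[p]) : Mat) * Y))
    refine ⟨u * v, H.mul_mem hu hv, (u : Mat) * Y₂, ?_⟩
    have h1 : (u : Mat) * ((u⁻¹ : GL (Fin 2) ℤ_[p]) : Mat) = 1 := by
      rw [← Matrix.GeneralLinearGroup.coe_mul, mul_inv_cancel]
      rfl
    rw [Matrix.GeneralLinearGroup.coe_mul, hY₂]
    simp only [mul_add, mul_one, mul_smul_comm, mul_neg, ← Matrix.mul_assoc, h1, Matrix.one_mul]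
    rw [hY]
    simp only [smul_neg]
    abel

end Groth.Agent.Lib.helper22.GL2
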