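import Groth.Agent.Lib.Helper22.GL2c

set_option autoImplicit false
open Matrix

namespace Groth.Agent.Lib.helper22.GL2

universe u

variable {p : ℕ} [Fact p.Prime]

local notation "Mat" => Matrix (Fin 2) (Fin 2) ℤ_[p]

theorem norm_p_pow_mul_le (m : ℕ) (y : ℤ_[p]) :
    ‖(p : ℤ_[p]) ^ m * y‖ ≤ ((p : ℝ)⁻¹) ^ m := by
  rw [norm_mul, norm_pow, PadicInt.norm_p]
  have h0 : (0 : ℝ) ≤ ((p : ℝ)⁻¹) ^ m := by positivity
  calc ((p : ℝ)⁻¹) ^ m * ‖y‖ ≤ ((p : ℝ)⁻¹) ^ m * 1 :=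
        mul_le_mul_of_nonneg_left (PadicInt.norm_le_one y) h0
    _ = _ := mul_one _

theorem coe_mk'' {R : Type*} [CommRing R] (A : Matrix (Fin 2) (Fin 2) R) (h : IsUnit A.det) :
    ((Matrix.GeneralLinearGroup.mk'' A h : GL (Fin 2) R) : Matrix (Fin 2) (Fin 2) R) = A := rfl

theorem map_toZMod_surjective :
    Function.Surjective (Matrix.GeneralLinearGroup.map (n := Fin 2) (PadicInt.toZMod (p := p))) := by
  intro ū
  have hs : ∀ i j, ∃ x : ℤ_[p], PadicInt.toZMod x = (ū : Matrix (Fin 2) (Fin 2) (ZMod p)) i j :=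
    fun i j => ZMod.ringHom_surjective PadicInt.toZMod _
  choose A hA using hs
  have hmap : (Matrix.of A).map (PadicInt.toZMod (p := p)) = (ū : Matrix (Fin 2) (Fin 2) (ZMod p)) := by
    ext i j
    simp [hA]
  have hdet : IsUnit (Matrix.of A).det := by
    rw [isUnit_iff_toZMod_ne_zero, RingHom.map_det, RingHom.mapMatrix_apply, hmap]
    have := (Matrix.isUnits_det_units ū)
    exact this.ne_zero
  refine ⟨Matrix.GeneralLinearGroup.mk'' (Matrix.of A) hdet, ?_⟩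
  apply Matrix.GeneralLinearGroup.ext
  intro i j
  rw [Matrix.GeneralLinearGroup.map_apply, coe_mk'']
  simp [hA]

theorem main (𝔊 : Type u) [Group 𝔊] [TopologicalSpace 𝔊] [CompactSpace 𝔊]
    (ϕ : 𝔊 →* GL (Fin 2) ℤ_[p])
    (hϕ : Continuous fun g => ((ϕ g : GL (Fin 2) ℤ_[p]) : Matrix (Fin 2) (Fin 2) ℤ_[p])) :
    Function.Surjective ϕ ↔
      (Function.Surjective ((Matrix.GeneralLinearGroup.map (n := Fin 2) (PadicInt.toZMod (p := p))).comp ϕ) ∧
        ∀ n : ℕ, 1 ≤ n → ∃ (g : 𝔊) (a b c d : ℤ_[p]), ¬ ((p : ℤ_[p]) ∣ a) ∧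
          ((ϕ g : GL (Fin 2) ℤ_[p]) : Matrix (Fin 2) (Fin 2) ℤ_[p]) =
            !![1 + (p : ℤ_[p]) ^ n * a, (p : ℤ_[p]) ^ (n + 1) * b;
               (p : ℤ_[p]) ^ (n + 1) * c, 1 + (p : ℤ_[p]) ^ (n + 1) * d]) := by
  constructor
  · intro hs
    refine ⟨?_, ?_⟩
    · rw [MonoidHom.coe_comp]
      exact map_toZMod_surjective.comp hs
    · intro n hn
      have hdet : IsUnit (!![1 + (p : ℤ_[p]) ^ n, 0; 0, 1] : Mat).det := by
        rw [Matrix.det_fin_two_of, isUnit_iff_toZMod_ne_zero]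
        have hp : PadicInt.toZMod (p : ℤ_[p]) = 0 := by
          rw [toZMod_eq_zero_iff]
        rw [mul_one, mul_zero, sub_zero, map_add, map_one, map_pow, hp, zero_pow (by omega), add_zero]
        exact one_ne_zero
      obtain ⟨g, hg⟩ := hs (Matrix.GeneralLinearGroup.mk'' _ hdet)
      refine ⟨g, 1, 0, 0, 0, ?_, ?_⟩
      · intro h
        exact PadicInt.p_nonunit (isUnit_of_dvd_one h)
      · rw [hg, coe_mk'']
        simp
  · rintro ⟨h1, h2⟩ M
    have hH : SurjModP ϕ.range := by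
      intro ū
      obtain ⟨g, hg⟩ := h1 ū
      exact ⟨ϕ g, ⟨g, rfl⟩, hg⟩
    have hC : CongrElts ϕ.range := by
      intro n hn
      obtain ⟨g, a, b, c, d, ha, hg⟩ := h2 n hn
      exact ⟨ϕ g, ⟨g, rfl⟩, a, b, c, d, ha, hg⟩
    -- the continuous function measuring the distance to `M`
    set F : 𝔊 → ℝ := fun g => ∑ i, ∑ j, ‖(ϕ g : Mat) i j - (M : Mat) i j‖ with hF
    have hFc : Continuous F :=
      continuous_finsetSum _ fun i _ => continuous_finsetSum _ fun j _ =>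
        ((hϕ.matrix_elem i j).sub continuous_const).norm
    have : Nonempty 𝔊 := ⟨1⟩
    obtain ⟨g₀, -, hg₀⟩ := isCompact_univ.exists_isMinOn Set.univ_nonempty hFc.continuousOn
    have hle : ∀ m : ℕ, F g₀ ≤ 4 * ((p : ℝ)⁻¹) ^ (m + 1) := by
      intro m
      obtain ⟨u, ⟨g, rfl⟩, Y, hY⟩ := approx hH hC M m
      have h3 : F g₀ ≤ F g := hg₀ (Set.mem_univ g)
      refine h3.trans ?_
      have hb : ∀ i j, ‖(ϕ g : Mat) i j - (M : Mat) i j‖ ≤ ((p : ℝ)⁻¹) ^ (m + 1) := by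
        intro i j
        rw [hY]
        have : ((M : Mat) + (p : ℤ_[p]) ^ (m + 1) • Y) i j - (M : Mat) i j =
            (p : ℤ_[p]) ^ (m + 1) * Y i j := by
          simp
        rw [this]
        exact norm_p_pow_mul_le _ _
      simp only [hF, Fin.sum_univ_two]
      linarith [hb 0 0, hb 0 1, hb 1 0, hb 1 1]
    have hF0 : F g₀ ≤ 0 := by
      by_contra hpos
      push Not at hpos
      have hp1 : (p : ℝ)⁻¹ < 1 := by
        apply inv_lt_one_of_one_lt₀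
        exact_mod_cast (Fact.out : p.Prime).one_lt
      have hp0 : (0 : ℝ) ≤ (p : ℝ)⁻¹ := by positivity
      obtain ⟨n, hn⟩ := exists_pow_lt_of_lt_one (show (0 : ℝ) < F g₀ / 4 by linarith) hp1
      have h5 := hle n
      have h6 : ((p : ℝ)⁻¹) ^ (n + 1) ≤ ((p : ℝ)⁻¹) ^ n :=
        pow_le_pow_of_le_one hp0 hp1.le (Nat.le_succ n)
      linarith
    refine ⟨g₀, ?_⟩
    have hz : ∀ i j, (ϕ g₀ : Mat) i j = (M : Mat) i j := by
      have hnn : ∀ i j, 0 ≤ ‖(ϕ g₀ : Mat) i j - (M : Mat) i j‖ := fun i j => norm_nonneg _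
      simp only [hF, Fin.sum_univ_two] at hF0
      intro i j
      have : ‖(ϕ g₀ : Mat) i j - (M : Mat) i j‖ = 0 := by
        fin_cases i <;> fin_cases j <;> simp only [Fin.zero_eta, Fin.mk_one] <;>
          linarith [hnn 0 0, hnn 0 1, hnn 1 0, hnn 1 1]
      exact sub_eq_zero.mp (norm_eq_zero.mp this)
    exact Matrix.GeneralLinearGroup.ext hz

end Groth.Agent.Lib.helper22.GL2
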