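import Mathlib
import Groth.Agent.Lib.Helper22.DPPolyUniv
set_option autoImplicit false
universe u
open IsLocalRing TensorProduct DividedPowerAlgebra

namespace Groth.Agent.Lib.Helper22.GammaConv

section Local

variable {R N : Type*} [CommRing R] [IsLocalRing R] [AddCommGroup N] [Module R N] [Module.Finite R N]

local notation "k" => ResidueField R

lemma local_two_functionals (S : Set N) (hS : Submodule.span R S = ⊤)
    (hnc : ¬ ∃ x : N, Submodule.span R {x} = ⊤) :
    ∃ n₁ ∈ S, ∃ n₂ ∈ S, ∃ (c₀ c₁ : N →ₗ[R] k), c₀ n₁ = 1 ∧ c₀ n₂ = 0 ∧ c₁ n₁ = 0 ∧ c₁ n₂ = 1 := by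
  classical
  let τ : N →ₗ[R] k ⊗[R] N := TensorProduct.mk R k N 1
  have htop : (Submodule.span R (τ '' S)) = ⊤ := by
    rw [← Submodule.map_span, hS]
    exact map_tensorProduct_mk_eq_top.2 rfl
  -- R-span of a vector equals its k-span
  have hspan : ∀ v : k ⊗[R] N, ((Submodule.span k {v}).restrictScalars R) = Submodule.span R {v} :=
    fun v => Submodule.restrictScalars_span R k Ideal.Quotient.mk_surjective _
  by_cases h1 : ∀ n ∈ S, τ n = 0
  · exfalso
    apply hnc
    refine ⟨0, ?_⟩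
    rw [← map_tensorProduct_mk_eq_top, ← htop]
    simp only [Submodule.span_zero_singleton, Submodule.map_bot]
    symm
    rw [Submodule.span_eq_bot]
    rintro _ ⟨n, hn, rfl⟩
    exact h1 n hn
  push Not at h1
  obtain ⟨n₁, hn₁, hτ₁⟩ := h1
  by_cases h2 : ∀ n ∈ S, τ n ∈ Submodule.span k {τ n₁}
  · exfalso
    apply hnc
    refine ⟨n₁, ?_⟩
    rw [← map_tensorProduct_mk_eq_top, Submodule.map_span, Set.image_singleton, eq_top_iff, ← htop]
    refine Submodule.span_le.2 ?_
    rintro _ ⟨n, hn, rfl⟩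
    have := h2 n hn
    rw [← hspan]
    exact this
  push Not at h2
  obtain ⟨n₂, hn₂, hτ₂⟩ := h2
  refine ⟨n₁, hn₁, n₂, hn₂, ?_⟩
  have hli : LinearIndependent k ![τ n₁, τ n₂] := by
    rw [LinearIndependent.pair_iff' hτ₁]
    intro a ha
    apply hτ₂
    rw [← ha]
    exact Submodule.smul_mem _ _ (Submodule.mem_span_singleton_self _)
  -- left inverse
  have hinj : LinearMap.ker (Fintype.linearCombination k ![τ n₁, τ n₂]) = ⊥ := by
    rw [LinearMap.ker_eq_bot]
    exact linearIndependent_iff_injective_fintypeLinearCombination.1 hli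
  obtain ⟨g, hg⟩ := LinearMap.exists_leftInverse_of_injective _ hinj
  have hg1 : g (τ n₁) = Pi.single 0 1 := by
    have := LinearMap.congr_fun hg (Pi.single 0 1)
    simpa [Fintype.linearCombination_apply] using this
  have hg2 : g (τ n₂) = Pi.single 1 1 := by
    have := LinearMap.congr_fun hg (Pi.single 1 1)
    simpa [Fintype.linearCombination_apply] using this
  refine ⟨((LinearMap.proj 0 : (Fin 2 → k) →ₗ[k] k).comp g).restrictScalars R ∘ₗ τ,
    ((LinearMap.proj 1 : (Fin 2 → k) →ₗ[k] k).comp g).restrictScalars R ∘ₗ τ, ?_, ?_, ?_, ?_⟩ <;>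
  simp [hg1, hg2]

end Local

section Global

variable {A M : Type u} [CommRing A] [AddCommGroup M] [Module A M] [Module.Finite A M]

lemma exists_two_functionals (p : Ideal A) [p.IsPrime]
    (hnc : ¬ ∃ x : LocalizedModule p.primeCompl M,
      Submodule.span (Localization.AtPrime p) {x} = ⊤) :
    ∃ (m₁ m₂ : M) (c₀ c₁ : M →ₗ[A] p.ResidueField),
      c₀ m₁ = 1 ∧ c₀ m₂ = 0 ∧ c₁ m₁ = 0 ∧ c₁ m₂ = 1 := by
  have hS : Submodule.span (Localization.AtPrime p)
      (Set.range (LocalizedModule.mkLinearMap p.primeCompl M)) = ⊤ := by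
    have := span_eq_top_of_isLocalizedModule (Localization.AtPrime p) p.primeCompl
      (LocalizedModule.mkLinearMap p.primeCompl M) (v := Set.univ) (by simp)
    rwa [Set.image_univ] at this
  obtain ⟨n₁, ⟨m₁, rfl⟩, n₂, ⟨m₂, rfl⟩, c₀, c₁, h⟩ := local_two_functionals _ hS hnc
  exact ⟨m₁, m₂, (c₀.restrictScalars A) ∘ₗ LocalizedModule.mkLinearMap p.primeCompl M,
    (c₁.restrictScalars A) ∘ₗ LocalizedModule.mkLinearMap p.primeCompl M, h⟩

end Global


open Groth.Agent.Lib.helper22.DPPoly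

section Core

variable {k : Type u} [Field k] [Fintype k] {P : Type u} [CommRing P] [Algebra k P]
  (D : Data k 2 P) (γ : DividedPowers D.aug) (hγ : ∀ i n, γ.dpow n (D.x i 1) = D.x i n)

/-- exponent vector `(i, d - i)` -/
noncomputable def ev (d i : ℕ) : Fin 2 →₀ ℕ := Finsupp.single 0 i + Finsupp.single 1 (d - i)

lemma ev_inj (d i j : ℕ) : ev d i = ev d j ↔ i = j := by
  constructor
  · intro h
    have := DFunLike.congr_fun h 0
    simpa [ev] using this
  · rintro rfl; rfl

omit [Fintype k] in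
lemma b_ev (d i : ℕ) : D.b (ev d i) = D.x 0 i * D.x 1 (d - i) := by
  rw [D.b_eq_prod, Fin.prod_univ_two]
  simp [ev]

/-- the separating functional -/
noncomputable def ell (d : ℕ) : P →ₗ[k] k :=
  D.b.coord (ev d (Fintype.card k)) - D.b.coord (ev d 1)

include hγ in
lemma dpow_lin (d : ℕ) (a b : k) :
    γ.dpow d (a • D.x 0 1 + b • D.x 1 1) =
      ∑ i ∈ Finset.range (d + 1), (a ^ i * b ^ (d - i)) • D.b (ev d i) := by
  have h0 : D.x 0 1 ∈ D.aug := D.x_mem_aug 0 le_rfl
  have h1 : D.x 1 1 ∈ D.aug := D.x_mem_aug 1 le_rfl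
  rw [Algebra.smul_def, Algebra.smul_def,
    γ.dpow_add (Ideal.mul_mem_left _ _ h0) (Ideal.mul_mem_left _ _ h1),
    Finset.Nat.sum_antidiagonal_eq_sum_range_succ_mk]
  refine Finset.sum_congr rfl fun i _ => ?_
  rw [γ.dpow_mul h0, γ.dpow_mul h1, hγ, hγ, b_ev D, Algebra.smul_def, map_mul, map_pow, map_pow]
  ring

include hγ in
lemma ell_dpow_lin (d : ℕ) (hd : Fintype.card k < d) (a b : k) :
    ell D d (γ.dpow d (a • D.x 0 1 + b • D.x 1 1)) = 0 := by
  classical
  have hq : 1 < Fintype.card k := Fintype.one_lt_card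
  rw [dpow_lin D γ hγ, map_sum]
  simp only [map_smul, ell, LinearMap.sub_apply, Module.Basis.coord_apply, Module.Basis.repr_self,
    Finsupp.single_apply, ev_inj, smul_eq_mul, mul_sub, mul_ite, mul_one, mul_zero]
  rw [Finset.sum_sub_distrib, Finset.sum_ite_eq', Finset.sum_ite_eq']
  rw [if_pos (by rw [Finset.mem_range]; omega), if_pos (by rw [Finset.mem_range]; omega)]
  rw [FiniteField.pow_card, pow_one]
  have : b ^ (d - 1) = b ^ (d - Fintype.card k) := by
    have h1 : d - 1 = (d - Fintype.card k - 1) + Fintype.card k := by omega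
    have h2 : d - Fintype.card k = (d - Fintype.card k - 1) + 1 := by omega
    rw [h1, pow_add, FiniteField.pow_card]
    conv_rhs => rw [h2, pow_add, pow_one]
  rw [this, sub_self]

end Core

section Final

variable {A M : Type u} [CommRing A] [AddCommGroup M] [Module A M]

theorem not_mem_span (k : Type u) [Field k] [Algebra A k] [Fintype k] (d : ℕ)
    (hd : Fintype.card k < d) (m₁ m₂ : M) (c₀ c₁ : M →ₗ[A] k)
    (h00 : c₀ m₁ = 1) (h01 : c₀ m₂ = 0) (h10 : c₁ m₁ = 0) (h11 : c₁ m₂ = 1) :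
    dp A (Fintype.card k) m₁ * dp A (d - Fintype.card k) m₂ ∉
      Submodule.span A (Set.range (dp A d : M → DividedPowerAlgebra A M)) := by
  classical
  obtain ⟨P, _, _, ⟨D⟩⟩ := exists_data k 2
  obtain ⟨γ, hγ⟩ := exists_dp D
  letI : Algebra A P := ((algebraMap k P).comp (algebraMap A k)).toAlgebra
  haveI : IsScalarTower A k P := IsScalarTower.of_algebraMap_eq (fun _ => rfl)
  have h0 : D.x 0 1 ∈ D.aug := D.x_mem_aug 0 le_rfl
  have h1 : D.x 1 1 ∈ D.aug := D.x_mem_aug 1 le_rfl
  let G : M →ₗ[A] P := c₀.smulRight (D.x 0 1) + c₁.smulRight (D.x 1 1)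
  have hGapp : ∀ m, G m = c₀ m • D.x 0 1 + c₁ m • D.x 1 1 := fun m => by
    simp [G]
  have hG : ∀ m, G m ∈ D.aug := by
    intro m
    rw [hGapp, Algebra.smul_def, Algebra.smul_def]
    exact D.aug.add_mem (Ideal.mul_mem_left _ _ h0) (Ideal.mul_mem_left _ _ h1)
  let Ψ : DividedPowerAlgebra A M →ₐ[A] P := DividedPowerAlgebra.lift γ G hG
  let L : DividedPowerAlgebra A M →ₗ[A] k := ((ell D d).restrictScalars A) ∘ₗ Ψ.toLinearMap
  have hker : Submodule.span A (Set.range (dp A d : M → DividedPowerAlgebra A M)) ≤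
      LinearMap.ker L := by
    refine Submodule.span_le.2 ?_
    rintro _ ⟨m, rfl⟩
    simp only [SetLike.mem_coe, LinearMap.mem_ker, L, LinearMap.comp_apply,
      LinearMap.restrictScalars_apply, AlgHom.toLinearMap_apply, Ψ, lift_apply_dp, hGapp]
    exact ell_dpow_lin D γ hγ d hd _ _
  intro hmem
  have hL := hker hmem
  have hq : 1 < Fintype.card k := Fintype.one_lt_card
  simp only [LinearMap.mem_ker, L, LinearMap.comp_apply,
    LinearMap.restrictScalars_apply, AlgHom.toLinearMap_apply, Ψ, map_mul, lift_apply_dp, hGapp,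
    h00, h01, h10, h11, one_smul, zero_smul, add_zero, zero_add, hγ] at hL
  rw [← b_ev D] at hL
  have hne : ¬ (1 = Fintype.card k) := by omega
  simp [ell, ev_inj, hne] at hL

end Final


section Conv

variable {A M : Type u} [CommRing A] [AddCommGroup M] [Module A M] [Module.Finite A M]

theorem card_or_cyclic (d : ℕ)
    (h : Submodule.span A (Set.range (DividedPowerAlgebra.dp A d : M → DividedPowerAlgebra A M)) =
      Submodule.span A {x | ∃ (n : ℕ) (k : Fin n → ℕ) (m : Fin n → M),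
        (∑ i, k i) = d ∧ x = ∏ i, DividedPowerAlgebra.dp A (k i) (m i)})
    (p : Ideal A) [p.IsPrime] :
    (d : Cardinal) ≤ Cardinal.mk p.ResidueField ∨
      ∃ x : LocalizedModule p.primeCompl M,
        Submodule.span (Localization.AtPrime p) {x} = ⊤ := by
  by_contra hcon
  push Not at hcon
  obtain ⟨hcard, hnc⟩ := hcon
  have hfin : Finite p.ResidueField :=
    Cardinal.lt_aleph0_iff_finite.1 (lt_trans hcard (Cardinal.natCast_lt_aleph0))
  letI : Fintype p.ResidueField := Fintype.ofFinite _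
  have hq : Fintype.card p.ResidueField < d := by
    rw [Cardinal.mk_fintype] at hcard
    exact_mod_cast hcard
  obtain ⟨m₁, m₂, c₀, c₁, h00, h01, h10, h11⟩ := exists_two_functionals p (by simpa using hnc)
  refine not_mem_span p.ResidueField d hq m₁ m₂ c₀ c₁ h00 h01 h10 h11 ?_
  rw [h]
  refine Submodule.subset_span ⟨2, ![Fintype.card p.ResidueField, d - Fintype.card p.ResidueField],
    ![m₁, m₂], ?_, ?_⟩
  · simp [Fin.sum_univ_two]; omega
  · simp [Fin.prod_univ_two]

end Conv

end Groth.Agent.Lib.Helper22.GammaConv
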