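import Mathlib

set_option autoImplicit false
universe u v

namespace Groth.Agent.Lib.Helper22.GammaSpan

open DividedPowerAlgebra

section LocSat

variable {A : Type u} [CommRing A] {X : Type v} [AddCommGroup X] [Module A X]

/-- elements of `X` that land in `N` after multiplication by some element outside the prime `p`. -/
def locSat (p : Ideal A) [p.IsPrime] (N : Submodule A X) : Submodule A X where
  carrier := {x | ∃ a : A, a ∉ p ∧ a • x ∈ N}
  add_mem' := by
    rintro x y ⟨a, ha, hx⟩ ⟨b, hb, hy⟩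
    refine ⟨a * b, fun h => (Ideal.IsPrime.mem_or_mem ‹_› h).elim ha hb, ?_⟩
    rw [smul_add]
    refine N.add_mem ?_ ?_
    · rw [mul_comm, mul_smul]; exact N.smul_mem _ hx
    · rw [mul_smul]; exact N.smul_mem _ hy
  zero_mem' := ⟨1, fun h => (Ideal.IsPrime.ne_top ‹_›) ((Ideal.eq_top_iff_one _).2 h), by simp⟩
  smul_mem' := by
    rintro c x ⟨a, ha, hx⟩
    refine ⟨a, ha, ?_⟩
    rw [smul_comm]; exact N.smul_mem _ hx

lemma mem_locSat {p : Ideal A} [p.IsPrime] {N : Submodule A X} {x : X} :
    x ∈ locSat p N ↔ ∃ a : A, a ∉ p ∧ a • x ∈ N := Iff.rfl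

lemma le_locSat (p : Ideal A) [p.IsPrime] (N : Submodule A X) : N ≤ locSat p N := fun x hx =>
  ⟨1, fun h => (Ideal.IsPrime.ne_top ‹_›) ((Ideal.eq_top_iff_one _).2 h), by simpa using hx⟩

lemma locSat_idem (p : Ideal A) [p.IsPrime] (N : Submodule A X) :
    locSat p (locSat p N) = locSat p N := by
  refine le_antisymm ?_ (le_locSat p _)
  rintro x ⟨a, ha, b, hb, hx⟩
  refine ⟨b * a, fun h => (Ideal.IsPrime.mem_or_mem ‹_› h).elim hb ha, ?_⟩
  rwa [mul_smul]

lemma mem_of_forall_mem_locSat {N : Submodule A X} {x : X}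
    (h : ∀ (p : Ideal A) [p.IsPrime], x ∈ locSat p N) : x ∈ N := by
  let I : Ideal A :=
    { carrier := {a | a • x ∈ N}
      add_mem' := by
        intro a b ha hb
        simp only [Set.mem_setOf_eq] at *
        rw [add_smul]; exact N.add_mem ha hb
      zero_mem' := by simp
      smul_mem' := by
        intro c a ha
        simp only [Set.mem_setOf_eq, smul_eq_mul] at *
        rw [mul_smul]; exact N.smul_mem _ ha }
  by_cases hI : I = ⊤
  · have : (1 : A) ∈ I := by rw [hI]; trivial
    simpa [I] using this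
  · obtain ⟨m, hm, hIm⟩ := Ideal.exists_le_maximal I hI
    haveI := hm.isPrime
    obtain ⟨a, ha, hx⟩ := h m
    exact absurd (hIm (show a ∈ I from hx)) ha

end LocSat

section Cramer

variable {A : Type u} [CommRing A] {X : Type v} [AddCommGroup X] [Module A X]

lemma cramer_mem {n : ℕ} (V : Matrix (Fin n) (Fin n) A) (u : Fin n → X) (N : Submodule A X)
    (h : ∀ l, ∑ j, V l j • u j ∈ N) (i : Fin n) : V.det • u i ∈ N := by
  have key : V.det • u i = ∑ l, V.adjugate i l • ∑ j, V l j • u j := by
    simp_rw [Finset.smul_sum, smul_smul]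
    rw [Finset.sum_comm]
    simp_rw [← Finset.sum_smul]
    have : ∀ j, ∑ l, V.adjugate i l * V l j = (V.adjugate * V) i j := fun j =>
      (Matrix.mul_apply).symm
    simp_rw [this, Matrix.adjugate_mul, Matrix.smul_apply, Matrix.one_apply, smul_eq_mul,
      mul_ite, mul_one, mul_zero, ite_smul, zero_smul]
    simp
  rw [key]
  exact N.sum_mem fun l _ => N.smul_mem _ (h l)

end Cramer

end Groth.Agent.Lib.Helper22.GammaSpan
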