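import Mathlib
import Groth.Agent.Lib.Helper22.GammaSpan

set_option autoImplicit false
universe u v

namespace Groth.Agent.Lib.Helper22.GammaSpan

open DividedPowerAlgebra

section Main

variable {A M : Type u} [CommRing A] [AddCommGroup M] [Module A M]

variable (A M) in
/-- span of the `d`-th divided powers -/
noncomputable def S (d : ℕ) : Submodule A (DividedPowerAlgebra A M) :=
  Submodule.span A (Set.range (dp A d : M → DividedPowerAlgebra A M))

lemma dp_mem_S (d : ℕ) (m : M) : dp A d m ∈ S A M d := Submodule.subset_span ⟨m, rfl⟩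

/-- expansion of `dp d (a x + b y)` as a `Fin (d+1)`-indexed sum. -/
lemma dp_add_smul (d : ℕ) (a b : A) (x y : M) :
    dp A d (a • x + b • y) =
      ∑ j : Fin (d + 1), (a ^ (j : ℕ) * b ^ (d - j : ℕ)) • (dp A j x * dp A (d - j) y) := by
  rw [dp_add, Finset.Nat.sum_antidiagonal_eq_sum_range_succ_mk, Finset.sum_range]
  refine Finset.sum_congr rfl fun j _ => ?_
  rw [dp_smul, dp_smul, smul_mul_smul_comm]

/-- residue field elements are fractions. -/
lemma exists_frac (p : Ideal A) [p.IsPrime] (c : p.ResidueField) :
    ∃ (s a : A), s ∉ p ∧ algebraMap A p.ResidueField s * c = algebraMap A p.ResidueField a := by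
  obtain ⟨x, rfl⟩ := IsLocalRing.residue_surjective c
  obtain ⟨a, ⟨s, hs⟩, rfl⟩ := IsLocalization.exists_mk'_eq p.primeCompl x
  refine ⟨s, a, hs, ?_⟩
  simp [IsScalarTower.algebraMap_eq A (Localization.AtPrime p) p.ResidueField, ← map_mul]

/-- two-factor lemma: with `d ≤ #κ(p)`, the products `dp i x * dp j y`, `i + j = d`, are locally
(at `p`) in the span of `d`-th divided powers. -/
lemma two_factor (p : Ideal A) [p.IsPrime] (d : ℕ)
    (hd : (d : Cardinal.{u}) ≤ Cardinal.mk p.ResidueField) (x y : M) (i j : ℕ) (hij : i + j = d) :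
    dp A i x * dp A j y ∈ locSat p (S A M d) := by
  classical
  -- distinct residue classes
  have hemb : Nonempty (Fin d ↪ p.ResidueField) := by
    rw [← Cardinal.lift_mk_le', Cardinal.mk_fin, Cardinal.lift_natCast, Cardinal.lift_uzero]
    exact hd
  obtain ⟨c⟩ := hemb
  choose s a hs hsa using fun l : Fin d => exists_frac p (c l)
  -- the points
  let v : Fin (d + 1) → A := Fin.snoc s 0
  let w : Fin (d + 1) → A := Fin.snoc a 1
  let V := Matrix.projVandermonde v w
  let u : Fin (d + 1) → DividedPowerAlgebra A M := fun k => dp A k x * dp A (d - k) y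
  have hrow : ∀ l, ∑ k, V l k • u k ∈ S A M d := by
    intro l
    have : ∑ k, V l k • u k = dp A d (v l • x + w l • y) := by
      rw [dp_add_smul]
      refine Finset.sum_congr rfl fun k _ => ?_
      simp only [V, u, Matrix.projVandermonde_apply]
      congr 2
      simp [Fin.rev]
    rw [this]
    exact dp_mem_S _ _
  have hdet : V.det ∉ p := by
    simp only [V, Matrix.det_projVandermonde]
    intro hmem
    obtain ⟨k, -, hk⟩ := (Ideal.IsPrime.prod_mem_iff).1 hmem
    obtain ⟨l, hl, hkl⟩ := (Ideal.IsPrime.prod_mem_iff).1 hk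
    rw [Finset.mem_Ioi] at hl
    -- k < l
    induction l using Fin.lastCases with
    | last =>
      -- k is not last
      induction k using Fin.lastCases with
      | last => exact absurd hl (lt_irrefl _)
      | cast k =>
        simp only [v, w, Fin.snoc_last, Fin.snoc_castSucc, zero_mul, mul_one, zero_sub,
          neg_mem_iff] at hkl
        exact hs k hkl
    | cast l =>
      induction k using Fin.lastCases with
      | last =>
        exact absurd (lt_trans (Fin.castSucc_lt_last l) hl) (lt_irrefl _)
      | cast k =>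
        simp only [v, w, Fin.snoc_castSucc] at hkl
        have hne : k ≠ l := by
          intro h; subst h; exact absurd hl (lt_irrefl _)
        have h0 : algebraMap A p.ResidueField (s l * a k - s k * a l) = 0 :=
          Ideal.algebraMap_residueField_eq_zero.2 hkl
        rw [map_sub, map_mul, map_mul, ← hsa k, ← hsa l] at h0
        have h1 : algebraMap A p.ResidueField (s l) * algebraMap A p.ResidueField (s k) *
            (c k - c l) = 0 := by
          rw [← h0]; ring
        have hsl : algebraMap A p.ResidueField (s l) ≠ 0 := fun h =>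
          hs l (Ideal.algebraMap_residueField_eq_zero.1 h)
        have hsk : algebraMap A p.ResidueField (s k) ≠ 0 := fun h =>
          hs k (Ideal.algebraMap_residueField_eq_zero.1 h)
        have : c k - c l = 0 := by
          rcases mul_eq_zero.1 h1 with h | h
          · rcases mul_eq_zero.1 h with h | h
            · exact absurd h hsl
            · exact absurd h hsk
          · exact h
        exact hne (c.injective (sub_eq_zero.1 this))
  have hi : i < d + 1 := by omega
  have := cramer_mem V u (S A M d) hrow ⟨i, hi⟩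
  refine ⟨V.det, hdet, ?_⟩
  have hj : d - i = j := by omega
  simpa [u, hj] using this

/-- monomials of degree `d` are locally in the span of `d`-th divided powers (big residue field). -/
lemma monomial_mem_of_card (p : Ideal A) [p.IsPrime] (D : ℕ)
    (hD : (D : Cardinal.{u}) ≤ Cardinal.mk p.ResidueField) :
    ∀ (n : ℕ) (d : ℕ) (k : Fin n → ℕ) (m : Fin n → M), d ≤ D → (∑ i, k i) = d →
      ∏ i, dp A (k i) (m i) ∈ locSat p (S A M d) := by
  intro n
  induction n with
  | zero =>
    intro d k m _ hk
    simp only [Finset.univ_eq_empty, Finset.sum_empty, Finset.prod_empty] at hk ⊢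
    subst hk
    refine le_locSat p _ ?_
    rw [← dp_zero (R := A) (m := (0 : M))]
    exact dp_mem_S _ _
  | succ n ih =>
    intro d k m hdD hk
    rw [Fin.prod_univ_castSucc]
    rw [Fin.sum_univ_castSucc] at hk
    set d' := ∑ i : Fin n, k i.castSucc with hd'
    have hd'D : d' ≤ D := by omega
    obtain ⟨a, ha, hP⟩ := ih d' (fun i => k i.castSucc) (fun i => m i.castSucc) hd'D rfl
    -- multiply by the last factor
    have hle : S A M d' ≤ (locSat p (S A M d)).comap
        (LinearMap.mulRight A (dp A (k (Fin.last n)) (m (Fin.last n)))) := by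
      refine Submodule.span_le.2 ?_
      rintro _ ⟨m', rfl⟩
      have hcard : (d : Cardinal.{u}) ≤ Cardinal.mk p.ResidueField :=
        le_trans (by exact_mod_cast hdD) hD
      exact two_factor p d hcard m' (m (Fin.last n)) d' (k (Fin.last n)) hk
    have h2 := hle hP
    rw [Submodule.mem_comap, LinearMap.mulRight_apply, smul_mul_assoc] at h2
    have h3 : (∏ i : Fin n, dp A (k i.castSucc) (m i.castSucc)) *
        dp A (k (Fin.last n)) (m (Fin.last n)) ∈ locSat p (locSat p (S A M d)) :=
      ⟨a, ha, h2⟩
    rwa [locSat_idem] at h3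

/-- cyclic case -/
lemma monomial_mem_of_cyclic (p : Ideal A) [p.IsPrime]
    (hcyc : ∃ x : LocalizedModule p.primeCompl M,
      Submodule.span (Localization.AtPrime p) {x} = ⊤)
    (n : ℕ) (d : ℕ) (k : Fin n → ℕ) (m : Fin n → M) (hk : (∑ i, k i) = d) :
    ∏ i, dp A (k i) (m i) ∈ locSat p (S A M d) := by
  obtain ⟨x, hx⟩ := hcyc
  induction x using LocalizedModule.induction_on with
  | h m₀ s₀ =>
  -- every element is locally a multiple of `m₀`
  have hmul : ∀ m' : M, ∃ (t a : A), t ∉ p ∧ t • m' = a • m₀ := by
    intro m'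
    have hmem : LocalizedModule.mk m' (1 : p.primeCompl) ∈
        Submodule.span (Localization.AtPrime p) {LocalizedModule.mk m₀ s₀} := by
      rw [hx]; trivial
    obtain ⟨r, hr⟩ := Submodule.mem_span_singleton.1 hmem
    obtain ⟨b, t, rfl⟩ := IsLocalization.exists_mk'_eq p.primeCompl r
    rw [← Localization.mk_eq_mk', LocalizedModule.mk_smul_mk, LocalizedModule.mk_eq] at hr
    obtain ⟨c, hc⟩ := hr
    refine ⟨c * (t * s₀), c * b, ?_, ?_⟩
    · exact (c * (t * s₀)).2
    · simp only [one_smul, Submonoid.smul_def] at hc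
      rw [mul_smul, mul_smul]
      simpa [Submonoid.smul_def, mul_smul] using hc.symm
  choose t a ht hta using hmul
  refine ⟨∏ i, t (m i) ^ k i, ?_, ?_⟩
  · intro hmem
    obtain ⟨i, -, hi⟩ := (Ideal.IsPrime.prod_mem_iff).1 hmem
    exact ht _ (Ideal.IsPrime.mem_of_pow_mem ‹_› _ hi)
  · have h1 : (∏ i, t (m i) ^ k i) • ∏ i, dp A (k i) (m i) =
        ∏ i, dp A (k i) (a (m i) • m₀) := by
      rw [← Finset.prod_smul]
      refine Finset.prod_congr rfl fun i _ => ?_
      rw [← dp_smul, hta]
    rw [h1]
    simp_rw [dp_smul]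
    rw [Finset.prod_smul, prod_dp, hk]
    refine (S A M d).smul_mem _ ?_
    rw [← nsmul_eq_mul]
    exact (S A M d).smul_of_tower_mem _ (dp_mem_S _ _)

theorem span_dp_eq (d : ℕ)
    (h : ∀ p : PrimeSpectrum A, (d : Cardinal) ≤ Cardinal.mk p.asIdeal.ResidueField ∨
      ∃ x : LocalizedModule p.asIdeal.primeCompl M,
        Submodule.span (Localization.AtPrime p.asIdeal) {x} = ⊤) :
    Submodule.span A (Set.range (DividedPowerAlgebra.dp A d : M → DividedPowerAlgebra A M)) =
      Submodule.span A {x | ∃ (n : ℕ) (k : Fin n → ℕ) (m : Fin n → M),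
        (∑ i, k i) = d ∧ x = ∏ i, DividedPowerAlgebra.dp A (k i) (m i)} := by
  refine le_antisymm ?_ ?_
  · refine Submodule.span_le.2 ?_
    rintro _ ⟨m, rfl⟩
    refine Submodule.subset_span ⟨1, fun _ => d, fun _ => m, by simp, by simp⟩
  · refine Submodule.span_le.2 ?_
    rintro _ ⟨n, k, m, hk, rfl⟩
    refine mem_of_forall_mem_locSat (N := S A M d) ?_
    intro p hp
    rcases h ⟨p, hp⟩ with h1 | h1
    · exact monomial_mem_of_card p d h1 n d k m le_rfl hk
    · exact monomial_mem_of_cyclic p h1 n d k m hk

end Main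

end Groth.Agent.Lib.Helper22.GammaSpan
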