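import Mathlib
import Groth.Agent.Lib.Helper22.InertiaGen
import Groth.Agent.Lib.Helper2.AusBuch2

/-!
# Generation of a multi-quadratic-type extension by the invariants of complements (helper22)

Let `R` be a regular local ring, `A` a normal domain finite over `R`, and `H` a finite commutative
group of order `p ^ n` acting faithfully on `A` with `A^H = R`, generated by subgroups `G_1..G_n` of
order `p`. Put `G_i^⊥ = ⟨G_j : j ≠ i⟩` (`perp`) and `B_i = A^{G_i^⊥}` (`Bi`), `S = R[B_1..B_n]`
(`Ssub`).

* group theory: `le_perp`, `perp_sup`, `coprod_bijective`, `inf_perp_eq_bot`, `iInf_perp_eq_bot`.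
* `stableAction`: the action on a stable subalgebra; `mem_of_forall_smul_fixedPoints`: the Galois
  correspondence at ring level (from Mathlib's `IsGaloisGroup.fixingSubgroup_range_algebraMap`).
* `finrank_Ssub`, `finrank_Bi`, `iSup_toSubmodule_eq_span_prod`, `nonempty_basis_Ssub` (if the `B_i`
  are free then `S` is free with a basis indexed by `Fin n → Fin p`), `exists_smul_mem_Ssub` (`A/S`
  is torsion).
* `isUnramifiedAt_of_adjoin`: an algebra generated by unramified subalgebras is unramified.
* `exists_local_generator`: height one primes of normal noetherian domains are locally principal.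
* `isIntegrallyClosed_localization_of_isUnramifiedAt`, `exists_mul_mem_of_isIntegrallyClosed_localization`.
* `exists_smul_mem_Ssub_of_heightOne`: `A_q = S_q` for height one primes `q` of `R`, provided every
  nontrivial inertia group of a height one prime of `A` is one of the `G_i`.
* `Ssub_eq_top`: `S = A` (uses that `R` is a UFD, Auslander–Buchsbaum).
-/

set_option autoImplicit false

namespace Groth.Agent.Lib.helper22.GenBi
universe u v w

section Group
variable {H : Type w} [Group H] [Finite H] (hcomm : ∀ g h : H, g * h = h * g)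
  {n : ℕ} (Gi : Fin n → Subgroup H) (hsup : (⨆ i, Gi i) = ⊤)
  (hcard : ∏ i, Nat.card (Gi i) = Nat.card H)

/-- the complementary subgroup generated by the `G j`, `j ≠ i` -/
abbrev perp (i : Fin n) : Subgroup H := ⨆ j ∈ (Finset.univ.erase i : Finset (Fin n)), Gi j

omit [Finite H] in
theorem le_perp {i j : Fin n} (h : j ≠ i) : Gi j ≤ perp Gi i :=
  le_iSup₂ (f := fun j _ => Gi j) j (Finset.mem_erase.mpr ⟨h, Finset.mem_univ _⟩)

include hsup in
omit [Finite H] in
theorem perp_sup (i : Fin n) : perp Gi i ⊔ Gi i = ⊤ := by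
  rw [eq_top_iff, ← hsup]
  apply iSup_le
  intro j
  by_cases h : j = i
  · subst h; exact le_sup_right
  · exact (le_perp Gi h).trans le_sup_left

include hcomm in
omit [Finite H] in
theorem pairwise_comm : Pairwise fun i j : Fin n => ∀ x y : H, x ∈ Gi i → y ∈ Gi j → Commute x y :=
  fun _ _ _ x y _ _ => hcomm x y

include hcomm hsup hcard in
theorem coprod_bijective :
    Function.Bijective (Subgroup.noncommPiCoprod (pairwise_comm hcomm Gi)) := by
  classical
  have hsurj : Function.Surjective (Subgroup.noncommPiCoprod (pairwise_comm hcomm Gi)) := by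
    rw [← MonoidHom.range_eq_top, Subgroup.noncommPiCoprod_range, hsup]
  haveI : ∀ i, Finite (Gi i) := fun i => inferInstance
  have hc : Nat.card (∀ i, Gi i) = Nat.card H := by
    rw [Nat.card_pi, hcard]
  exact (Nat.bijective_iff_surjective_and_card _).mpr ⟨hsurj, hc⟩

include hcomm hsup hcard in
/-- an element of the product whose image lies in the `i`-th complement has trivial `i`-th
component -/
theorem apply_eq_one_of_mem_perp (x : ∀ i, Gi i) (i : Fin n)
    (hx : Subgroup.noncommPiCoprod (pairwise_comm hcomm Gi) x ∈ perp Gi i) : x i = 1 := by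
  classical
  set φ := Subgroup.noncommPiCoprod (pairwise_comm hcomm Gi) with hφ
  have hle : perp Gi i ≤ Subgroup.map φ (Pi.evalMonoidHom (fun i => Gi i) i).ker := by
    apply iSup₂_le
    intro j hj
    have hji : j ≠ i := (Finset.mem_erase.mp hj).1
    intro g hg
    refine ⟨Pi.mulSingle (M := fun i => Gi i) j ⟨g, hg⟩, ?_, ?_⟩
    · show Pi.mulSingle (M := fun i => Gi i) j (⟨g, hg⟩ : Gi j) i = 1
      exact Pi.mulSingle_eq_of_ne' hji _
    · rw [hφ, Subgroup.noncommPiCoprod_mulSingle]
  obtain ⟨y, hy, hyx⟩ := hle hx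
  have hxy : y = x := (coprod_bijective hcomm Gi hsup hcard).1 hyx
  rw [← hxy]
  exact hy

include hcomm hsup hcard in
theorem inf_perp_eq_bot (i : Fin n) : Gi i ⊓ perp Gi i = ⊥ := by
  classical
  rw [eq_bot_iff]
  rintro g ⟨hg1, hg2⟩
  rw [Subgroup.mem_bot]
  have h1 : Subgroup.noncommPiCoprod (pairwise_comm hcomm Gi) (Pi.mulSingle (M := fun i => Gi i) i ⟨g, hg1⟩) = g :=
    Subgroup.noncommPiCoprod_mulSingle i _
  have h2 := apply_eq_one_of_mem_perp hcomm Gi hsup hcard (Pi.mulSingle (M := fun i => Gi i) i ⟨g, hg1⟩) i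
    (by rw [h1]; exact hg2)
  rw [Pi.mulSingle_eq_same] at h2
  exact congrArg Subtype.val h2

include hcomm hsup hcard in
theorem iInf_perp_eq_bot : (⨅ i, perp Gi i) = ⊥ := by
  classical
  rw [eq_bot_iff]
  intro g hg
  rw [Subgroup.mem_bot]
  obtain ⟨x, rfl⟩ := (coprod_bijective hcomm Gi hsup hcard).2 g
  have hx : x = 1 := by
    funext i
    exact apply_eq_one_of_mem_perp hcomm Gi hsup hcard x i ((Subgroup.mem_iInf.mp hg) i)
  rw [hx, map_one]

include hcomm in
omit [Finite H] in
theorem normal_of_comm (N : Subgroup H) : N.Normal :=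
  ⟨fun x hx g => by rw [hcomm g x, mul_inv_cancel_right]; exact hx⟩

end Group


section Stable
variable {R : Type u} [CommRing R] {A : Type v} [CommRing A] [Algebra R A] {G : Type w} [Group G]
  [MulSemiringAction G A]

/-- the action on a stable subalgebra -/
@[reducible] def stableAction (T : Subalgebra R A) (hT : ∀ (g : G) (x : A), x ∈ T → g • x ∈ T) :
    MulSemiringAction G T where
  smul g x := ⟨g • (x : A), hT g x x.2⟩
  one_smul x := Subtype.ext (one_smul G (x : A))
  mul_smul g h x := Subtype.ext (mul_smul g h (x : A))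
  smul_zero g := Subtype.ext (smul_zero g)
  smul_add g x y := Subtype.ext (smul_add g (x : A) y)
  smul_one g := Subtype.ext (smul_one g)
  smul_mul g x y := Subtype.ext (smul_mul' g (x : A) y)

theorem stableAction_val (T : Subalgebra R A) (hT : ∀ (g : G) (x : A), x ∈ T → g • x ∈ T)
    (g : G) (x : T) :
    letI := stableAction T hT
    ((g • x : T) : A) = g • (x : A) := rfl

end Stable

section Fix
variable (R : Type u) [CommRing R] (A : Type v) [CommRing A] [IsDomain A] [Algebra R A]
  (H : Type w) [Group H] [Finite H] [MulSemiringAction H A] [SMulCommClass H R A] [FaithfulSMul H A]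

/-- Galois correspondence at the level of rings: the elements of `H` fixing `A^N` pointwise are
those of `N` -/
theorem mem_of_forall_smul_fixedPoints (hinj : Function.Injective (algebraMap R A))
    (hfix : ∀ a : A, (∀ h : H, h • a = a) → a ∈ Set.range (algebraMap R A))
    (N : Subgroup H) (h : H)
    (hh : ∀ x : FixedPoints.subalgebra R A N, h • (x : A) = x) : h ∈ N := by
  haveI : FaithfulSMul R A := (faithfulSMul_iff_algebraMap_injective R A).mpr hinj
  haveI : IsGaloisGroup H R A := ⟨inferInstance, inferInstance, ⟨fun a ha => hfix a ha⟩⟩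
  haveI : FaithfulSMul (FixedPoints.subalgebra R A N) A :=
    (faithfulSMul_iff_algebraMap_injective _ _).mpr Subtype.val_injective
  haveI : FaithfulSMul N A := ⟨fun {g₁ g₂} hg => Subtype.ext (FaithfulSMul.eq_of_smul_eq_smul hg)⟩
  haveI : IsGaloisGroup N (FixedPoints.subalgebra R A N) A :=
    ⟨inferInstance, inferInstance, inferInstance⟩
  have := IsGaloisGroup.fixingSubgroup_range_algebraMap H R (FixedPoints.subalgebra R A N) A N
  rw [← this, mem_fixingSubgroup_iff]
  rintro _ ⟨x, rfl⟩
  exact hh x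

end Fix

section Main
variable {p : ℕ} {R : Type u} [CommRing R] {A : Type v} [CommRing A]
  [IsDomain A] [Algebra R A]
  {H : Type w} [Group H] [Finite H] [MulSemiringAction H A] [SMulCommClass H R A] [FaithfulSMul H A]
  (hinj : Function.Injective (algebraMap R A))
  (hfix : ∀ a : A, (∀ h : H, h • a = a) → a ∈ Set.range (algebraMap R A))
  (hcomm : ∀ g h : H, g * h = h * g)
  {n : ℕ} (hcard : Nat.card H = p ^ n) (Gi : Fin n → Subgroup H)
  (hGi : ∀ i, Nat.card (Gi i) = p) (hsup : (⨆ i, Gi i) = ⊤)

variable (R A) in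
/-- the invariants of the `i`-th complement -/
abbrev Bi (i : Fin n) : Subalgebra R A := FixedPoints.subalgebra R A ↥(perp Gi i)

variable (R A) in
/-- the subalgebra generated by the `B i` -/
abbrev Ssub : Subalgebra R A := ⨆ i, Bi R A Gi i

include hGi hcard in
omit [Finite H] in
theorem prod_card : ∏ i, Nat.card (Gi i) = Nat.card H := by
  rw [hcard]
  simp [hGi]

include hcomm in
omit [IsDomain A] [Finite H] [FaithfulSMul H A] in
theorem smul_mem_Bi (i : Fin n) (h : H) (x : A) (hx : x ∈ Bi R A Gi i) : h • x ∈ Bi R A Gi i := by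
  intro g
  show (g : H) • h • x = h • x
  rw [← mul_smul, hcomm, mul_smul]
  congr 1
  exact hx g

include hcomm in
omit [IsDomain A] [Finite H] [FaithfulSMul H A] in
theorem smul_mem_Ssub (h : H) (x : A) (hx : x ∈ Ssub R A Gi) : h • x ∈ Ssub R A Gi := by
  have hle : Ssub R A Gi ≤ (Ssub R A Gi).comap (MulSemiringAction.toAlgHom R A h) := by
    apply iSup_le
    intro i y hy
    show h • y ∈ Ssub R A Gi
    exact (le_iSup (fun i => Bi R A Gi i) i) (smul_mem_Bi hcomm Gi i h y hy)
  exact hle hx

include hinj hfix hcomm hcard hGi hsup in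
theorem faithful_Ssub :
    letI := stableAction (Ssub R A Gi) (smul_mem_Ssub hcomm Gi)
    FaithfulSMul H (Ssub R A Gi) := by
  letI := stableAction (Ssub R A Gi) (smul_mem_Ssub hcomm Gi)
  refine ⟨fun {h₁ h₂} hh => ?_⟩
  have hmem : h₂⁻¹ * h₁ ∈ (⨅ i, perp Gi i) := by
    rw [Subgroup.mem_iInf]
    intro i
    apply mem_of_forall_smul_fixedPoints R A H hinj hfix
    intro x
    have hxS : (x : A) ∈ Ssub R A Gi := (le_iSup (fun i => Bi R A Gi i) i) x.2
    have h1 := congrArg Subtype.val (hh ⟨x, hxS⟩)
    change h₁ • (x : A) = h₂ • (x : A) at h1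
    rw [mul_smul, h1, inv_smul_smul]
  rw [iInf_perp_eq_bot hcomm Gi hsup (prod_card hcard Gi hGi), Subgroup.mem_bot] at hmem
  exact (inv_mul_eq_one.mp hmem).symm

include hinj hfix hcomm hcard hGi hsup in
theorem finrank_Ssub : Module.finrank R (Ssub R A Gi) = p ^ n := by
  letI := stableAction (Ssub R A Gi) (smul_mem_Ssub hcomm Gi)
  haveI := faithful_Ssub hinj hfix hcomm hcard Gi hGi hsup
  haveI : SMulCommClass H R (Ssub R A Gi) :=
    ⟨fun h r x => Subtype.ext (smul_comm h r (x : A))⟩
  haveI : IsGaloisGroup H R (Ssub R A Gi) := by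
    refine ⟨inferInstance, inferInstance, ⟨fun x hx => ?_⟩⟩
    obtain ⟨r, hr⟩ := hfix (x : A) (fun h => congrArg Subtype.val (hx h))
    exact ⟨r, Subtype.ext hr⟩
  haveI : FaithfulSMul R (Ssub R A Gi) := by
    rw [faithfulSMul_iff_algebraMap_injective]
    intro x y hxy
    exact hinj (congrArg Subtype.val hxy)
  rw [← hcard]
  exact (IsGaloisGroup.card_eq_finrank' H R (Ssub R A Gi)).symm

include hinj hfix hcomm hcard hGi hsup in
theorem finrank_Bi (i : Fin n) : Module.finrank R (Bi R A Gi i) = p := by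
  letI := stableAction (G := Gi i) (Bi R A Gi i) (fun g x hx => smul_mem_Bi hcomm Gi i g x hx)
  haveI : FaithfulSMul (Gi i) (Bi R A Gi i) := by
    refine ⟨fun {g₁ g₂} hh => ?_⟩
    have hmem : (g₂⁻¹ * g₁ : H) ∈ Gi i ⊓ perp Gi i := by
      refine ⟨(Gi i).mul_mem ((Gi i).inv_mem g₂.2) g₁.2, ?_⟩
      apply mem_of_forall_smul_fixedPoints R A H hinj hfix
      intro x
      have h1 := congrArg Subtype.val (hh x)
      change (g₁ : H) • (x : A) = (g₂ : H) • (x : A) at h1
      rw [mul_smul, h1]
      exact inv_smul_smul (g₂ : H) (x : A)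
    rw [inf_perp_eq_bot hcomm Gi hsup (prod_card hcard Gi hGi), Subgroup.mem_bot] at hmem
    exact Subtype.ext (inv_mul_eq_one.mp hmem).symm
  haveI : SMulCommClass (Gi i) R (Bi R A Gi i) :=
    ⟨fun h r x => Subtype.ext (smul_comm (h : H) r (x : A))⟩
  haveI : IsGaloisGroup (Gi i) R (Bi R A Gi i) := by
    refine ⟨inferInstance, inferInstance, ⟨fun x hx => ?_⟩⟩
    have hall : ∀ h : H, h • (x : A) = x := by
      intro h
      have hmem : h ∈ MulAction.stabilizer H (x : A) := by
        have hle : perp Gi i ⊔ Gi i ≤ MulAction.stabilizer H (x : A) := by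
          apply sup_le
          · intro g hg
            exact x.2 ⟨g, hg⟩
          · intro g hg
            exact congrArg Subtype.val (hx ⟨g, hg⟩)
        rw [perp_sup Gi hsup] at hle
        exact hle (Subgroup.mem_top h)
      exact hmem
    obtain ⟨r, hr⟩ := hfix (x : A) hall
    exact ⟨r, Subtype.ext hr⟩
  haveI : FaithfulSMul R (Bi R A Gi i) := by
    rw [faithfulSMul_iff_algebraMap_injective]
    intro x y hxy
    exact hinj (congrArg Subtype.val hxy)
  rw [← hGi i]
  exact (IsGaloisGroup.card_eq_finrank' (Gi i) R (Bi R A Gi i)).symm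

end Main

section Span

/-- the subalgebra generated by finitely many subalgebras, each spanned as a module by a finite
family, is spanned as a module by the products of members of those families -/
theorem iSup_toSubmodule_eq_span_prod {R : Type*} [CommRing R] {A : Type*} [CommRing A] [Algebra R A]
    {ι κ : Type*} [Fintype ι] [Fintype κ] (B : ι → Subalgebra R A) (e : ι → κ → A)
    (he : ∀ i, Submodule.span R (Set.range (e i)) = Subalgebra.toSubmodule (B i)) :
    Subalgebra.toSubmodule (⨆ i, B i) =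
      Submodule.span R (Set.range fun α : ι → κ => ∏ i, e i (α i)) := by
  classical
  set W := Submodule.span R (Set.range fun α : ι → κ => ∏ i, e i (α i)) with hW
  have hemem : ∀ i k, e i k ∈ B i := by
    intro i k
    have : e i k ∈ Submodule.span R (Set.range (e i)) := Submodule.subset_span ⟨k, rfl⟩
    rw [he i] at this
    exact this
  -- products of members of the `B i` lie in `W`
  have key : ∀ x : ι → A, (∀ i, x i ∈ B i) → ∏ i, x i ∈ W := by
    intro x hx
    have hc : ∀ i, ∃ c : κ → R, ∑ k, c k • e i k = x i := by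
      intro i
      have : x i ∈ Submodule.span R (Set.range (e i)) := by rw [he i]; exact hx i
      exact (Submodule.mem_span_range_iff_exists_fun R).mp this
    choose c hc using hc
    have h1 : ∏ i, x i = ∑ α : ι → κ, (∏ i, c i (α i)) • ∏ i, e i (α i) := by
      calc ∏ i, x i = ∏ i, ∑ k, c i k • e i k := by simp_rw [hc]
        _ = ∑ α ∈ Fintype.piFinset (fun _ : ι => (Finset.univ : Finset κ)),
              ∏ i, c i (α i) • e i (α i) := Finset.prod_univ_sum _ _
        _ = ∑ α : ι → κ, (∏ i, c i (α i)) • ∏ i, e i (α i) := by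
            rw [Fintype.piFinset_univ]
            apply Finset.sum_congr rfl
            intro α _
            rw [Finset.prod_smul]
    rw [h1]
    exact Submodule.sum_mem _ fun α _ => Submodule.smul_mem _ _ (Submodule.subset_span ⟨α, rfl⟩)
  have hmul : ∀ a b, a ∈ W → b ∈ W → a * b ∈ W := by
    intro a b ha hb
    have hWW : W * W ≤ W := by
      rw [hW, Submodule.span_mul_span, Submodule.span_le]
      rintro _ ⟨_, ⟨α, rfl⟩, _, ⟨β, rfl⟩, rfl⟩
      show (∏ i, e i (α i)) * (∏ i, e i (β i)) ∈ W
      rw [← Finset.prod_mul_distrib]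
      exact key _ fun i => (B i).mul_mem (hemem i _) (hemem i _)
    exact hWW (Submodule.mul_mem_mul ha hb)
  have hone : (1 : A) ∈ W := by
    have := key (fun _ => 1) (fun i => (B i).one_mem)
    simpa using this
  apply le_antisymm
  · intro x hx
    refine Algebra.iSup_induction B (motive := fun a => a ∈ W) hx ?_ ?_ hmul ?_
    · intro i a ha
      have := key (fun j => if j = i then a else 1) (fun j => by
        by_cases h : j = i
        · subst h; simp [ha]
        · simpa [h] using (B j).one_mem)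
      simpa using this
    · intro a b ha hb
      exact W.add_mem ha hb
    · intro r
      rw [Algebra.algebraMap_eq_smul_one]
      exact W.smul_mem r hone
  · rw [hW, Submodule.span_le]
    rintro _ ⟨α, rfl⟩
    exact Subalgebra.prod_mem _ fun i _ => (le_iSup B i) (hemem i (α i))

end Span

section Basis
variable {p : ℕ} {R : Type u} [CommRing R] [IsDomain R] [IsNoetherianRing R] {A : Type v}
  [CommRing A] [IsDomain A] [Algebra R A] [Module.Finite R A]
  {H : Type w} [Group H] [Finite H] [MulSemiringAction H A] [SMulCommClass H R A] [FaithfulSMul H A]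
  (hinj : Function.Injective (algebraMap R A))
  (hfix : ∀ a : A, (∀ h : H, h • a = a) → a ∈ Set.range (algebraMap R A))
  (hcomm : ∀ g h : H, g * h = h * g)
  {n : ℕ} (hcard : Nat.card H = p ^ n) (Gi : Fin n → Subgroup H)
  (hGi : ∀ i, Nat.card (Gi i) = p) (hsup : (⨆ i, Gi i) = ⊤)

include hinj hfix hcomm hcard hGi hsup in
/-- the subalgebra generated by the `B i` is a free module with a basis indexed by
`Fin n → Fin p` -/
theorem nonempty_basis_Ssub (hfree : ∀ i, Module.Free R (Bi R A Gi i)) :
    Nonempty (Module.Basis (Fin n → Fin p) R (Ssub R A Gi)) := by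
  classical
  haveI : IsNoetherian R A := isNoetherian_of_isNoetherianRing_of_finite R A
  haveI : ∀ i, Module.Finite R (Bi R A Gi i) := fun i =>
    Module.Finite.of_injective (Bi R A Gi i).val.toLinearMap Subtype.val_injective
  haveI : Module.Finite R (Ssub R A Gi) :=
    Module.Finite.of_injective (Ssub R A Gi).val.toLinearMap Subtype.val_injective
  haveI := hfree
  let b : ∀ i, Module.Basis (Fin p) R (Bi R A Gi i) := fun i =>
    Module.finBasisOfFinrankEq R (Bi R A Gi i) (finrank_Bi hinj hfix hcomm hcard Gi hGi hsup i)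
  let e : Fin n → Fin p → A := fun i k => (b i k : A)
  have he : ∀ i, Submodule.span R (Set.range (e i)) = Subalgebra.toSubmodule (Bi R A Gi i) := by
    intro i
    have h1 : Set.range (e i) = (Bi R A Gi i).val.toLinearMap '' Set.range (b i) := by
      ext y
      constructor
      · rintro ⟨k, rfl⟩
        exact ⟨b i k, ⟨k, rfl⟩, rfl⟩
      · rintro ⟨_, ⟨k, rfl⟩, rfl⟩
        exact ⟨k, rfl⟩
    rw [h1, Submodule.span_image, (b i).span_eq, Submodule.map_top]
    ext y
    constructor
    · rintro ⟨z, rfl⟩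
      exact z.2
    · intro hy
      exact ⟨⟨y, hy⟩, rfl⟩
  have hspan := iSup_toSubmodule_eq_span_prod (fun i => Bi R A Gi i) e he
  have hmem : ∀ α : Fin n → Fin p, ∏ i, e i (α i) ∈ Ssub R A Gi := by
    intro α
    have : ∏ i, e i (α i) ∈ Subalgebra.toSubmodule (⨆ i, Bi R A Gi i) := by
      rw [hspan]
      exact Submodule.subset_span ⟨α, rfl⟩
    exact this
  let f : (Fin n → Fin p) → Ssub R A Gi := fun α => ⟨∏ i, e i (α i), hmem α⟩
  have htop : ⊤ ≤ Submodule.span R (Set.range f) := by
    intro x _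
    have hx : (x : A) ∈ Subalgebra.toSubmodule (⨆ i, Bi R A Gi i) := x.2
    rw [hspan] at hx
    have h2 : (Set.range fun α : Fin n → Fin p => ∏ i, e i (α i)) =
        (Ssub R A Gi).val.toLinearMap '' Set.range f := by
      ext y
      constructor
      · rintro ⟨α, rfl⟩
        exact ⟨f α, ⟨α, rfl⟩, rfl⟩
      · rintro ⟨_, ⟨α, rfl⟩, rfl⟩
        exact ⟨α, rfl⟩
    rw [h2, Submodule.span_image] at hx
    obtain ⟨y, hy, hyx⟩ := hx
    have : y = x := Subtype.ext hyx
    rw [← this]
    exact hy
  have hcardf : Fintype.card (Fin n → Fin p) = Module.finrank R (Ssub R A Gi) := by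
    rw [finrank_Ssub hinj hfix hcomm hcard Gi hGi hsup]
    simp
  have hli : LinearIndependent R f :=
    linearIndependent_of_top_le_span_of_card_eq_finrank htop hcardf
  exact ⟨Module.Basis.mk hli htop⟩

include hinj hfix hcomm hcard hGi hsup in
omit [IsNoetherianRing R] in
/-- generically `A` is generated by the `B i` -/
theorem exists_smul_mem_Ssub (a : A) : ∃ r : R, r ≠ 0 ∧ r • a ∈ Ssub R A Gi := by
  classical
  haveI : FaithfulSMul R A := (faithfulSMul_iff_algebraMap_injective R A).mpr hinj
  haveI : IsGaloisGroup H R A := ⟨inferInstance, inferInstance, ⟨fun a ha => hfix a ha⟩⟩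
  have h1 : Module.finrank R A = p ^ n := by
    rw [← hcard]
    exact (IsGaloisGroup.card_eq_finrank' H R A).symm
  have h2 : Module.finrank R (Subalgebra.toSubmodule (Ssub R A Gi)) = p ^ n :=
    finrank_Ssub hinj hfix hcomm hcard Gi hGi hsup
  have h3 := Submodule.finrank_quotient_add_finrank (Subalgebra.toSubmodule (Ssub R A Gi))
  rw [h1, h2] at h3
  have h4 : Module.finrank R (A ⧸ Subalgebra.toSubmodule (Ssub R A Gi)) = 0 := by omega
  rw [Module.finrank_eq_zero_iff_isTorsion] at h4
  obtain ⟨r, hr⟩ := @h4 (Submodule.Quotient.mk a)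
  refine ⟨r, nonZeroDivisors.coe_ne_zero r, ?_⟩
  have h5 : (Submodule.Quotient.mk ((r : R) • a) : A ⧸ Subalgebra.toSubmodule (Ssub R A Gi)) = 0 := by
    rw [Submodule.Quotient.mk_smul]
    exact hr
  exact (Submodule.Quotient.mk_eq_zero _).mp h5

end Basis

section Omega

/-- an algebra `T` over `D` (itself an `R`-algebra) generated by the images of `R`-algebras `C j`
is unramified over `D` at a prime `𝔓` as soon as each `C j` is unramified over `R` at the
contraction of `𝔓` -/
theorem isUnramifiedAt_of_adjoin {R D T : Type*} [CommRing R] [CommRing D] [CommRing T]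
    [Algebra R D] [Algebra R T] [Algebra D T] [IsScalarTower R D T] {ι : Type*}
    (C : ι → Type*) [∀ j, CommRing (C j)] [∀ j, Algebra R (C j)] (f : ∀ j, C j →ₐ[R] T)
    (hgen : Algebra.adjoin D (⋃ j, Set.range (f j)) = ⊤) (𝔓 : Ideal T) [𝔓.IsPrime]
    (h : ∀ j, Algebra.IsUnramifiedAt R (𝔓.comap (f j))) : Algebra.IsUnramifiedAt D 𝔓 := by
  classical
  have hmem : (⟨𝔓, inferInstance⟩ : PrimeSpectrum T) ∈ Algebra.unramifiedLocus D T := by
    rw [Algebra.unramifiedLocus_eq_compl_support, Set.mem_compl_iff, Module.notMem_support_iff']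
    -- the submodule of differentials killed by an element outside `𝔓`
    let W : Submodule T Ω[T⁄D] :=
      { carrier := {ω | ∃ t ∉ 𝔓, t • ω = 0}
        add_mem' := by
          rintro ω₁ ω₂ ⟨t₁, ht₁, h₁⟩ ⟨t₂, ht₂, h₂⟩
          refine ⟨t₁ * t₂, ‹𝔓.IsPrime›.mul_notMem ht₁ ht₂, ?_⟩
          have e1 : (t₁ * t₂) • ω₁ = t₂ • (t₁ • ω₁) := by rw [mul_comm, mul_smul]
          have e2 : (t₁ * t₂) • ω₂ = t₁ • (t₂ • ω₂) := by rw [mul_smul]
          rw [smul_add, e1, e2, h₁, h₂, smul_zero, smul_zero, add_zero]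
        zero_mem' := ⟨1, 𝔓.one_notMem, smul_zero _⟩
        smul_mem' := by
          rintro c ω ⟨t, ht, h⟩
          exact ⟨t, ht, by rw [smul_comm, h, smul_zero]⟩ }
    -- the subalgebra of elements with differential in `W`
    let T₀ : Subalgebra D T :=
      { carrier := {x | KaehlerDifferential.D D T x ∈ W}
        mul_mem' := by
          intro a b ha hb
          show KaehlerDifferential.D D T (a * b) ∈ W
          rw [Derivation.leibniz]
          exact W.add_mem (W.smul_mem _ hb) (W.smul_mem _ ha)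
        add_mem' := by
          intro a b ha hb
          show KaehlerDifferential.D D T (a + b) ∈ W
          rw [map_add]
          exact W.add_mem ha hb
        algebraMap_mem' := by
          intro r
          show KaehlerDifferential.D D T (algebraMap D T r) ∈ W
          rw [Derivation.map_algebraMap]
          exact W.zero_mem }
    have hT₀ : T₀ = ⊤ := by
      rw [eq_top_iff, ← hgen]
      apply Algebra.adjoin_le
      rintro _ ⟨_, ⟨j, rfl⟩, ⟨c, rfl⟩⟩
      show KaehlerDifferential.D D T (f j c) ∈ W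
      letI : Algebra (C j) T := (f j).toRingHom.toAlgebra
      haveI : IsScalarTower R (C j) T := IsScalarTower.of_algebraMap_eq (fun r => ((f j).commutes r).symm)
      haveI : SMulCommClass D (C j) T := ⟨fun d c t => by
        rw [Algebra.smul_def, Algebra.smul_def, Algebra.smul_def, Algebra.smul_def]; ring⟩
      haveI := h j
      have hq : (⟨𝔓.comap (f j), inferInstance⟩ : PrimeSpectrum (C j)) ∈
          Algebra.unramifiedLocus R (C j) := h j
      rw [Algebra.unramifiedLocus_eq_compl_support, Set.mem_compl_iff,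
        Module.notMem_support_iff'] at hq
      obtain ⟨u, hu, hu0⟩ := hq (KaehlerDifferential.D R (C j) c)
      refine ⟨f j u, hu, ?_⟩
      have h1 := congrArg (KaehlerDifferential.map R D (C j) T) hu0
      rw [map_zero, map_smul, KaehlerDifferential.map_D] at h1
      rw [← h1]
      rfl
    intro ω
    have hω : ω ∈ W := by
      have hspan := KaehlerDifferential.span_range_derivation D T
      have : ω ∈ Submodule.span T (Set.range (KaehlerDifferential.D D T)) := by
        rw [hspan]; trivial
      refine Submodule.span_le.mpr ?_ this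
      rintro _ ⟨x, rfl⟩
      have : x ∈ T₀ := by rw [hT₀]; trivial
      exact this
    exact hω
  exact hmem

end Omega

section DV
open IsLocalRing

/-- a height one prime of a normal noetherian domain is locally principal -/
theorem exists_local_generator (D : Type*) [CommRing D] [IsDomain D] [IsNoetherianRing D]
    [IsIntegrallyClosed D] (𝔭 : Ideal D) [𝔭.IsPrime] (h1 : 𝔭.height = 1) :
    ∃ π ∈ 𝔭, ∀ x ∈ 𝔭, ∃ t ∉ 𝔭, ∃ d, t * x = d * π := by
  classical
  let Dp := Localization.AtPrime 𝔭
  have hle : 𝔭.primeCompl ≤ nonZeroDivisors D := 𝔭.primeCompl_le_nonZeroDivisors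
  haveI : IsDomain Dp := IsLocalization.isDomain_of_le_nonZeroDivisors Dp hle
  haveI : IsIntegrallyClosed Dp := isIntegrallyClosed_of_isLocalization Dp 𝔭.primeCompl hle
  have hinj : Function.Injective (algebraMap D Dp) := IsLocalization.injective Dp hle
  have hcomap : (maximalIdeal Dp).comap (algebraMap D Dp) = 𝔭 :=
    IsLocalization.AtPrime.under_maximalIdeal Dp 𝔭
  have hmht : (maximalIdeal Dp).height = 1 := by
    have h2 := IsLocalization.height_under 𝔭.primeCompl (maximalIdeal Dp)
    have h3 : ((maximalIdeal Dp).under D).height = 𝔭.height := congrArg Ideal.height hcomap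
    rw [← h2, h3, h1]
  have hmne : maximalIdeal Dp ≠ ⊥ := Ideal.ne_bot_of_height_eq_one hmht
  have hnf : ¬ IsField Dp := by
    rw [IsLocalRing.isField_iff_maximalIdeal_eq]; exact hmne
  have huniq : ∃! P : Ideal Dp, P ≠ ⊥ ∧ P.IsPrime := by
    refine ⟨maximalIdeal Dp, ⟨hmne, inferInstance⟩, ?_⟩
    rintro P ⟨hP0, hP⟩
    haveI := hP
    have hPm : P ≤ maximalIdeal Dp := IsLocalRing.le_maximalIdeal hP.ne_top
    have hPht : (maximalIdeal Dp).height ≤ P.height := by
      rw [hmht]
      rw [Order.one_le_iff_pos, pos_iff_ne_zero, Ne, Ideal.height_eq_zero_iff_eq_bot]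
      exact hP0
    exact Ideal.eq_of_le_of_height_le (I := P) (J := maximalIdeal Dp) hPm hPht
  have hII : IsIntegrallyClosed Dp ∧ ∃! P : Ideal Dp, P ≠ ⊥ ∧ P.IsPrime := ⟨inferInstance, huniq⟩
  have hprinc : (maximalIdeal Dp).IsPrincipal :=
    ((IsDiscreteValuationRing.TFAE Dp hnf).out 3 4).mp hII
  obtain ⟨ϖ, hϖ⟩ := hprinc
  obtain ⟨π, t₀, rfl⟩ := IsLocalization.exists_mk'_eq 𝔭.primeCompl ϖ
  have hunit : IsUnit (algebraMap D Dp t₀) := IsLocalization.map_units Dp t₀
  have hspan : maximalIdeal Dp = Ideal.span {algebraMap D Dp π} := by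
    have h2 : (maximalIdeal Dp : Ideal Dp) = Ideal.span {IsLocalization.mk' Dp π t₀} := hϖ
    rw [h2]
    apply le_antisymm
    · rw [Ideal.span_singleton_le_iff_mem, Ideal.mem_span_singleton']
      refine ⟨↑(hunit.unit⁻¹), ?_⟩
      rw [IsLocalization.eq_mk'_iff_mul_eq, mul_assoc, mul_comm (algebraMap D Dp π), ← mul_assoc,
        IsUnit.val_inv_mul, one_mul]
    · rw [Ideal.span_singleton_le_iff_mem, Ideal.mem_span_singleton']
      refine ⟨algebraMap D Dp t₀, ?_⟩
      exact IsLocalization.mk'_spec' Dp π t₀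
  have hπ : π ∈ 𝔭 := by
    rw [← hcomap, Ideal.mem_comap, hspan]
    exact Ideal.mem_span_singleton_self _
  refine ⟨π, hπ, ?_⟩
  intro x hx
  have hx' : algebraMap D Dp x ∈ maximalIdeal Dp := by
    rw [← hcomap] at hx
    exact hx
  rw [hspan, Ideal.mem_span_singleton'] at hx'
  obtain ⟨y, hy⟩ := hx'
  obtain ⟨d, t, rfl⟩ := IsLocalization.exists_mk'_eq 𝔭.primeCompl y
  refine ⟨t, t.2, d, ?_⟩
  apply hinj
  rw [map_mul, map_mul, ← hy, ← mul_assoc, mul_comm (algebraMap D Dp t), IsLocalization.mk'_spec]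

/-- if `T` is unramified over the normal noetherian domain `D` at a prime `𝔓` lying over a
height one prime, then `T_𝔓` is integrally closed (a discrete valuation ring) -/
theorem isIntegrallyClosed_localization_of_isUnramifiedAt {D T : Type*} [CommRing D] [IsDomain D]
    [IsNoetherianRing D] [IsIntegrallyClosed D] [CommRing T] [IsDomain T] [IsNoetherianRing T]
    [Algebra D T] [Algebra.EssFiniteType D T] (hinj : Function.Injective (algebraMap D T))
    (𝔓 : Ideal T) [𝔓.IsPrime] (hht : (𝔓.under D).height = 1) [Algebra.IsUnramifiedAt D 𝔓] :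
    IsIntegrallyClosed (Localization.AtPrime 𝔓) := by
  classical
  set 𝔭 := 𝔓.under D with h𝔭
  letI := Localization.AtPrime.algebraOfLiesOver 𝔭 𝔓
  obtain ⟨-, hmap⟩ := (Algebra.isUnramifiedAt_iff_map_eq D 𝔭 𝔓).mp inferInstance
  obtain ⟨π, hπ, hloc⟩ := exists_local_generator D 𝔭 hht
  let TP := Localization.AtPrime 𝔓
  have hle : 𝔓.primeCompl ≤ nonZeroDivisors T := 𝔓.primeCompl_le_nonZeroDivisors
  haveI : IsDomain TP := IsLocalization.isDomain_of_le_nonZeroDivisors TP hle
  have hinjT : Function.Injective (algebraMap T TP) := IsLocalization.injective TP hle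
  have hspan : maximalIdeal TP = Ideal.span {algebraMap D TP π} := by
    apply le_antisymm
    · rw [← hmap, Ideal.map_le_iff_le_comap]
      intro x hx
      obtain ⟨t, ht, d, htd⟩ := hloc x hx
      rw [Ideal.mem_comap, Ideal.mem_span_singleton']
      have htP : algebraMap D T t ∉ 𝔓 := fun h => ht h
      have hu : IsUnit (algebraMap D TP t) := by
        rw [IsScalarTower.algebraMap_apply D T TP]
        exact IsLocalization.map_units TP (⟨algebraMap D T t, htP⟩ : 𝔓.primeCompl)
      refine ⟨↑(hu.unit⁻¹) * algebraMap D TP d, ?_⟩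
      have h1 := congrArg (algebraMap D TP) htd
      rw [map_mul, map_mul] at h1
      rw [mul_assoc, ← h1, ← mul_assoc, IsUnit.val_inv_mul, one_mul]
    · rw [Ideal.span_singleton_le_iff_mem, ← hmap]
      exact Ideal.mem_map_of_mem _ hπ
  have hne : maximalIdeal TP ≠ ⊥ := by
    intro h0
    have h𝔭0 : 𝔭 ≠ ⊥ := Ideal.ne_bot_of_height_eq_one hht
    obtain ⟨x, hx, hx0⟩ := Submodule.exists_mem_ne_zero_of_ne_bot h𝔭0
    have h1 : algebraMap D TP x ∈ maximalIdeal TP := by
      rw [← hmap]; exact Ideal.mem_map_of_mem _ hx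
    rw [h0, Ideal.mem_bot, IsScalarTower.algebraMap_apply D T TP] at h1
    have h2 : algebraMap D T x = 0 := hinjT (h1.trans (map_zero _).symm)
    exact hx0 (hinj (h2.trans (map_zero _).symm))
  have hnf : ¬ IsField TP := by
    rw [IsLocalRing.isField_iff_maximalIdeal_eq]; exact hne
  have hprinc : (maximalIdeal TP).IsPrincipal := ⟨⟨_, hspan⟩⟩
  have h43 : IsIntegrallyClosed TP ∧ ∃! P : Ideal TP, P ≠ ⊥ ∧ P.IsPrime :=
    ((IsDiscreteValuationRing.TFAE TP hnf).out 4 3).mp hprinc
  exact h43.1

end DV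

section Chase

/-- Let `T ⊆ A` be a subalgebra of a domain, `𝔓` a prime of `T` with `T_𝔓` integrally closed, and
`a ∈ A` integral over `R` with `r • a ∈ T` for some `r` nonzero in `A`. Then `t * a ∈ T` for some
`t ∈ T ∖ 𝔓`. -/
theorem exists_mul_mem_of_isIntegrallyClosed_localization {R : Type*} [CommRing R] {A : Type*}
    [CommRing A] [IsDomain A] [Algebra R A] (T : Subalgebra R A) (𝔓 : Ideal T) [𝔓.IsPrime]
    [IsIntegrallyClosed (Localization.AtPrime 𝔓)] (a : A) (ha : IsIntegral R a) (r : R)
    (hr : algebraMap R A r ≠ 0) (hra : r • a ∈ T) : ∃ t : T, t ∉ 𝔓 ∧ (t : A) * a ∈ T := by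
  classical
  let TP := Localization.AtPrime 𝔓
  have hle : 𝔓.primeCompl ≤ nonZeroDivisors T := 𝔓.primeCompl_le_nonZeroDivisors
  haveI : IsDomain TP := IsLocalization.isDomain_of_le_nonZeroDivisors TP hle
  have hinjT : Function.Injective (algebraMap T TP) := IsLocalization.injective TP hle
  obtain ⟨f, hfm, hfa⟩ := ha
  set d := f.natDegree with hd
  let s₀ : T := ⟨r • a, hra⟩
  let rT : T := algebraMap R T r
  have hrT : (rT : A) = algebraMap R A r := rfl
  have hrT0 : rT ≠ 0 := by
    intro h
    apply hr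
    rw [← hrT, h]; rfl
  have hy0 : algebraMap T TP rT ≠ 0 := by
    intro h
    exact hrT0 (hinjT (h.trans (map_zero _).symm))
  -- the homogeneous relation in `T`
  have hrelT : ∑ j ∈ Finset.range (d + 1), algebraMap R T (f.coeff j) * s₀ ^ j * rT ^ (d - j) = 0 := by
    apply Subtype.val_injective
    rw [ZeroMemClass.coe_zero, AddSubmonoidClass.coe_finsetSum]
    have h1 : ∀ j ∈ Finset.range (d + 1),
        ((algebraMap R T (f.coeff j) * s₀ ^ j * rT ^ (d - j) : T) : A) =
          (algebraMap R A r) ^ d * (algebraMap R A (f.coeff j) * a ^ j) := by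
      intro j hj
      have hj' : j ≤ d := Nat.lt_succ_iff.mp (Finset.mem_range.mp hj)
      have e1 : ((algebraMap R T (f.coeff j) * s₀ ^ j * rT ^ (d - j) : T) : A) =
          algebraMap R A (f.coeff j) * (r • a) ^ j * (algebraMap R A r) ^ (d - j) := rfl
      rw [e1, Algebra.smul_def, mul_pow]
      have e2 : (algebraMap R A r) ^ d = (algebraMap R A r) ^ j * (algebraMap R A r) ^ (d - j) := by
        rw [← pow_add]; congr 1; omega
      rw [e2]; ring
    rw [Finset.sum_congr rfl h1, ← Finset.mul_sum]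
    have h2 : ∑ j ∈ Finset.range (d + 1), algebraMap R A (f.coeff j) * a ^ j = 0 := by
      rw [Polynomial.eval₂_eq_sum_range] at hfa
      exact hfa
    rw [h2, mul_zero]
  let G : Polynomial TP := f.map (algebraMap R TP)
  have hGm : G.Monic := hfm.map _
  have hGd : G.natDegree = d := hfm.natDegree_map _
  have hrel : ∑ j ∈ Finset.range (G.natDegree + 1),
      G.coeff j * (algebraMap T TP s₀) ^ j * (algebraMap T TP rT) ^ (G.natDegree - j) = 0 := by
    rw [hGd]
    have h0 := congrArg (algebraMap T TP) hrelT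
    rw [map_zero, map_sum] at h0
    refine Eq.trans ?_ h0
    apply Finset.sum_congr rfl
    intro j _
    rw [map_mul, map_mul, map_pow, map_pow, Polynomial.coeff_map,
      IsScalarTower.algebraMap_apply R T TP]
  obtain ⟨w, hw⟩ := Groth.Agent.S13359.comp_int G hGm (algebraMap T TP s₀) (algebraMap T TP rT)
    hy0 hrel
  obtain ⟨s', t, rfl⟩ := IsLocalization.exists_mk'_eq 𝔓.primeCompl w
  refine ⟨t, t.2, ?_⟩
  have h3 : algebraMap T TP (s₀ * t) = algebraMap T TP (s' * rT) := by
    rw [map_mul, map_mul, hw, mul_assoc, mul_comm (algebraMap T TP rT), ← mul_assoc,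
      IsLocalization.mk'_spec]
  have h4 : s₀ * t = s' * rT := hinjT h3
  have h5 : (r • a) * (t : A) = (s' : A) * algebraMap R A r := congrArg Subtype.val h4
  have h6 : algebraMap R A r * ((t : A) * a - s') = 0 := by
    rw [Algebra.smul_def] at h5
    rw [mul_sub, mul_comm (algebraMap R A r) (s' : A), ← h5]; ring
  have h7 : (t : A) * a = s' := by
    rcases mul_eq_zero.mp h6 with h | h
    · exact absurd h hr
    · exact sub_eq_zero.mp h
  rw [h7]
  exact s'.2

end Chase

section Codim
open scoped Pointwise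
variable {p : ℕ} {R : Type u} [CommRing R] [IsDomain R] [IsNoetherianRing R] {A : Type v}
  [CommRing A] [IsDomain A] [IsIntegrallyClosed A] [Algebra R A] [Module.Finite R A]
  {H : Type w} [Group H] [Finite H] [MulSemiringAction H A] [SMulCommClass H R A] [FaithfulSMul H A]
  (hinj : Function.Injective (algebraMap R A))
  (hfix : ∀ a : A, (∀ h : H, h • a = a) → a ∈ Set.range (algebraMap R A))
  (hcomm : ∀ g h : H, g * h = h * g)
  {n : ℕ} (hcard : Nat.card H = p ^ n) (Gi : Fin n → Subgroup H)
  (hGi : ∀ i, Nat.card (Gi i) = p) (hsup : (⨆ i, Gi i) = ⊤)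
  (hMR3 : ∀ P : Ideal A, P.IsPrime → P.height = 1 → P.inertia H ≠ ⊥ → ∃ i, P.inertia H = Gi i)

include hcomm in
omit [IsDomain R] [IsNoetherianRing R] [IsDomain A] [IsIntegrallyClosed A] [Module.Finite R A]
  [FaithfulSMul H A] in
/-- all primes of `A` over a given prime of `R` have the same inertia group (`H` is commutative) -/
theorem inertia_eq_of_comap_eq (hfix : ∀ a : A, (∀ h : H, h • a = a) → a ∈ Set.range (algebraMap R A))
    (P Q : Ideal A) [P.IsPrime] [Q.IsPrime]
    (hPQ : P.comap (algebraMap R A) = Q.comap (algebraMap R A)) : Q.inertia H = P.inertia H := by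
  haveI : Algebra.IsInvariant R A H := ⟨fun a ha => hfix a ha⟩
  obtain ⟨g, rfl⟩ := Algebra.IsInvariant.exists_smul_of_under_eq R A H P Q hPQ
  apply le_antisymm
  · intro σ hσ
    have h1 := InertiaGen.conj_mem_inertia_smul (g • P) g⁻¹ σ hσ
    rw [inv_smul_smul, hcomm g⁻¹ σ, mul_assoc, inv_inv, inv_mul_cancel, mul_one] at h1
    exact h1
  · intro σ hσ
    have h1 := InertiaGen.conj_mem_inertia_smul P g σ hσ
    rw [hcomm g σ, mul_assoc, mul_inv_cancel, mul_one] at h1
    exact h1

include hinj hfix hcomm hcard hGi hsup hMR3 in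
/-- **Generation in codimension one**: for a height one prime `q` of `R`, every element of `A`
lies in the subalgebra generated by the `B i` after multiplication by an element outside `q`. -/
theorem exists_smul_mem_Ssub_of_heightOne (hn : 0 < n) (q : Ideal R) [q.IsPrime]
    (hq : q.height = 1) (a : A) : ∃ s : R, s ∉ q ∧ s • a ∈ Ssub R A Gi := by
  classical
  haveI : Algebra.IsIntegral R A := Algebra.IsIntegral.of_finite R A
  haveI : Algebra.IsInvariant R A H := ⟨fun a ha => hfix a ha⟩
  haveI : IsNoetherian R A := isNoetherian_of_isNoetherianRing_of_finite R A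
  have hq0 : q ≠ ⊥ := Ideal.ne_bot_of_height_eq_one hq
  -- a prime of `A` over `q` and the common inertia group
  obtain ⟨P₀, -, hP₀, hP₀q⟩ := Ideal.exists_ideal_over_prime_of_isIntegral q (⊥ : Ideal A) (by
    intro x hx
    rw [Ideal.mem_comap, Ideal.mem_bot] at hx
    have : x = 0 := hinj (hx.trans (map_zero _).symm)
    rw [this]; exact q.zero_mem)
  haveI := hP₀
  have hP₀ht : P₀.height = 1 := by
    apply le_antisymm
    · have h1 := InertiaGen.height_le_height_under_of_isIntegral (A' := R) P₀
      have h2 : P₀.under R = q := hP₀q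
      rw [h2, hq] at h1
      exact h1
    · rw [Order.one_le_iff_pos, pos_iff_ne_zero, Ne, Ideal.height_eq_zero_iff_eq_bot]
      rintro rfl
      apply hq0
      rw [← hP₀q, eq_bot_iff]
      intro x hx
      rw [Ideal.mem_comap, Ideal.mem_bot] at hx
      rw [Ideal.mem_bot]
      exact hinj (hx.trans (map_zero _).symm)
  have hall : ∀ P : Ideal A, P.IsPrime → P.comap (algebraMap R A) = q →
      P.inertia H = P₀.inertia H := by
    intro P hP hPq
    haveI := hP
    exact inertia_eq_of_comap_eq hcomm hfix P₀ P (hP₀q.trans hPq.symm)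
  -- the index `i`
  obtain ⟨i, hi⟩ : ∃ i : Fin n, ∀ j, j ≠ i → P₀.inertia H ≤ perp Gi j := by
    by_cases h0 : P₀.inertia H = ⊥
    · exact ⟨⟨0, hn⟩, fun j _ => h0 ▸ bot_le⟩
    · obtain ⟨i, hi⟩ := hMR3 P₀ hP₀ hP₀ht h0
      exact ⟨i, fun j hj => hi ▸ le_perp Gi (Ne.symm hj)⟩
  -- the rings `D = B i ⊆ T = S`
  have hDT : Bi R A Gi i ≤ Ssub R A Gi := le_iSup (fun i => Bi R A Gi i) i
  letI algDT : Algebra (Bi R A Gi i) (Ssub R A Gi) := (Subalgebra.inclusion hDT).toRingHom.toAlgebra
  haveI : IsScalarTower R (Bi R A Gi i) (Ssub R A Gi) :=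
    IsScalarTower.of_algebraMap_eq (fun r => rfl)
  haveI : IsIntegrallyClosed (Bi R A Gi i) := InertiaGen.isIntegrallyClosed_fixedPoints _
  haveI : Module.Finite R (Bi R A Gi i) :=
    Module.Finite.of_injective (Bi R A Gi i).val.toLinearMap Subtype.val_injective
  haveI : Module.Finite R (Ssub R A Gi) :=
    Module.Finite.of_injective (Ssub R A Gi).val.toLinearMap Subtype.val_injective
  haveI : IsNoetherianRing (Bi R A Gi i) := IsNoetherianRing.of_finite R _
  haveI : IsNoetherianRing (Ssub R A Gi) := IsNoetherianRing.of_finite R _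
  haveI : Module.Finite (Bi R A Gi i) (Ssub R A Gi) :=
    Module.Finite.of_restrictScalars_finite R _ _
  haveI : Algebra.IsIntegral R (Bi R A Gi i) := Algebra.IsIntegral.of_finite R _
  haveI : Algebra.IsIntegral R (Ssub R A Gi) := Algebra.IsIntegral.of_finite R _
  have hinjD : Function.Injective (algebraMap R (Bi R A Gi i)) := fun x y hxy =>
    hinj (congrArg Subtype.val hxy)
  have hinjDT : Function.Injective (algebraMap (Bi R A Gi i) (Ssub R A Gi)) := fun x y hxy =>
    Subtype.ext (congrArg (fun z : Ssub R A Gi => (z : A)) hxy)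
  -- generation of `T` over `D` by the other `B j`
  let C : {j : Fin n // j ≠ i} → Type v := fun j => Bi R A Gi j.1
  let f : ∀ j : {j : Fin n // j ≠ i}, C j →ₐ[R] Ssub R A Gi := fun j =>
    Subalgebra.inclusion (le_iSup (fun i => Bi R A Gi i) j.1)
  have hgen : Algebra.adjoin (Bi R A Gi i) (⋃ j, Set.range (f j)) = ⊤ := by
    rw [eq_top_iff]
    rintro ⟨x, hx⟩ -
    have key : ∀ y : A, y ∈ Ssub R A Gi → ∃ hy : y ∈ Ssub R A Gi,
        (⟨y, hy⟩ : Ssub R A Gi) ∈ Algebra.adjoin (Bi R A Gi i) (⋃ j, Set.range (f j)) := by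
      intro y hy
      refine Algebra.iSup_induction (fun i => Bi R A Gi i)
        (motive := fun y => ∃ hy : y ∈ Ssub R A Gi,
          (⟨y, hy⟩ : Ssub R A Gi) ∈ Algebra.adjoin (Bi R A Gi i) (⋃ j, Set.range (f j))) hy
        ?_ ?_ ?_ ?_
      · intro j b hb
        refine ⟨(le_iSup (fun i => Bi R A Gi i) j) hb, ?_⟩
        by_cases hji : j = i
        · subst hji
          exact Subalgebra.algebraMap_mem _ (⟨b, hb⟩ : Bi R A Gi j)
        · apply Algebra.subset_adjoin
          exact Set.mem_iUnion.mpr ⟨⟨j, hji⟩, ⟨⟨b, hb⟩, rfl⟩⟩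
      · rintro y z ⟨hy, hy'⟩ ⟨hz, hz'⟩
        exact ⟨(Ssub R A Gi).add_mem hy hz, Subalgebra.add_mem _ hy' hz'⟩
      · rintro y z ⟨hy, hy'⟩ ⟨hz, hz'⟩
        exact ⟨(Ssub R A Gi).mul_mem hy hz, Subalgebra.mul_mem _ hy' hz'⟩
      · intro r
        refine ⟨(Ssub R A Gi).algebraMap_mem r, ?_⟩
        exact Subalgebra.algebraMap_mem _ (algebraMap R (Bi R A Gi i) r)
    obtain ⟨_, h⟩ := key x hx
    exact h
  -- the generic statement
  obtain ⟨r, hr0, hra⟩ := exists_smul_mem_Ssub hinj hfix hcomm hcard Gi hGi hsup a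
  have hrA : algebraMap R A r ≠ 0 := fun h => hr0 (hinj (h.trans (map_zero _).symm))
  have haint : IsIntegral R a := Algebra.IsIntegral.isIntegral a
  -- the conductor of `a`
  let 𝔠 : Ideal (Ssub R A Gi) :=
    { carrier := {t | (t : A) * a ∈ Ssub R A Gi}
      add_mem' := by
        intro x y hx hy
        show ((x + y : Ssub R A Gi) : A) * a ∈ Ssub R A Gi
        rw [Subalgebra.coe_add, add_mul]
        exact (Ssub R A Gi).add_mem hx hy
      zero_mem' := by
        show ((0 : Ssub R A Gi) : A) * a ∈ Ssub R A Gi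
        rw [Subalgebra.coe_zero, zero_mul]
        exact (Ssub R A Gi).zero_mem
      smul_mem' := by
        intro c x hx
        show ((c * x : Ssub R A Gi) : A) * a ∈ Ssub R A Gi
        rw [Subalgebra.coe_mul, mul_assoc]
        exact (Ssub R A Gi).mul_mem c.2 hx }
  have hnot : ¬ 𝔠.comap (algebraMap R (Ssub R A Gi)) ≤ q := by
    intro hle
    obtain ⟨𝔓, h𝔠𝔓, h𝔓, h𝔓q⟩ := Ideal.exists_ideal_over_prime_of_isIntegral q 𝔠 hle
    haveI := h𝔓
    -- unramifiedness of the `B j`, `j ≠ i`, over `R` at the contraction of `𝔓`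
    have hunr : ∀ j : {j : Fin n // j ≠ i}, Algebra.IsUnramifiedAt R (𝔓.comap (f j)) := by
      intro j
      haveI : (perp Gi j.1).Normal := normal_of_comm hcomm _
      apply InertiaUnram.isUnramifiedAt_of_inertia_eq_bot (H ⧸ perp Gi j.1)
      apply InertiaGen.inertia_quotient_eq_bot (perp Gi j.1)
      intro P hP hPu
      haveI := hP
      have hPq : P.comap (algebraMap R A) = q := by
        rw [← h𝔓q]
        ext x
        have h1 : algebraMap R A x ∈ P ↔
            algebraMap R (Bi R A Gi j.1) x ∈ P.under (Bi R A Gi j.1) := Iff.rfl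
        rw [Ideal.mem_comap, h1, hPu]
        rfl
      rw [hall P hP hPq]
      exact hi j.1 j.2
    haveI : Algebra.IsUnramifiedAt (Bi R A Gi i) 𝔓 :=
      isUnramifiedAt_of_adjoin C f hgen 𝔓 hunr
    have hht : (𝔓.under (Bi R A Gi i)).height = 1 := by
      have hu : (𝔓.under (Bi R A Gi i)).under R = q := by
        rw [← h𝔓q]
        ext x
        rfl
      apply le_antisymm
      · have h1 := InertiaGen.height_le_height_under_of_isIntegral (A' := R)
          (𝔓.under (Bi R A Gi i))
        rw [hu, hq] at h1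
        exact h1
      · rw [Order.one_le_iff_pos, pos_iff_ne_zero, Ne, Ideal.height_eq_zero_iff_eq_bot]
        intro h0
        apply hq0
        rw [← hu, h0, eq_bot_iff]
        intro x hx
        rw [Ideal.mem_comap, Ideal.mem_bot] at hx
        rw [Ideal.mem_bot]
        exact hinjD (hx.trans (map_zero _).symm)
    haveI : IsIntegrallyClosed (Localization.AtPrime 𝔓) :=
      isIntegrallyClosed_localization_of_isUnramifiedAt hinjDT 𝔓 hht
    obtain ⟨t, ht, hta⟩ :=
      exists_mul_mem_of_isIntegrallyClosed_localization (Ssub R A Gi) 𝔓 a haint r hrA hra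
    exact ht (h𝔠𝔓 hta)
  obtain ⟨s, hs𝔠, hsq⟩ := Set.not_subset.mp hnot
  refine ⟨s, hsq, ?_⟩
  have h1 : ((algebraMap R (Ssub R A Gi) s : Ssub R A Gi) : A) * a ∈ Ssub R A Gi := hs𝔠
  rw [Algebra.smul_def]
  exact h1

end Codim

section Final
variable {p : ℕ} {R : Type u} [CommRing R] [IsRegularLocalRing R] {A : Type v}
  [CommRing A] [IsDomain A] [IsIntegrallyClosed A] [Algebra R A] [Module.Finite R A]
  {H : Type w} [Group H] [Finite H] [MulSemiringAction H A] [SMulCommClass H R A] [FaithfulSMul H A]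
  (hinj : Function.Injective (algebraMap R A))
  (hfix : ∀ a : A, (∀ h : H, h • a = a) → a ∈ Set.range (algebraMap R A))
  (hcomm : ∀ g h : H, g * h = h * g)
  {n : ℕ} (hcard : Nat.card H = p ^ n) (Gi : Fin n → Subgroup H)
  (hGi : ∀ i, Nat.card (Gi i) = p) (hsup : (⨆ i, Gi i) = ⊤)
  (hMR3 : ∀ P : Ideal A, P.IsPrime → P.height = 1 → P.inertia H ≠ ⊥ → ∃ i, P.inertia H = Gi i)

include hinj hfix hcomm hcard hGi hsup hMR3 in
/-- **Generation by the invariants of the complements**: the subalgebras `A^{G_i^⊥}`, when free over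
the regular local ring `R`, generate `A`. -/
theorem Ssub_eq_top (hfree : ∀ i, Module.Free R (Bi R A Gi i)) : Ssub R A Gi = ⊤ := by
  classical
  obtain ⟨hdom, hufd⟩ := Groth.Agent.Lib.helper2.AusBuch.ufd_of_isRegularLocalRing R
  haveI := hdom
  haveI := hufd
  rw [eq_top_iff]
  intro a _
  rcases Nat.eq_zero_or_pos n with hn | hn
  · -- trivial group
    subst hn
    rw [pow_zero] at hcard
    haveI : Subsingleton H := (Nat.card_eq_one_iff_unique.mp hcard).1
    obtain ⟨r, rfl⟩ := hfix a (fun h => by rw [Subsingleton.elim h 1, one_smul])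
    exact Subalgebra.algebraMap_mem _ r
  obtain ⟨b⟩ := nonempty_basis_Ssub hinj hfix hcomm hcard Gi hGi hsup hfree
  -- a minimal denominator
  let 𝒟 : Set R := {r | r ≠ 0 ∧ r • a ∈ Ssub R A Gi}
  have h𝒟 : 𝒟.Nonempty := by
    obtain ⟨r, hr0, hra⟩ := exists_smul_mem_Ssub hinj hfix hcomm hcard Gi hGi hsup a
    exact ⟨r, hr0, hra⟩
  obtain ⟨r, ⟨hr0, hra⟩, hmin⟩ :=
    (wellFounded_dvdNotUnit (α := R)).has_min 𝒟 h𝒟
  by_cases hu : IsUnit r
  · obtain ⟨u, rfl⟩ := hu
    have : a = (↑u⁻¹ : R) • ((u : R) • a) := by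
      rw [smul_smul, Units.inv_mul, one_smul]
    rw [this]
    exact (Ssub R A Gi).smul_mem hra _
  exfalso
  obtain ⟨π, hπirr, r', rfl⟩ := WfDvdMonoid.exists_irreducible_factor hu hr0
  have hπp : Prime π := UniqueFactorizationMonoid.irreducible_iff_prime.mp hπirr
  have hπ0 : π ≠ 0 := hπp.ne_zero
  have hr'0 : r' ≠ 0 := right_ne_zero_of_mul hr0
  haveI hqp : (Ideal.span {π} : Ideal R).IsPrime := (Ideal.span_singleton_prime hπ0).mpr hπp
  have hqht : (Ideal.span {π} : Ideal R).height = 1 :=
    Ideal.height_span_singleton_eq_one_of_mem_nonZeroDivisors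
      (mem_nonZeroDivisors_of_ne_zero hπ0) hπp.not_isUnit
  obtain ⟨s, hsq, hsa⟩ := exists_smul_mem_Ssub_of_heightOne hinj hfix hcomm hcard Gi hGi hsup hMR3
    hn (Ideal.span {π}) hqht a
  have hsπ : ¬ π ∣ s := fun h => hsq (Ideal.mem_span_singleton.mpr h)
  -- compare coefficients
  let x : Ssub R A Gi := ⟨(π * r') • a, hra⟩
  let y : Ssub R A Gi := ⟨s • a, hsa⟩
  have hxy : s • x = (π * r') • y := by
    apply Subtype.ext
    show s • ((π * r') • a) = (π * r') • (s • a)
    rw [smul_comm]
  have hcoef : ∀ α, π ∣ b.repr x α := by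
    intro α
    have h1 := congrArg (fun z => b.repr z α) hxy
    simp only [map_smul, Finsupp.smul_apply, smul_eq_mul] at h1
    have h2 : π ∣ s * b.repr x α := ⟨r' * b.repr y α, by rw [h1]; ring⟩
    exact (hπp.dvd_or_dvd h2).resolve_left hsπ
  choose c hc using hcoef
  have hx : x = π • ∑ α, c α • b α := by
    rw [← b.sum_repr x, Finset.smul_sum]
    apply Finset.sum_congr rfl
    intro α _
    rw [hc α, mul_smul]
  have hr'a : r' • a ∈ Ssub R A Gi := by
    have h3 : (π • (r' • a) : A) = π • ((∑ α, c α • b α : Ssub R A Gi) : A) := by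
      have := congrArg Subtype.val hx
      rw [← mul_smul]
      exact this
    have hπA : algebraMap R A π ≠ 0 := fun h => hπ0 (hinj (h.trans (map_zero _).symm))
    have h4 : r' • a = ((∑ α, c α • b α : Ssub R A Gi) : A) := by
      rw [Algebra.smul_def π, Algebra.smul_def π] at h3
      exact mul_left_cancel₀ hπA h3
    rw [h4]
    exact Subtype.mem _
  exact hmin r' ⟨hr'0, hr'a⟩ ⟨hr'0, π, hπp.not_isUnit, by ring⟩

end Final

end Groth.Agent.Lib.helper22.GenBi
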