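import Mathlib
import Groth.Agent.S9282
import Groth.Agent.S9319

set_option autoImplicit false
universe u

namespace Groth.Agent.Lib.Helper22.GeoReg

open Algebra IsLocalRing TensorProduct

section

variable {k A₀ A : Type u} [Field k] [CommRing A₀] [CommRing A] [IsLocalRing A₀] [IsLocalRing A]
  [Algebra k A₀] [Algebra k A] [Algebra A₀ A] [IsScalarTower k A₀ A] [IsLocalHom (algebraMap A₀ A)]

local notation "K₀" => ResidueField A₀
local notation "K" => ResidueField A

/-- the commutative square of `H¹` maps. -/
theorem square (x : H1Cotangent k K₀) :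
    H1Cotangent.map A₀ A K₀ K (H1Cotangent.map k A₀ K₀ K₀ x) =
      H1Cotangent.map k A K K (H1Cotangent.map k k K₀ K x) := by
  unfold H1Cotangent.map
  rw [← Extension.H1Cotangent.map_comp_apply, ← Extension.H1Cotangent.map_comp_apply]
  exact congrFun (congrArg DFunLike.coe (Extension.H1Cotangent.map_eq _ _)) x

omit [IsLocalRing A] [Algebra k A] [Algebra A₀ A] [IsScalarTower k A₀ A]
  [IsLocalHom (algebraMap A₀ A)] in
/-- if `K₀ ⊗ Ω_{A₀/k} → Ω_{K₀/k}` is injective then `H¹(L_{K₀/k}) → H¹(L_{K₀/A₀})` is surjective. -/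
theorem surjective_map_of_injective_mapBaseChange
    (h : Function.Injective (KaehlerDifferential.mapBaseChange k A₀ K₀)) :
    Function.Surjective (H1Cotangent.map k A₀ K₀ K₀) := by
  intro y
  have hδ : H1Cotangent.δ k A₀ K₀ y = 0 := by
    apply h
    rw [map_zero]
    exact (H1Cotangent.exact_δ_mapBaseChange k A₀ K₀).apply_apply_eq_zero y
  exact (H1Cotangent.exact_map_δ k A₀ K₀ y).mp hδ

/-- the key injectivity: `K ⊗ H¹(L_{K₀/A₀}) → H¹(L_{K/A})` is injective. -/
theorem injective_liftBaseChange_map
    (hα : Function.Injective (H1Cotangent.map k A K K))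
    (hα₀ : Function.Surjective (H1Cotangent.map k A₀ K₀ K₀)) :
    Function.Injective ((H1Cotangent.map A₀ A K₀ K).liftBaseChange K) := by
  have hcomp : ∀ w : K ⊗[K₀] H1Cotangent k K₀, ((H1Cotangent.map A₀ A K₀ K).liftBaseChange K)
      (((H1Cotangent.map k A₀ K₀ K₀).baseChange K) w) =
      H1Cotangent.map k A K K (((H1Cotangent.map k k K₀ K).liftBaseChange K) w) := by
    intro w
    induction w using TensorProduct.induction_on with
    | zero => simp
    | tmul c x =>
      rw [LinearMap.baseChange_tmul, LinearMap.liftBaseChange_tmul, LinearMap.liftBaseChange_tmul,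
        map_smul, square]
    | add a b ha hb => rw [map_add, map_add, map_add, map_add, ha, hb]
  rw [injective_iff_map_eq_zero]
  intro z hz
  have hsurj : Function.Surjective ((H1Cotangent.map k A₀ K₀ K₀).baseChange K) :=
    LinearMap.lTensor_surjective _ hα₀
  obtain ⟨w, rfl⟩ := hsurj z
  rw [hcomp w] at hz
  have h1 : ((H1Cotangent.map k k K₀ K).liftBaseChange K) w = 0 := hα (hz.trans (map_zero _).symm)
  have h2 : w = 0 := Groth.Agent.S9319.result (h1.trans (map_zero _).symm)
  rw [h2, map_zero]

end

end Groth.Agent.Lib.Helper22.GeoReg
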