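import Mathlib
import Groth.Agent.Lib.Helper22.GeoReg1

set_option autoImplicit false
universe u

namespace Groth.Agent.Lib.Helper22.GeoReg

open Algebra IsLocalRing TensorProduct

/-- the extension `A → A/𝔪` of the residue field over `A`. -/
noncomputable def resExt (A : Type u) [CommRing A] [IsLocalRing A] :
    Extension.{u} A (ResidueField A) where
  Ring := A
  σ x := (residue_surjective x).choose
  algebraMap_σ x := (residue_surjective x).choose_spec

theorem mem_resExt_ker {A : Type u} [CommRing A] [IsLocalRing A] (x : A) :
    (show (resExt A).Ring from x) ∈ (resExt A).ker ↔ x ∈ maximalIdeal A := by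
  change residue A x = 0 ↔ _
  exact residue_eq_zero_iff x

instance (A : Type u) [CommRing A] [IsLocalRing A] : Subsingleton (resExt A).CotangentSpace := by
  have h1 : Subsingleton (Ω[A⁄A]) :=
    KaehlerDifferential.subsingleton_of_surjective A A Function.surjective_id
  change Subsingleton (ResidueField A ⊗[A] Ω[A⁄A])
  infer_instance

/-- morphism from the trivial extension to the canonical presentation. -/
noncomputable def homToSelf (A : Type u) [CommRing A] [IsLocalRing A] :
    (resExt A).Hom (Generators.self A (ResidueField A)).toExtension where
  toRingHom := algebraMap A (MvPolynomial (ResidueField A) A)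
  toRingHom_algebraMap x := rfl
  algebraMap_toRingHom x := by
    change algebraMap (Generators.self A (ResidueField A)).Ring (ResidueField A)
      (MvPolynomial.C x) = _
    rw [Generators.algebraMap_apply]
    simp
    rfl

set_option backward.isDefEq.respectTransparency false in
/-- morphism from the canonical presentation to the trivial extension. -/
noncomputable def homOfSelf (A : Type u) [CommRing A] [IsLocalRing A] :
    (Generators.self A (ResidueField A)).toExtension.Hom (resExt A) where
  toRingHom := (MvPolynomial.aeval (resExt A).σ).toRingHom
  toRingHom_algebraMap := (MvPolynomial.aeval (resExt A).σ).commutes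
  algebraMap_toRingHom := by
    have : (IsScalarTower.toAlgHom A (resExt A).Ring (ResidueField A)).comp
        (MvPolynomial.aeval (resExt A).σ) =
        IsScalarTower.toAlgHom _ (Generators.self A (ResidueField A)).toExtension.Ring _ := by
      ext i
      change _ = algebraMap (Generators.self A (ResidueField A)).Ring _ (.X i)
      simp
    exact DFunLike.congr_fun this

/-- the comparison map `H¹(L_{K/A}) → 𝔪/𝔪²`. -/
noncomputable def theta (A : Type u) [CommRing A] [IsLocalRing A] :
    H1Cotangent A (ResidueField A) →ₗ[ResidueField A] (resExt A).Cotangent :=
  Extension.h1Cotangentι ∘ₗ Extension.H1Cotangent.map (homOfSelf A)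

theorem theta_injective (A : Type u) [CommRing A] [IsLocalRing A] :
    Function.Injective (theta A) := by
  have h1 : Function.Injective (Extension.H1Cotangent.map (homOfSelf A)) :=
    (Extension.H1Cotangent.equiv (homOfSelf A) (homToSelf A)).injective
  intro x y hxy
  apply h1
  exact Subtype.ext hxy

theorem theta_surjective (A : Type u) [CommRing A] [IsLocalRing A] :
    Function.Surjective (theta A) := by
  intro c
  have hc : c ∈ LinearMap.ker (resExt A).cotangentComplex := Subsingleton.elim _ _
  obtain ⟨x, hx⟩ := (Extension.H1Cotangent.equiv (homOfSelf A) (homToSelf A)).surjective ⟨c, hc⟩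
  refine ⟨x, ?_⟩
  change (Extension.H1Cotangent.map (homOfSelf A) x).1 = c
  have := congrArg Subtype.val hx
  exact this

section pair

variable {A₀ A : Type u} [CommRing A₀] [CommRing A] [IsLocalRing A₀] [IsLocalRing A]
  [Algebra A₀ A] [IsLocalHom (algebraMap A₀ A)]

/-- the morphism of trivial extensions. -/
noncomputable def resHom : (resExt A₀).Hom (resExt A) where
  toRingHom := algebraMap A₀ A
  toRingHom_algebraMap x := rfl
  algebraMap_toRingHom x := rfl

theorem theta_square (x : H1Cotangent A₀ (ResidueField A₀)) :
    Extension.Cotangent.map (resHom (A₀ := A₀) (A := A)) (theta A₀ x) =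
      theta A (H1Cotangent.map A₀ A (ResidueField A₀) (ResidueField A) x) := by
  have h1 : Extension.H1Cotangent.map ((resHom (A₀ := A₀) (A := A)).comp (homOfSelf A₀)) x =
      Extension.H1Cotangent.map ((homOfSelf A).comp
        (Generators.defaultHom (Generators.self A₀ (ResidueField A₀))
          (Generators.self A (ResidueField A))).toExtensionHom) x :=
    congrFun (congrArg DFunLike.coe (Extension.H1Cotangent.map_eq _ _)) x
  rw [Extension.H1Cotangent.map_comp_apply, Extension.H1Cotangent.map_comp_apply] at h1
  exact congrArg Subtype.val h1

/-- concrete form of the key injectivity. -/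
theorem injective_liftBaseChange_cotangent_map
    (h : Function.Injective ((H1Cotangent.map A₀ A (ResidueField A₀)
      (ResidueField A)).liftBaseChange (ResidueField A))) :
    Function.Injective ((Extension.Cotangent.map (resHom (A₀ := A₀) (A := A))).liftBaseChange
      (ResidueField A)) := by
  have hcomp : ∀ w : ResidueField A ⊗[ResidueField A₀] H1Cotangent A₀ (ResidueField A₀),
      ((Extension.Cotangent.map (resHom (A₀ := A₀) (A := A))).liftBaseChange (ResidueField A))
        (((theta A₀).baseChange (ResidueField A)) w) =
      theta A (((H1Cotangent.map A₀ A (ResidueField A₀) (ResidueField A)).liftBaseChange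
        (ResidueField A)) w) := by
    intro w
    induction w using TensorProduct.induction_on with
    | zero => simp
    | tmul c x =>
      rw [LinearMap.baseChange_tmul, LinearMap.liftBaseChange_tmul, LinearMap.liftBaseChange_tmul,
        map_smul, theta_square]
    | add a b ha hb => rw [map_add, map_add, map_add, map_add, ha, hb]
  rw [injective_iff_map_eq_zero]
  intro z hz
  have hsurj : Function.Surjective ((theta A₀).baseChange (ResidueField A)) :=
    LinearMap.lTensor_surjective _ (theta_surjective A₀)
  obtain ⟨w, rfl⟩ := hsurj z
  rw [hcomp w] at hz
  have h1 := theta_injective A (hz.trans (map_zero _).symm)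
  have h2 : w = 0 := h (h1.trans (map_zero _).symm)
  rw [h2, map_zero]

end pair

end Groth.Agent.Lib.Helper22.GeoReg
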