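import Mathlib
import Groth.Agent.Lib.Helper22.GeoReg2
import Groth.Agent.Lib.Helper24.RegHomTFAE

set_option autoImplicit false
universe u

namespace Groth.Agent.Lib.Helper22.GeoReg

open Algebra IsLocalRing TensorProduct

section one

variable {A : Type u} [CommRing A] [IsLocalRing A]

theorem mem_ker_of_mem {x : A} (hx : x ∈ maximalIdeal A) :
    (show (resExt A).Ring from x) ∈ (resExt A).ker := (mem_resExt_ker x).mpr hx

/-- the class in `𝔪/𝔪²` of an element of `𝔪`. -/
noncomputable def cmk (x : A) (hx : x ∈ maximalIdeal A) : (resExt A).Cotangent :=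
  Extension.Cotangent.mk ⟨x, mem_ker_of_mem hx⟩

theorem resExt_ker_eq : @Eq (Ideal A) (resExt A).ker (maximalIdeal A) :=
  IsLocalRing.ker_residue (R := A)

theorem cmk_eq_zero_iff (x : A) (hx : x ∈ maximalIdeal A) :
    cmk x hx = 0 ↔ x ∈ maximalIdeal A ^ 2 := by
  unfold cmk
  rw [Extension.Cotangent.mk_eq_zero_iff]
  exact Iff.of_eq (congrArg (fun I : Ideal A => x ∈ I ^ 2) resExt_ker_eq)

theorem cmk_surjective (c : (resExt A).Cotangent) : ∃ x hx, cmk x hx = c := by
  obtain ⟨⟨x, hx⟩, rfl⟩ := Extension.Cotangent.mk_surjective c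
  exact ⟨(show A from x), (mem_resExt_ker (A := A) (show A from x)).mp hx, rfl⟩

theorem cmk_add (x y : A) (hx : x ∈ maximalIdeal A) (hy : y ∈ maximalIdeal A) :
    cmk (x + y) (Ideal.add_mem _ hx hy) = cmk x hx + cmk y hy := by
  unfold cmk
  rw [← map_add]
  rfl

theorem residue_smul_cmk (a x : A) (hx : x ∈ maximalIdeal A) :
    residue A a • cmk x hx = cmk (a * x) (Ideal.mul_mem_left _ a hx) := by
  unfold cmk
  have h1 : residue A a • Extension.Cotangent.mk (P := resExt A) ⟨x, mem_ker_of_mem hx⟩ =
      (show (resExt A).Ring from a) • Extension.Cotangent.mk (P := resExt A) ⟨x, mem_ker_of_mem hx⟩ :=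
    algebraMap_smul (ResidueField A) (show (resExt A).Ring from a) _
  rw [h1, ← map_smul]
  rfl

/-- Nakayama: elements of `𝔪` whose classes span `𝔪/𝔪²` generate `𝔪`. -/
theorem span_eq_maximalIdeal_of_span_cmk_eq_top [IsNoetherianRing A] {ι : Type*} (s : ι → A)
    (hs : ∀ i, s i ∈ maximalIdeal A)
    (hspan : Submodule.span (ResidueField A) (Set.range fun i => cmk (s i) (hs i)) = ⊤) :
    Ideal.span (Set.range s) = maximalIdeal A := by
  classical
  apply le_antisymm
  · rw [Ideal.span_le]
    rintro _ ⟨i, rfl⟩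
    exact hs i
  · refine Submodule.le_of_le_smul_of_le_jacobson_bot (IsNoetherian.noetherian _)
      (IsLocalRing.maximalIdeal_le_jacobson ⊥) ?_
    intro t ht
    have hmem : cmk t ht ∈ Submodule.span (ResidueField A) (Set.range fun i => cmk (s i) (hs i)) := by
      rw [hspan]; exact Submodule.mem_top
    -- every element of the span is the class of an element of `span s`
    have key : ∀ c ∈ Submodule.span (ResidueField A) (Set.range fun i => cmk (s i) (hs i)),
        ∃ y, ∃ hy : y ∈ maximalIdeal A, y ∈ Ideal.span (Set.range s) ∧ cmk y hy = c := by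
      intro c hc
      induction hc using Submodule.span_induction with
      | mem c hc =>
        obtain ⟨i, rfl⟩ := hc
        exact ⟨s i, hs i, Ideal.subset_span ⟨i, rfl⟩, rfl⟩
      | zero =>
        refine ⟨0, Ideal.zero_mem _, Ideal.zero_mem _, ?_⟩
        rw [cmk_eq_zero_iff]
        exact Ideal.zero_mem _
      | add c₁ c₂ _ _ h₁ h₂ =>
        obtain ⟨y₁, hy₁, hy₁s, rfl⟩ := h₁
        obtain ⟨y₂, hy₂, hy₂s, rfl⟩ := h₂
        exact ⟨y₁ + y₂, Ideal.add_mem _ hy₁ hy₂, Ideal.add_mem _ hy₁s hy₂s, cmk_add _ _ _ _⟩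
      | smul r c _ h₁ =>
        obtain ⟨y, hy, hys, rfl⟩ := h₁
        obtain ⟨a, rfl⟩ := residue_surjective r
        exact ⟨a * y, Ideal.mul_mem_left _ a hy, Ideal.mul_mem_left _ a hys,
          (residue_smul_cmk a y hy).symm⟩
    obtain ⟨y, hy, hys, hyt⟩ := key _ hmem
    have hsub : t - y ∈ maximalIdeal A ^ 2 := by
      have h0 : cmk (t - y) (Ideal.sub_mem _ ht hy) = 0 := by
        have h1 : cmk (t - y) (Ideal.sub_mem _ ht hy) + cmk y hy = cmk t ht := by
          rw [← cmk_add]
          congr 1
          ring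
        rw [hyt] at h1
        exact add_eq_right.mp h1
      exact (cmk_eq_zero_iff _ _).mp h0
    have : t = y + (t - y) := by ring
    rw [this]
    refine Submodule.add_mem_sup hys ?_
    rw [smul_eq_mul, ← pow_two]
    exact hsub

end one

section two

variable {A : Type u} [CommRing A] [IsLocalRing A]

theorem cmk_zero : cmk (0 : A) (Ideal.zero_mem _) = 0 := by
  rw [cmk_eq_zero_iff]
  exact Ideal.zero_mem _

theorem cmk_congr {x y : A} (h : x = y) (hx : x ∈ maximalIdeal A) :
    cmk x hx = cmk y (h ▸ hx) := by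
  subst h
  rfl

/-- generators of `𝔪` give a spanning family of `𝔪/𝔪²`. -/
theorem span_cmk_eq_top {ι : Type*} (s : ι → A) (hs : ∀ i, s i ∈ maximalIdeal A)
    (hspan : Ideal.span (Set.range s) = maximalIdeal A) :
    Submodule.span (ResidueField A) (Set.range fun i => cmk (s i) (hs i)) = ⊤ := by
  have hle : Ideal.span (Set.range s) ≤ maximalIdeal A := hspan.le
  have key : ∀ t ∈ Ideal.span (Set.range s), ∀ ht : t ∈ maximalIdeal A,
      cmk t ht ∈ Submodule.span (ResidueField A) (Set.range fun i => cmk (s i) (hs i)) := by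
    intro t htS
    induction htS using Submodule.span_induction with
    | mem t h =>
      obtain ⟨i, rfl⟩ := h
      intro ht
      exact Submodule.subset_span ⟨i, rfl⟩
    | zero =>
      intro ht
      rw [cmk_zero]
      exact Submodule.zero_mem _
    | add x y hx hy h₁ h₂ =>
      intro ht
      rw [cmk_add x y (hle hx) (hle hy)]
      exact Submodule.add_mem _ (h₁ _) (h₂ _)
    | smul a x hx h₁ =>
      intro ht
      have : cmk (a • x) ht = residue A a • cmk x (hle hx) := (residue_smul_cmk a x (hle hx)).symm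
      rw [this]
      exact Submodule.smul_mem _ _ (h₁ _)
  rw [_root_.eq_top_iff]
  intro c _
  obtain ⟨t, ht, rfl⟩ := cmk_surjective c
  exact key t (hspan ▸ ht) ht

variable [IsNoetherianRing A]

instance : Module.Finite (ResidueField A) (resExt A).Cotangent := by
  obtain ⟨x, hx⟩ := Groth.Agent.Lib.Helper24.CohenFlat.exists_gens (maximalIdeal A)
    (IsNoetherian.noetherian _)
  have hxm : ∀ i, x i ∈ maximalIdeal A := fun i => hx ▸ Ideal.subset_span ⟨i, rfl⟩
  have := span_cmk_eq_top x hxm hx
  classical
  refine ⟨⟨(Finset.univ.image fun i => cmk (x i) (hxm i)), ?_⟩⟩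
  rw [Finset.coe_image, Finset.coe_univ, Set.image_univ]
  exact this

/-- Lemma F: `dim 𝔪/𝔪² = ` minimal number of generators of `𝔪`. -/
theorem finrank_cotangent_eq_spanFinrank :
    Module.finrank (ResidueField A) (resExt A).Cotangent = (maximalIdeal A).spanFinrank := by
  classical
  apply le_antisymm
  · obtain ⟨x, hx⟩ := Groth.Agent.Lib.Helper24.CohenFlat.exists_gens (maximalIdeal A)
      (IsNoetherian.noetherian _)
    have hxm : ∀ i, x i ∈ maximalIdeal A := fun i => hx ▸ Ideal.subset_span ⟨i, rfl⟩
    have h1 := span_cmk_eq_top x hxm hx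
    have h2 := finrank_range_le_card (R := ResidueField A) (fun i => cmk (x i) (hxm i))
    unfold Set.finrank at h2
    rw [h1, finrank_top, Fintype.card_fin] at h2
    exact h2
  · set n := Module.finrank (ResidueField A) (resExt A).Cotangent with hn
    let b := Module.finBasis (ResidueField A) (resExt A).Cotangent
    choose s hs hsb using fun i => cmk_surjective (b i)
    have hspan : Submodule.span (ResidueField A) (Set.range fun i => cmk (s i) (hs i)) = ⊤ := by
      have : (fun i => cmk (s i) (hs i)) = b := funext hsb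
      rw [this]
      exact b.span_eq
    have h1 := span_eq_maximalIdeal_of_span_cmk_eq_top s hs hspan
    rw [← h1]
    have h2 := Submodule.spanFinrank_span_le_ncard_of_finite (R := A) (Set.finite_range s)
    refine h2.trans ?_
    have e : Set.range s = ((Finset.univ.image s : Finset A) : Set A) := by simp
    rw [e, Set.ncard_coe_finset]
    exact Finset.card_image_le.trans (by simp [hn])

end two

end Groth.Agent.Lib.Helper22.GeoReg
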