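import Mathlib
import Groth.Agent.Lib.Helper22.GeoReg3

set_option autoImplicit false
universe u

namespace Groth.Agent.Lib.Helper22.GeoReg

open Algebra IsLocalRing TensorProduct

section pair

variable {A₀ A : Type u} [CommRing A₀] [CommRing A] [IsLocalRing A₀] [IsLocalRing A]
  [Algebra A₀ A] [IsLocalHom (algebraMap A₀ A)]

theorem algebraMap_mem_maximalIdeal {x : A₀} (hx : x ∈ maximalIdeal A₀) :
    algebraMap A₀ A x ∈ maximalIdeal A :=
  Groth.Agent.Lib.Helper24.FlatDimFormula.map_le_maximalIdeal A₀ A (Ideal.mem_map_of_mem _ hx)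

theorem cotangent_map_cmk (x : A₀) (hx : x ∈ maximalIdeal A₀) :
    Extension.Cotangent.map (resHom (A₀ := A₀) (A := A)) (cmk x hx) =
      cmk (algebraMap A₀ A x) (algebraMap_mem_maximalIdeal hx) := rfl

variable [IsNoetherianRing A₀] [IsNoetherianRing A]
  [IsLocalRing (A ⧸ (maximalIdeal A₀).map (algebraMap A₀ A))]

/-- the dimension count. -/
theorem spanFinrank_add_le
    (hinj : Function.Injective ((Extension.Cotangent.map (resHom (A₀ := A₀) (A := A))).liftBaseChange
      (ResidueField A))) :
    (maximalIdeal A₀).spanFinrank +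
      (maximalIdeal (A ⧸ (maximalIdeal A₀).map (algebraMap A₀ A))).spanFinrank ≤
      (maximalIdeal A).spanFinrank := by
  classical
  set I := (maximalIdeal A₀).map (algebraMap A₀ A) with hI
  -- minimal generators of `𝔪₀`
  obtain ⟨x, hx⟩ := Groth.Agent.Lib.Helper24.CohenFlat.exists_gens (maximalIdeal A₀)
    (IsNoetherian.noetherian _)
  have hxm : ∀ i, x i ∈ maximalIdeal A₀ := fun i => hx ▸ Ideal.subset_span ⟨i, rfl⟩
  have hspan₀ := span_cmk_eq_top x hxm hx
  have hli₀ : LinearIndependent (ResidueField A₀) (fun i => cmk (x i) (hxm i)) := by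
    apply linearIndependent_of_top_le_span_of_card_eq_finrank hspan₀.ge
    rw [Fintype.card_fin, finrank_cotangent_eq_spanFinrank]
  have hli₁ : LinearIndependent (ResidueField A)
      (fun i => (1 : ResidueField A) ⊗ₜ[ResidueField A₀] cmk (x i) (hxm i)) :=
    Module.Flat.linearIndependent_one_tmul hli₀
  have hli₂ : LinearIndependent (ResidueField A)
      (fun i => cmk (algebraMap A₀ A (x i)) (algebraMap_mem_maximalIdeal (hxm i))) := by
    have := hli₁.map' ((Extension.Cotangent.map (resHom (A₀ := A₀) (A := A))).liftBaseChange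
      (ResidueField A)) (LinearMap.ker_eq_bot.mpr hinj)
    have e : (fun i => cmk (algebraMap A₀ A (x i)) (algebraMap_mem_maximalIdeal (hxm i))) =
        ((Extension.Cotangent.map (resHom (A₀ := A₀) (A := A))).liftBaseChange
          (ResidueField A)) ∘ (fun i => (1 : ResidueField A) ⊗ₜ[ResidueField A₀]
            cmk (x i) (hxm i)) := by
      funext i
      rw [Function.comp_apply, LinearMap.liftBaseChange_tmul, one_smul, cotangent_map_cmk]
    rw [e]
    exact this
  -- a complement of the span of the `u i`
  set u : Fin (maximalIdeal A₀).spanFinrank → (resExt A).Cotangent :=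
    fun i => cmk (algebraMap A₀ A (x i)) (algebraMap_mem_maximalIdeal (hxm i)) with hu
  set S : Submodule (ResidueField A) (resExt A).Cotangent :=
    Submodule.span (ResidueField A) (Set.range u) with hS
  have hfS : Module.finrank (ResidueField A) S = (maximalIdeal A₀).spanFinrank := by
    rw [hS, finrank_span_eq_card hli₂, Fintype.card_fin]
  obtain ⟨T, hT⟩ := Submodule.exists_isCompl S
  have hST : Module.finrank (ResidueField A) S + Module.finrank (ResidueField A) T =
      (maximalIdeal A).spanFinrank := by
    rw [Submodule.finrank_add_eq_of_isCompl hT, finrank_cotangent_eq_spanFinrank]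
  let b := Module.finBasis (ResidueField A) T
  choose z hz hzb using fun j => cmk_surjective ((b j : T) : (resExt A).Cotangent)
  -- the combined family generates `𝔪`
  have hgen : Ideal.span (Set.range (Sum.elim (fun i => algebraMap A₀ A (x i)) z)) =
      maximalIdeal A := by
    refine span_eq_maximalIdeal_of_span_cmk_eq_top _
      (fun i => Sum.rec (fun i => algebraMap_mem_maximalIdeal (hxm i)) hz i) ?_
    rw [_root_.eq_top_iff, ← hT.sup_eq_top, sup_le_iff]
    constructor
    · rw [hS, Submodule.span_le]
      rintro _ ⟨i, rfl⟩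
      exact Submodule.subset_span ⟨Sum.inl i, rfl⟩
    · have h1 : T = Submodule.span (ResidueField A)
          (T.subtype '' Set.range b) := by
        rw [← Submodule.map_span, b.span_eq, Submodule.map_top, Submodule.range_subtype]
      refine h1.le.trans ?_
      rw [Submodule.span_le]
      rintro _ ⟨_, ⟨j, rfl⟩, rfl⟩
      refine Submodule.subset_span ⟨Sum.inr j, ?_⟩
      exact hzb j
  -- hence the maximal ideal of the fibre is generated by the images of the `z j`
  have hmq : maximalIdeal (A ⧸ I) = (maximalIdeal A).map (Ideal.Quotient.mk I) :=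
    Groth.Agent.Lib.Helper24.FlatDimFormula.maximalIdeal_quotient A₀ A
  have hfib : maximalIdeal (A ⧸ I) = Ideal.span (Set.range fun j => Ideal.Quotient.mk I (z j)) := by
    rw [hmq, ← hgen, Ideal.map_span]
    apply le_antisymm
    · rw [Ideal.span_le]
      rintro _ ⟨_, ⟨i | j, rfl⟩, rfl⟩
      · have : Ideal.Quotient.mk I (algebraMap A₀ A (x i)) = 0 :=
          Ideal.Quotient.eq_zero_iff_mem.mpr (Ideal.mem_map_of_mem _ (hxm i))
        simp only [Sum.elim_inl]
        rw [this]
        exact Ideal.zero_mem _
      · exact Ideal.subset_span ⟨j, rfl⟩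
    · rw [Ideal.span_le]
      rintro _ ⟨j, rfl⟩
      exact Ideal.subset_span ⟨_, ⟨Sum.inr j, rfl⟩, rfl⟩
  have hle : (maximalIdeal (A ⧸ I)).spanFinrank ≤ Module.finrank (ResidueField A) T := by
    rw [hfib]
    have h2 := Submodule.spanFinrank_span_le_ncard_of_finite (R := A ⧸ I)
      (Set.finite_range fun j => Ideal.Quotient.mk I (z j))
    refine h2.trans ?_
    have e : (Set.range fun j => Ideal.Quotient.mk I (z j)) =
        ((Finset.univ.image fun j => Ideal.Quotient.mk I (z j) : Finset (A ⧸ I)) : Set (A ⧸ I)) := by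
      simp
    rw [e, Set.ncard_coe_finset]
    exact Finset.card_image_le.trans (by simp)
  have hle' : (maximalIdeal (A ⧸ (maximalIdeal A₀).map (algebraMap A₀ A))).spanFinrank ≤
      Module.finrank (ResidueField A) T := hle
  omega

/-- the conclusion: flatness and regularity of the closed fibre. -/
theorem flat_and_isRegularLocalRing_fibre [IsRegularLocalRing A]
    (hinj : Function.Injective ((Extension.Cotangent.map (resHom (A₀ := A₀) (A := A))).liftBaseChange
      (ResidueField A))) :
    Module.Flat A₀ A ∧ IsRegularLocalRing (A ⧸ (maximalIdeal A₀).map (algebraMap A₀ A)) := by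
  have h01 := (Groth.Agent.Lib.Helper24.RegHomTFAE.tfae (A := A₀) (B := A)).out 0 1
  have h := h01.mp ⟨inferInstance, by
    rw [← spanFinrank_maximalIdeal_eq_finrank_cotangentSpace,
      ← spanFinrank_maximalIdeal_eq_finrank_cotangentSpace,
      ← spanFinrank_maximalIdeal_eq_finrank_cotangentSpace]
    exact le_antisymm Groth.Agent.Lib.Helper24.RegHomTFAE.embdim_le (spanFinrank_add_le hinj)⟩
  exact ⟨h.2.2, h.2.1⟩

/-- combined criterion. -/
theorem flat_and_regular_of_injective {k : Type u} [Field k] [Algebra k A₀] [Algebra k A]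
    [IsScalarTower k A₀ A] [IsRegularLocalRing A]
    (hα : Function.Injective (H1Cotangent.map k A (ResidueField A) (ResidueField A)))
    (h₀ : Function.Injective (KaehlerDifferential.mapBaseChange k A₀ (ResidueField A₀))) :
    Module.Flat A₀ A ∧ IsRegularLocalRing (A ⧸ (maximalIdeal A₀).map (algebraMap A₀ A)) :=
  flat_and_isRegularLocalRing_fibre (injective_liftBaseChange_cotangent_map
    (injective_liftBaseChange_map hα (surjective_map_of_injective_mapBaseChange h₀)))

end pair

end Groth.Agent.Lib.Helper22.GeoReg
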