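import Mathlib
import Groth.Agent.Lib.Helper22.GeoReg4
import Groth.Agent.S2036

set_option autoImplicit false
universe u

namespace Groth.Agent.Lib.Helper22.GeoReg

open Algebra IsLocalRing TensorProduct

/-- a linear map sending a spanning family to a linearly independent family is injective. -/
theorem injective_of_span_of_linearIndependent {R V W ι : Type*} [Ring R] [AddCommGroup V]
    [AddCommGroup W] [Module R V] [Module R W] (g : V →ₗ[R] W) (e : ι → V)
    (he : Submodule.span R (Set.range e) = ⊤) (hli : LinearIndependent R (g ∘ e)) :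
    Function.Injective g := by
  rw [injective_iff_map_eq_zero]
  intro v hv
  have hv' : v ∈ Submodule.span R (Set.range e) := he ▸ Submodule.mem_top
  obtain ⟨c, rfl⟩ := (Finsupp.mem_span_range_iff_exists_finsupp).mp hv'
  have h1 : Finsupp.linearCombination R (g ∘ e) c = 0 := by
    rw [Finsupp.linearCombination_apply]
    rw [map_finsuppSum] at hv
    simpa only [map_smul, Function.comp_apply] using hv
  have h2 := (linearIndependent_iff.mp hli) c h1
  rw [h2]
  simp

section main

variable {k : Type u} [Field k] {A : Type u} [CommRing A] [IsLocalRing A]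
  [Algebra k A] {m : ℕ} (φ : MvPolynomial (Fin m) k →ₐ[k] A)

/-- the prime `𝔭 = φ⁻¹(𝔪)`. -/
noncomputable abbrev pr : Ideal (MvPolynomial (Fin m) k) := Ideal.comap φ.toRingHom (maximalIdeal A)

instance : (pr φ).IsPrime := Ideal.comap_isPrime _ _

/-- `A₀ = k[y]_𝔭`. -/
abbrev A0 : Type u := Localization.AtPrime (pr φ)

theorem isUnit_of_mem_primeCompl (y : (pr φ).primeCompl) : IsUnit (φ.toRingHom y) := by
  have h : φ.toRingHom y ∉ maximalIdeal A := y.2
  exact IsLocalRing.notMem_maximalIdeal.mp h

/-- the map `A₀ → A`. -/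
noncomputable def toA : A0 φ →+* A :=
  IsLocalization.lift (M := (pr φ).primeCompl) (g := φ.toRingHom) (isUnit_of_mem_primeCompl φ)

theorem toA_algebraMap (y : MvPolynomial (Fin m) k) : toA φ (algebraMap _ (A0 φ) y) = φ y :=
  IsLocalization.lift_eq _ y

/-- the algebra structure `A₀ → A`. -/
@[reducible] noncomputable def algA0 : Algebra (A0 φ) A := (toA φ).toAlgebra

attribute [local instance] algA0

theorem isScalarTower_k : IsScalarTower k (A0 φ) A := by
  refine IsScalarTower.of_algebraMap_eq' ?_
  ext c
  change algebraMap k A c = toA φ (algebraMap k (A0 φ) c)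
  rw [IsScalarTower.algebraMap_apply k (MvPolynomial (Fin m) k) (A0 φ), toA_algebraMap,
    AlgHom.commutes]

theorem isLocalHom_toA : IsLocalHom (algebraMap (A0 φ) A) := by
  have h := (IsLocalRing.local_hom_TFAE (algebraMap (A0 φ) A)).out 0 2
  rw [h]
  rw [← Localization.AtPrime.map_eq_maximalIdeal, Ideal.map_map]
  have : (algebraMap (A0 φ) A).comp (algebraMap (MvPolynomial (Fin m) k) (A0 φ)) = φ.toRingHom := by
    refine RingHom.ext fun y => ?_
    exact toA_algebraMap φ y
  rw [this]
  exact Ideal.map_comap_le

section kaehler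

variable (F : IntermediateField k (ResidueField A))
  (hφ : ∀ i : Fin m, residue A (φ (MvPolynomial.X i)) ∈ F)

/-- `ψ : k[y] → F`. -/
noncomputable def psi : MvPolynomial (Fin m) k →ₐ[k] F :=
  MvPolynomial.aeval (fun i => (⟨residue A (φ (MvPolynomial.X i)), hφ i⟩ : F))

theorem psi_val (y : MvPolynomial (Fin m) k) :
    ((psi φ F hφ y : F) : ResidueField A) = residue A (φ y) := by
  have h : (F.val.comp (psi φ F hφ)) =
      (IsScalarTower.toAlgHom k A (ResidueField A)).comp φ := by
    apply MvPolynomial.algHom_ext
    intro i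
    simp [psi]
  exact DFunLike.congr_fun h y

theorem psi_eq_zero_iff (y : MvPolynomial (Fin m) k) : psi φ F hφ y = 0 ↔ y ∈ pr φ := by
  rw [← Subtype.coe_inj, psi_val, ZeroMemClass.coe_zero, residue_eq_zero_iff]
  rfl

/-- `ι : κ(𝔭) → F`. -/
noncomputable def iota : (pr φ).ResidueField →ₐ[k] F :=
  Ideal.ResidueField.liftₐ (pr φ) (psi φ F hφ) (fun y hy => (psi_eq_zero_iff φ F hφ y).mpr hy)
    (fun y hy => isUnit_iff_ne_zero.mpr fun h => hy ((psi_eq_zero_iff φ F hφ y).mp h))

theorem iota_algebraMap (y : MvPolynomial (Fin m) k) :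
    iota φ F hφ (algebraMap _ (pr φ).ResidueField y) = psi φ F hφ y :=
  Ideal.ResidueField.liftₐ_algebraMap _ _ _ _ y

open KaehlerDifferential in
theorem injective_mapBaseChange
    (hli : LinearIndependent F
      (fun i : Fin m => D k F ⟨residue A (φ (MvPolynomial.X i)), hφ i⟩)) :
    Function.Injective (KaehlerDifferential.mapBaseChange k (A0 φ) (ResidueField (A0 φ))) := by
  letI algF : Algebra (ResidueField (A0 φ)) F := (iota φ F hφ).toRingHom.toAlgebra
  haveI : IsScalarTower k (ResidueField (A0 φ)) F :=
    IsScalarTower.of_algebraMap_eq' (iota φ F hφ).comp_algebraMap.symm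
  let e : Fin m → ResidueField (A0 φ) ⊗[A0 φ] Ω[A0 φ⁄k] :=
    fun i => 1 ⊗ₜ D k (A0 φ) (algebraMap (MvPolynomial (Fin m) k) (A0 φ) (MvPolynomial.X i))
  apply injective_of_span_of_linearIndependent _ e
  · -- spanning
    have h1 : Submodule.span (MvPolynomial (Fin m) k)
        (Set.range fun i : Fin m => D k (MvPolynomial (Fin m) k) (MvPolynomial.X i)) = ⊤ := by
      have := (mvPolynomialBasis k (Fin m)).span_eq
      have e1 : (fun i : Fin m => D k (MvPolynomial (Fin m) k) (MvPolynomial.X i)) =
          mvPolynomialBasis k (Fin m) := funext fun i => (mvPolynomialBasis_apply k (Fin m) i).symm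
      rw [e1]
      exact this
    have h2 := span_eq_top_of_isLocalizedModule (A0 φ) (pr φ).primeCompl
      (KaehlerDifferential.map k k (MvPolynomial (Fin m) k) (A0 φ)) h1
    have h3 := Submodule.baseChange_span (R := A0 φ) (A := ResidueField (A0 φ))
      (KaehlerDifferential.map k k (MvPolynomial (Fin m) k) (A0 φ) ''
        Set.range fun i : Fin m => D k (MvPolynomial (Fin m) k) (MvPolynomial.X i))
    rw [h2, Submodule.baseChange_top] at h3
    rw [h3]
    congr 1
    ext w
    constructor
    · rintro ⟨i, rfl⟩
      exact ⟨_, ⟨_, ⟨i, rfl⟩, rfl⟩, by simp [e]⟩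
    · rintro ⟨_, ⟨_, ⟨i, rfl⟩, rfl⟩, rfl⟩
      exact ⟨i, by simp [e]⟩
  · -- linear independence of the images
    have hge : (⇑(KaehlerDifferential.mapBaseChange k (A0 φ) (ResidueField (A0 φ))) ∘ e) =
        fun i => D k (ResidueField (A0 φ))
          (algebraMap (MvPolynomial (Fin m) k) (ResidueField (A0 φ)) (MvPolynomial.X i)) := by
      funext i
      simp only [e, Function.comp_apply, mapBaseChange_tmul, map_D, one_smul]
      rfl
    rw [hge]
    apply LinearIndependent.of_comp (KaehlerDifferential.map k k (ResidueField (A0 φ)) F)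
    have hcomp : (⇑(KaehlerDifferential.map k k (ResidueField (A0 φ)) F) ∘
        fun i => D k (ResidueField (A0 φ))
          (algebraMap (MvPolynomial (Fin m) k) (ResidueField (A0 φ)) (MvPolynomial.X i))) =
        fun i : Fin m => D k F ⟨residue A (φ (MvPolynomial.X i)), hφ i⟩ := by
      funext i
      rw [Function.comp_apply, map_D]
      congr 1
      change iota φ F hφ _ = _
      rw [iota_algebraMap]
      simp [psi]
    rw [hcomp]
    exact hli.restrict_scalars (R := ResidueField (A0 φ)) (by
      have : (fun r : ResidueField (A0 φ) => r • (1 : F)) = algebraMap (ResidueField (A0 φ)) F := by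
        funext r
        rw [Algebra.smul_def, mul_one]
      rw [this]
      exact (algebraMap (ResidueField (A0 φ)) F).injective)

open KaehlerDifferential in
/-- Stacks 07E5-type statement (S9288). -/
theorem flat_and_regular_of_differential_basis (p : ℕ) [Fact p.Prime] [CharP k p]
    [IsNoetherianRing A] (hA : CAlg.IsGeometricallyRegular k A)
    (hli : LinearIndependent F
      (fun i : Fin m => D k F ⟨residue A (φ (MvPolynomial.X i)), hφ i⟩)) :
    letI := φ.toRingHom.toAlgebra
    Module.Flat (MvPolynomial (Fin m) k) A ∧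
      IsRegularLocalRing (A ⧸ Ideal.map φ.toRingHom
        (Ideal.comap φ.toRingHom (maximalIdeal A))) := by
  letI := φ.toRingHom.toAlgebra
  haveI hreg : IsRegularLocalRing A := by
    haveI : IsRegularRing (k ⊗[k] A) := hA k inferInstance
    haveI : IsRegularRing A :=
      IsRegularRing.of_ringEquiv (Algebra.TensorProduct.lid k A).toRingEquiv
    exact IsRegularLocalRing.of_isRegularRing_of_isLocalRing A
  have hfs := (Groth.Agent.S2036.result (k := k) (A := A) p).mp hA
  have hα : Function.Injective
      (H1Cotangent.map k A (ResidueField A) (ResidueField A)) := by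
    rw [injective_iff_map_eq_zero]
    intro x hx
    exact Groth.Agent.S9282.key k A hfs x hx
  haveI := isScalarTower_k φ
  haveI := isLocalHom_toA φ
  haveI : IsNoetherianRing (A0 φ) :=
    IsLocalization.isNoetherianRing (pr φ).primeCompl (A0 φ) inferInstance
  haveI := Groth.Agent.Lib.Helper24.FlatDimFormula.isLocalRing_quotient (A0 φ) A
  obtain ⟨hflat, hregf⟩ := flat_and_regular_of_injective (k := k) (A₀ := A0 φ) (A := A) hα
    (injective_mapBaseChange φ F hφ hli)
  have hcomp : (algebraMap (A0 φ) A).comp (algebraMap (MvPolynomial (Fin m) k) (A0 φ)) =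
      φ.toRingHom := RingHom.ext fun y => toA_algebraMap φ y
  constructor
  · haveI : IsScalarTower (MvPolynomial (Fin m) k) (A0 φ) A :=
      IsScalarTower.of_algebraMap_eq' hcomp.symm
    exact Module.Flat.trans (MvPolynomial (Fin m) k) (A0 φ) A
  · have hI : (maximalIdeal (A0 φ)).map (algebraMap (A0 φ) A) =
        Ideal.map φ.toRingHom (Ideal.comap φ.toRingHom (maximalIdeal A)) := by
      rw [← Localization.AtPrime.map_eq_maximalIdeal, Ideal.map_map, hcomp]
    rw [← hI]
    exact hregf

end kaehler

end main

end Groth.Agent.Lib.Helper22.GeoReg
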