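import Mathlib
import Groth.Prelude.Def_CAlg
import Groth.Agent.Lib.Helper17.GorIso

/-!
# helper22: the Gorenstein property under ring isomorphisms raising the universe

`isGorensteinRing_of_ringEquiv_lift`: for `A : Type` and `B : Type u`, a ring isomorphism `A ≃+* B`
transports the Gorenstein property from `A` to `B` (uses Mathlib's `ModuleCat.uliftFunctor`).
-/

set_option autoImplicit false
set_option linter.style.haveILetI false
universe u v w w' u₁ v₁

open CategoryTheory Limits

namespace Groth.Agent.Lib.helper22.GorLift

/-- An exact functor preserving injective objects does not raise the injective dimension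
(version of helper17's `hasInjectiveDimensionLT_map` allowing different morphism universes). -/
theorem hasInjectiveDimensionLT_map' {C : Type u₁} {D : Type v₁} [Category.{w} C] [Abelian C]
    [Category.{w'} D] [Abelian D] [EnoughInjectives C] (G : C ⥤ D) [G.Additive]
    [PreservesFiniteLimits G] [PreservesFiniteColimits G] [G.PreservesInjectiveObjects] (n : ℕ) :
    ∀ (X : C), HasInjectiveDimensionLT X n → HasInjectiveDimensionLT (G.obj X) n := by
  induction n with
  | zero =>
    intro X hX
    rw [hasInjectiveDimensionLT_zero_iff_isZero] at hX ⊢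
    exact G.map_isZero hX
  | succ n ih =>
    intro X hX
    rcases n with _ | n
    · haveI : Injective X := injective_iff_hasInjectiveDimensionLT_one.mpr hX
      haveI : Injective (G.obj X) := G.injective_obj X
      exact injective_iff_hasInjectiveDimensionLT_one.mp inferInstance
    · have ei : EnoughInjectives C := inferInstance
      rcases ei.1 X with ⟨I, inj, f, monof⟩
      let T := ShortComplex.mk f (cokernel.π f) (cokernel.condition f)
      have T_exact : T.ShortExact := { exact := ShortComplex.exact_cokernel f }
      have TS_exact : (T.map G).ShortExact := T_exact.map_of_exact G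
      have h3 : HasInjectiveDimensionLT T.X₃ (n + 1) :=
        (T_exact.hasInjectiveDimensionLT_X₃_iff n inj).mpr hX
      haveI : Injective (T.map G).X₂ := G.injective_obj _
      exact (TS_exact.hasInjectiveDimensionLT_X₃_iff n inferInstance).mp (ih T.X₃ h3)

/-- Self-injective dimension of `ULift A`. -/
theorem injDim_ulift {A : Type v} [CommRing A] (n : ℕ)
    (h : HasInjectiveDimensionLT (ModuleCat.of A A) n) :
    HasInjectiveDimensionLT (ModuleCat.of (ULift.{u} A) (ULift.{u} A)) n := by
  have h1 : HasInjectiveDimensionLT ((ModuleCat.uliftFunctor.{u, v} A).obj (ModuleCat.of A A)) n :=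
    hasInjectiveDimensionLT_map' (ModuleCat.uliftFunctor.{u, v} A) n _ h
  let e : ULift.{u} A ≃+* A := ULift.ringEquiv
  let E : ModuleCat.{max v u} A ≌ ModuleCat.{max v u} (ULift.{u} A) :=
    ModuleCat.restrictScalarsEquivalenceOfRingEquiv e
  haveI : E.functor.PreservesInjectiveObjects :=
    Functor.preservesInjectiveObjects_of_adjunction_of_preservesMonomorphisms E.symm.toAdjunction
  have h2 : HasInjectiveDimensionLT (E.functor.obj
      ((ModuleCat.uliftFunctor.{u, v} A).obj (ModuleCat.of A A))) n :=
    Groth.Agent.Lib.helper17.GorIso.hasInjectiveDimensionLT_map E.functor n _ h1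
  let iso : E.functor.obj ((ModuleCat.uliftFunctor.{u, v} A).obj (ModuleCat.of A A)) ≅
      ModuleCat.of (ULift.{u} A) (ULift.{u} A) :=
    LinearEquiv.toModuleIso
      { toFun := fun x => x
        invFun := fun x => x
        map_add' := fun _ _ => rfl
        map_smul' := fun _ _ => rfl
        left_inv := fun _ => rfl
        right_inv := fun _ => rfl }
  exact hasInjectiveDimensionLT_of_iso iso n


/-- `ULift A` is a Gorenstein local ring if `A` is. -/
theorem gorLocal_ulift {A : Type v} [CommRing A] (h : LocCoh.IsGorensteinLocalRing A) :
    LocCoh.IsGorensteinLocalRing (ULift.{u} A) := by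
  haveI : IsNoetherianRing A := h.toIsNoetherian
  haveI : IsLocalRing A := h.toIsLocalRing
  haveI : IsNoetherianRing (ULift.{u} A) :=
    isNoetherianRing_of_ringEquiv A (ULift.ringEquiv.{v, u} (R := A)).symm
  haveI : IsLocalRing (ULift.{u} A) := (ULift.ringEquiv.{v, u} (R := A)).symm.isLocalRing
  obtain ⟨n, hn⟩ := h.exists_hasInjectiveDimensionLT
  exact { exists_hasInjectiveDimensionLT := ⟨n, injDim_ulift n hn⟩ }

/-- The Gorenstein property of local rings transports along a ring isomorphism from a ring in
`Type` to a ring in `Type u`. -/
theorem gorLocal_of_ringEquiv_lift {A : Type} {B : Type u} [CommRing A] [CommRing B]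
    (e : A ≃+* B) (h : LocCoh.IsGorensteinLocalRing A) : LocCoh.IsGorensteinLocalRing B := by
  have e' : B ≃+* ULift.{u} A := e.symm.trans (ULift.ringEquiv.{0, u} (R := A)).symm
  exact Groth.Agent.Lib.helper17.GorIso.isGorensteinLocalRing_of_ringEquiv e' (gorLocal_ulift h)

/-- Gorenstein rings transport along a ring isomorphism from a ring in `Type` to a ring in
`Type u`. -/
theorem isGorensteinRing_of_ringEquiv_lift {A : Type} {B : Type u} [CommRing A] [CommRing B]
    (e : A ≃+* B) [h : LocCoh.IsGorensteinRing A] : LocCoh.IsGorensteinRing B := by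
  haveI : IsNoetherianRing B := isNoetherianRing_of_ringEquiv A e
  refine { isGorensteinLocalRing_localization := ?_ }
  intro q hq
  let p : Ideal A := q.comap e.toRingHom
  haveI : p.IsPrime := Ideal.comap_isPrime _ _
  have hpq : p.primeCompl.map e.toRingHom.toMonoidHom = q.primeCompl := by
    ext x
    constructor
    · rintro ⟨y, hy, rfl⟩
      exact hy
    · intro hx
      refine ⟨e.symm x, ?_, by simp⟩
      change e.symm x ∉ p
      rw [Ideal.mem_comap]
      simpa using hx
  have e' : Localization.AtPrime p ≃+* Localization.AtPrime q :=
    IsLocalization.ringEquivOfRingEquiv (Localization.AtPrime p) (Localization.AtPrime q) e hpq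
  haveI := h.isGorensteinLocalRing_localization p
  exact gorLocal_of_ringEquiv_lift e' inferInstance

end Groth.Agent.Lib.helper22.GorLift
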