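import Mathlib
import Groth.Prelude.Def_CAlg
import Groth.Agent.Lib.Helper10.GorSect1
import Groth.Agent.Lib.Helper22.GorLift

/-!
# helper22: quotients of Gorenstein domains by one and two elements

* `gorRing_quot`: the quotient of a Gorenstein domain by a nonzero principal ideal is Gorenstein.
* `gorRing_two_step`: `A` a Gorenstein domain, `(ρ)` the kernel of a map to a domain and `h ∉ (ρ)`:
  `A/(ρ, h)` is Gorenstein.
-/

set_option autoImplicit false
set_option linter.style.haveILetI false
universe u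

namespace Groth.Agent.Lib.helper22.GorLift

open Groth.Agent.Lib.helper10.GorSect

theorem gorRing_quot {A S : Type u} [CommRing A] [IsDomain A] [hA : LocCoh.IsGorensteinRing A]
    [CommRing S] (φ : A →+* S) (hφ : Function.Surjective φ) (x : A) (hx0 : x ≠ 0)
    (hker : RingHom.ker φ = Ideal.span {x}) : LocCoh.IsGorensteinRing S := by
  haveI : IsNoetherianRing A := hA.toIsNoetherian
  haveI : IsNoetherianRing S := isNoetherianRing_of_surjective A S φ hφ
  refine { isGorensteinLocalRing_localization := ?_ }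
  intro q hq
  haveI : (q.comap φ).IsPrime := Ideal.comap_isPrime φ q
  exact (gorLocal_quot_iff φ hφ x hx0 hker q).mp
    (hA.isGorensteinLocalRing_localization (q.comap φ))

theorem gorRing_two_step {A L : Type u} [CommRing A] [IsDomain A] [LocCoh.IsGorensteinRing A]
    [CommRing L] [IsDomain L] (ψ : A →+* L) (ρ h : A) (hρ : ρ ≠ 0)
    (hker : RingHom.ker ψ = Ideal.span {ρ}) (hh : ψ h ≠ 0) :
    LocCoh.IsGorensteinRing (A ⧸ Ideal.span {ρ, h}) := by
  set I : Ideal A := Ideal.span {ρ} with hI
  haveI : I.IsPrime := by rw [← hker]; exact RingHom.ker_isPrime ψ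
  haveI : IsDomain (A ⧸ I) := Ideal.Quotient.isDomain I
  haveI : LocCoh.IsGorensteinRing (A ⧸ I) :=
    gorRing_quot (Ideal.Quotient.mk I) Ideal.Quotient.mk_surjective ρ hρ Ideal.mk_ker
  set J : Ideal A := Ideal.span {ρ, h} with hJ
  have hIJ : I ≤ J := by
    rw [hI, hJ]
    exact Ideal.span_mono (by intro x hx; rw [Set.mem_singleton_iff] at hx; rw [hx]; exact Set.mem_insert _ _)
  have hx0 : Ideal.Quotient.mk I h ≠ 0 := by
    intro h0
    rw [Ideal.Quotient.eq_zero_iff_mem, ← hker, RingHom.mem_ker] at h0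
    exact hh h0
  refine gorRing_quot (Ideal.Quotient.factor hIJ) (Ideal.Quotient.factor_surjective hIJ)
    (Ideal.Quotient.mk I h) hx0 ?_
  ext y
  obtain ⟨a, rfl⟩ := Ideal.Quotient.mk_surjective y
  rw [RingHom.mem_ker, Ideal.Quotient.factor_mk, Ideal.Quotient.eq_zero_iff_mem,
    Ideal.mem_span_singleton]
  constructor
  · intro ha
    rw [hJ, Ideal.mem_span_pair] at ha
    obtain ⟨c, d, rfl⟩ := ha
    refine ⟨Ideal.Quotient.mk I d, ?_⟩
    have h0 : Ideal.Quotient.mk I ρ = 0 := by
      rw [Ideal.Quotient.eq_zero_iff_mem, hI]; exact Ideal.mem_span_singleton_self ρ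
    rw [map_add, map_mul, map_mul, h0, mul_zero, zero_add, mul_comm]
  · rintro ⟨z, hz⟩
    obtain ⟨d, rfl⟩ := Ideal.Quotient.mk_surjective z
    rw [← map_mul, Ideal.Quotient.eq] at hz
    have h1 : h * d ∈ J := Ideal.mul_mem_right _ _ (Ideal.subset_span (by simp))
    have h2 : a - h * d ∈ J := hIJ hz
    have : a = (a - h * d) + h * d := by ring
    rw [this]
    exact Ideal.add_mem _ h2 h1

end Groth.Agent.Lib.helper22.GorLift
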