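import Mathlib

namespace Groth.Agent.Lib.helper22.GroupGen

/-- a commutative group generated by subgroups which are trivial or of order `p` has exponent `p` -/
theorem pow_eq_one_of_iSup_eq_top {H : Type*} [Group H] (p : ℕ) {ι : Sort*} (S : ι → Subgroup H)
    (hS : (⨆ i, S i) = ⊤) (hcomm : ∀ g h : H, g * h = h * g)
    (hcard : ∀ i, S i ≠ ⊥ → Nat.card (S i) = p) : ∀ h : H, h ^ p = 1 := by
  intro h
  have hmem : h ∈ ⨆ i, S i := by rw [hS]; trivial
  refine Subgroup.iSup_induction S (C := fun h => h ^ p = 1) hmem ?_ (one_pow _) ?_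
  · intro i x hx
    by_cases hb : S i = ⊥
    · rw [hb, Subgroup.mem_bot] at hx
      rw [hx, one_pow]
    · have h1 : (⟨x, hx⟩ : S i) ^ Nat.card (S i) = 1 := pow_card_eq_one'
      rw [hcard i hb] at h1
      exact congrArg Subtype.val h1
  · intro x y hx hy
    rw [(show Commute x y from hcomm x y).mul_pow, hx, hy, one_mul]

/-- a group generated by subgroups which are trivial or (normal of prime order `p`) is
commutative -/
theorem comm_of_iSup_eq_top {H : Type*} [Group H] (p : ℕ) [hp : Fact p.Prime] {ι : Sort*}
    (S : ι → Subgroup H) (hS : (⨆ i, S i) = ⊤)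
    (hcard : ∀ i, S i ≠ ⊥ → Nat.card (S i) = p ∧ (S i).Normal) : ∀ g h : H, g * h = h * g := by
  -- generators commute pairwise
  have hgen : ∀ i j (x y : H), x ∈ S i → y ∈ S j → Commute x y := by
    intro i j x y hx hy
    by_cases hi : S i = ⊥
    · rw [hi, Subgroup.mem_bot] at hx
      rw [hx]; exact Commute.one_left y
    by_cases hj : S j = ⊥
    · rw [hj, Subgroup.mem_bot] at hy
      rw [hy]; exact Commute.one_right x
    obtain ⟨hci, hni⟩ := hcard i hi
    obtain ⟨hcj, hnj⟩ := hcard j hj
    haveI : Finite (S i) := Nat.finite_of_card_ne_zero (hci ▸ hp.1.ne_zero)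
    haveI : Finite (S j) := Nat.finite_of_card_ne_zero (hcj ▸ hp.1.ne_zero)
    by_cases hij : S i = S j
    · -- same cyclic subgroup of prime order
      haveI : IsCyclic (S i) := isCyclic_of_prime_card (p := p) hci
      have hy' : y ∈ S i := hij ▸ hy
      have h1 : (⟨x, hx⟩ : S i) * ⟨y, hy'⟩ = ⟨y, hy'⟩ * ⟨x, hx⟩ :=
        IsMulCommutative.is_comm.comm _ _
      exact congrArg Subtype.val h1
    · apply Subgroup.commute_of_normal_of_disjoint (S i) (S j) hni hnj _ x y hx hy
      rw [disjoint_iff]
      have hdvd : Nat.card ↥(S i ⊓ S j) ∣ p := hci ▸ Subgroup.card_dvd_of_le inf_le_left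
      rcases (Nat.dvd_prime hp.1).mp hdvd with h1 | h1
      · exact Subgroup.card_eq_one.mp h1
      · exfalso
        apply hij
        have hle : S i ≤ S j := by
          have : S i ⊓ S j = S i :=
            Subgroup.eq_of_le_of_card_ge inf_le_left (by rw [h1, hci])
          rw [← this]
          exact inf_le_right
        exact Subgroup.eq_of_le_of_card_ge hle (by rw [hci, hcj])
  have hstep1 : ∀ j (t : H), t ∈ S j → ∀ g : H, Commute g t := by
    intro j t ht g
    have hmem : g ∈ ⨆ i, S i := by rw [hS]; trivial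
    refine Subgroup.iSup_induction S (C := fun g => Commute g t) hmem ?_ (Commute.one_left t) ?_
    · intro i x hx
      exact hgen i j x t hx ht
    · intro x y hx hy
      exact Commute.mul_left hx hy
  intro g h
  have hmem : h ∈ ⨆ i, S i := by rw [hS]; trivial
  refine Subgroup.iSup_induction S (C := fun h => g * h = h * g) hmem ?_ (by simp) ?_
  · intro i x hx
    exact hstep1 i x hx g
  · intro x y hx hy
    exact Commute.mul_right (show Commute g x from hx) (show Commute g y from hy)

end Groth.Agent.Lib.helper22.GroupGen
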