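import Mathlib
import Groth.Agent.Lib.Helper22.HopfKer

/-!
# Hopf algebras spanned by their group-like elements (helper22)

If a finite-dimensional commutative Hopf algebra `A` over a field has `dim A` group-like elements
(`Spec A` is diagonalizable) then the group-like elements form a basis, and every subgroup `H` of
`X = GroupLike k A` gives the Hopf ideal `ker (A → k[X/H])`.
-/

set_option autoImplicit false
universe u v
open scoped TensorProduct

namespace Groth.Agent.Lib.helper22.GrpLikeBasis

variable (k : Type u) [Field k] (A : Type v) [CommRing A] [HopfAlgebra k A]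
  [FiniteDimensional k A]

theorem finite_groupLike : Finite (GroupLike k A) :=
  (linearIndep_groupLikeVal (R := k) (A := A)).finite

theorem card_le : Nat.card (GroupLike k A) ≤ Module.finrank k A := by
  have := finite_groupLike k A
  have : Fintype (GroupLike k A) := Fintype.ofFinite _
  rw [Nat.card_eq_fintype_card]
  exact (linearIndep_groupLikeVal (R := k) (A := A)).fintype_card_le_finrank

variable (h : Nat.card (GroupLike k A) = Module.finrank k A)

include h in
theorem span_eq_top : Submodule.span k (Set.range (GroupLike.val (R := k) (A := A))) = ⊤ := by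
  have := finite_groupLike k A
  have : Fintype (GroupLike k A) := Fintype.ofFinite _
  exact (linearIndep_groupLikeVal (R := k) (A := A)).span_eq_top_of_card_eq_finrank
    (by rw [← h, Nat.card_eq_fintype_card])

/-- the basis of group-like elements -/
noncomputable def basis : Module.Basis (GroupLike k A) k A :=
  Module.Basis.mk (linearIndep_groupLikeVal (R := k) (A := A)) (span_eq_top k A h).ge

theorem basis_apply (x : GroupLike k A) : basis k A h x = x.val := by
  unfold basis
  rw [Module.Basis.mk_apply]

variable (H : Subgroup (GroupLike k A))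

/-- the linear map `A → k[X/H]` -/
noncomputable def quotLin : A →ₗ[k] MonoidAlgebra k (GroupLike k A ⧸ H) :=
  (basis k A h).constr k
    (fun x => MonoidAlgebra.single (QuotientGroup.mk x : GroupLike k A ⧸ H) (1 : k))

theorem quotLin_val (x : GroupLike k A) :
    quotLin k A h H x.val = MonoidAlgebra.single (QuotientGroup.mk x : GroupLike k A ⧸ H) (1 : k) := by
  rw [← basis_apply k A h x, quotLin, Module.Basis.constr_basis]

theorem quotLin_mul (a b : A) : quotLin k A h H (a * b) = quotLin k A h H a * quotLin k A h H b := by
  have key : (LinearMap.mul k A).compr₂ (quotLin k A h H) =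
      (LinearMap.mul k (MonoidAlgebra k (GroupLike k A ⧸ H))).compl₁₂ (quotLin k A h H)
        (quotLin k A h H) := by
    apply (basis k A h).ext
    intro x
    apply (basis k A h).ext
    intro y
    rw [LinearMap.compr₂_apply, LinearMap.compl₁₂_apply, basis_apply, basis_apply,
      LinearMap.mul_apply', LinearMap.mul_apply', ← GroupLike.val_mul, quotLin_val, quotLin_val,
      quotLin_val, MonoidAlgebra.single_mul_single, mul_one, QuotientGroup.mk_mul]
  have := LinearMap.congr_fun (LinearMap.congr_fun key a) b
  rw [LinearMap.compr₂_apply, LinearMap.compl₁₂_apply, LinearMap.mul_apply',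
    LinearMap.mul_apply'] at this
  exact this

theorem quotLin_one : quotLin k A h H 1 = 1 := by
  have := quotLin_val k A h H 1
  rw [GroupLike.val_one] at this
  rw [this]
  rfl

/-- the algebra map `A → k[X/H]` -/
noncomputable def quotAlg : A →ₐ[k] MonoidAlgebra k (GroupLike k A ⧸ H) :=
  AlgHom.ofLinearMap (quotLin k A h H) (quotLin_one k A h H) (quotLin_mul k A h H)

theorem quotAlg_val (x : GroupLike k A) :
    quotAlg k A h H x.val = MonoidAlgebra.single (QuotientGroup.mk x : GroupLike k A ⧸ H) (1 : k) :=
  quotLin_val k A h H x

/-- the bialgebra map `A → k[X/H]` -/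
noncomputable def quotHom : A →ₐc[k] MonoidAlgebra k (GroupLike k A ⧸ H) :=
  BialgHom.ofAlgHom (quotAlg k A h H)
    (by
      apply AlgHom.toLinearMap_injective
      apply (basis k A h).ext
      intro x
      rw [basis_apply]
      change Coalgebra.counit (quotAlg k A h H x.val) = Coalgebra.counit x.val
      rw [quotAlg_val, MonoidAlgebra.counit_single, x.2.counit_eq_one]
      rfl)
    (by
      apply AlgHom.toLinearMap_injective
      apply (basis k A h).ext
      intro x
      rw [basis_apply]
      change Algebra.TensorProduct.map (quotAlg k A h H) (quotAlg k A h H)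
        (Coalgebra.comul x.val) = Coalgebra.comul (quotAlg k A h H x.val)
      rw [x.2.comul_eq_tmul_self, Algebra.TensorProduct.map_tmul, quotAlg_val,
        MonoidAlgebra.comul_single]
      simp)

theorem quotHom_val (x : GroupLike k A) :
    quotHom k A h H x.val = MonoidAlgebra.single (QuotientGroup.mk x : GroupLike k A ⧸ H) (1 : k) :=
  quotLin_val k A h H x

include h in
/-- if `Spec A` is simple then so is its character group -/
theorem subgroup_eq_bot_or_top
    (hsimple : ∀ I : Ideal A, I.IsHopfIdeal k →
      I = ⊥ ∨ I = RingHom.ker (Bialgebra.counitAlgHom k A))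
    (H : Subgroup (GroupLike k A)) : H = ⊥ ∨ H = ⊤ := by
  rcases hsimple _ (isHopfIdeal_ker (quotHom k A h H)) with h0 | h1
  · left
    rw [Subgroup.eq_bot_iff_forall]
    intro x hx
    have h2 : x.val - 1 ∈
        RingHom.ker (quotHom k A h H : A →+* MonoidAlgebra k (GroupLike k A ⧸ H)) := by
      rw [RingHom.mem_ker]
      change quotHom k A h H (x.val - 1) = 0
      rw [map_sub, ← GroupLike.val_one (R := k), quotHom_val, quotHom_val,
        (QuotientGroup.eq_one_iff x).2 hx, QuotientGroup.mk_one, sub_self]
    rw [h0, Ideal.mem_bot, sub_eq_zero] at h2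
    apply GroupLike.val_injective
    rw [h2, GroupLike.val_one]
  · right
    rw [Subgroup.eq_top_iff']
    intro x
    have h2 : x.val - 1 ∈ RingHom.ker (Bialgebra.counitAlgHom k A) := by
      rw [RingHom.mem_ker, map_sub, map_one]
      change Coalgebra.counit x.val - 1 = 0
      rw [x.2.counit_eq_one, sub_self]
    rw [← h1, RingHom.mem_ker] at h2
    change quotHom k A h H (x.val - 1) = 0 at h2
    rw [map_sub, ← GroupLike.val_one (R := k), quotHom_val, quotHom_val, sub_eq_zero] at h2
    have h3 := MonoidAlgebra.single_left_injective (one_ne_zero : (1 : k) ≠ 0) h2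
    rw [QuotientGroup.mk_one] at h3
    exact (QuotientGroup.eq_one_iff x).1 h3

end Groth.Agent.Lib.helper22.GrpLikeBasis
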