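import Mathlib

set_option autoImplicit false
open PowerSeries Matrix

namespace Groth.Agent.Lib.helper22.HNF

variable {k : Type*} [Field k]



theorem exists_eq_X_pow_mul_unit {f : k⟦X⟧} (hf : f ≠ 0) :
    ∃ (n : ℕ) (u : k⟦X⟧), IsUnit u ∧ f = X ^ n * u := by
  refine ⟨f.order.toNat, (Unit_of_divided_by_X_pow_order f : k⟦X⟧), Units.isUnit _, ?_⟩
  rw [Unit_of_divided_by_X_pow_order_nonzero hf]
  exact X_pow_order_mul_divXPowOrder.symm

theorem le_of_X_pow_dvd {a b : ℕ} {u : k⟦X⟧} (hu : IsUnit u) (h : (X : k⟦X⟧) ^ a ∣ X ^ b * u) : a ≤ b := by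
  by_contra hlt
  push Not at hlt
  have h1 := (X_pow_dvd_iff.mp h) b hlt
  have h2 : coeff b ((X : k⟦X⟧) ^ b * u) = constantCoeff u := by
    have := coeff_X_pow_mul u b 0
    rw [zero_add] at this
    rw [this]
    simp
  rw [h2] at h1
  exact (isUnit_iff_constantCoeff.mp hu).ne_zero h1

/-- division with remainder by a power of `X` -/
theorem exists_div_rem (f : k⟦X⟧) (e : ℕ) :
    ∃ q ρ : k⟦X⟧, f = q * X ^ e + ρ ∧ ∀ n, e ≤ n → coeff n ρ = 0 := by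
  let ρ : k⟦X⟧ := (trunc e f : Polynomial k)
  have hρ : ∀ n, coeff n ρ = if n < e then coeff n f else 0 := by
    intro n
    simp only [ρ, Polynomial.coeff_coe, coeff_trunc]
  have hdvd : (X : k⟦X⟧) ^ e ∣ f - ρ := by
    rw [X_pow_dvd_iff]
    intro m hm
    rw [map_sub, hρ, if_pos hm, sub_self]
  obtain ⟨q, hq⟩ := hdvd
  refine ⟨q, ρ, ?_, ?_⟩
  · rw [mul_comm, ← hq]
    ring
  · intro n hn
    rw [hρ, if_neg (by omega)]

/-- a multiple of `X^e` whose coefficients in degrees `≥ e` vanish is zero -/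
theorem eq_zero_of_mul_X_pow_reduced {g : k⟦X⟧} {e : ℕ}
    (h : ∀ n, e ≤ n → coeff n (g * X ^ e) = 0) : g = 0 := by
  ext d
  have := h (d + e) (by omega)
  rw [coeff_mul_X_pow] at this
  simpa using this


variable {r : ℕ} (M : Matrix (Fin r) (Fin r) k⟦X⟧)

/-- the row lattice of a matrix -/
noncomputable def rowLat : Submodule k⟦X⟧ (Fin r → k⟦X⟧) := LinearMap.range M.vecMulLinear

theorem mem_rowLat {w : Fin r → k⟦X⟧} : w ∈ rowLat M ↔ ∃ v : Fin r → k⟦X⟧, v ᵥ* M = w := by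
  simp [rowLat, LinearMap.mem_range]

/-- vectors of the row lattice whose first `m` coordinates vanish -/
noncomputable def Lm (m : ℕ) : Submodule k⟦X⟧ (Fin r → k⟦X⟧) where
  carrier := {w | w ∈ rowLat M ∧ ∀ j : Fin r, j.val < m → w j = 0}
  add_mem' := by
    rintro a b ⟨ha, ha'⟩ ⟨hb, hb'⟩
    refine ⟨Submodule.add_mem _ ha hb, fun j hj => ?_⟩
    rw [Pi.add_apply, ha' j hj, hb' j hj, add_zero]
  zero_mem' := ⟨Submodule.zero_mem _, fun _ _ => rfl⟩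
  smul_mem' := by
    rintro c a ⟨ha, ha'⟩
    refine ⟨Submodule.smul_mem _ c ha, fun j hj => ?_⟩
    rw [Pi.smul_apply, ha' j hj, smul_zero]

theorem mem_Lm {m : ℕ} {w : Fin r → k⟦X⟧} :
    w ∈ Lm M m ↔ w ∈ rowLat M ∧ ∀ j : Fin r, j.val < m → w j = 0 := Iff.rfl

theorem Lm_mono {m m' : ℕ} (h : m ≤ m') : Lm M m' ≤ Lm M m := by
  rintro w ⟨hw, hw'⟩
  exact ⟨hw, fun j hj => hw' j (by omega)⟩

theorem det_smul_single_mem (i : Fin r) : (M.det • (Pi.single i 1 : Fin r → k⟦X⟧)) ∈ Lm M i.val := by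
  refine ⟨?_, ?_⟩
  · rw [mem_rowLat]
    refine ⟨(Pi.single i 1 : Fin r → k⟦X⟧) ᵥ* adjugate M, ?_⟩
    rw [vecMul_vecMul, adjugate_mul, vecMul_smul, vecMul_one]
  · intro j hj
    have : j ≠ i := fun h => by rw [h] at hj; exact lt_irrefl _ hj
    simp [this]

/-- pivots -/
theorem exists_pivot (hM : M.det ≠ 0) (i : Fin r) :
    ∃ (e : ℕ) (h : Fin r → k⟦X⟧), h ∈ Lm M i.val ∧ h i = X ^ e ∧ ∀ w ∈ Lm M i.val, (X : k⟦X⟧) ^ e ∣ w i := by
  classical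
  let P : ℕ → Prop := fun n => ∃ w ∈ Lm M i.val, ∃ u : k⟦X⟧, IsUnit u ∧ w i = X ^ n * u
  have hP : ∃ n, P n := by
    obtain ⟨n, u, hu, hn⟩ := exists_eq_X_pow_mul_unit hM
    refine ⟨n, _, det_smul_single_mem M i, u, hu, ?_⟩
    simp [hn]
  obtain ⟨w, hw, u, hu, hwi⟩ := Nat.find_spec hP
  refine ⟨Nat.find hP, (hu.unit⁻¹ : (k⟦X⟧)ˣ).val • w, Submodule.smul_mem _ _ hw, ?_, ?_⟩
  · rw [Pi.smul_apply, hwi, smul_eq_mul, mul_comm, mul_assoc]
    simp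
  · intro w' hw'
    by_cases h0 : w' i = 0
    · rw [h0]; exact dvd_zero _
    · obtain ⟨n, u', hu', hn⟩ := exists_eq_X_pow_mul_unit h0
      have hle : Nat.find hP ≤ n := Nat.find_min' hP ⟨w', hw', u', hu', hn⟩
      rw [hn]
      exact Dvd.dvd.mul_right (pow_dvd_pow _ hle) _

end Groth.Agent.Lib.helper22.HNF
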