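import Groth.Agent.Lib.Helper22.HNF1

set_option autoImplicit false
open PowerSeries Matrix

namespace Groth.Agent.Lib.helper22.HNF

variable {k : Type*} [Field k]
variable {r : ℕ} (M : Matrix (Fin r) (Fin r) k⟦X⟧)

/-- reduction of the entries right of the pivot -/
theorem exists_reduced_row (e : Fin r → ℕ) (h : Fin r → Fin r → k⟦X⟧)
    (hh : ∀ i, h i ∈ Lm M i.val) (hhi : ∀ i, h i i = X ^ e i) (i : Fin r) :
    ∃ v ∈ Lm M i.val, v i = X ^ e i ∧ ∀ j : Fin r, i < j → ∀ n, e j ≤ n → coeff n (v j) = 0 := by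
  have key : ∀ m : ℕ, ∃ v ∈ Lm M i.val, v i = X ^ e i ∧
      ∀ j : Fin r, i < j → j.val < m → ∀ n, e j ≤ n → coeff n (v j) = 0 := by
    intro m
    induction m with
    | zero => exact ⟨h i, hh i, hhi i, fun j _ hj => absurd hj (Nat.not_lt_zero _)⟩
    | succ m ih =>
      obtain ⟨v, hv, hvi, hvr⟩ := ih
      by_cases hm : m < r ∧ i.val < m
      · obtain ⟨q, ρ, hq, hρ⟩ := exists_div_rem (v ⟨m, hm.1⟩) (e ⟨m, hm.1⟩)
        refine ⟨v - q • h ⟨m, hm.1⟩, ?_, ?_, ?_⟩
        · exact Submodule.sub_mem _ hv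
            (Submodule.smul_mem _ _ (Lm_mono M (le_of_lt hm.2) (hh ⟨m, hm.1⟩)))
        · have : h ⟨m, hm.1⟩ i = 0 := (hh ⟨m, hm.1⟩).2 i hm.2
          simp [this, hvi]
        · intro j hij hj n hn
          by_cases hjm : j.val < m
          · have : h ⟨m, hm.1⟩ j = 0 := (hh ⟨m, hm.1⟩).2 j hjm
            simp only [Pi.sub_apply, Pi.smul_apply, this, smul_zero, sub_zero]
            exact hvr j hij hjm n hn
          · have hjeq : j = ⟨m, hm.1⟩ := Fin.ext (by simp; omega)
            rw [hjeq] at hn ⊢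
            have : (v - q • h ⟨m, hm.1⟩) ⟨m, hm.1⟩ = ρ := by
              simp only [Pi.sub_apply, Pi.smul_apply, hhi, smul_eq_mul]
              rw [hq]
              ring
            rw [this]
            exact hρ n hn
      · refine ⟨v, hv, hvi, ?_⟩
        intro j hij hj n hn
        apply hvr j hij _ n hn
        by_contra hcon
        apply hm
        have h1 := j.isLt
        have h2 : i.val < j.val := hij
        constructor <;> omega
  obtain ⟨v, hv, hvi, hvr⟩ := key r
  exact ⟨v, hv, hvi, fun j hij n hn => hvr j hij j.isLt n hn⟩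

/-- a triangular family of pivot rows spans the row lattice -/
theorem exists_combination (e : Fin r → ℕ) (v : Fin r → Fin r → k⟦X⟧)
    (hv : ∀ i, v i ∈ Lm M i.val) (hvi : ∀ i, v i i = X ^ e i)
    (hdiv : ∀ i, ∀ w ∈ Lm M i.val, (X : k⟦X⟧) ^ e i ∣ w i) :
    ∀ w ∈ rowLat M, ∃ c : Fin r → k⟦X⟧, w = ∑ i, c i • v i := by
  have key : ∀ d m : ℕ, m + d = r → ∀ w ∈ Lm M m, ∃ c : Fin r → k⟦X⟧, w = ∑ i, c i • v i := by
    intro d
    induction d with
    | zero =>
      intro m hm w hw
      refine ⟨0, ?_⟩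
      have : w = 0 := by
        funext j
        exact hw.2 j (by have := j.isLt; omega)
      simp [this]
    | succ d ih =>
      intro m hm w hw
      have hmr : m < r := by omega
      obtain ⟨c, hc⟩ := hdiv ⟨m, hmr⟩ w hw
      have hw' : w - c • v ⟨m, hmr⟩ ∈ Lm M (m + 1) := by
        refine ⟨Submodule.sub_mem _ hw.1 (Submodule.smul_mem _ _ (hv ⟨m, hmr⟩).1), ?_⟩
        intro j hj
        by_cases hjm : j.val < m
        · simp [hw.2 j hjm, (hv ⟨m, hmr⟩).2 j hjm]
        · have : j = ⟨m, hmr⟩ := Fin.ext (by simp; omega)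
          rw [this]
          simp only [Pi.sub_apply, Pi.smul_apply, hvi, smul_eq_mul, hc]
          ring
      obtain ⟨c', hc'⟩ := ih (m + 1) (by omega) _ hw'
      refine ⟨c' + Pi.single ⟨m, hmr⟩ c, ?_⟩
      have : w = (w - c • v ⟨m, hmr⟩) + c • v ⟨m, hmr⟩ := by abel
      rw [this, hc']
      simp only [Pi.add_apply, add_smul, Finset.sum_add_distrib]
      congr 1
      rw [Finset.sum_eq_single ⟨m, hmr⟩]
      · simp
      · intro b _ hb
        simp [hb]
      · intro h
        exact absurd (Finset.mem_univ _) h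
  intro w hw
  exact key r 0 (by omega) w ⟨hw, fun j hj => absurd hj (Nat.not_lt_zero _)⟩

theorem eq_one_of_mul_eq_self (hM : M.det ≠ 0) (A : Matrix (Fin r) (Fin r) k⟦X⟧) (h : A * M = M) :
    A = 1 := by
  have h1 : (A - 1) * M = 0 := by rw [Matrix.sub_mul, h, Matrix.one_mul, sub_self]
  have h2 : M.det • (A - 1) = 0 := by
    have := congrArg (fun B => B * adjugate M) h1
    simp only [Matrix.mul_assoc, mul_adjugate, Matrix.zero_mul, Matrix.mul_smul, Matrix.mul_one]
      at this
    exact this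
  have h3 : A - 1 = 0 := by
    apply Matrix.ext
    intro i j
    have := congrFun (congrFun h2 i) j
    simp only [Matrix.smul_apply, smul_eq_mul, Matrix.zero_apply] at this
    exact (mul_eq_zero.mp this).resolve_left hM
  exact sub_eq_zero.mp h3

/-- existence of the row-reduced form -/
theorem exists_hnf (hM : M.det ≠ 0) :
    ∃ (H : Matrix (Fin r) (Fin r) k⟦X⟧),
      (∃ e : Fin r → ℕ, (∀ i, H i i = X ^ e i) ∧ (∀ i j, j < i → H i j = 0) ∧
        (∀ i j, i < j → ∀ n, e j ≤ n → coeff n (H i j) = 0)) ∧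
      ∃ N : Matrix (Fin r) (Fin r) k⟦X⟧, IsUnit N ∧ N * M = H := by
  choose e h hh hhi hdiv using exists_pivot M hM
  choose v hv hvi hvr using exists_reduced_row M e h hh hhi
  have hrow : ∀ i, ∃ n : Fin r → k⟦X⟧, n ᵥ* M = v i := fun i => (mem_rowLat M).mp (hv i).1
  choose N hN using hrow
  have hMrow : ∀ i, M i ∈ rowLat M := fun i =>
    (mem_rowLat M).mpr ⟨Pi.single i 1, single_one_vecMul i M⟩
  have hspan := exists_combination M e v hv hvi hdiv
  choose N' hN' using fun i => hspan (M i) (hMrow i)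
  have e1 : (Matrix.of N) * M = Matrix.of v := by
    apply Matrix.ext
    intro i j
    rw [mul_apply_eq_vecMul]
    exact congrFun (hN i) j
  have e2 : (Matrix.of N') * (Matrix.of v) = M := by
    apply Matrix.ext
    intro i j
    rw [mul_apply_eq_vecMul, vecMul_eq_sum]
    have := congrFun (hN' i) j
    rw [this]
    rfl
  have e3 : Matrix.of N' * Matrix.of N = 1 := by
    apply eq_one_of_mul_eq_self M hM
    rw [Matrix.mul_assoc, e1, e2]
  refine ⟨Matrix.of v, ⟨e, ?_, ?_, ?_⟩, Matrix.of N, ?_, e1⟩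
  · intro i
    exact hvi i
  · intro i j hji
    exact (hv i).2 j hji
  · intro i j hij n hn
    exact hvr i j hij n hn
  · exact (Matrix.isUnit_iff_isUnit_det _).mpr (isUnit_det_of_left_inverse e3)

end Groth.Agent.Lib.helper22.HNF
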