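import Groth.Agent.Lib.Helper22.HNF2

set_option autoImplicit false
open PowerSeries Matrix

namespace Groth.Agent.Lib.helper22.HNF

variable {k : Type*} [Field k]
variable {r : ℕ}

/-- if `U * H = H'` with `H` upper triangular with nonzero diagonal and `H'` upper triangular, then
`U` is upper triangular -/
theorem lower_zero_of_mul_eq (U H H' : Matrix (Fin r) (Fin r) k⟦X⟧)
    (hH : ∀ i j, j < i → H i j = 0) (hHd : ∀ i, H i i ≠ 0) (hH' : ∀ i j, j < i → H' i j = 0)
    (hUH : U * H = H') : ∀ i l, l < i → U i l = 0 := by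
  intro i
  have key : ∀ n : ℕ, ∀ l : Fin r, l.val = n → l < i → U i l = 0 := by
    intro n
    induction n using Nat.strong_induction_on with
    | _ n ih =>
      intro l hl hli
      have h1 : H' i l = U i l * H l l := by
        rw [← hUH, Matrix.mul_apply, Finset.sum_eq_single l]
        · intro l' _ hl'
          rcases lt_or_gt_of_ne hl' with h | h
          · rw [ih l'.val (by rw [← hl]; exact h) l' rfl (lt_trans h hli), zero_mul]
          · rw [hH l' l h, mul_zero]
        · intro h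
          exact absurd (Finset.mem_univ _) h
      rw [hH' i l hli] at h1
      exact (mul_eq_zero.mp h1.symm).resolve_right (hHd l)
  intro l hl
  exact key l.val l rfl hl

theorem diag_of_mul_eq (U H : Matrix (Fin r) (Fin r) k⟦X⟧)
    (hH : ∀ i j, j < i → H i j = 0) (hU : ∀ i l, l < i → U i l = 0) (i : Fin r) :
    (U * H) i i = U i i * H i i := by
  rw [Matrix.mul_apply, Finset.sum_eq_single i]
  · intro l _ hl
    rcases lt_or_gt_of_ne hl with h | h
    · rw [hU i l h, zero_mul]
    · rw [hH l i h, mul_zero]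
  · intro h
    exact absurd (Finset.mem_univ _) h

theorem X_pow_ne_zero' (n : ℕ) : (X : k⟦X⟧) ^ n ≠ 0 := pow_ne_zero _ X_ne_zero

/-- uniqueness of the row-reduced form -/
theorem hnf_unique (H H' U V : Matrix (Fin r) (Fin r) k⟦X⟧) (e e' : Fin r → ℕ)
    (hd : ∀ i, H i i = X ^ e i) (hl : ∀ i j, j < i → H i j = 0)
    (hr : ∀ i j, i < j → ∀ n, e j ≤ n → coeff n (H i j) = 0)
    (hd' : ∀ i, H' i i = X ^ e' i) (hl' : ∀ i j, j < i → H' i j = 0)
    (hr' : ∀ i j, i < j → ∀ n, e' j ≤ n → coeff n (H' i j) = 0)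
    (hUH : U * H = H') (hVH : V * H' = H) : H' = H := by
  have hHd : ∀ i, H i i ≠ 0 := fun i => by rw [hd]; exact X_pow_ne_zero' _
  have hHd' : ∀ i, H' i i ≠ 0 := fun i => by rw [hd']; exact X_pow_ne_zero' _
  have hU := lower_zero_of_mul_eq U H H' hl hHd hl' hUH
  have hV := lower_zero_of_mul_eq V H' H hl' hHd' hl hVH
  have dU : ∀ i, (X : k⟦X⟧) ^ e' i = U i i * X ^ e i := by
    intro i
    rw [← hd, ← hd', ← diag_of_mul_eq U H hl hU, hUH]
  have dV : ∀ i, (X : k⟦X⟧) ^ e i = V i i * X ^ e' i := by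
    intro i
    rw [← hd, ← hd', ← diag_of_mul_eq V H' hl' hV, hVH]
  have hee : ∀ i, e' i = e i := by
    intro i
    apply le_antisymm
    · apply le_of_X_pow_dvd (u := (1 : k⟦X⟧)) isUnit_one
      rw [mul_one]
      exact ⟨V i i, by rw [dV i]; ring⟩
    · apply le_of_X_pow_dvd (u := (1 : k⟦X⟧)) isUnit_one
      rw [mul_one]
      exact ⟨U i i, by rw [dU i]; ring⟩
  have hUd : ∀ i, U i i = 1 := by
    intro i
    have := dU i
    rw [hee] at this
    have h2 : (U i i - 1) * X ^ e i = 0 := by rw [sub_mul, ← this, one_mul, sub_self]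
    exact sub_eq_zero.mp ((mul_eq_zero.mp h2).resolve_right (X_pow_ne_zero' _))
  have hUu : ∀ i j, i < j → U i j = 0 := by
    intro i
    have key : ∀ n : ℕ, ∀ j : Fin r, j.val = n → i < j → U i j = 0 := by
      intro n
      induction n using Nat.strong_induction_on with
      | _ n ih =>
        intro j hj hij
        have h1 : H' i j = H i j + U i j * X ^ e j := by
          rw [← hUH, Matrix.mul_apply, Finset.sum_eq_add i j (ne_of_lt hij)]
          · rw [hUd, one_mul, hd]
          · intro l _ hne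
            rcases lt_or_gt_of_ne hne.1 with h | h
            · rw [hU i l h, zero_mul]
            · rcases lt_or_gt_of_ne hne.2 with h' | h'
              · rw [ih l.val (by rw [← hj]; exact h') l rfl h, zero_mul]
              · rw [hl l j h', mul_zero]
          · intro h
            exact absurd (Finset.mem_univ _) h
          · intro h
            exact absurd (Finset.mem_univ _) h
        apply eq_zero_of_mul_X_pow_reduced (e := e j)
        intro m hm
        have : U i j * X ^ e j = H' i j - H i j := by rw [h1]; ring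
        rw [this, map_sub, hr i j hij m hm, hr' i j hij m (by rw [hee]; exact hm), sub_zero]
    intro j hij
    exact key j.val j rfl hij
  have hU1 : U = 1 := by
    apply Matrix.ext
    intro i j
    rcases lt_trichotomy i j with h | h | h
    · rw [hUu i j h, Matrix.one_apply_ne (ne_of_lt h)]
    · rw [h, hUd, Matrix.one_apply_eq]
    · rw [hU i j h, Matrix.one_apply_ne (ne_of_gt h)]
  rw [← hUH, hU1, Matrix.one_mul]

theorem existsUnique_hnf (M : Matrix (Fin r) (Fin r) k⟦X⟧) (hM : M.det ≠ 0) :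
    ∃! H : Matrix (Fin r) (Fin r) k⟦X⟧,
      (∃ e : Fin r → ℕ, (∀ i, H i i = X ^ e i) ∧ (∀ i j, j < i → H i j = 0) ∧
        (∀ i j, i < j → ∀ n, e j ≤ n → coeff n (H i j) = 0)) ∧
      ∃ N : Matrix (Fin r) (Fin r) k⟦X⟧, IsUnit N ∧ N * M = H := by
  obtain ⟨H, ⟨e, hd, hl, hr⟩, N, hN, hNM⟩ := exists_hnf M hM
  refine ⟨H, ⟨⟨e, hd, hl, hr⟩, N, hN, hNM⟩, ?_⟩
  rintro H' ⟨⟨e', hd', hl', hr'⟩, N', hN', hNM'⟩
  obtain ⟨n, rfl⟩ := hN
  obtain ⟨n', rfl⟩ := hN'
  apply hnf_unique H H' ((n' : Matrix (Fin r) (Fin r) k⟦X⟧) * (n⁻¹ : (Matrix (Fin r) (Fin r) k⟦X⟧)ˣ))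
    ((n : Matrix (Fin r) (Fin r) k⟦X⟧) * (n'⁻¹ : (Matrix (Fin r) (Fin r) k⟦X⟧)ˣ)) e e' hd hl hr hd' hl' hr'
  · rw [← hNM, Matrix.mul_assoc, ← Matrix.mul_assoc _ _ M, Units.inv_mul, Matrix.one_mul, hNM']
  · rw [← hNM', Matrix.mul_assoc, ← Matrix.mul_assoc _ _ M, Units.inv_mul, Matrix.one_mul, hNM]

end Groth.Agent.Lib.helper22.HNF
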