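import Groth.Agent.Lib.Helper22.HNF3

set_option autoImplicit false
open PowerSeries Matrix

namespace Groth.Agent.Lib.helper22.HNF

variable {k : Type*} [Field k]

/-- power series in `t^p` -/
def pSub (p : ℕ) : Subring k⟦X⟧ where
  carrier := {f | ∀ n, ¬ p ∣ n → coeff n f = 0}
  mul_mem' := by
    intro f g hf hg n hn
    rw [coeff_mul]
    apply Finset.sum_eq_zero
    rintro ⟨a, b⟩ hab
    have hab := Finset.HasAntidiagonal.mem_antidiagonal.mp hab
    by_cases ha : p ∣ a
    · have hb : ¬ p ∣ b := by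
        intro hb
        apply hn
        rw [← hab]
        exact dvd_add ha hb
      rw [hg b hb, mul_zero]
    · rw [hf a ha, zero_mul]
  one_mem' := by
    intro n hn
    rw [coeff_one, if_neg]
    rintro rfl
    exact hn (dvd_zero p)
  add_mem' := by
    intro f g hf hg n hn
    rw [map_add, hf n hn, hg n hn, add_zero]
  zero_mem' := by
    intro n _
    simp
  neg_mem' := by
    intro f hf n hn
    rw [map_neg, hf n hn, neg_zero]

theorem mem_pSub {p : ℕ} {f : k⟦X⟧} : f ∈ pSub (k := k) p ↔ ∀ n, ¬ p ∣ n → coeff n f = 0 := Iff.rfl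

variable {r : ℕ}

theorem mul_mem_pSub {p : ℕ} {A B : Matrix (Fin r) (Fin r) k⟦X⟧} (hA : ∀ i j, A i j ∈ pSub (k := k) p)
    (hB : ∀ i j, B i j ∈ pSub (k := k) p) : ∀ i j, (A * B) i j ∈ pSub (k := k) p := by
  intro i j
  rw [Matrix.mul_apply]
  exact Subring.sum_mem _ (fun l _ => Subring.mul_mem _ (hA i l) (hB l j))

theorem transvection_mem_pSub {p : ℕ} {i j : Fin r} {c : k⟦X⟧} (hc : c ∈ pSub (k := k) p) :
    ∀ a b, (transvection i j c) a b ∈ pSub (k := k) p := by
  intro a b
  rw [transvection, Matrix.add_apply]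
  apply Subring.add_mem
  · by_cases h : a = b
    · rw [h, Matrix.one_apply_eq]; exact Subring.one_mem _
    · rw [Matrix.one_apply_ne h]; exact Subring.zero_mem _
  · by_cases h : i = a ∧ j = b
    · rw [h.1, h.2, Matrix.single_apply_same]; exact hc
    · rw [Matrix.single_apply_of_ne i j c a b h]; exact Subring.zero_mem _

/-- the allowed operations -/
def Rel (p : ℕ) (H H' : Matrix (Fin r) (Fin r) k⟦X⟧) : Prop :=
  ∃ N P : Matrix (Fin r) (Fin r) k⟦X⟧, IsUnit N ∧ IsUnit P ∧ (∀ i j, P i j ∈ pSub (k := k) p) ∧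
    H' = N * H * P

theorem Rel.refl (p : ℕ) (H : Matrix (Fin r) (Fin r) k⟦X⟧) : Rel p H H :=
  ⟨1, 1, isUnit_one, isUnit_one, fun i j => by
    by_cases h : i = j
    · rw [h, Matrix.one_apply_eq]; exact Subring.one_mem _
    · rw [Matrix.one_apply_ne h]; exact Subring.zero_mem _, by simp⟩

theorem Rel.trans {p : ℕ} {H H' H'' : Matrix (Fin r) (Fin r) k⟦X⟧} (h : Rel p H H')
    (h' : Rel p H' H'') : Rel p H H'' := by
  obtain ⟨N, P, hN, hP, hPs, rfl⟩ := h
  obtain ⟨N', P', hN', hP', hPs', rfl⟩ := h'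
  exact ⟨N' * N, P * P', hN'.mul hN, hP.mul hP', mul_mem_pSub hPs hPs', by
    simp only [Matrix.mul_assoc]⟩

/-- triangular shape with prescribed diagonal -/
def Tri (e : Fin r → ℕ) (H : Matrix (Fin r) (Fin r) k⟦X⟧) : Prop :=
  (∀ i, H i i = X ^ e i) ∧ (∀ i j, j < i → H i j = 0)

/-- the condition on an entry above the diagonal -/
def Good (p : ℕ) (e : Fin r → ℕ) (H : Matrix (Fin r) (Fin r) k⟦X⟧) (i j : Fin r) : Prop :=
  ∀ n, (e j ≤ n ∨ (e i ≤ n ∧ n % p = e i % p)) → coeff n (H i j) = 0

/-- processing one entry -/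
theorem pair_step (p : ℕ) (e : Fin r → ℕ) (H : Matrix (Fin r) (Fin r) k⟦X⟧) (hH : Tri e H)
    (i j : Fin r) (hij : i < j) :
    ∃ H', Rel p H H' ∧ Tri e H' ∧ Good p e H' i j ∧
      ∀ a b, (b < j ∨ (b = j ∧ i < a)) → H' a b = H a b := by
  obtain ⟨hd, hl⟩ := hH
  have hne : i ≠ j := ne_of_lt hij
  -- the column operation
  let c : k⟦X⟧ := PowerSeries.mk (fun m => if p ∣ m then - coeff (m + e i) (H i j) else 0)
  have hc : c ∈ pSub (k := k) p := by
    intro n hn
    simp [c, hn]
  let H₁ := H * transvection i j c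
  have h1 : ∀ a b, H₁ a b = if b = j then H a j + c * H a i else H a b := by
    intro a b
    split_ifs with hb
    · rw [hb]; exact mul_transvection_apply_same i j a c H
    · exact mul_transvection_apply_of_ne i j a b hb c H
  obtain ⟨q, ρ, hq, hρ⟩ := exists_div_rem (H₁ i j) (e j)
  let H₂ := transvection i j (-q) * H₁
  have h2 : ∀ a b, H₂ a b = if a = i then H₁ i b + (-q) * H₁ j b else H₁ a b := by
    intro a b
    split_ifs with ha
    · rw [ha]; exact transvection_mul_apply_same i j b (-q) H₁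
    · exact transvection_mul_apply_of_ne i j a b ha (-q) H₁
  have hji : H j i = 0 := hl j i hij
  have e1 : H₁ i j = H i j + c * X ^ e i := by rw [h1, if_pos rfl, hd]
  have e1j : H₁ j j = X ^ e j := by rw [h1, if_pos rfl, hji, mul_zero, add_zero, hd]
  have e2 : H₂ i j = ρ := by
    rw [h2, if_pos rfl, e1j, hq]
    ring
  -- p-cleanness of H₁ i j
  have clean1 : ∀ n, e i ≤ n → n % p = e i % p → coeff n (H₁ i j) = 0 := by
    intro n hn hnp
    have hdvd : p ∣ n - e i := (Nat.modEq_iff_dvd' hn).mp hnp.symm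
    have hn' : n = (n - e i) + e i := by omega
    rw [e1, map_add]
    conv_lhs => rw [hn']
    rw [coeff_mul_X_pow, ← hn']
    simp only [c, coeff_mk, if_pos hdvd]
    rw [← hn']
    ring
  refine ⟨H₂, ?_, ⟨?_, ?_⟩, ?_, ?_⟩
  · refine ⟨transvection i j (-q), transvection i j c, ?_, ?_, transvection_mem_pSub hc, ?_⟩
    · exact (Matrix.isUnit_iff_isUnit_det _).mpr (by rw [det_transvection_of_ne i j hne]; exact isUnit_one)
    · exact (Matrix.isUnit_iff_isUnit_det _).mpr (by rw [det_transvection_of_ne i j hne]; exact isUnit_one)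
    · simp only [H₂, H₁, Matrix.mul_assoc]
  · -- diagonal
    intro a
    rw [h2]
    split_ifs with ha
    · rw [ha, h1, if_neg hne, h1, if_neg hne, hji, mul_zero, add_zero, hd]
    · rw [h1]
      split_ifs with haj
      · rw [haj, hji, mul_zero, add_zero, hd]
      · exact hd a
  · -- lower zero
    intro a b hba
    rw [h2]
    split_ifs with ha
    · rw [ha] at hba
      have hbi : b < i := hba
      have hbj : b ≠ j := ne_of_lt (lt_trans hbi hij)
      rw [h1, if_neg hbj, h1, if_neg hbj, hl i b hbi, hl j b (lt_trans hbi hij)]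
      ring
    · rw [h1]
      split_ifs with hb
      · rw [hb] at hba
        rw [hl a j hba, hl a i (lt_trans hij hba)]
        ring
      · exact hl a b hba
  · -- good
    intro n hn
    rw [e2]
    by_cases hej : e j ≤ n
    · exact hρ n hej
    · rcases hn with hn | ⟨hn1, hn2⟩
      · exact absurd hn hej
      · have : ρ = H₁ i j - q * X ^ e j := by rw [hq]; ring
        rw [this, map_sub, clean1 n hn1 hn2, coeff_mul_X_pow', if_neg hej, sub_zero]
  · -- unchanged entries
    intro a b hab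
    rw [h2]
    split_ifs with ha
    · rcases hab with hb | ⟨_, hia⟩
      · have hbj : b ≠ j := ne_of_lt hb
        rw [h1, if_neg hbj, h1, if_neg hbj, hl j b hb, ha]
        ring
      · exact absurd ha (ne_of_gt hia)
    · rw [h1]
      split_ifs with hb
      · rcases hab with hb' | ⟨_, hia⟩
        · exact absurd hb (ne_of_lt hb')
        · rw [hl a i hia, hb]
          ring
      · rfl

end Groth.Agent.Lib.helper22.HNF
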