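import Groth.Agent.Lib.Helper22.HNF4

set_option autoImplicit false
open PowerSeries Matrix

namespace Groth.Agent.Lib.helper22.HNF

variable {k : Type*} [Field k] {r : ℕ}

theorem Good.congr {p : ℕ} {e : Fin r → ℕ} {H H' : Matrix (Fin r) (Fin r) k⟦X⟧} {i j : Fin r}
    (h : Good p e H i j) (heq : H' i j = H i j) : Good p e H' i j := by
  intro n hn
  rw [heq]
  exact h n hn

/-- processing one column -/
theorem column_step (p : ℕ) (e : Fin r → ℕ) (H : Matrix (Fin r) (Fin r) k⟦X⟧) (hH : Tri e H)
    (j : Fin r) :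
    ∃ H', Rel p H H' ∧ Tri e H' ∧ (∀ i, i < j → Good p e H' i j) ∧
      ∀ a b, b < j → H' a b = H a b := by
  have key : ∀ d m : ℕ, m + d = j.val → ∃ H', Rel p H H' ∧ Tri e H' ∧
      (∀ i : Fin r, m ≤ i.val → i < j → Good p e H' i j) ∧ ∀ a b, b < j → H' a b = H a b := by
    intro d
    induction d with
    | zero =>
      intro m hm
      refine ⟨H, Rel.refl p H, hH, ?_, fun _ _ _ => rfl⟩
      intro i hmi hij
      exfalso
      have : i.val < j.val := hij
      omega
    | succ d ih =>
      intro m hm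
      obtain ⟨H', hrel, htri, hgood, hunch⟩ := ih (m + 1) (by omega)
      have hmr : m < r := by have := j.isLt; omega
      have hmj : (⟨m, hmr⟩ : Fin r) < j := by
        rw [Fin.lt_def]
        simp only
        omega
      obtain ⟨H'', hrel', htri', hgood', hunch'⟩ := pair_step p e H' htri ⟨m, hmr⟩ j hmj
      refine ⟨H'', hrel.trans hrel', htri', ?_, ?_⟩
      · intro i hmi hij
        by_cases him : i.val = m
        · have : i = ⟨m, hmr⟩ := Fin.ext him
          rw [this]
          exact hgood'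
        · have hlt : (⟨m, hmr⟩ : Fin r) < i := by
            rw [Fin.lt_def]
            simp only
            omega
          exact (hgood i (by omega) hij).congr (hunch' i j (Or.inr ⟨rfl, hlt⟩))
      · intro a b hb
        rw [hunch' a b (Or.inl hb), hunch a b hb]
  obtain ⟨H', hrel, htri, hgood, hunch⟩ := key j.val 0 (by omega)
  exact ⟨H', hrel, htri, fun i hij => hgood i (Nat.zero_le _) hij, hunch⟩

/-- processing all columns -/
theorem all_columns (p : ℕ) (e : Fin r → ℕ) (H : Matrix (Fin r) (Fin r) k⟦X⟧) (hH : Tri e H) :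
    ∃ H', Rel p H H' ∧ Tri e H' ∧ ∀ i j, i < j → Good p e H' i j := by
  have key : ∀ m : ℕ, ∃ H', Rel p H H' ∧ Tri e H' ∧
      ∀ i j : Fin r, j.val < m → i < j → Good p e H' i j := by
    intro m
    induction m with
    | zero =>
      exact ⟨H, Rel.refl p H, hH, fun i j hj => absurd hj (Nat.not_lt_zero _)⟩
    | succ m ih =>
      obtain ⟨H', hrel, htri, hgood⟩ := ih
      by_cases hmr : m < r
      · obtain ⟨H'', hrel', htri', hgood', hunch'⟩ := column_step p e H' htri ⟨m, hmr⟩
        refine ⟨H'', hrel.trans hrel', htri', ?_⟩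
        intro i j hj hij
        by_cases hjm : j.val = m
        · have : j = ⟨m, hmr⟩ := Fin.ext hjm
          rw [this] at hij ⊢
          exact hgood' i hij
        · have hlt : j < (⟨m, hmr⟩ : Fin r) := by
            rw [Fin.lt_def]
            simp only
            omega
          exact (hgood i j (by omega) hij).congr (hunch' i j hlt)
      · refine ⟨H', hrel, htri, ?_⟩
        intro i j hj hij
        exact hgood i j (by have := j.isLt; omega) hij
  obtain ⟨H', hrel, htri, hgood⟩ := key r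
  exact ⟨H', hrel, htri, fun i j hij => hgood i j j.isLt hij⟩

theorem exists_reduction_pthPower_columns (p : ℕ) (M : Matrix (Fin r) (Fin r) k⟦X⟧)
    (hM : M.det ≠ 0) :
    ∃ (N P : Matrix (Fin r) (Fin r) k⟦X⟧) (e : Fin r → ℕ), IsUnit N ∧ IsUnit P ∧
      (∀ i j n, ¬ p ∣ n → coeff n (P i j) = 0) ∧
      (∀ i, (N * M * P) i i = X ^ e i) ∧ (∀ i j, j < i → (N * M * P) i j = 0) ∧
      (∀ i j, i < j → ∀ n, (e j ≤ n ∨ (e i ≤ n ∧ n % p = e i % p)) →
        coeff n ((N * M * P) i j) = 0) := by
  obtain ⟨H, ⟨e, hd, hl, -⟩, N₀, hN₀, hNM⟩ := exists_hnf M hM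
  obtain ⟨H', ⟨N, P, hN, hP, hPs, hH'⟩, ⟨hd', hl'⟩, hgood⟩ := all_columns p e H ⟨hd, hl⟩
  have heq : N * N₀ * M * P = H' := by
    rw [hH', ← hNM]
    simp only [Matrix.mul_assoc]
  refine ⟨N * N₀, P, e, hN.mul hN₀, hP, ?_, ?_, ?_, ?_⟩
  · intro i j n hn
    exact hPs i j n hn
  · intro i
    rw [heq]
    exact hd' i
  · intro i j hji
    rw [heq]
    exact hl' i j hji
  · intro i j hij n hn
    rw [heq]
    exact hgood i j hij n hn

end Groth.Agent.Lib.helper22.HNF
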