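import Mathlib

/-!
# Two ternary polynomials vanishing at the origin have a common nonzero zero (over ℂ)

Proof: Krull's height theorem + Nullstellensatz.
-/

set_option autoImplicit false

namespace Groth.Agent.Lib.Helper22.Hesse1
open MvPolynomial

/-- the substitution killing the first `k` variables -/
noncomputable def kill (k : ℕ) : MvPolynomial (Fin 3) ℂ →ₐ[ℂ] MvPolynomial (Fin 3) ℂ :=
  aeval (fun i : Fin 3 => if (i : ℕ) < k then (0 : MvPolynomial (Fin 3) ℂ) else X i)

theorem kill_X (k : ℕ) (i : Fin 3) :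
    kill k (X i) = if (i : ℕ) < k then (0 : MvPolynomial (Fin 3) ℂ) else X i := by
  unfold kill
  rw [aeval_X]

theorem kill_comp (k : ℕ) (p : MvPolynomial (Fin 3) ℂ) :
    kill (k + 1) (kill k p) = kill (k + 1) p := by
  have h : (kill (k + 1)).comp (kill k) = kill (k + 1) := by
    apply MvPolynomial.algHom_ext
    intro i
    rw [AlgHom.comp_apply, kill_X k i]
    by_cases h : (i : ℕ) < k
    · rw [if_pos h, map_zero, kill_X, if_pos (by omega)]
    · rw [if_neg h]
  exact congrArg (fun φ : MvPolynomial (Fin 3) ℂ →ₐ[ℂ] MvPolynomial (Fin 3) ℂ => φ p) h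

theorem ker_lt (k : ℕ) (hk : k < 3) :
    RingHom.ker (kill k) < RingHom.ker (kill (k + 1)) := by
  rw [SetLike.lt_iff_le_and_exists]
  refine ⟨fun p hp => ?_, X ⟨k, hk⟩, ?_, ?_⟩
  · rw [RingHom.mem_ker] at hp ⊢
    rw [← kill_comp, hp, map_zero]
  · rw [RingHom.mem_ker, kill_X, if_pos (by simp)]
  · rw [RingHom.mem_ker, kill_X, if_neg (by simp)]
    exact X_ne_zero _

theorem height_ge (M : Ideal (MvPolynomial (Fin 3) ℂ)) (hM : RingHom.ker (kill 3) ≤ M) :
    (3 : ℕ∞) ≤ M.height := by
  have i0 : (RingHom.ker (kill 0)).IsPrime := RingHom.ker_isPrime _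
  have i1 : (RingHom.ker (kill 1)).IsPrime := RingHom.ker_isPrime _
  have i2 : (RingHom.ker (kill 2)).IsPrime := RingHom.ker_isPrime _
  have l0 := Ideal.height_strict_mono_of_isPrime (ker_lt 0 (by norm_num))
  have l1 := Ideal.height_strict_mono_of_isPrime (ker_lt 1 (by norm_num))
  have l2 := Ideal.height_strict_mono_of_isPrime (ker_lt 2 (by norm_num))
  have l3 := Ideal.height_mono hM
  have h1 : (1 : ℕ∞) ≤ (RingHom.ker (kill (0 + 1))).height :=
    le_trans le_add_self (Order.add_one_le_of_lt l0)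
  have h2 : (2 : ℕ∞) ≤ (RingHom.ker (kill (1 + 1))).height := by
    refine le_trans ?_ (Order.add_one_le_of_lt l1)
    rw [← one_add_one_eq_two]
    exact add_le_add h1 le_rfl
  have h3 : (3 : ℕ∞) ≤ (RingHom.ker (kill (2 + 1))).height := by
    refine le_trans ?_ (Order.add_one_le_of_lt l2)
    rw [← two_add_one_eq_three]
    exact add_le_add h2 le_rfl
  exact h3.trans l3

theorem common_zero (F G : MvPolynomial (Fin 3) ℂ) (hF : eval 0 F = 0) (hG : eval 0 G = 0) :
    ∃ a : Fin 3 → ℂ, a ≠ 0 ∧ eval a F = 0 ∧ eval a G = 0 := by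
  classical
  by_contra hcon
  push Not at hcon
  set M : Ideal (MvPolynomial (Fin 3) ℂ) := RingHom.ker (eval (0 : Fin 3 → ℂ)) with hM
  have hMp : M.IsPrime := RingHom.ker_isPrime _
  have hFM : F ∈ M := hF
  have hGM : G ∈ M := hG
  have hmin : M ∈ (Ideal.span ((({F, G} : Finset (MvPolynomial (Fin 3) ℂ)) :
      Set (MvPolynomial (Fin 3) ℂ)))).minimalPrimes := by
    refine ⟨⟨hMp, ?_⟩, ?_⟩
    · rw [Ideal.span_le]
      intro p hp
      simp only [Finset.coe_insert, Finset.coe_singleton, Set.mem_insert_iff,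
        Set.mem_singleton_iff] at hp
      rcases hp with rfl | rfl
      · exact hFM
      · exact hGM
    · rintro q ⟨hq, hIq⟩ -
      intro p hp
      have hFq : F ∈ q := hIq (Ideal.subset_span (by simp))
      have hGq : G ∈ q := hIq (Ideal.subset_span (by simp))
      have hN := MvPolynomial.IsPrime.vanishingIdeal_zeroLocus (k := ℂ) (K := ℂ) q
      rw [← hN, MvPolynomial.mem_vanishingIdeal_iff]
      intro x hx
      have hxF : eval x F = 0 := hx F hFq
      have hxG : eval x G = 0 := hx G hGq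
      have hx0 : x = 0 := by
        by_contra hne
        exact hcon x hne hxF hxG
      rw [hx0]
      exact hp
  have h2 := Ideal.height_le_card_of_mem_minimalPrimes_span_finset hmin
  have h3 := height_ge M (fun p hp => by
    rw [RingHom.mem_ker] at hp
    have hc : (aeval (0 : Fin 3 → ℂ)).comp (kill 3) = aeval (0 : Fin 3 → ℂ) := by
      apply MvPolynomial.algHom_ext
      intro i
      rw [AlgHom.comp_apply, kill_X, if_pos i.isLt, map_zero, aeval_X]
      rfl
    have h4 := congrArg (fun φ : MvPolynomial (Fin 3) ℂ →ₐ[ℂ] ℂ => φ p) hc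
    simp only [AlgHom.comp_apply, hp, map_zero] at h4
    rw [hM, RingHom.mem_ker]
    exact h4.symm)
  have h5 : ((3 : ℕ) : ℕ∞) ≤ ((2 : ℕ) : ℕ∞) := by
    refine (h3.trans h2).trans ?_
    exact_mod_cast Finset.card_le_two
  exact absurd (Nat.cast_le.mp h5) (by norm_num)

end Groth.Agent.Lib.Helper22.Hesse1
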