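import Mathlib
import Groth.Agent.S18406
import Groth.Agent.Lib.Helper22.Hesse1

/-!
# Existence of two distinct flexes on a smooth plane cubic over ℂ
-/

set_option autoImplicit false

namespace Groth.Agent.Lib.Helper22.Hesse2
open MvPolynomial
open Groth.Agent.S18406

theorem pderiv_comm (i j : Fin 3) (p : MvPolynomial (Fin 3) ℂ) :
    pderiv i (pderiv j p) = pderiv j (pderiv i p) := by
  induction p using MvPolynomial.induction_on with
  | C a => simp
  | add p q hp hq => simp only [map_add, hp, hq]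
  | mul_X p k hp =>
    have hc : ∀ a b : Fin 3, pderiv a (pderiv b (X k : MvPolynomial (Fin 3) ℂ)) = 0 := by
      intro a b
      rw [pderiv_X, Pi.single_apply]
      split_ifs <;> simp
    simp only [pderiv_mul, map_add, hc, hp]
    ring

theorem euler2 (f : MvPolynomial (Fin 3) ℂ) (hf : f.IsHomogeneous 3) (a : Fin 3 → ℂ) (i : Fin 3) :
    ∑ j, a j * eval a (pderiv j (pderiv i f)) = 2 * eval a (pderiv i f) := by
  have h := (hf.pderiv (i := i)).sum_X_mul_pderiv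
  have h2 := congrArg (eval a) h
  simp only [map_sum, map_mul, eval_X, map_nsmul] at h2
  rw [h2, nsmul_eq_mul]
  norm_num

theorem flex_of_hessian (f : MvPolynomial (Fin 3) ℂ) (hf : f.IsHomogeneous 3) (a : Fin 3 → ℂ)
    (ha : a ≠ 0) (hfa : eval a f = 0) (hsm : ∃ i, eval a (pderiv i f) ≠ 0)
    (hdet : (Matrix.of fun i j : Fin 3 => eval a (pderiv j (pderiv i f))).det = 0) :
    ∃ w : Fin 3 → ℂ, LinearIndependent ℂ ![a, w] ∧
      ∀ t : ℂ, eval (a + t • w) f = t ^ 3 * eval w f := by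
  obtain ⟨u, hu0, hu⟩ := Matrix.exists_mulVec_eq_zero_iff.mpr hdet
  have hrow : ∀ i, ∑ j, eval a (pderiv j (pderiv i f)) * u j = 0 := fun i => by
    have := congrFun hu i
    simpa [Matrix.mulVec, dotProduct] using this
  have hhess : ∀ v, hess f a u v = 0 := by
    intro v
    unfold hess
    apply Finset.sum_eq_zero
    intro i _
    rw [← Finset.sum_mul, hrow i, zero_mul]
  have h2 : hess f a u a = 2 * dd f a u := by
    unfold hess dd
    rw [Finset.sum_comm, Finset.mul_sum]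
    refine Finset.sum_congr rfl fun j _ => ?_
    have he := euler2 f hf a j
    calc ∑ i, eval a (pderiv j (pderiv i f)) * u j * a i
        = (∑ i, a i * eval a (pderiv i (pderiv j f))) * u j := by
          rw [Finset.sum_mul]
          refine Finset.sum_congr rfl fun i _ => ?_
          rw [pderiv_comm j i f]; ring
      _ = 2 * (eval a (pderiv j f) * u j) := by rw [he]; ring
  have hdu : dd f a u = 0 := by
    have h1 := hhess a
    rw [h2] at h1
    linear_combination (1 / 2 : ℂ) * h1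
  refine ⟨u, ?_, ?_⟩
  · rw [LinearIndependent.pair_iff]
    intro s t hst
    by_cases ht : t = 0
    · subst ht
      rw [zero_smul, add_zero] at hst
      exact ⟨(smul_eq_zero.mp hst).resolve_right ha, rfl⟩
    · exfalso
      have hu' : u = (-s / t) • a := by
        have h' : t • u = -(s • a) := eq_neg_of_add_eq_zero_right hst
        calc u = t⁻¹ • (t • u) := by rw [smul_smul, inv_mul_cancel₀ ht, one_smul]
          _ = t⁻¹ • (-(s • a)) := by rw [h']
          _ = (-s / t) • a := by rw [div_eq_inv_mul, mul_smul, neg_smul]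
      obtain ⟨c, hc⟩ : ∃ c : ℂ, c = -s / t := ⟨_, rfl⟩
      rw [← hc] at hu'
      have hc0 : c ≠ 0 := by
        intro h0
        apply hu0
        rw [hu', h0, zero_smul]
      obtain ⟨i, hi⟩ := hsm
      apply hi
      have h3 := hrow i
      rw [hu'] at h3
      have h4 : ∑ j, eval a (pderiv j (pderiv i f)) * (c • a) j
          = c * (2 * eval a (pderiv i f)) := by
        rw [← euler2 f hf a i, Finset.mul_sum]
        refine Finset.sum_congr rfl fun j _ => ?_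
        simp only [Pi.smul_apply, smul_eq_mul]; ring
      rw [h4] at h3
      have h5 := (mul_eq_zero.mp h3).resolve_left hc0
      linear_combination (1 / 2 : ℂ) * h5
  · intro t
    have hc2 : (lineP f a u).coeff 2 = 0 := by
      have := two_coeff_two f a u
      rw [hhess u] at this
      linear_combination (1 / 2 : ℂ) * this
    rw [← lineP_eval, lineP_expand f hf a u t, coeff_zero, coeff_one, lineP_coeff_three f hf a u,
      hfa, hdu, hc2]
    ring

theorem exists_flex (f : MvPolynomial (Fin 3) ℂ) (hf : f.IsHomogeneous 3)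
    (hsm : ∀ v : Fin 3 → ℂ, v ≠ 0 → eval v f = 0 → ∃ i : Fin 3, eval v (pderiv i f) ≠ 0) :
    ∃ v : Fin 3 → ℂ, v ≠ 0 ∧ eval v f = 0 ∧
      ∃ w : Fin 3 → ℂ, LinearIndependent ℂ ![v, w] ∧
        ∀ t : ℂ, eval (v + t • w) f = t ^ 3 * eval w f := by
  obtain ⟨H, hH⟩ : ∃ H : MvPolynomial (Fin 3) ℂ,
      H = (Matrix.of fun i j : Fin 3 => pderiv j (pderiv i f)).det := ⟨_, rfl⟩
  have hev : ∀ a : Fin 3 → ℂ, eval a H =
      (Matrix.of fun i j : Fin 3 => eval a (pderiv j (pderiv i f))).det := by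
    intro a
    rw [hH, RingHom.map_det]
    rfl
  have h0 : ∀ (n : ℕ) (g : MvPolynomial (Fin 3) ℂ), g.IsHomogeneous (n + 1) →
      eval 0 g = 0 := by
    intro n g hg
    have := Groth.Agent.S12424.eval_smul_of_homog hg (0 : ℂ) (0 : Fin 3 → ℂ)
    rw [smul_zero] at this
    rw [this]; ring
  have hf0 : eval 0 f = 0 := h0 2 f hf
  have hH0 : eval 0 H = 0 := by
    rw [hev]
    have hz : (Matrix.of fun i j : Fin 3 => eval (0 : Fin 3 → ℂ) (pderiv j (pderiv i f))) = 0 := by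
      ext i j
      simp only [Matrix.of_apply, Matrix.zero_apply]
      have hh : (pderiv j (pderiv i f)).IsHomogeneous 1 := hf.pderiv.pderiv
      exact h0 0 _ hh
    rw [hz, Matrix.det_zero]
  obtain ⟨a, ha, hfa, hHa⟩ := Groth.Agent.Lib.Helper22.Hesse1.common_zero f H hf0 hH0
  rw [hev] at hHa
  exact ⟨a, ha, hfa, flex_of_hessian f hf a ha hfa (hsm a ha hfa) hHa⟩

/-- independence of three vectors from a functional -/
theorem indep3 (D : (Fin 3 → ℂ) →ₗ[ℂ] ℂ) (v w z : Fin 3 → ℂ) (hDv : D v = 0) (hDw : D w = 0)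
    (hDz : D z ≠ 0) (hind : ∀ a b : ℂ, a • v + b • w = 0 → a = 0 ∧ b = 0)
    (a b c : ℂ) (h : a • v + b • w + c • z = 0) : a = 0 ∧ b = 0 ∧ c = 0 := by
  have hc : c = 0 := by
    have := congrArg D h
    simp only [map_add, map_smul, hDv, hDw, map_zero, smul_eq_mul, mul_zero, zero_add] at this
    exact (mul_eq_zero.mp this).resolve_right hDz
  rw [hc, zero_smul, add_zero] at h
  obtain ⟨h0, h1⟩ := hind _ _ h
  exact ⟨h0, h1, hc⟩

theorem exists_root_quartic (c0 c1 c2 c3 c4 : ℂ) (h4 : c4 ≠ 0) :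
    ∃ x : ℂ, c4 * x ^ 4 + c3 * x ^ 3 + c2 * x ^ 2 + c1 * x + c0 = 0 := by
  obtain ⟨P, hP⟩ : ∃ P : Polynomial ℂ, P = Polynomial.C c4 * Polynomial.X ^ 4
    + Polynomial.C c3 * Polynomial.X ^ 3
    + Polynomial.C c2 * Polynomial.X ^ 2 + Polynomial.C c1 * Polynomial.X + Polynomial.C c0 :=
    ⟨_, rfl⟩
  have hcoeff : P.coeff 4 = c4 := by
    rw [hP]
    simp [Polynomial.coeff_X_pow, Polynomial.coeff_C_mul]
  have hdeg : P.degree ≠ 0 := by
    intro h
    have h1 := Polynomial.eq_C_of_degree_eq_zero h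
    have h2 : P.coeff 4 = 0 := by
      conv_lhs => rw [h1]
      simp
    exact h4 (hcoeff.symm.trans h2)
  obtain ⟨x, hx⟩ := IsAlgClosed.exists_root P hdeg
  refine ⟨x, ?_⟩
  have h5 := hx
  rw [Polynomial.IsRoot.def, hP] at h5
  simpa using h5

theorem second_flex (f : MvPolynomial (Fin 3) ℂ) (hf : f.IsHomogeneous 3)
    (hsm : ∀ v : Fin 3 → ℂ, v ≠ 0 → eval v f = 0 → ∃ i : Fin 3, eval v (pderiv i f) ≠ 0)
    (v : Fin 3 → ℂ) (hv : v ≠ 0) (hfv : eval v f = 0)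
    (hflex : ∃ w : Fin 3 → ℂ, LinearIndependent ℂ ![v, w] ∧
      ∀ t : ℂ, eval (v + t • w) f = t ^ 3 * eval w f) :
    ∃ v' : Fin 3 → ℂ, v' ≠ 0 ∧ v' ∉ Submodule.span ℂ {v} ∧ eval v' f = 0 ∧
      ∃ w' : Fin 3 → ℂ, LinearIndependent ℂ ![v', w'] ∧
        ∀ t : ℂ, eval (v' + t • w') f = t ^ 3 * eval w' f := by
  obtain ⟨μ, hμ1, hμ2⟩ := exists_mu3 f hf hsm v hv hfv hflex
  obtain ⟨w₁, hli, hw₁⟩ := hflex
  have hind₁ := LinearIndependent.pair_iff.mp hli
  have hde : dd f v v = 0 := dd_self f hf v hfv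
  have hdw₁ : dd f v w₁ = 0 := by
    rw [dd_of_fun f v w₁ (Polynomial.C (eval w₁ f) * Polynomial.X ^ 3) (fun t => by
      rw [hw₁]; simp; ring)]
    simp
  -- adapted vectors
  obtain ⟨w, hw⟩ : ∃ w : Fin 3 → ℂ, w = w₁ - (μ w₁ / 2) • v := ⟨_, rfl⟩
  have hμw : μ w = 0 := by rw [hw, map_sub, map_smul, hμ2, smul_eq_mul]; ring
  have hdw : dd f v w = 0 := by
    rw [hw, sub_eq_add_neg, ← neg_smul, dd_add, dd_smul, hdw₁, hde]; ring
  have hind : ∀ a b : ℂ, a • v + b • w = 0 → a = 0 ∧ b = 0 := by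
    intro a b h
    have h' : (a - b * (μ w₁ / 2)) • v + b • w₁ = 0 := by
      rw [← h, hw]; module
    obtain ⟨h1, h2⟩ := hind₁ _ _ h'
    rw [h2, zero_mul, sub_zero] at h1
    exact ⟨h1, h2⟩
  obtain ⟨i₀, hi₀⟩ := hsm v hv hfv
  obtain ⟨v₀, hv₀⟩ : ∃ v₀ : Fin 3 → ℂ, v₀ = (eval v (pderiv i₀ f))⁻¹ • Pi.single i₀ 1 := ⟨_, rfl⟩
  have hdv₀ : dd f v v₀ = 1 := by rw [hv₀, dd_smul, dd_single, inv_mul_cancel₀ hi₀]
  obtain ⟨z, hz⟩ : ∃ z : Fin 3 → ℂ, z = v₀ - (μ v₀ / 2) • v := ⟨_, rfl⟩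
  have hμz : μ z = 0 := by rw [hz, map_sub, map_smul, hμ2, smul_eq_mul]; ring
  have hdz : dd f v z = 1 := by
    rw [hz, sub_eq_add_neg, ← neg_smul, dd_add, dd_smul, hdv₀, hde]; ring
  -- Weierstrass formula
  have hW : ∀ a b c : ℂ, eval (b • w + c • z + a • v) f = eval (b • w + c • z) f + a ^ 2 * c := by
    intro a b c
    have hμu : μ (b • w + c • z) = 0 := by
      rw [map_add, map_smul, map_smul, hμw, hμz]; simp
    have hdu : dd f v (b • w + c • z) = c := by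
      rw [dd_add, dd_smul, dd_smul, hdw, hdz]; ring
    rw [expand_e f hf v _ hfv a, hμ1, hμu, hdu]; ring
  have hq3 : eval w f ≠ 0 := by
    intro h0
    apply no_line f hf hsm v w hind
    intro a b
    have h1 := hW a b 0
    rw [zero_smul, add_zero] at h1
    rw [add_comm, h1, Groth.Agent.S12424.eval_smul_of_homog hf, h0]; ring
  have hDz : (ddL f v) z ≠ 0 := by rw [ddL_apply, hdz]; exact one_ne_zero
  have hbasis := indep3 (ddL f v) v w z hde hdw hDz hind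
  have hspan := span3 (ddL f v) v w z hde hdw hDz hind
  -- the cubic in one variable
  obtain ⟨q0, hq0⟩ : ∃ q : ℂ, q = (lineP f z w).coeff 0 := ⟨_, rfl⟩
  obtain ⟨q1, hq1⟩ : ∃ q : ℂ, q = (lineP f z w).coeff 1 := ⟨_, rfl⟩
  obtain ⟨q2, hq2⟩ : ∃ q : ℂ, q = (lineP f z w).coeff 2 := ⟨_, rfl⟩
  obtain ⟨q3, hq3'⟩ : ∃ q : ℂ, q = (lineP f z w).coeff 3 := ⟨_, rfl⟩
  have hq3e : q3 = eval w f := by rw [hq3', lineP_coeff_three f hf z w]
  have hQ : ∀ x : ℂ, eval (z + x • w) f = q0 + q1 * x + q2 * x ^ 2 + q3 * x ^ 3 := by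
    intro x
    rw [← lineP_eval, lineP_expand f hf z w x, hq0, hq1, hq2, hq3']
  have hq3ne : q3 ≠ 0 := by rw [hq3e]; exact hq3
  obtain ⟨x₀, hx₀⟩ := exists_root_quartic (q1 ^ 2 - 4 * q0 * q2) (-12 * q0 * q3) (-6 * q1 * q3)
    (-4 * q2 * q3) (-3 * q3 ^ 2) (by
      intro h
      have : q3 ^ 2 = 0 := by linear_combination (-1 / 3 : ℂ) * h
      exact hq3ne (pow_eq_zero_iff (two_ne_zero) |>.mp this))
  have hΨ : (q1 + 2 * q2 * x₀ + 3 * q3 * x₀ ^ 2) ^ 2
      - 4 * (q0 + q1 * x₀ + q2 * x₀ ^ 2 + q3 * x₀ ^ 3) * (q2 + 3 * q3 * x₀) = 0 := by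
    linear_combination hx₀
  obtain ⟨y₀, hy₀⟩ := IsAlgClosed.exists_pow_nat_eq (-(q0 + q1 * x₀ + q2 * x₀ ^ 2 + q3 * x₀ ^ 3))
    (n := 2) (by norm_num)
  have hy₀ne : y₀ ≠ 0 := by
    intro h0
    have hQ0 : q0 + q1 * x₀ + q2 * x₀ ^ 2 + q3 * x₀ ^ 3 = 0 := by
      rw [h0] at hy₀; linear_combination hy₀
    have hQ'0 : q1 + 2 * q2 * x₀ + 3 * q3 * x₀ ^ 2 = 0 := by
      rw [hQ0] at hΨ
      have h1 : (q1 + 2 * q2 * x₀ + 3 * q3 * x₀ ^ 2) ^ 2 = 0 := by linear_combination hΨ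
      exact pow_eq_zero_iff (two_ne_zero) |>.mp h1
    obtain ⟨P₀, hP₀⟩ : ∃ P₀ : Fin 3 → ℂ, P₀ = z + x₀ • w := ⟨_, rfl⟩
    have hfP : eval P₀ f = 0 := by rw [hP₀, hQ, hQ0]
    have hP0 : P₀ ≠ 0 := by
      intro h
      have h1 := hbasis 0 x₀ 1 (by rw [zero_smul, zero_add, one_smul, add_comm, ← hP₀]; exact h)
      exact one_ne_zero h1.2.2
    obtain ⟨i, hi⟩ := hsm P₀ hP0 hfP
    apply hi
    rw [← dd_single]
    obtain ⟨a, b, c, habc⟩ := hspan (Pi.single i 1)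
    have d1 : dd f P₀ v = 0 := by
      rw [dd_of_fun f P₀ v (Polynomial.X ^ 2) (fun t => by
        have e : P₀ + t • v = x₀ • w + (1 : ℂ) • z + t • v := by rw [hP₀]; module
        rw [e, hW, one_smul, add_comm (x₀ • w) z, hQ, hQ0]
        simp)]
      simp
    have d2 : dd f P₀ w = 0 := by
      rw [dd_of_fun f P₀ w (Polynomial.C (q2 + 3 * q3 * x₀) * Polynomial.X ^ 2
        + Polynomial.C q3 * Polynomial.X ^ 3) (fun t => by
        have e : P₀ + t • w = z + (x₀ + t) • w := by rw [hP₀]; module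
        rw [e, hQ]
        simp only [Polynomial.eval_add, Polynomial.eval_mul, Polynomial.eval_C, Polynomial.eval_pow,
          Polynomial.eval_X]
        linear_combination hQ0 + t * hQ'0)]
      simp
    have d3 : dd f P₀ z = 0 := by
      have h1 := dd_self f hf P₀ hfP
      rw [hP₀] at h1
      rw [dd_add, dd_smul, ← hP₀, d2] at h1
      linear_combination h1
    rw [habc, dd_add, dd_add, dd_smul, dd_smul, dd_smul, d1, d2, d3]
    ring
  -- the new flex
  obtain ⟨lam, hlam⟩ : ∃ lam : ℂ, 2 * y₀ * lam = -(q1 + 2 * q2 * x₀ + 3 * q3 * x₀ ^ 2) :=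
    ⟨-(q1 + 2 * q2 * x₀ + 3 * q3 * x₀ ^ 2) / (2 * y₀), by field_simp⟩
  have h3 : lam ^ 2 + q2 + 3 * q3 * x₀ = 0 := by
    have h4 : 4 * y₀ ^ 2 * (lam ^ 2 + q2 + 3 * q3 * x₀) = 0 := by
      linear_combination (2 * y₀ * lam - (q1 + 2 * q2 * x₀ + 3 * q3 * x₀ ^ 2)) * hlam
        + 4 * (q2 + 3 * q3 * x₀) * hy₀ + hΨ
    have h5 : (4 : ℂ) * y₀ ^ 2 ≠ 0 := mul_ne_zero (by norm_num) (pow_ne_zero _ hy₀ne)
    exact (mul_eq_zero.mp h4).resolve_left h5
  obtain ⟨v', hv'⟩ : ∃ v' : Fin 3 → ℂ, v' = z + x₀ • w + y₀ • v := ⟨_, rfl⟩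
  obtain ⟨w', hw'⟩ : ∃ w' : Fin 3 → ℂ, w' = w + lam • v := ⟨_, rfl⟩
  have hfw' : eval w' f = q3 := by
    have h1 := hW lam 1 0
    rw [one_smul, zero_smul, add_zero] at h1
    rw [hw', h1, hq3e]; ring
  have hflex' : ∀ t : ℂ, eval (v' + t • w') f = t ^ 3 * eval w' f := by
    intro t
    have e : v' + t • w' = (x₀ + t) • w + (1 : ℂ) • z + (y₀ + t * lam) • v := by
      rw [hv', hw']; module
    rw [e, hW, one_smul, add_comm ((x₀ + t) • w) z, hQ, hfw']
    linear_combination (1 : ℂ) * hy₀ + t * hlam + t ^ 2 * h3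
  have hv'span : v' ∉ Submodule.span ℂ {v} := by
    intro h
    obtain ⟨k, hk⟩ := Submodule.mem_span_singleton.mp h
    have h1 := hbasis (y₀ - k) x₀ 1 (by rw [sub_smul, hk, hv']; module)
    exact one_ne_zero h1.2.2
  refine ⟨v', ?_, hv'span, ?_, w', ?_, hflex'⟩
  · rintro rfl
    exact hv'span (Submodule.zero_mem _)
  · have h1 := hflex' 0
    rw [zero_smul, add_zero] at h1
    rw [h1]; ring
  · rw [LinearIndependent.pair_iff]
    intro s r hsr
    have h1 := hbasis (s * y₀ + r * lam) (s * x₀ + r) s (by rw [← hsr, hv', hw']; module)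
    have hs : s = 0 := h1.2.2
    have hr : r = 0 := by
      have := h1.2.1
      rw [hs] at this
      linear_combination this
    exact ⟨hs, hr⟩

end Groth.Agent.Lib.Helper22.Hesse2
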