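import Mathlib
import Groth.Agent.Lib.Helper22.Hesse2

/-!
# Hesse coordinates for a smooth plane cubic over ℂ (function level)
-/

set_option autoImplicit false

namespace Groth.Agent.Lib.Helper22.Hesse3
open MvPolynomial
open Groth.Agent.S18406 Groth.Agent.Lib.Helper22.Hesse2

theorem dd_invariant (f : MvPolynomial (Fin 3) ℂ) (B : Matrix (Fin 3) (Fin 3) ℂ)
    (hB : ∀ u, eval (B.mulVec u) f = eval u f) (p q : Fin 3 → ℂ) :
    dd f (B.mulVec p) (B.mulVec q) = dd f p q := by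
  rw [dd_eq, dd_eq]
  have : lineP f (B.mulVec p) (B.mulVec q) = lineP f p q := by
    apply Polynomial.funext
    intro t
    rw [lineP_eval, lineP_eval, ← Matrix.mulVec_smul, ← Matrix.mulVec_add, hB]
  rw [this]

theorem dd_base_smul (f : MvPolynomial (Fin 3) ℂ) (hf : f.IsHomogeneous 3) (c : ℂ)
    (p q : Fin 3 → ℂ) : dd f (c • p) q = c ^ 2 * dd f p q := by
  unfold dd
  rw [Finset.mul_sum]
  refine Finset.sum_congr rfl fun i _ => ?_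
  rw [Groth.Agent.S12424.eval_smul_of_homog (hf.pderiv (i := i))]
  ring

theorem dd_eq_hess (f : MvPolynomial (Fin 3) ℂ) (hf : f.IsHomogeneous 3) (p y : Fin 3 → ℂ) :
    dd f y p = hess f p y y / 2 := by
  rw [← coeff_one, coeff_rev f 3 hf y p 1 (by norm_num), ← two_coeff_two]
  have : (3 : ℕ) - 1 = 2 := rfl
  rw [this]; ring

theorem expand_gen (f : MvPolynomial (Fin 3) ℂ) (hf : f.IsHomogeneous 3) (y p : Fin 3 → ℂ)
    (x : ℂ) :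
    eval (y + x • p) f = eval y f + dd f y p * x + dd f p y * x ^ 2 + eval p f * x ^ 3 := by
  have c2 : (lineP f y p).coeff 2 = dd f p y := by
    rw [coeff_rev f 3 hf y p 2 (by norm_num)]
    have : (3 : ℕ) - 2 = 1 := rfl
    rw [this, coeff_one]
  rw [← lineP_eval, lineP_expand f hf y p x, coeff_zero, coeff_one, c2, lineP_coeff_three f hf y p]


theorem hesse_pre (f : MvPolynomial (Fin 3) ℂ) (hf : f.IsHomogeneous 3)
    (hsm : ∀ v : Fin 3 → ℂ, v ≠ 0 → eval v f = 0 → ∃ i : Fin 3, eval v (pderiv i f) ≠ 0) :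
    ∃ (u₀ u₁ u₂ : Fin 3 → ℂ) (α β δ : ℂ), α ≠ 0 ∧ β ≠ 0 ∧
      (∀ x₀ x₁ x₂ : ℂ, x₀ • u₀ + x₁ • u₁ + x₂ • u₂ = 0 → x₀ = 0 ∧ x₁ = 0 ∧ x₂ = 0) ∧
      ∀ x₀ x₁ x₂ : ℂ, eval (x₀ • u₀ + x₁ • u₁ + x₂ • u₂) f
        = α * x₀ ^ 3 + β * (x₁ ^ 3 + x₂ ^ 3) + δ * (x₀ * x₁ * x₂) := by
  obtain ⟨v, hv, hfv, hflex⟩ := exists_flex f hf hsm
  obtain ⟨v', hv', hspan, hfv', hflex'⟩ := second_flex f hf hsm v hv hfv hflex
  obtain ⟨μ, hμ1, hμ2⟩ := exists_mu3 f hf hsm v hv hfv hflex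
  obtain ⟨μ', hμ'1, hμ'2⟩ := exists_mu3 f hf hsm v' hv' hfv' hflex'
  have hind := indep v v' hv hspan
  have hg := g_formula f hf v v' hfv hfv' μ hμ1
  obtain ⟨r1, r2⟩ := pair_rel f hf v v' hfv hfv' μ hμ1 μ' hμ'1
  have hd : dd f v v' ≠ 0 := by
    intro hd
    exact no_line f hf hsm v v' hind (fun a b => by rw [hg, hd]; ring)
  have hmm : μ v' * μ' v = 1 := by
    have h0 : dd f v v' * (μ v' * μ' v - 1) = 0 := by
      have h1 := r2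
      rw [r1] at h1
      linear_combination -h1
    rcases mul_eq_zero.mp h0 with h | h
    · exact absurd h hd
    · linear_combination h
  obtain ⟨d, hd_def⟩ : ∃ d, d = dd f v v' := ⟨_, rfl⟩
  obtain ⟨m, hm_def⟩ : ∃ m, m = μ v' := ⟨_, rfl⟩
  obtain ⟨m', hm'_def⟩ : ∃ m', m' = μ' v := ⟨_, rfl⟩
  rw [← hd_def] at hd
  rw [← hm_def, ← hm'_def] at hmm
  have hm0 : m ≠ 0 := by
    rintro rfl
    rw [zero_mul] at hmm
    exact zero_ne_one hmm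
  -- the tangent direction at v
  obtain ⟨w, hli, hw⟩ := hflex
  have hindw := LinearIndependent.pair_iff.mp hli
  have hdv : dd f v v = 0 := dd_self f hf v hfv
  have hdw : dd f v w = 0 := by
    rw [dd_of_fun f v w (Polynomial.C (eval w f) * Polynomial.X ^ 3) (fun t => by
      rw [hw]; simp; ring)]
    simp
  have hDz : ddL f v v' ≠ 0 := by rw [ddL_apply, ← hd_def]; exact hd
  have hbasis := indep3 (ddL f v) v w v' hdv hdw hDz hindw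
  have hspan3 := span3 (ddL f v) v w v' hdv hdw hDz hindw
  -- cube root of unity
  obtain ⟨s, hs⟩ : ∃ s : ℂ, s ^ 2 = -3 := IsAlgClosed.exists_pow_nat_eq (-3 : ℂ) (by norm_num)
  obtain ⟨ω, hω_def⟩ : ∃ ω : ℂ, ω = (-1 + s) / 2 := ⟨_, rfl⟩
  have hω : ω ^ 2 + ω + 1 = 0 := by rw [hω_def]; linear_combination (1 / 4 : ℂ) * hs
  have hω3 : ω ^ 3 = 1 := by linear_combination (ω - 1) * hω
  have hω1 : ω ≠ 1 := by
    intro h
    rw [h] at hω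
    norm_num at hω
  have hω0 : ω ≠ 0 := by
    intro h
    rw [h] at hω
    norm_num at hω
  have hωω : ω ^ 2 ≠ 1 := by
    intro h
    have h2 : ω = -2 := by linear_combination hω - h
    rw [h2] at h
    norm_num at h
  have hne : m * (ω ^ 2 - ω) ≠ 0 := by
    apply mul_ne_zero hm0
    intro h
    apply hω1
    have h2 : ω * (ω - 1) = 0 := by linear_combination h
    rcases mul_eq_zero.mp h2 with h' | h'
    · exact absurd h' hω0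
    · linear_combination h'
  -- eigenvectors
  obtain ⟨s₀, hs₀⟩ : ∃ s₀ : ℂ, s₀ = (-2 * μ w + m * μ' w) / 3 := ⟨_, rfl⟩
  obtain ⟨t₀, ht₀⟩ : ∃ t₀ : ℂ, t₀ = (-2 * μ' w + m' * μ w) / 3 := ⟨_, rfl⟩
  obtain ⟨u₀, hu₀⟩ : ∃ u₀ : Fin 3 → ℂ, u₀ = w + s₀ • v + t₀ • v' := ⟨_, rfl⟩
  obtain ⟨u₁, hu₁⟩ : ∃ u₁ : Fin 3 → ℂ, u₁ = (m * ω ^ 2) • v + v' := ⟨_, rfl⟩
  obtain ⟨u₂, hu₂⟩ : ∃ u₂ : Fin 3 → ℂ, u₂ = (m * ω) • v + v' := ⟨_, rfl⟩
  have hμu₀ : μ u₀ = 0 := by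
    rw [hu₀, map_add, map_add, map_smul, map_smul, hμ2, ← hm_def, hs₀, ht₀, smul_eq_mul,
      smul_eq_mul]
    linear_combination (μ w / 3) * hmm
  have hμ'u₀ : μ' u₀ = 0 := by
    rw [hu₀, map_add, map_add, map_smul, map_smul, hμ'2, ← hm'_def, hs₀, ht₀, smul_eq_mul,
      smul_eq_mul]
    linear_combination (μ' w / 3) * hmm
  have hAv : ∀ u, (invol v μ).mulVec u = u - μ u • v := invol_mulVec v μ
  have hA'v : ∀ u, (invol v' μ').mulVec u = u - μ' u • v' := invol_mulVec v' μ'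
  obtain ⟨Tm, hTm⟩ : ∃ Tm : Matrix (Fin 3) (Fin 3) ℂ, Tm = invol v μ * invol v' μ' := ⟨_, rfl⟩
  have hT : ∀ u, eval (Tm.mulVec u) f = eval u f := by
    intro u
    rw [hTm, ← Matrix.mulVec_mulVec, invol_invariant f hf v hfv μ hμ1,
      invol_invariant f hf v' hfv' μ' hμ'1]
  have hTu : ∀ u, Tm.mulVec u = u - μ' u • v' - (μ u - μ' u * m) • v := by
    intro u
    rw [hTm, ← Matrix.mulVec_mulVec, hA'v, hAv, map_sub, map_smul, ← hm_def, smul_eq_mul]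
  have hTu₀ : Tm.mulVec u₀ = u₀ := by
    rw [hTu, hμu₀, hμ'u₀]
    simp
  have hμu₁ : μ u₁ = m * (2 * ω ^ 2 + 1) := by
    rw [hu₁, map_add, map_smul, hμ2, ← hm_def, smul_eq_mul]; ring
  have hμ'u₁ : μ' u₁ = ω ^ 2 + 2 := by
    rw [hu₁, map_add, map_smul, hμ'2, ← hm'_def, smul_eq_mul]
    linear_combination ω ^ 2 * hmm
  have hμu₂ : μ u₂ = m * (2 * ω + 1) := by
    rw [hu₂, map_add, map_smul, hμ2, ← hm_def, smul_eq_mul]; ring
  have hμ'u₂ : μ' u₂ = ω + 2 := by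
    rw [hu₂, map_add, map_smul, hμ'2, ← hm'_def, smul_eq_mul]
    linear_combination ω * hmm
  have hTu₁ : Tm.mulVec u₁ = ω • u₁ := by
    rw [hTu, hμu₁, hμ'u₁, hu₁]
    have e1 : m * ω ^ 2 - (m * (2 * ω ^ 2 + 1) - (ω ^ 2 + 2) * m) = ω * (m * ω ^ 2) := by
      linear_combination (-m) * hω3
    have e2 : 1 - (ω ^ 2 + 2) = ω := by linear_combination (-1 : ℂ) * hω
    calc (m * ω ^ 2) • v + v' - (ω ^ 2 + 2) • v' - (m * (2 * ω ^ 2 + 1) - (ω ^ 2 + 2) * m) • v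
        = (m * ω ^ 2 - (m * (2 * ω ^ 2 + 1) - (ω ^ 2 + 2) * m)) • v
          + (1 - (ω ^ 2 + 2)) • v' := by module
      _ = (ω * (m * ω ^ 2)) • v + ω • v' := by rw [e1, e2]
      _ = ω • ((m * ω ^ 2) • v + v') := by module
  have hTu₂ : Tm.mulVec u₂ = ω ^ 2 • u₂ := by
    rw [hTu, hμu₂, hμ'u₂, hu₂]
    have e1 : m * ω - (m * (2 * ω + 1) - (ω + 2) * m) = ω ^ 2 * (m * ω) := by
      linear_combination (-m) * hω3
    have e2 : 1 - (ω + 2) = ω ^ 2 := by linear_combination (-1 : ℂ) * hω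
    calc (m * ω) • v + v' - (ω + 2) • v' - (m * (2 * ω + 1) - (ω + 2) * m) • v
        = (m * ω - (m * (2 * ω + 1) - (ω + 2) * m)) • v + (1 - (ω + 2)) • v' := by module
      _ = (ω ^ 2 * (m * ω)) • v + ω ^ 2 • v' := by rw [e1, e2]
      _ = ω ^ 2 • ((m * ω) • v + v') := by module
  have hdd := dd_invariant f Tm hT
  have h01 : dd f u₀ u₁ = 0 := by
    have h := hdd u₀ u₁
    rw [hTu₀, hTu₁, dd_smul] at h
    have h2 : (ω - 1) * dd f u₀ u₁ = 0 := by linear_combination h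
    exact (mul_eq_zero.mp h2).resolve_left (sub_ne_zero.mpr hω1)
  have h02 : dd f u₀ u₂ = 0 := by
    have h := hdd u₀ u₂
    rw [hTu₀, hTu₂, dd_smul] at h
    have h2 : (ω ^ 2 - 1) * dd f u₀ u₂ = 0 := by linear_combination h
    exact (mul_eq_zero.mp h2).resolve_left (sub_ne_zero.mpr hωω)
  have h10 : dd f u₁ u₀ = 0 := by
    have h := hdd u₁ u₀
    rw [hTu₀, hTu₁, dd_base_smul f hf] at h
    have h2 : (ω ^ 2 - 1) * dd f u₁ u₀ = 0 := by linear_combination h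
    exact (mul_eq_zero.mp h2).resolve_left (sub_ne_zero.mpr hωω)
  have h20 : dd f u₂ u₀ = 0 := by
    have h := hdd u₂ u₀
    rw [hTu₀, hTu₂, dd_base_smul f hf] at h
    have h2 : (ω - 1) * dd f u₂ u₀ = 0 := by
      linear_combination h - ω * dd f u₂ u₀ * hω3
    exact (mul_eq_zero.mp h2).resolve_left (sub_ne_zero.mpr hω1)
  obtain ⟨δ, hδ⟩ : ∃ δ : ℂ, δ = (hess f u₀ u₁ u₂ + hess f u₀ u₂ u₁) / 2 := ⟨_, rfl⟩
  obtain ⟨α, hα⟩ : ∃ α : ℂ, α = eval u₀ f := ⟨_, rfl⟩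
  have hmain : ∀ x₀ x₁ x₂ : ℂ, eval (x₀ • u₀ + x₁ • u₁ + x₂ • u₂) f
      = α * x₀ ^ 3 + (-(m ^ 2 * d)) * (x₁ ^ 3 + x₂ ^ 3) + δ * (x₀ * x₁ * x₂) := by
    intro x₀ x₁ x₂
    have hy : x₀ • u₀ + x₁ • u₁ + x₂ • u₂ = (x₁ • u₁ + x₂ • u₂) + x₀ • u₀ := by abel
    have c1 : dd f u₀ (x₁ • u₁ + x₂ • u₂) = 0 := by
      rw [dd_add, dd_smul, dd_smul, h01, h02]; ring
    have c2 : dd f (x₁ • u₁ + x₂ • u₂) u₀ = δ * (x₁ * x₂) := by
      have h11 : hess f u₀ u₁ u₁ = 0 := by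
        have h := dd_eq_hess f hf u₀ u₁
        rw [h10] at h
        linear_combination (-2 : ℂ) * h
      have h22 : hess f u₀ u₂ u₂ = 0 := by
        have h := dd_eq_hess f hf u₀ u₂
        rw [h20] at h
        linear_combination (-2 : ℂ) * h
      rw [dd_eq_hess f hf, hess_lin_left, hess_lin_right, hess_lin_right, h11, h22, hδ]
      ring
    have c3 : eval (x₁ • u₁ + x₂ • u₂) f = -(m ^ 2 * d) * (x₁ ^ 3 + x₂ ^ 3) := by
      have hy2 : x₁ • u₁ + x₂ • u₂ = (m * (ω ^ 2 * x₁ + ω * x₂)) • v + (x₁ + x₂) • v' := by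
        rw [hu₁, hu₂]; module
      rw [hy2, hg, ← hd_def, ← hm_def]
      linear_combination (m ^ 2 * d * (x₁ + x₂) * ((ω ^ 2 - ω + 1) * x₁ ^ 2
        + (2 * ω - 1) * x₁ * x₂ + x₂ ^ 2)) * hω
    rw [hy, expand_gen f hf, c1, c2, c3, ← hα]
    ring
  have hu₀ne : u₀ ≠ 0 := by
    intro h
    have h2 : s₀ • v + (1 : ℂ) • w + t₀ • v' = 0 := by rw [← h, hu₀]; module
    exact one_ne_zero (hbasis _ _ _ h2).2.1
  have hα0 : α ≠ 0 := by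
    intro h0
    have hfu₀ : eval u₀ f = 0 := by rw [← hα]; exact h0
    obtain ⟨i, hi⟩ := hsm u₀ hu₀ne hfu₀
    apply hi
    have k1 : dd f u₀ v = 0 := by
      have e : dd f u₀ u₁ - dd f u₀ u₂ = (m * (ω ^ 2 - ω)) * dd f u₀ v := by
        rw [hu₁, hu₂, dd_add, dd_add, dd_smul, dd_smul]; ring
      rw [h01, h02, sub_zero] at e
      exact (mul_eq_zero.mp e.symm).resolve_left hne
    have k2 : dd f u₀ v' = 0 := by
      have e := h01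
      rw [hu₁, dd_add, dd_smul, k1] at e
      linear_combination e
    have k3 : dd f u₀ w = 0 := by
      have e : dd f u₀ (w + s₀ • v + t₀ • v') = 0 := by
        rw [← hu₀]; exact dd_self f hf u₀ hfu₀
      rw [dd_add, dd_add, dd_smul, dd_smul, k1, k2] at e
      linear_combination e
    rw [← dd_single]
    obtain ⟨a, b, c, hc⟩ := hspan3 (Pi.single i 1)
    rw [hc, dd_add, dd_add, dd_smul, dd_smul, dd_smul, k1, k2, k3]
    ring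
  have hindu : ∀ x₀ x₁ x₂ : ℂ, x₀ • u₀ + x₁ • u₁ + x₂ • u₂ = 0 → x₀ = 0 ∧ x₁ = 0 ∧ x₂ = 0 := by
    intro x₀ x₁ x₂ h
    have h2 : (x₀ * s₀ + m * (ω ^ 2 * x₁ + ω * x₂)) • v + x₀ • w
        + (x₀ * t₀ + x₁ + x₂) • v' = 0 := by
      rw [← h, hu₀, hu₁, hu₂]; module
    obtain ⟨e1, e2, e3⟩ := hbasis _ _ _ h2
    have hx₁ : x₁ = 0 := by
      have h3 : m * (ω ^ 2 - ω) * x₁ = 0 := by
        linear_combination e1 - m * ω * e3 - (s₀ - m * ω * t₀) * e2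
      exact (mul_eq_zero.mp h3).resolve_left hne
    refine ⟨e2, hx₁, ?_⟩
    linear_combination e3 - t₀ * e2 - hx₁
  have hβ0 : -(m ^ 2 * d) ≠ 0 := neg_ne_zero.mpr (mul_ne_zero (pow_ne_zero 2 hm0) hd)
  exact ⟨u₀, u₁, u₂, α, -(m ^ 2 * d), δ, hα0, hβ0, hindu, hmain⟩

theorem hesse_matrix (f : MvPolynomial (Fin 3) ℂ) (hf : f.IsHomogeneous 3)
    (hsm : ∀ v : Fin 3 → ℂ, v ≠ 0 → eval v f = 0 → ∃ i : Fin 3, eval v (pderiv i f) ≠ 0) :
    ∃ (Pm : Matrix (Fin 3) (Fin 3) ℂ) (k : ℂ), IsUnit Pm.det ∧ k ^ 3 ≠ 1 ∧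
      ∀ x : Fin 3 → ℂ, eval (Pm.mulVec x) f
        = x 0 ^ 3 + x 1 ^ 3 + x 2 ^ 3 - 3 * k * (x 0 * x 1 * x 2) := by
  obtain ⟨u₀, u₁, u₂, α, β, δ, hα0, hβ0, hindu, hmain⟩ := hesse_pre f hf hsm
  obtain ⟨a, ha⟩ : ∃ a : ℂ, a ^ 3 = α := IsAlgClosed.exists_pow_nat_eq α (by norm_num)
  obtain ⟨b, hb⟩ : ∃ b : ℂ, b ^ 3 = β := IsAlgClosed.exists_pow_nat_eq β (by norm_num)
  have ha0 : a ≠ 0 := by
    rintro rfl
    apply hα0
    rw [← ha]; norm_num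
  have hb0 : b ≠ 0 := by
    rintro rfl
    apply hβ0
    rw [← hb]; norm_num
  obtain ⟨k, hk⟩ : ∃ k : ℂ, k = -δ / (3 * a * b ^ 2) := ⟨_, rfl⟩
  obtain ⟨Pm, hPm⟩ : ∃ Pm : Matrix (Fin 3) (Fin 3) ℂ,
      Pm = Matrix.of fun i j => (![a⁻¹ • u₀, b⁻¹ • u₁, b⁻¹ • u₂] j) i := ⟨_, rfl⟩
  have hmul : ∀ x : Fin 3 → ℂ, Pm.mulVec x
      = (x 0 * a⁻¹) • u₀ + (x 1 * b⁻¹) • u₁ + (x 2 * b⁻¹) • u₂ := by
    intro x
    funext i
    rw [hPm]
    simp [Matrix.mulVec, dotProduct, Fin.sum_univ_three]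
    ring
  have hform : ∀ x : Fin 3 → ℂ, eval (Pm.mulVec x) f
      = x 0 ^ 3 + x 1 ^ 3 + x 2 ^ 3 - 3 * k * (x 0 * x 1 * x 2) := by
    intro x
    rw [hmul, hmain, ← ha, ← hb, hk]
    field_simp
    ring
  have hdet : IsUnit Pm.det := by
    rw [isUnit_iff_ne_zero]
    intro h0
    obtain ⟨x, hx0, hx⟩ := Matrix.exists_mulVec_eq_zero_iff.mpr h0
    rw [hmul] at hx
    obtain ⟨e0, e1, e2⟩ := hindu _ _ _ hx
    have hx' : ∀ i : Fin 3, x i = 0 := by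
      intro i
      fin_cases i
      · exact (mul_eq_zero.mp e0).resolve_right (inv_ne_zero ha0)
      · exact (mul_eq_zero.mp e1).resolve_right (inv_ne_zero hb0)
      · exact (mul_eq_zero.mp e2).resolve_right (inv_ne_zero hb0)
    exact hx0 (funext hx')
  refine ⟨Pm, k, hdet, ?_, hform⟩
  intro hk1
  obtain ⟨xs, hxs⟩ : ∃ xs : Fin 3 → ℂ, xs = ![1, 1, k ^ 2] := ⟨_, rfl⟩
  have hxs0 : xs 0 = 1 := by rw [hxs]; rfl
  have hxs1 : xs 1 = 1 := by rw [hxs]; rfl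
  have hxs2 : xs 2 = k ^ 2 := by rw [hxs]; rfl
  have hp0 : Pm.mulVec xs ≠ 0 := by
    intro h
    have h1 : Pm⁻¹.mulVec (Pm.mulVec xs) = 0 := by rw [h, Matrix.mulVec_zero]
    rw [Matrix.mulVec_mulVec, Matrix.nonsing_inv_mul Pm hdet, Matrix.one_mulVec] at h1
    have h2 := congrFun h1 0
    rw [hxs0] at h2
    exact one_ne_zero h2
  have hfp : eval (Pm.mulVec xs) f = 0 := by
    rw [hform, hxs0, hxs1, hxs2]
    linear_combination (k ^ 3 - 2) * hk1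
  obtain ⟨i, hi⟩ := hsm _ hp0 hfp
  apply hi
  rw [← dd_single]
  obtain ⟨y, hy⟩ : ∃ y : Fin 3 → ℂ, y = Pm⁻¹.mulVec (Pi.single i 1) := ⟨_, rfl⟩
  have hPy : Pm.mulVec y = Pi.single i 1 := by
    rw [hy, Matrix.mulVec_mulVec, Matrix.mul_nonsing_inv Pm hdet, Matrix.one_mulVec]
  rw [← hPy]
  have hG : ∀ t : ℂ, eval (Pm.mulVec xs + t • Pm.mulVec y) f
      = (1 + t * y 0) ^ 3 + (1 + t * y 1) ^ 3 + (k ^ 2 + t * y 2) ^ 3
        - 3 * k * ((1 + t * y 0) * (1 + t * y 1) * (k ^ 2 + t * y 2)) := by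
    intro t
    rw [← Matrix.mulVec_smul, ← Matrix.mulVec_add, hform]
    simp only [Pi.add_apply, Pi.smul_apply, smul_eq_mul]
    rw [hxs0, hxs1, hxs2]
  have E1 := expand_gen f hf (Pm.mulVec xs) (Pm.mulVec y) 1
  have Em1 := expand_gen f hf (Pm.mulVec xs) (Pm.mulVec y) (-1)
  have E2 := expand_gen f hf (Pm.mulVec xs) (Pm.mulVec y) 2
  rw [hG] at E1 Em1 E2
  linear_combination (-1 : ℂ) * E1 + (1 / 3 : ℂ) * Em1 + (1 / 6 : ℂ) * E2 + (-(1 / 2) : ℂ) * hfp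
    + ((k ^ 3 - 2) / 2 - 3 * (y 0 + y 1) + 3 * k * y 2) * hk1

end Groth.Agent.Lib.Helper22.Hesse3
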