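import Mathlib

/-!
# Scalar-level lemmas for the automorphisms of the Hesse cubic
-/

set_option autoImplicit false

namespace Groth.Agent.Lib.Helper22.HesseAut1

theorem dft3 (ω : ℂ) (hω : ω ^ 2 + ω + 1 = 0) (x y z : ℂ)
    (h : ∀ γ : ℂ, γ ^ 3 = 1 → x + γ * y + γ ^ 2 * z = 0) : x = 0 ∧ y = 0 ∧ z = 0 := by
  have hω3 : ω ^ 3 = 1 := by linear_combination (ω - 1) * hω
  have h1 := h 1 (one_pow 3)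
  have h2 := h ω hω3
  have h3 := h (ω ^ 2) (by linear_combination (ω ^ 3 + 1) * hω3)
  refine ⟨?_, ?_, ?_⟩
  · linear_combination (1 / 3 : ℂ) * h1 + (1 / 3 : ℂ) * h2 + (1 / 3 : ℂ) * h3
      + (-(1/3)*y - (1/3)*z + (1/3)*z*ω - (1/3)*z*ω^2) * hω
  · linear_combination (1 / 3 : ℂ) * h1 + (1 / 3 : ℂ) * ω ^ 2 * h2 + (1 / 3 : ℂ) * ω * h3
      + (-(1/3)*x + (2/3)*y - (2/3)*y*ω - (1/3)*z + (1/3)*z*ω - (1/3)*z*ω^3) * hω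
  · linear_combination (1 / 3 : ℂ) * h1 + (1 / 3 : ℂ) * ω * h2 + (1 / 3 : ℂ) * ω ^ 2 * h3
      + (-(1/3)*x - (1/3)*y + (1/3)*y*ω - (1/3)*y*ω^2 + (2/3)*z - (2/3)*z*ω + (1/3)*z*ω^3
          - (1/3)*z*ω^4) * hω

theorem pencil_of_flex (ω : ℂ) (hω : ω ^ 2 + ω + 1 = 0) (a0 a1 a2 b0 b1 b2 c0 c1 c2 : ℂ)
    (h0 : ∀ γ : ℂ, γ ^ 3 = 1 → (a1 - a2 * γ) * (b1 - b2 * γ) * (c1 - c2 * γ) = 0)
    (h1 : ∀ γ : ℂ, γ ^ 3 = 1 → (-(a0 * γ) + a2) * (-(b0 * γ) + b2) * (-(c0 * γ) + c2) = 0)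
    (h2 : ∀ γ : ℂ, γ ^ 3 = 1 → (a0 - a1 * γ) * (b0 - b1 * γ) * (c0 - c1 * γ) = 0)
    (x0 x1 x2 : ℂ) :
    (a0 * x0 + a1 * x1 + a2 * x2) * (b0 * x0 + b1 * x1 + b2 * x2) * (c0 * x0 + c1 * x1 + c2 * x2)
      = (a0 * b0 * c0) * (x0 ^ 3 + x1 ^ 3 + x2 ^ 3)
        + (a0 * b1 * c2 + a0 * b2 * c1 + a1 * b0 * c2 + a1 * b2 * c0 + a2 * b0 * c1
            + a2 * b1 * c0) * (x0 * x1 * x2) := by
  obtain ⟨e1, e2, e3⟩ := dft3 ω hω (a1*b1*c1 - a2*b2*c2) (-(a1*b1*c2 + a1*b2*c1 + a2*b1*c1))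
    (a1*b2*c2 + a2*b1*c2 + a2*b2*c1)
    (fun γ hγ => by linear_combination h0 γ hγ + (a2*b2*c2) * hγ)
  obtain ⟨f1, f2, f3⟩ := dft3 ω hω (a2*b2*c2 - a0*b0*c0) (-(a0*b2*c2 + a2*b0*c2 + a2*b2*c0))
    (a0*b0*c2 + a0*b2*c0 + a2*b0*c0)
    (fun γ hγ => by linear_combination h1 γ hγ + (a0*b0*c0) * hγ)
  obtain ⟨g1, g2, g3⟩ := dft3 ω hω (a0*b0*c0 - a1*b1*c1) (-(a0*b0*c1 + a0*b1*c0 + a1*b0*c0))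
    (a0*b1*c1 + a1*b0*c1 + a1*b1*c0)
    (fun γ hγ => by linear_combination h2 γ hγ + (a1*b1*c1) * hγ)
  linear_combination (-(x1^3)) * g1 + x2^3 * f1 - x0^2*x1 * g2 + x0^2*x2 * f3 + x0*x1^2 * g3
    - x1^2*x2 * e2 - x0*x2^2 * f2 + x1*x2^2 * e3

theorem vertex_special (a0 a1 a2 b0 b1 b2 c0 c1 c2 α β : ℂ)
    (hD : a0 * (b1 * c2 - b2 * c1) - a1 * (b0 * c2 - b2 * c0) + a2 * (b0 * c1 - b1 * c0) ≠ 0)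
    (hI : ∀ x0 x1 x2 : ℂ,
      (a0 * x0 + a1 * x1 + a2 * x2) * (b0 * x0 + b1 * x1 + b2 * x2) * (c0 * x0 + c1 * x1 + c2 * x2)
        = α * (x0 ^ 3 + x1 ^ 3 + x2 ^ 3) + β * (x0 * x1 * x2))
    (hα : α ≠ 0) : ∃ κ : ℂ, κ ^ 3 = 1 ∧ β = -3 * κ * α := by
  obtain ⟨v0, hv0⟩ : ∃ v0 : ℂ, v0 = a1 * b2 - a2 * b1 := ⟨_, rfl⟩
  obtain ⟨v1, hv1⟩ : ∃ v1 : ℂ, v1 = a2 * b0 - a0 * b2 := ⟨_, rfl⟩
  obtain ⟨v2, hv2⟩ : ∃ v2 : ℂ, v2 = a0 * b1 - a1 * b0 := ⟨_, rfl⟩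
  have hLa : a0 * v0 + a1 * v1 + a2 * v2 = 0 := by rw [hv0, hv1, hv2]; ring
  have hLb : b0 * v0 + b1 * v1 + b2 * v2 = 0 := by rw [hv0, hv1, hv2]; ring
  have hLc : c0 * v0 + c1 * v1 + c2 * v2 ≠ 0 := by
    have h : c0 * v0 + c1 * v1 + c2 * v2
        = a0 * (b1 * c2 - b2 * c1) - a1 * (b0 * c2 - b2 * c0) + a2 * (b0 * c1 - b1 * c0) := by
      rw [hv0, hv1, hv2]; ring
    rw [h]; exact hD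
  have D0 : 3 * α * v0 ^ 2 + β * v1 * v2 = 0 := by
    have I2 := hI (v0 + 2) v1 v2
    have I1 := hI (v0 + 1) v1 v2
    have I0 := hI v0 v1 v2
    have Im := hI (v0 - 1) v1 v2
    linear_combination (1 / 6 : ℂ) * I2 - I1 + (1 / 2 : ℂ) * I0 + (1 / 3 : ℂ) * Im
      + (b0 * (c0 * v0 + c1 * v1 + c2 * v2) + c0 * (b0 * v0 + b1 * v1 + b2 * v2)) * hLa
      + (a0 * (c0 * v0 + c1 * v1 + c2 * v2)) * hLb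
  have D1 : 3 * α * v1 ^ 2 + β * v0 * v2 = 0 := by
    have I2 := hI v0 (v1 + 2) v2
    have I1 := hI v0 (v1 + 1) v2
    have I0 := hI v0 v1 v2
    have Im := hI v0 (v1 - 1) v2
    linear_combination (1 / 6 : ℂ) * I2 - I1 + (1 / 2 : ℂ) * I0 + (1 / 3 : ℂ) * Im
      + (b1 * (c0 * v0 + c1 * v1 + c2 * v2) + c1 * (b0 * v0 + b1 * v1 + b2 * v2)) * hLa
      + (a1 * (c0 * v0 + c1 * v1 + c2 * v2)) * hLb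
  have D2 : 3 * α * v2 ^ 2 + β * v0 * v1 = 0 := by
    have I2 := hI v0 v1 (v2 + 2)
    have I1 := hI v0 v1 (v2 + 1)
    have I0 := hI v0 v1 v2
    have Im := hI v0 v1 (v2 - 1)
    linear_combination (1 / 6 : ℂ) * I2 - I1 + (1 / 2 : ℂ) * I0 + (1 / 3 : ℂ) * Im
      + (b2 * (c0 * v0 + c1 * v1 + c2 * v2) + c2 * (b0 * v0 + b1 * v1 + b2 * v2)) * hLa
      + (a2 * (c0 * v0 + c1 * v1 + c2 * v2)) * hLb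
  obtain ⟨z, hz⟩ : ∃ z : ℂ, z = -β / (3 * α) := ⟨_, rfl⟩
  have h3α : (3 : ℂ) * α ≠ 0 := mul_ne_zero (by norm_num) hα
  have hβ : β = -3 * z * α := by
    rw [hz]
    field_simp
  have E0 : v0 ^ 2 - z * (v1 * v2) = 0 := by
    have h : 3 * α * (v0 ^ 2 - z * (v1 * v2)) = 0 := by
      linear_combination D0 - (v1 * v2) * hβ
    exact (mul_eq_zero.mp h).resolve_left h3α
  have E1 : v1 ^ 2 - z * (v0 * v2) = 0 := by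
    have h : 3 * α * (v1 ^ 2 - z * (v0 * v2)) = 0 := by
      linear_combination D1 - (v0 * v2) * hβ
    exact (mul_eq_zero.mp h).resolve_left h3α
  have E2 : v2 ^ 2 - z * (v0 * v1) = 0 := by
    have h : 3 * α * (v2 ^ 2 - z * (v0 * v1)) = 0 := by
      linear_combination D2 - (v0 * v1) * hβ
    exact (mul_eq_zero.mp h).resolve_left h3α
  have hcube : (v0 * v1 * v2) ^ 2 * (1 - z ^ 3) = 0 := by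
    linear_combination (v1^2*v2^2) * E0 + (z*v1*v2*v2^2) * E1 + (z*v1*v2*z*v0*v2) * E2
  have h2ne : (2 : ℕ) ≠ 0 := by norm_num
  refine ⟨z, ?_, hβ⟩
  rcases mul_eq_zero.mp hcube with h | h
  · exfalso
    have h' : v0 * v1 * v2 = 0 := (pow_eq_zero_iff h2ne).mp h
    have hvz : v0 = 0 ∧ v1 = 0 ∧ v2 = 0 := by
      rcases mul_eq_zero.mp h' with h01 | h2'
      · rcases mul_eq_zero.mp h01 with h0' | h1'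
        · have e1 : v1 ^ 2 = 0 := by linear_combination E1 + z * v2 * h0'
          have e2 : v2 ^ 2 = 0 := by linear_combination E2 + z * v1 * h0'
          exact ⟨h0', (pow_eq_zero_iff h2ne).mp e1, (pow_eq_zero_iff h2ne).mp e2⟩
        · have e0 : v0 ^ 2 = 0 := by linear_combination E0 + z * v2 * h1'
          have e2 : v2 ^ 2 = 0 := by linear_combination E2 + z * v0 * h1'
          exact ⟨(pow_eq_zero_iff h2ne).mp e0, h1', (pow_eq_zero_iff h2ne).mp e2⟩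
      · have e0 : v0 ^ 2 = 0 := by linear_combination E0 + z * v1 * h2'
        have e1 : v1 ^ 2 = 0 := by linear_combination E1 + z * v0 * h2'
        exact ⟨(pow_eq_zero_iff h2ne).mp e0, (pow_eq_zero_iff h2ne).mp e1, h2'⟩
    apply hLc
    rw [hvz.1, hvz.2.1, hvz.2.2]
    ring
  · linear_combination -h

theorem three2 (p p' q q' r r' : ℂ)
    (h : ∀ x y : ℂ, (p * x + p' * y) * (q * x + q' * y) * (r * x + r' * y) = 0) :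
    (p = 0 ∧ p' = 0) ∨ (q = 0 ∧ q' = 0) ∨ (r = 0 ∧ r' = 0) := by
  have key : (Polynomial.C p + Polynomial.C p' * Polynomial.X)
      * (Polynomial.C q + Polynomial.C q' * Polynomial.X)
      * (Polynomial.C r + Polynomial.C r' * Polynomial.X) = 0 := by
    apply Polynomial.funext
    intro t
    have ht := h 1 t
    simp only [Polynomial.eval_mul, Polynomial.eval_add, Polynomial.eval_C, Polynomial.eval_X,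
      Polynomial.eval_zero]
    linear_combination ht
  have lin : ∀ u u' : ℂ, Polynomial.C u + Polynomial.C u' * Polynomial.X = 0 → u = 0 ∧ u' = 0 := by
    intro u u' hu
    constructor
    · have h0 := congrArg (fun P => Polynomial.coeff P 0) hu
      simpa using h0
    · have h1 := congrArg (fun P => Polynomial.coeff P 1) hu
      simpa using h1
  rcases mul_eq_zero.mp key with h1 | h1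
  · rcases mul_eq_zero.mp h1 with h2 | h2
    · exact Or.inl (lin _ _ h2)
    · exact Or.inr (Or.inl (lin _ _ h2))
  · exact Or.inr (Or.inr (lin _ _ h1))

theorem B1 (ω κ α x0 x1 x2 : ℂ) (hω : ω ^ 2 + ω + 1 = 0) (hκ : κ ^ 3 = 1) :
    α * ((x0 + x1 + x2) ^ 3 + (x0 + ω ^ 2 * x1 + ω * x2) ^ 3 + (κ ^ 2 * (x0 + ω * x1 + ω ^ 2 * x2)) ^ 3
      - 3 * κ * ((x0 + x1 + x2) * (x0 + ω ^ 2 * x1 + ω * x2) * (κ ^ 2 * (x0 + ω * x1 + ω ^ 2 * x2))))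
      = 27 * α * (x0 * x1 * x2) := by
  linear_combination (-6*x0*x1*x2*α - 9*x0*x1*x2*α*κ^3 + 3*x0*x1*x2*α*κ^3*ω - 3*x0*x1*x2*α*κ^3*ω^2 - 6*x0*x1*x2*α*κ^6 + 6*x0*x1*x2*α*κ^6*ω + 6*x0*x1*x2*α*ω - 3*x0*x1^2*α*κ^3*ω + 3*x0*x1^2*α*κ^6 - 3*x0*x1^2*α*ω + 3*x0*x1^2*α*ω^2 + 3*x0*x2^2*α - 3*x0*x2^2*α*κ^3*ω - 3*x0*x2^2*α*κ^6*ω + 3*x0*x2^2*α*κ^6*ω^2 + 3*x0^2*x1*α - 3*x0^2*x1*α*κ^3 - 3*x0^2*x2*α*κ^3 + 3*x0^2*x2*α*κ^6 - 3*x1*x2^2*α*κ^3*ω^2 + 3*x1*x2^2*α*κ^6 - 3*x1*x2^2*α*κ^6*ω^2 + 3*x1*x2^2*α*κ^6*ω^3 - 3*x1*x2^2*α*ω + 3*x1*x2^2*α*ω^2 + 3*x1^2*x2*α - 3*x1^2*x2*α*κ^3*ω^2 - 3*x1^2*x2*α*κ^6*ω + 3*x1^2*x2*α*κ^6*ω^2 - 3*x1^2*x2*α*ω^2 + 3*x1^2*x2*α*ω^3 - x1^3*α + 3*x1^3*α*κ^3 - 3*x1^3*α*κ^3*ω - x1^3*α*κ^6 + x1^3*α*κ^6*ω + x1^3*α*ω - x1^3*α*ω^3 + x1^3*α*ω^4 - x2^3*α + 3*x2^3*α*κ^3 - 3*x2^3*α*κ^3*ω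 - x2^3*α*κ^6 + x2^3*α*κ^6*ω - x2^3*α*κ^6*ω^3 + x2^3*α*κ^6*ω^4 + x2^3*α*ω) * hω + (15*x0*x1*x2*α + 6*x0*x1*x2*α*κ^3 - 3*x0*x1^2*α - 3*x0*x1^2*α*κ^3 - 3*x0*x1^2*α*κ^3*ω - 3*x0*x1^2*α*ω + 3*x0*x2^2*α*κ^3*ω + 3*x0*x2^2*α*ω + 3*x0^2*x1*α*κ^3*ω + 3*x0^2*x1*α*ω - 3*x0^2*x2*α - 3*x0^2*x2*α*κ^3 - 3*x0^2*x2*α*κ^3*ω - 3*x0^2*x2*α*ω - 2*x0^3*α + x0^3*α*κ^3 - 3*x1*x2^2*α - 3*x1*x2^2*α*κ^3 - 3*x1*x2^2*α*κ^3*ω - 3*x1*x2^2*α*ω + 3*x1^2*x2*α*κ^3*ω + 3*x1^2*x2*α*ω - 2*x1^3*α + x1^3*α*κ^3 - 2*x2^3*α + x2^3*α*κ^3) * hκ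

theorem B2_0 (κ k : ℂ) (hκ : κ ^ 3 = 1) :
    ((0:ℂ) + 0 + 1 - 1 + 1) ^ 3 + (1:ℂ) ^ 3 + (κ ^ 2) ^ 3 - 3 * k * (1 * 1 * κ ^ 2) = 3 - 3 * k * κ ^ 2 := by
  linear_combination (1 + κ ^ 3) * hκ

theorem B3 (ω κ k c g0 g1 g2 : ℂ) (hω : ω ^ 2 + ω + 1 = 0)
    (hsum : g0 ^ 3 + g1 ^ 3 + g2 ^ 3 - 3 * k * (g0 * g1 * g2)
      = c * ((3 : ℂ) ^ 3 + (1 + ω ^ 2 + ω) ^ 3 + (κ ^ 2 * (1 + ω + ω ^ 2)) ^ 3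
          - 3 * k * (3 * (1 + ω ^ 2 + ω) * (κ ^ 2 * (1 + ω + ω ^ 2)))))
    (h0 : g0 ^ 3 = c * (3 - 3 * k * κ ^ 2)) (h1 : g1 ^ 3 = c * (3 - 3 * k * κ ^ 2))
    (h2 : g2 ^ 3 = c * (3 - 3 * k * κ ^ 2)) :
    k * (g0 * g1 * g2) = -3 * c * (2 + k * κ ^ 2) := by
  linear_combination (-1 / 3 : ℂ) * hsum + (1 / 3 : ℂ) * h0 + (1 / 3 : ℂ) * h1 + (1 / 3 : ℂ) * h2
    + (-(1/3)*c + 3*c*k*κ^2 + 3*c*k*κ^2*ω + 3*c*k*κ^2*ω^2 - (1/3)*c*κ^6 - (2/3)*c*κ^6*ω - c*κ^6*ω^2 - (2/3)*c*κ^6*ω^3 - (1/3)*c*κ^6*ω^4 - (2/3)*c*ω - c*ω^2 - (2/3)*c*ω^3 - (1/3)*c*ω^4) * hω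

theorem B4 (κ k c g0 g1 g2 : ℂ) (hP : k * (g0 * g1 * g2) = -3 * c * (2 + k * κ ^ 2))
    (h0 : g0 ^ 3 = c * (3 - 3 * k * κ ^ 2)) (h1 : g1 ^ 3 = c * (3 - 3 * k * κ ^ 2))
    (h2 : g2 ^ 3 = c * (3 - 3 * k * κ ^ 2)) :
    27 * c ^ 3 * ((2 + k * κ ^ 2) ^ 3 + k ^ 3 * (1 - k * κ ^ 2) ^ 3) = 0 := by
  linear_combination (-6*c*g0*g1*g2*k - 3*c*g0*g1*g2*k^2*κ^2 + 36*c^2 + 36*c^2*k*κ^2 + 9*c^2*k^2*κ^4 + g0^2*g1^2*g2^2*k^2) * hP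
    + (-g1^3*g2^3*k^3) * h0 + (-3*c*g2^3*k^3 + 3*c*g2^3*k^4*κ^2) * h1
    + (-9*c^2*k^3 + 18*c^2*k^4*κ^2 - 9*c^2*k^5*κ^4) * h2

end Groth.Agent.Lib.Helper22.HesseAut1
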