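import Mathlib
import Groth.Agent.S18404
import Groth.Agent.S18406
import Groth.Agent.Lib.Helper22.HesseAut1

/-!
# Classification of the determinant-one automorphisms of a generic Hesse cubic
-/

set_option autoImplicit false

namespace Groth.Agent.Lib.Helper22.HesseAut2
open MvPolynomial
open Groth.Agent.Lib.Helper22

theorem fin3_cases : ∀ j : Fin 3, j = 0 ∨ j = 1 ∨ j = 2 := by decide

theorem mulVec3 (M : Matrix (Fin 3) (Fin 3) ℂ) (x : Fin 3 → ℂ) (i : Fin 3) :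
    (M.mulVec x) i = M i 0 * x 0 + M i 1 * x 1 + M i 2 * x 2 := by
  simp [Matrix.mulVec, dotProduct, Fin.sum_univ_three]

theorem monomial_of_prod (N : Matrix (Fin 3) (Fin 3) ℂ) (α' : ℂ) (hα' : α' ≠ 0)
    (hN : ∀ x : Fin 3 → ℂ,
      (N.mulVec x) 0 * (N.mulVec x) 1 * (N.mulVec x) 2 = α' * (x 0 * x 1 * x 2)) :
    ∃ (σ : Equiv.Perm (Fin 3)) (g : Fin 3 → ℂ), (∀ i, g i ≠ 0) ∧
      ∀ (x : Fin 3 → ℂ) (i : Fin 3), (N.mulVec x) i = g i * x (σ i) := by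
  have rowne : ∀ i : Fin 3, ¬ (N i 0 = 0 ∧ N i 1 = 0 ∧ N i 2 = 0) := by
    rintro i ⟨z0, z1, z2⟩
    have h1 := hN (fun _ => 1)
    have hi : (N.mulVec (fun _ => (1 : ℂ))) i = 0 := by rw [mulVec3, z0, z1, z2]; ring
    have hp : ∏ j, (N.mulVec (fun _ => (1 : ℂ))) j = 0 :=
      Finset.prod_eq_zero (Finset.mem_univ i) hi
    rw [Fin.prod_univ_three] at hp
    rw [hp] at h1
    exact hα' (by simpa using h1.symm)
  have col0 : ∃ i : Fin 3, N i 1 = 0 ∧ N i 2 = 0 := by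
    have h3 := HesseAut1.three2 (N 0 1) (N 0 2) (N 1 1) (N 1 2) (N 2 1) (N 2 2) (fun x y => by
      have e0 : (![0, x, y] : Fin 3 → ℂ) 0 = 0 := rfl
      have e1 : (![0, x, y] : Fin 3 → ℂ) 1 = x := rfl
      have e2 : (![0, x, y] : Fin 3 → ℂ) 2 = y := rfl
      have h := hN ![0, x, y]
      rw [mulVec3, mulVec3, mulVec3, e0, e1, e2] at h
      linear_combination h)
    rcases h3 with h | h | h
    exacts [⟨0, h⟩, ⟨1, h⟩, ⟨2, h⟩]
  have col1 : ∃ i : Fin 3, N i 0 = 0 ∧ N i 2 = 0 := by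
    have h3 := HesseAut1.three2 (N 0 0) (N 0 2) (N 1 0) (N 1 2) (N 2 0) (N 2 2) (fun x y => by
      have e0 : (![x, 0, y] : Fin 3 → ℂ) 0 = x := rfl
      have e1 : (![x, 0, y] : Fin 3 → ℂ) 1 = 0 := rfl
      have e2 : (![x, 0, y] : Fin 3 → ℂ) 2 = y := rfl
      have h := hN ![x, 0, y]
      rw [mulVec3, mulVec3, mulVec3, e0, e1, e2] at h
      linear_combination h)
    rcases h3 with h | h | h
    exacts [⟨0, h⟩, ⟨1, h⟩, ⟨2, h⟩]
  have col2 : ∃ i : Fin 3, N i 0 = 0 ∧ N i 1 = 0 := by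
    have h3 := HesseAut1.three2 (N 0 0) (N 0 1) (N 1 0) (N 1 1) (N 2 0) (N 2 1) (fun x y => by
      have e0 : (![x, y, 0] : Fin 3 → ℂ) 0 = x := rfl
      have e1 : (![x, y, 0] : Fin 3 → ℂ) 1 = y := rfl
      have e2 : (![x, y, 0] : Fin 3 → ℂ) 2 = 0 := rfl
      have h := hN ![x, y, 0]
      rw [mulVec3, mulVec3, mulVec3, e0, e1, e2] at h
      linear_combination h)
    rcases h3 with h | h | h
    exacts [⟨0, h⟩, ⟨1, h⟩, ⟨2, h⟩]
  have hcol : ∀ j : Fin 3, ∃ i : Fin 3, ∀ l : Fin 3, l ≠ j → N i l = 0 := by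
    intro j
    rcases fin3_cases j with rfl | rfl | rfl
    · obtain ⟨i, h1, h2⟩ := col0
      refine ⟨i, fun l hl => ?_⟩
      rcases fin3_cases l with rfl | rfl | rfl
      · exact absurd rfl hl
      · exact h1
      · exact h2
    · obtain ⟨i, h1, h2⟩ := col1
      refine ⟨i, fun l hl => ?_⟩
      rcases fin3_cases l with rfl | rfl | rfl
      · exact h1
      · exact absurd rfl hl
      · exact h2
    · obtain ⟨i, h1, h2⟩ := col2
      refine ⟨i, fun l hl => ?_⟩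
      rcases fin3_cases l with rfl | rfl | rfl
      · exact h1
      · exact h2
      · exact absurd rfl hl
  choose ρ hρ using hcol
  have hinj : Function.Injective ρ := by
    intro j j' hjj
    by_contra hne
    apply rowne (ρ j)
    have hz : ∀ l, N (ρ j) l = 0 := by
      intro l
      by_cases hl : l = j
      · have hl' : l ≠ j' := by rw [hl]; exact hne
        rw [hjj]; exact hρ j' l hl'
      · exact hρ j l hl
    exact ⟨hz 0, hz 1, hz 2⟩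
  have hbij : Function.Bijective ρ := Finite.injective_iff_bijective.mp hinj
  obtain ⟨σ, hσ⟩ : ∃ σ : Equiv.Perm (Fin 3), ∀ i, ρ (σ i) = i :=
    ⟨(Equiv.ofBijective ρ hbij).symm, fun i => Equiv.ofBijective_apply_symm_apply ρ hbij i⟩
  have hrow : ∀ i l : Fin 3, l ≠ σ i → N i l = 0 := by
    intro i l hl
    have h := hρ (σ i) l hl
    rwa [hσ i] at h
  refine ⟨σ, fun i => N i (σ i), ?_, ?_⟩
  · intro i hi
    apply rowne i
    have hz : ∀ l, N i l = 0 := by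
      intro l
      by_cases hl : l = σ i
      · rw [hl]; exact hi
      · exact hrow i l hl
    exact ⟨hz 0, hz 1, hz 2⟩
  · intro x i
    simp only [Matrix.mulVec, dotProduct]
    rw [Finset.sum_eq_single (σ i)]
    · intro l _ hl
      rw [hrow i l hl, zero_mul]
    · intro h; exact absurd (Finset.mem_univ _) h

theorem mono_single (N : Matrix (Fin 3) (Fin 3) ℂ) (π : Equiv.Perm (Fin 3)) (g : Fin 3 → ℂ)
    (h : ∀ (x : Fin 3 → ℂ) (i : Fin 3), (N.mulVec x) i = g i * x (π i)) (i : Fin 3) :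
    N.mulVec (Pi.single (π i) 1) = Pi.single i (g i) := by
  funext i'
  rw [h]
  by_cases hi : i' = i
  · subst hi
    rw [Pi.single_eq_same, Pi.single_eq_same, mul_one]
  · rw [Pi.single_eq_of_ne hi, Pi.single_eq_of_ne (fun h' => hi (π.injective h')), mul_zero]

theorem Hk_sum (k : ℂ) (x : Fin 3 → ℂ) :
    eval x (HesseCubic.form k) = ∑ l, x l ^ 3 - 3 * k * ∏ l, x l := by
  rw [Groth.Agent.S18404.eval_form, Fin.sum_univ_three, Fin.prod_univ_three]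

theorem H_single (k : ℂ) (i : Fin 3) (t : ℂ) :
    eval (Pi.single i t : Fin 3 → ℂ) (HesseCubic.form k) = t ^ 3 := by
  rw [Hk_sum]
  obtain ⟨l, hl⟩ := exists_ne i
  have hp : ∏ l, (Pi.single i t : Fin 3 → ℂ) l = 0 :=
    Finset.prod_eq_zero (Finset.mem_univ l) (by rw [Pi.single_eq_of_ne hl])
  rw [hp, Finset.sum_eq_single i]
  · rw [Pi.single_eq_same]; ring
  · intro l' _ hl'
    rw [Pi.single_eq_of_ne hl', zero_pow (by norm_num)]
  · intro h; exact absurd (Finset.mem_univ i) h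

theorem flex_zero (k : ℂ) (hk1 : k ^ 3 ≠ 1) (A : Matrix (Fin 3) (Fin 3) ℂ) (hdet : A.det = 1)
    (c : ℂ)
    (hA : ∀ x : Fin 3 → ℂ, eval (A.mulVec x) (HesseCubic.form k) = c * eval x (HesseCubic.form k))
    (P : Fin 3 → ℂ) (hP0 : P ≠ 0) (hPC : eval P (HesseCubic.form k) = 0)
    (hPflex : ∃ γ c' : ℂ, γ ^ 3 = 1 ∧
      (P = c' • ![0, 1, -γ] ∨ P = c' • ![-γ, 0, 1] ∨ P = c' • ![1, -γ, 0])) :
    (A.mulVec P) 0 * (A.mulVec P) 1 * (A.mulVec P) 2 = 0 := by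
  have hunit : IsUnit A.det := by rw [hdet]; exact isUnit_one
  have hinj : ∀ x : Fin 3 → ℂ, A.mulVec x = 0 → x = 0 := by
    intro x h
    have h1 : A⁻¹.mulVec (A.mulVec x) = 0 := by rw [h, Matrix.mulVec_zero]
    rwa [Matrix.mulVec_mulVec, Matrix.nonsing_inv_mul A hunit, Matrix.one_mulVec] at h1
  obtain ⟨w, hli, hw⟩ := (Groth.Agent.S18404.result k hk1 P hP0 hPC).mpr hPflex
  have hv0 : A.mulVec P ≠ 0 := fun h => hP0 (hinj P h)
  have hCv : eval (A.mulVec P) (HesseCubic.form k) = 0 := by rw [hA, hPC, mul_zero]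
  have hfl : ∃ w' : Fin 3 → ℂ, LinearIndependent ℂ ![A.mulVec P, w'] ∧
      ∀ t : ℂ, eval (A.mulVec P + t • w') (HesseCubic.form k)
        = t ^ 3 * eval w' (HesseCubic.form k) := by
    refine ⟨A.mulVec w, ?_, ?_⟩
    · rw [LinearIndependent.pair_iff]
      intro s t hst
      exact LinearIndependent.pair_iff.mp hli s t (hinj _ (by
        rw [Matrix.mulVec_add, Matrix.mulVec_smul, Matrix.mulVec_smul]; exact hst))
    · intro t
      rw [← Matrix.mulVec_smul, ← Matrix.mulVec_add, hA, hA, hw]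
      ring
  obtain ⟨γ', c', _, h | h | h⟩ := (Groth.Agent.S18404.result k hk1 _ hv0 hCv).mp hfl
  · rw [h]; simp
  · rw [h]; simp
  · rw [h]; simp

theorem classify (ω : ℂ) (hω : ω ^ 2 + ω + 1 = 0) (k : ℂ) (hk0 : k ≠ 0) (hk1 : k ^ 3 ≠ 1)
    (hbad : ∀ κ' : ℂ, κ' ^ 3 = 1 → (2 + k * κ') ^ 3 + k ^ 3 * (1 - k * κ') ^ 3 ≠ 0)
    (A : Matrix (Fin 3) (Fin 3) ℂ) (hdet : A.det = 1) (c : ℂ)
    (hA : ∀ x : Fin 3 → ℂ, eval (A.mulVec x) (HesseCubic.form k) = c * eval x (HesseCubic.form k)) :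
    ∃ (σ : Equiv.Perm (Fin 3)) (d : Fin 3 → ℂ),
      (∀ (x : Fin 3 → ℂ) (i : Fin 3), (A.mulVec x) i = d i * x (σ i)) ∧
      (∀ i, d i ^ 3 = c) ∧ d 0 * d 1 * d 2 = c := by
  have hunit : IsUnit A.det := by rw [hdet]; exact isUnit_one
  have h0 : ∀ γ : ℂ, γ ^ 3 = 1 →
      (A 0 1 - A 0 2 * γ) * (A 1 1 - A 1 2 * γ) * (A 2 1 - A 2 2 * γ) = 0 := by
    intro γ hγ
    have e0 : (![0, 1, -γ] : Fin 3 → ℂ) 0 = 0 := rfl
    have e1 : (![0, 1, -γ] : Fin 3 → ℂ) 1 = 1 := rfl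
    have e2 : (![0, 1, -γ] : Fin 3 → ℂ) 2 = -γ := rfl
    have h := flex_zero k hk1 A hdet c hA ![0, 1, -γ] (fun h => one_ne_zero (congrFun h 1))
      (by rw [Groth.Agent.S18404.eval_form, e0, e1, e2]; linear_combination (-1 : ℂ) * hγ)
      ⟨γ, 1, hγ, Or.inl (one_smul _ _).symm⟩
    rw [mulVec3, mulVec3, mulVec3, e0, e1, e2] at h
    linear_combination h
  have h1 : ∀ γ : ℂ, γ ^ 3 = 1 →
      (-(A 0 0 * γ) + A 0 2) * (-(A 1 0 * γ) + A 1 2) * (-(A 2 0 * γ) + A 2 2) = 0 := by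
    intro γ hγ
    have e0 : (![-γ, 0, 1] : Fin 3 → ℂ) 0 = -γ := rfl
    have e1 : (![-γ, 0, 1] : Fin 3 → ℂ) 1 = 0 := rfl
    have e2 : (![-γ, 0, 1] : Fin 3 → ℂ) 2 = 1 := rfl
    have h := flex_zero k hk1 A hdet c hA ![-γ, 0, 1] (fun h => one_ne_zero (congrFun h 2))
      (by rw [Groth.Agent.S18404.eval_form, e0, e1, e2]; linear_combination (-1 : ℂ) * hγ)
      ⟨γ, 1, hγ, Or.inr (Or.inl (one_smul _ _).symm)⟩
    rw [mulVec3, mulVec3, mulVec3, e0, e1, e2] at h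
    linear_combination h
  have h2 : ∀ γ : ℂ, γ ^ 3 = 1 →
      (A 0 0 - A 0 1 * γ) * (A 1 0 - A 1 1 * γ) * (A 2 0 - A 2 1 * γ) = 0 := by
    intro γ hγ
    have e0 : (![1, -γ, 0] : Fin 3 → ℂ) 0 = 1 := rfl
    have e1 : (![1, -γ, 0] : Fin 3 → ℂ) 1 = -γ := rfl
    have e2 : (![1, -γ, 0] : Fin 3 → ℂ) 2 = 0 := rfl
    have h := flex_zero k hk1 A hdet c hA ![1, -γ, 0] (fun h => one_ne_zero (congrFun h 0))
      (by rw [Groth.Agent.S18404.eval_form, e0, e1, e2]; linear_combination (-1 : ℂ) * hγ)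
      ⟨γ, 1, hγ, Or.inr (Or.inr (one_smul _ _).symm)⟩
    rw [mulVec3, mulVec3, mulVec3, e0, e1, e2] at h
    linear_combination h
  have hI := HesseAut1.pencil_of_flex ω hω (A 0 0) (A 0 1) (A 0 2) (A 1 0) (A 1 1) (A 1 2)
    (A 2 0) (A 2 1) (A 2 2) h0 h1 h2
  obtain ⟨α, hαdef⟩ : ∃ α : ℂ, α = A 0 0 * A 1 0 * A 2 0 := ⟨_, rfl⟩
  obtain ⟨β, hβdef⟩ : ∃ β : ℂ, β = A 0 0 * A 1 1 * A 2 2 + A 0 0 * A 1 2 * A 2 1
      + A 0 1 * A 1 0 * A 2 2 + A 0 1 * A 1 2 * A 2 0 + A 0 2 * A 1 0 * A 2 1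
      + A 0 2 * A 1 1 * A 2 0 := ⟨_, rfl⟩
  have hpA : ∀ x : Fin 3 → ℂ, (A.mulVec x) 0 * (A.mulVec x) 1 * (A.mulVec x) 2
      = α * (x 0 ^ 3 + x 1 ^ 3 + x 2 ^ 3) + β * (x 0 * x 1 * x 2) := by
    intro x
    rw [mulVec3, mulVec3, mulVec3, hαdef, hβdef]
    linear_combination hI (x 0) (x 1) (x 2)
  have hD : A 0 0 * (A 1 1 * A 2 2 - A 1 2 * A 2 1) - A 0 1 * (A 1 0 * A 2 2 - A 1 2 * A 2 0)
      + A 0 2 * (A 1 0 * A 2 1 - A 1 1 * A 2 0) ≠ 0 := by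
    have h : A 0 0 * (A 1 1 * A 2 2 - A 1 2 * A 2 1) - A 0 1 * (A 1 0 * A 2 2 - A 1 2 * A 2 0)
        + A 0 2 * (A 1 0 * A 2 1 - A 1 1 * A 2 0) = A.det := by
      rw [Matrix.det_fin_three]; ring
    rw [h, hdet]; exact one_ne_zero
  have hc0 : c ≠ 0 := by
    intro hc
    have h := hA (A⁻¹.mulVec (Pi.single 0 1))
    rw [Matrix.mulVec_mulVec, Matrix.mul_nonsing_inv A hunit, Matrix.one_mulVec, H_single, hc,
      zero_mul] at h
    norm_num at h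
  by_cases hα0 : α = 0
  · -- the coordinate triangle is preserved: `A` is monomial
    have hpA' : ∀ x : Fin 3 → ℂ, (A.mulVec x) 0 * (A.mulVec x) 1 * (A.mulVec x) 2
        = β * (x 0 * x 1 * x 2) := by
      intro x; rw [hpA, hα0]; ring
    have hβ0 : β ≠ 0 := by
      intro hβ0
      have h := hpA' (A⁻¹.mulVec (fun _ => 1))
      rw [Matrix.mulVec_mulVec, Matrix.mul_nonsing_inv A hunit, Matrix.one_mulVec, hβ0] at h
      norm_num at h
    obtain ⟨σ, d, _, hmul⟩ := monomial_of_prod A β hβ0 hpA'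
    have hd3 : ∀ i, d i ^ 3 = c := by
      intro i
      have h := hA (Pi.single (σ i) 1)
      rw [mono_single A σ d hmul i, H_single, H_single] at h
      linear_combination h
    have hone := hA (fun _ => 1)
    rw [Groth.Agent.S18404.eval_form, Groth.Agent.S18404.eval_form, hmul, hmul, hmul] at hone
    have hprod : d 0 * d 1 * d 2 = c := by
      have h3 : k * (d 0 * d 1 * d 2 - c) = 0 := by
        linear_combination (-1 / 3 : ℂ) * hone + (1 / 3 : ℂ) * hd3 0 + (1 / 3 : ℂ) * hd3 1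
          + (1 / 3 : ℂ) * hd3 2
      have h4 := (mul_eq_zero.mp h3).resolve_left hk0
      linear_combination h4
    exact ⟨σ, d, hmul, hd3, hprod⟩
  · -- another inflection triangle would be mapped to the coordinate triangle: excluded
    exfalso
    obtain ⟨κ, hκ, hβ⟩ := HesseAut1.vertex_special (A 0 0) (A 0 1) (A 0 2) (A 1 0) (A 1 1) (A 1 2)
      (A 2 0) (A 2 1) (A 2 2) α β hD
      (fun x0 x1 x2 => by rw [hαdef, hβdef]; linear_combination hI x0 x1 x2) hα0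
    have hpκ : ∀ y : Fin 3 → ℂ, (A.mulVec y) 0 * (A.mulVec y) 1 * (A.mulVec y) 2
        = α * (y 0 ^ 3 + y 1 ^ 3 + y 2 ^ 3 - 3 * κ * (y 0 * y 1 * y 2)) := by
      intro y; rw [hpA, hβ]; ring
    obtain ⟨Y, hYdef⟩ : ∃ Y : Matrix (Fin 3) (Fin 3) ℂ,
        Y = Matrix.of ![![1, 1, 1], ![1, ω ^ 2, ω], ![κ ^ 2, κ ^ 2 * ω, κ ^ 2 * ω ^ 2]] :=
      ⟨_, rfl⟩
    have hY0 : ∀ x : Fin 3 → ℂ, (Y.mulVec x) 0 = x 0 + x 1 + x 2 := by
      intro x
      rw [mulVec3, hYdef]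
      show (1 : ℂ) * x 0 + 1 * x 1 + 1 * x 2 = _
      ring
    have hY1 : ∀ x : Fin 3 → ℂ, (Y.mulVec x) 1 = x 0 + ω ^ 2 * x 1 + ω * x 2 := by
      intro x
      rw [mulVec3, hYdef]
      show (1 : ℂ) * x 0 + ω ^ 2 * x 1 + ω * x 2 = _
      ring
    have hY2 : ∀ x : Fin 3 → ℂ, (Y.mulVec x) 2 = κ ^ 2 * (x 0 + ω * x 1 + ω ^ 2 * x 2) := by
      intro x
      rw [mulVec3, hYdef]
      show κ ^ 2 * x 0 + κ ^ 2 * ω * x 1 + κ ^ 2 * ω ^ 2 * x 2 = _
      ring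
    have hNx : ∀ x : Fin 3 → ℂ, (A * Y).mulVec x = A.mulVec (Y.mulVec x) :=
      fun x => (Matrix.mulVec_mulVec x A Y).symm
    have hpN : ∀ x : Fin 3 → ℂ,
        ((A * Y).mulVec x) 0 * ((A * Y).mulVec x) 1 * ((A * Y).mulVec x) 2
          = (27 * α) * (x 0 * x 1 * x 2) := by
      intro x
      rw [hNx, hpκ, hY0, hY1, hY2]
      linear_combination HesseAut1.B1 ω κ α (x 0) (x 1) (x 2) hω hκ
    obtain ⟨π, g, _, hNmul⟩ :=
      monomial_of_prod (A * Y) (27 * α) (mul_ne_zero (by norm_num) hα0) hpN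
    have hAN : ∀ x : Fin 3 → ℂ, eval ((A * Y).mulVec x) (HesseCubic.form k)
        = c * eval (Y.mulVec x) (HesseCubic.form k) := fun x => by rw [hNx]; exact hA _
    have hYcol : ∀ j : Fin 3,
        eval (Y.mulVec (Pi.single j 1)) (HesseCubic.form k) = 3 - 3 * k * κ ^ 2 := by
      intro j
      rw [Groth.Agent.S18404.eval_form, hY0, hY1, hY2]
      rcases fin3_cases j with rfl | rfl | rfl
      · have s0 : (Pi.single (0 : Fin 3) (1 : ℂ) : Fin 3 → ℂ) 0 = 1 := Pi.single_eq_same _ _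
        have s1 : (Pi.single (0 : Fin 3) (1 : ℂ) : Fin 3 → ℂ) 1 = 0 :=
          Pi.single_eq_of_ne (by decide) _
        have s2 : (Pi.single (0 : Fin 3) (1 : ℂ) : Fin 3 → ℂ) 2 = 0 :=
          Pi.single_eq_of_ne (by decide) _
        rw [s0, s1, s2]
        linear_combination (1 + κ ^ 3) * hκ
      · have s0 : (Pi.single (1 : Fin 3) (1 : ℂ) : Fin 3 → ℂ) 0 = 0 :=
          Pi.single_eq_of_ne (by decide) _
        have s1 : (Pi.single (1 : Fin 3) (1 : ℂ) : Fin 3 → ℂ) 1 = 1 := Pi.single_eq_same _ _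
        have s2 : (Pi.single (1 : Fin 3) (1 : ℂ) : Fin 3 → ℂ) 2 = 0 :=
          Pi.single_eq_of_ne (by decide) _
        rw [s0, s1, s2]
        linear_combination (-1 + 3*k*κ^2 - 3*k*κ^2*ω - κ^6 + κ^6*ω + ω - ω^3 + ω^4) * hω
          + (1 + κ ^ 3) * hκ
      · have s0 : (Pi.single (2 : Fin 3) (1 : ℂ) : Fin 3 → ℂ) 0 = 0 :=
          Pi.single_eq_of_ne (by decide) _
        have s1 : (Pi.single (2 : Fin 3) (1 : ℂ) : Fin 3 → ℂ) 1 = 0 :=
          Pi.single_eq_of_ne (by decide) _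
        have s2 : (Pi.single (2 : Fin 3) (1 : ℂ) : Fin 3 → ℂ) 2 = 1 := Pi.single_eq_same _ _
        rw [s0, s1, s2]
        linear_combination (-1 + 3*k*κ^2 - 3*k*κ^2*ω - κ^6 + κ^6*ω - κ^6*ω^3 + κ^6*ω^4 + ω) * hω
          + (1 + κ ^ 3) * hκ
    have hg3 : ∀ i, g i ^ 3 = c * (3 - 3 * k * κ ^ 2) := by
      intro i
      have h := hAN (Pi.single (π i) 1)
      rw [mono_single (A * Y) π g hNmul i, H_single, hYcol] at h
      exact h
    have hone := hAN (fun _ => 1)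
    rw [Groth.Agent.S18404.eval_form, Groth.Agent.S18404.eval_form, hNmul, hNmul, hNmul, hY0, hY1,
      hY2] at hone
    have hone' : g 0 ^ 3 + g 1 ^ 3 + g 2 ^ 3 - 3 * k * (g 0 * g 1 * g 2)
        = c * ((3 : ℂ) ^ 3 + (1 + ω ^ 2 + ω) ^ 3 + (κ ^ 2 * (1 + ω + ω ^ 2)) ^ 3
            - 3 * k * (3 * (1 + ω ^ 2 + ω) * (κ ^ 2 * (1 + ω + ω ^ 2)))) := by
      linear_combination hone
    have hP := HesseAut1.B3 ω κ k c (g 0) (g 1) (g 2) hω hone' (hg3 0) (hg3 1) (hg3 2)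
    have hfin := HesseAut1.B4 κ k c (g 0) (g 1) (g 2) hP (hg3 0) (hg3 1) (hg3 2)
    have hκ2 : (κ ^ 2) ^ 3 = 1 := by linear_combination (κ ^ 3 + 1) * hκ
    apply hbad (κ ^ 2) hκ2
    have h27 : (27 : ℂ) * c ^ 3 ≠ 0 := mul_ne_zero (by norm_num) (pow_ne_zero 3 hc0)
    exact (mul_eq_zero.mp hfin).resolve_left h27

end Groth.Agent.Lib.Helper22.HesseAut2
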