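import Mathlib
import Groth.Agent.S18404
import Groth.Agent.S18406
import Groth.Agent.Lib.Helper22.HesseAut2

/-!
# Counting the determinant-one automorphisms of a generic Hesse cubic
-/

set_option autoImplicit false

namespace Groth.Agent.Lib.Helper22.HesseAut3
open MvPolynomial
open Groth.Agent.Lib.Helper22 Groth.Agent.Lib.Helper22.HesseAut2

noncomputable def eps (σ : Equiv.Perm (Fin 3)) : ℂ := ((Equiv.Perm.sign σ : ℤ) : ℂ)

theorem eps_mul_self (σ : Equiv.Perm (Fin 3)) : eps σ * eps σ = 1 := by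
  unfold eps
  rw [← Int.cast_mul, Int.units_coe_mul_self, Int.cast_one]

theorem eps_ne (σ : Equiv.Perm (Fin 3)) : eps σ ≠ 0 := by
  intro h0
  have h := eps_mul_self σ
  rw [h0, zero_mul] at h
  exact zero_ne_one h

noncomputable def MkM (σ : Equiv.Perm (Fin 3)) (d : Fin 3 → ℂ) : Matrix (Fin 3) (Fin 3) ℂ :=
  Matrix.diagonal d * σ.permMatrix ℂ

theorem MkM_mulVec (σ : Equiv.Perm (Fin 3)) (d x : Fin 3 → ℂ) (i : Fin 3) :
    ((MkM σ d).mulVec x) i = d i * x (σ i) := by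
  have h1 : (MkM σ d).mulVec x = (Matrix.diagonal d).mulVec (x ∘ σ) := by
    unfold MkM
    rw [← Matrix.mulVec_mulVec, Matrix.permMatrix_mulVec]
  rw [h1, Matrix.mulVec_diagonal, Function.comp_apply]

theorem MkM_det (σ : Equiv.Perm (Fin 3)) (d : Fin 3 → ℂ) :
    (MkM σ d).det = (d 0 * d 1 * d 2) * eps σ := by
  unfold MkM eps
  rw [Matrix.det_mul, Matrix.det_diagonal, Matrix.det_permutation, Fin.prod_univ_three]

theorem mono_in (k : ℂ) (σ : Equiv.Perm (Fin 3)) (d : Fin 3 → ℂ) (hd : ∀ i, d i ^ 3 = eps σ)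
    (hp : d 0 * d 1 * d 2 = eps σ) :
    (MkM σ d).det = 1 ∧ ∀ x : Fin 3 → ℂ,
      eval ((MkM σ d).mulVec x) (HesseCubic.form k) = eps σ * eval x (HesseCubic.form k) := by
  constructor
  · rw [MkM_det, hp, eps_mul_self]
  · intro x
    rw [Groth.Agent.S18404.eval_form, Groth.Agent.S18404.eval_form, MkM_mulVec, MkM_mulVec,
      MkM_mulVec]
    have hs : x (σ 0) ^ 3 + x (σ 1) ^ 3 + x (σ 2) ^ 3 = x 0 ^ 3 + x 1 ^ 3 + x 2 ^ 3 := by
      have h := Equiv.sum_comp σ (fun i => x i ^ 3)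
      rw [Fin.sum_univ_three, Fin.sum_univ_three] at h
      exact h
    have hq : x (σ 0) * x (σ 1) * x (σ 2) = x 0 * x 1 * x 2 := by
      have h := Equiv.prod_comp σ (fun i => x i)
      rw [Fin.prod_univ_three, Fin.prod_univ_three] at h
      exact h
    linear_combination (x (σ 0)) ^ 3 * hd 0 + (x (σ 1)) ^ 3 * hd 1 + (x (σ 2)) ^ 3 * hd 2
      - 3 * k * (x (σ 0) * x (σ 1) * x (σ 2)) * hp + eps σ * hs - 3 * k * eps σ * hq

noncomputable def rz (ζ : rootsOfUnity 3 ℂ) : ℂ := ((ζ : ℂˣ) : ℂ)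

theorem rz_pow (ζ : rootsOfUnity 3 ℂ) : rz ζ ^ 3 = 1 := by
  have h := (mem_rootsOfUnity 3 (ζ : ℂˣ)).mp ζ.2
  have h2 := congrArg Units.val h
  simpa [rz] using h2

theorem rz_ne (ζ : rootsOfUnity 3 ℂ) : rz ζ ≠ 0 := Units.ne_zero _

theorem rz_inj {ζ ζ' : rootsOfUnity 3 ℂ} (h : rz ζ = rz ζ') : ζ = ζ' :=
  Subtype.ext (Units.ext h)

theorem rz_mk (t : ℂ) (h : t ^ 3 = 1) : rz (rootsOfUnity.mkOfPowEq t h) = t :=
  rootsOfUnity.coe_mkOfPowEq h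

noncomputable def zvec (ζ₀ ζ₁ : rootsOfUnity 3 ℂ) : Fin 3 → ℂ :=
  ![rz ζ₀, rz ζ₁, (rz ζ₀ * rz ζ₁)⁻¹]

theorem zvec_pow (ζ₀ ζ₁ : rootsOfUnity 3 ℂ) (i : Fin 3) : zvec ζ₀ ζ₁ i ^ 3 = 1 := by
  rcases fin3_cases i with rfl | rfl | rfl
  · exact rz_pow ζ₀
  · exact rz_pow ζ₁
  · show ((rz ζ₀ * rz ζ₁)⁻¹) ^ 3 = 1
    rw [inv_pow, mul_pow, rz_pow, rz_pow, mul_one, inv_one]

theorem zvec_ne (ζ₀ ζ₁ : rootsOfUnity 3 ℂ) (i : Fin 3) : zvec ζ₀ ζ₁ i ≠ 0 := by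
  intro h0
  have h := zvec_pow ζ₀ ζ₁ i
  rw [h0] at h
  norm_num at h

theorem zvec_prod (ζ₀ ζ₁ : rootsOfUnity 3 ℂ) :
    zvec ζ₀ ζ₁ 0 * zvec ζ₀ ζ₁ 1 * zvec ζ₀ ζ₁ 2 = 1 := by
  show rz ζ₀ * rz ζ₁ * (rz ζ₀ * rz ζ₁)⁻¹ = 1
  exact mul_inv_cancel₀ (mul_ne_zero (rz_ne _) (rz_ne _))

noncomputable def Fmat3 (σ : Equiv.Perm (Fin 3)) (ζ₀ ζ₁ : rootsOfUnity 3 ℂ) :
    Matrix (Fin 3) (Fin 3) ℂ :=
  MkM σ (fun i => eps σ * zvec ζ₀ ζ₁ i)

theorem Fmat3_mem (k : ℂ) (σ : Equiv.Perm (Fin 3)) (ζ₀ ζ₁ : rootsOfUnity 3 ℂ) :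
    (Fmat3 σ ζ₀ ζ₁).det = 1 ∧ ∀ x : Fin 3 → ℂ,
      eval ((Fmat3 σ ζ₀ ζ₁).mulVec x) (HesseCubic.form k)
        = eps σ * eval x (HesseCubic.form k) := by
  unfold Fmat3
  apply mono_in
  · intro i
    show (eps σ * zvec ζ₀ ζ₁ i) ^ 3 = eps σ
    rw [mul_pow, zvec_pow, mul_one]
    linear_combination eps σ * eps_mul_self σ
  · show eps σ * zvec ζ₀ ζ₁ 0 * (eps σ * zvec ζ₀ ζ₁ 1) * (eps σ * zvec ζ₀ ζ₁ 2) = eps σ
    linear_combination (eps σ) ^ 3 * zvec_prod ζ₀ ζ₁ + eps σ * eps_mul_self σ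

theorem Fmat3_inj (σ σ' : Equiv.Perm (Fin 3)) (ζ₀ ζ₁ ζ₀' ζ₁' : rootsOfUnity 3 ℂ)
    (h : Fmat3 σ ζ₀ ζ₁ = Fmat3 σ' ζ₀' ζ₁') : σ = σ' ∧ ζ₀ = ζ₀' ∧ ζ₁ = ζ₁' := by
  have hmv : ∀ (x : Fin 3 → ℂ) (i : Fin 3),
      eps σ * zvec ζ₀ ζ₁ i * x (σ i) = eps σ' * zvec ζ₀' ζ₁' i * x (σ' i) := by
    intro x i
    have h1 : ((Fmat3 σ ζ₀ ζ₁).mulVec x) i = ((Fmat3 σ' ζ₀' ζ₁').mulVec x) i := by rw [h]
    unfold Fmat3 at h1
    rw [MkM_mulVec, MkM_mulVec] at h1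
    exact h1
  have hσ : σ = σ' := by
    apply Equiv.ext
    intro i
    by_contra hne
    have h1 := hmv (Pi.single (σ i) 1) i
    rw [Pi.single_eq_same, Pi.single_eq_of_ne (fun h' => hne h'.symm), mul_one, mul_zero] at h1
    exact mul_ne_zero (eps_ne σ) (zvec_ne ζ₀ ζ₁ i) h1
  subst hσ
  have hzz : ∀ i, zvec ζ₀ ζ₁ i = zvec ζ₀' ζ₁' i := by
    intro i
    have h1 := hmv (fun _ => 1) i
    simp only [mul_one] at h1
    exact mul_left_cancel₀ (eps_ne σ) h1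
  exact ⟨rfl, rz_inj (hzz 0), rz_inj (hzz 1)⟩

/-- the predicate cutting out the determinant-one automorphisms -/
def AutPred (k : ℂ) (A : Matrix (Fin 3) (Fin 3) ℂ) : Prop :=
  A.det = 1 ∧ ∃ c : ℂ, aeval (fun i : Fin 3 => ∑ j : Fin 3, C (A i j) * X j) (HesseCubic.form k) =
    C c * HesseCubic.form k

theorem autPred_iff (k : ℂ) (A : Matrix (Fin 3) (Fin 3) ℂ) (c : ℂ) :
    aeval (fun i : Fin 3 => ∑ j : Fin 3, C (A i j) * X j) (HesseCubic.form k)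
        = C c * HesseCubic.form k ↔
      ∀ x : Fin 3 → ℂ, eval (A.mulVec x) (HesseCubic.form k) = c * eval x (HesseCubic.form k) := by
  constructor
  · intro h x
    have h1 := congrArg (eval x) h
    rwa [Groth.Agent.S18406.eval_subst, map_mul, eval_C] at h1
  · intro h
    apply MvPolynomial.funext
    intro x
    rw [Groth.Agent.S18406.eval_subst, map_mul, eval_C]
    exact h x

theorem card_eq (ω : ℂ) (hω : ω ^ 2 + ω + 1 = 0) (k : ℂ) (hk0 : k ≠ 0) (hk1 : k ^ 3 ≠ 1)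
    (hbad : ∀ κ' : ℂ, κ' ^ 3 = 1 → (2 + k * κ') ^ 3 + k ^ 3 * (1 - k * κ') ^ 3 ≠ 0) :
    Nat.card {A : Matrix (Fin 3) (Fin 3) ℂ // AutPred k A} = 54 := by
  have hmem : ∀ φ : Equiv.Perm (Fin 3) × rootsOfUnity 3 ℂ × rootsOfUnity 3 ℂ,
      AutPred k (Fmat3 φ.1 φ.2.1 φ.2.2) := by
    intro φ
    obtain ⟨h1, h2⟩ := Fmat3_mem k φ.1 φ.2.1 φ.2.2
    exact ⟨h1, eps φ.1, (autPred_iff k _ _).mpr h2⟩
  have hinj : Function.Injective
      (fun φ : Equiv.Perm (Fin 3) × rootsOfUnity 3 ℂ × rootsOfUnity 3 ℂ =>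
        (⟨Fmat3 φ.1 φ.2.1 φ.2.2, hmem φ⟩ : {A : Matrix (Fin 3) (Fin 3) ℂ // AutPred k A})) := by
    rintro ⟨σ, ζ₀, ζ₁⟩ ⟨σ', ζ₀', ζ₁'⟩ h
    have hF : Fmat3 σ ζ₀ ζ₁ = Fmat3 σ' ζ₀' ζ₁' := congrArg Subtype.val h
    obtain ⟨e1, e2, e3⟩ := Fmat3_inj σ σ' ζ₀ ζ₁ ζ₀' ζ₁' hF
    rw [e1, e2, e3]
  have hsurj : Function.Surjective
      (fun φ : Equiv.Perm (Fin 3) × rootsOfUnity 3 ℂ × rootsOfUnity 3 ℂ =>
        (⟨Fmat3 φ.1 φ.2.1 φ.2.2, hmem φ⟩ : {A : Matrix (Fin 3) (Fin 3) ℂ // AutPred k A})) := by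
    rintro ⟨A, hdet, c, hc⟩
    have hA := (autPred_iff k A c).mp hc
    obtain ⟨σ, d, hmul, hd3, hprod⟩ := classify ω hω k hk0 hk1 hbad A hdet c hA
    have hAM : A = MkM σ d := by
      apply Groth.Agent.S18406.matrix_ext_mulVec
      intro v
      funext i
      rw [hmul, MkM_mulVec]
    have hcε : c = eps σ := by
      have h1 : c * eps σ = 1 := by
        have h2 := MkM_det σ d
        rw [← hAM, hdet, hprod] at h2
        exact h2.symm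
      calc c = c * (eps σ * eps σ) := by rw [eps_mul_self, mul_one]
        _ = (c * eps σ) * eps σ := by ring
        _ = eps σ := by rw [h1, one_mul]
    have hζ : ∀ i, (eps σ * d i) ^ 3 = 1 := by
      intro i
      rw [mul_pow, hd3 i, hcε]
      linear_combination (eps σ * eps σ + 1) * eps_mul_self σ
    have hprod' : d 0 * d 1 * d 2 = eps σ := by rw [hprod, hcε]
    refine ⟨(σ, rootsOfUnity.mkOfPowEq _ (hζ 0), rootsOfUnity.mkOfPowEq _ (hζ 1)), ?_⟩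
    apply Subtype.ext
    show Fmat3 σ _ _ = A
    rw [hAM]
    unfold Fmat3
    congr 1
    funext i
    rcases fin3_cases i with rfl | rfl | rfl
    · show eps σ * rz (rootsOfUnity.mkOfPowEq _ (hζ 0)) = d 0
      rw [rz_mk]
      linear_combination (d 0) * eps_mul_self σ
    · show eps σ * rz (rootsOfUnity.mkOfPowEq _ (hζ 1)) = d 1
      rw [rz_mk]
      linear_combination (d 1) * eps_mul_self σ
    · show eps σ * (rz (rootsOfUnity.mkOfPowEq _ (hζ 0)) * rz (rootsOfUnity.mkOfPowEq _ (hζ 1)))⁻¹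
          = d 2
      rw [rz_mk, rz_mk]
      have hX : eps σ * d 0 * (eps σ * d 1) ≠ 0 := by
        intro h0
        have h3 : (eps σ * d 0) ^ 3 * (eps σ * d 1) ^ 3 = 0 := by
          rw [← mul_pow, h0]; norm_num
        rw [hζ 0, hζ 1] at h3
        norm_num at h3
      have key : d 2 * (eps σ * d 0 * (eps σ * d 1)) = eps σ := by
        linear_combination (d 0 * d 1 * d 2) * eps_mul_self σ + hprod'
      rw [mul_inv_eq_iff_eq_mul₀ hX]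
      exact key.symm
  have hcard := Nat.card_congr (Equiv.ofBijective _ ⟨hinj, hsurj⟩)
  rw [← hcard, Nat.card_prod, Nat.card_prod, Complex.card_rootsOfUnity, Nat.card_eq_fintype_card,
    Fintype.card_perm, Fintype.card_fin]
  rfl

noncomputable def Qbad (κ' : ℂ) : Polynomial ℂ :=
  (Polynomial.C 2 + Polynomial.X * Polynomial.C κ') ^ 3
    + Polynomial.X ^ 3 * (Polynomial.C 1 - Polynomial.X * Polynomial.C κ') ^ 3

noncomputable def Pbad (ω : ℂ) : Polynomial ℂ :=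
  Polynomial.X * (Polynomial.X ^ 3 - Polynomial.C 1) * (Qbad 1 * Qbad ω * Qbad (ω ^ 2))

theorem Qbad_eval (κ' k : ℂ) :
    (Qbad κ').eval k = (2 + k * κ') ^ 3 + k ^ 3 * (1 - k * κ') ^ 3 := by
  unfold Qbad
  simp only [Polynomial.eval_add, Polynomial.eval_mul, Polynomial.eval_pow, Polynomial.eval_sub,
    Polynomial.eval_C, Polynomial.eval_X]

theorem Qbad_ne (κ' : ℂ) : Qbad κ' ≠ 0 := by
  intro h
  have h1 := Qbad_eval κ' 0
  rw [h] at h1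
  norm_num at h1

theorem Pbad_ne (ω : ℂ) : Pbad ω ≠ 0 := by
  unfold Pbad
  refine mul_ne_zero (mul_ne_zero Polynomial.X_ne_zero ?_)
    (mul_ne_zero (mul_ne_zero (Qbad_ne _) (Qbad_ne _)) (Qbad_ne _))
  exact Polynomial.X_pow_sub_C_ne_zero (by norm_num) 1

theorem Pbad_spec (ω : ℂ) (hω : ω ^ 2 + ω + 1 = 0) (k : ℂ)
    (hk : k ∉ (Pbad ω).roots.toFinset) :
    k ≠ 0 ∧ k ^ 3 ≠ 1 ∧
      ∀ κ' : ℂ, κ' ^ 3 = 1 → (2 + k * κ') ^ 3 + k ^ 3 * (1 - k * κ') ^ 3 ≠ 0 := by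
  have hev : (Pbad ω).eval k ≠ 0 := by
    intro h
    apply hk
    rw [Multiset.mem_toFinset, Polynomial.mem_roots (Pbad_ne ω)]
    exact h
  simp only [Pbad, Polynomial.eval_mul, Polynomial.eval_sub, Polynomial.eval_pow,
    Polynomial.eval_X, Polynomial.eval_C, Qbad_eval] at hev
  have hk0 : k ≠ 0 := left_ne_zero_of_mul (left_ne_zero_of_mul hev)
  have hk1' : k ^ 3 - 1 ≠ 0 := right_ne_zero_of_mul (left_ne_zero_of_mul hev)
  have hq := right_ne_zero_of_mul hev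
  have hq1 := left_ne_zero_of_mul (left_ne_zero_of_mul hq)
  have hqω := right_ne_zero_of_mul (left_ne_zero_of_mul hq)
  have hqω2 := right_ne_zero_of_mul hq
  refine ⟨hk0, fun h => hk1' (by rw [h, sub_self]), ?_⟩
  intro κ' hκ'
  have hroots : (κ' - 1) * ((κ' - ω) * (κ' - ω ^ 2)) = 0 := by
    linear_combination hκ' + (1 + κ' * ω - κ' ^ 2 - ω) * hω
  rcases mul_eq_zero.mp hroots with h | h
  · have e : κ' = 1 := by linear_combination h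
    rw [e]; exact hq1
  · rcases mul_eq_zero.mp h with h | h
    · have e : κ' = ω := by linear_combination h
      rw [e]; exact hqω
    · have e : κ' = ω ^ 2 := by linear_combination h
      rw [e]; exact hqω2

end Groth.Agent.Lib.Helper22.HesseAut3
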