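import Groth.Agent.Lib.Helper22.PolyCoact
import Groth.Agent.Lib.Helper22.HilbertFinRel
import Groth.Agent.Lib.Helper22.LinRedU
import Groth.Prelude.Def_ComodSub

/-!
Universe-general copy of `HilbertGen` (helper22).
Hilbert's finiteness theorem, relative version: for a linearly reductive group acting on a
Noetherian `k`-algebra `S` and equivariantly on a finite type `S`-algebra `T`, the invariants `T^G`
are generated by the image of `S^G` and finitely many elements.
-/

set_option autoImplicit false
universe u v w w'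
open scoped TensorProduct

namespace Groth.Agent.Lib.helper22

theorem exists_finset_invariants_eq_adjoin_rel'
    (k : Type u) [Field k] (H : Type v) [CommRing H] [Bialgebra k H]
    (hG : HopfRep.IsLinearlyReductive k H)
    (S : Type w) [CommRing S] [Algebra k S] [IsNoetherianRing S]
    [HopfRep.Comod k H S] [GLin.IsCoactAlg k H S]
    (T : Type w') [CommRing T] [Algebra k T] [cT : HopfRep.Comod k H T] [GLin.IsCoactAlg k H T]
    [Algebra S T] [IsScalarTower k S T] [Algebra.FiniteType S T]
    (hST : Hoch.IsComodHom H (IsScalarTower.toAlgHom k S T).toLinearMap) :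
    ∃ s : Finset T, GLin.invariants k H T =
      Algebra.adjoin k (⇑(algebraMap S T) '' ↑(GLin.invariants k H S) ∪ ↑s) := by
  classical
  obtain ⟨t, ht⟩ : ∃ t : Finset T, Algebra.adjoin S (t : Set T) = ⊤ :=
    (Algebra.FiniteType.out : (⊤ : Subalgebra S T).FG)
  obtain ⟨W, hWfg, hW, htW, -⟩ := exists_fg_subcomod_of_finset (k := k) (C := H) (V := T) t
  have hWfin : Module.Finite k W := Module.Finite.iff_fg.mpr hWfg
  let b := Module.finBasis k W
  let cW : HopfRep.Comod k H W := ComodSub.Comod.restr cT W hW
  have hsub : Hoch.IsComodHom H W.subtype := ComodSub.isComodHom_subtype cT W hW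
  let cB : HopfRep.Comod k H (MvPolynomial (Fin (Module.finrank k W)) S) := polyComod H S b
  have hBalg : GLin.IsCoactAlg k H (MvPolynomial (Fin (Module.finrank k W)) S) :=
    polyComod_isCoactAlg b
  let φ := polyEval S b W.subtype
  have hφ : Hoch.IsComodHom H φ.toLinearMap := isComodHom_polyEval b W.subtype hsub hST
  -- surjectivity
  have hsurj : Function.Surjective φ := by
    have h1 : (t : Set T) ⊆ (MvPolynomial.aeval (fun i => W.subtype (b i)) :
        MvPolynomial (Fin (Module.finrank k W)) S →ₐ[S] T).range := by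
      intro x hx
      refine ⟨polyLin S b ⟨x, htW hx⟩, ?_⟩
      exact LinearMap.congr_fun (polyEval_comp_polyLin (S := S) b W.subtype) ⟨x, htW hx⟩
    have h2 := Algebra.adjoin_le h1
    rw [ht, top_le_iff] at h2
    intro x
    have : x ∈ (MvPolynomial.aeval (fun i => W.subtype (b i)) :
        MvPolynomial (Fin (Module.finrank k W)) S →ₐ[S] T).range := h2 ▸ Algebra.mem_top
    obtain ⟨p, hp⟩ := this
    exact ⟨p, hp⟩
  have hssB : HopfRep.IsSemisimpleComod k H (MvPolynomial (Fin (Module.finrank k W)) S) :=
    isSemisimpleComod_of_isLinearlyReductive' hG _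
  have hssT : HopfRep.IsSemisimpleComod k H T := isSemisimpleComod_of_isLinearlyReductive' hG _
  obtain ⟨Z, hZ, hgen⟩ := exists_finset_invariants_adjoin_rel (k := k) (A := H)
    (ι := Fin (Module.finrank k W)) (S := S)
    (polyComod_coact_C_mem b) (polyComod_coact_X_mem b) hssB
  obtain ⟨EB, hEB⟩ := exists_isReynolds (k := k) (A := H) hssB
  obtain ⟨ET, hET⟩ := exists_isReynolds (k := k) (A := H) hssT
  refine ⟨Z.image φ, ?_⟩
  apply le_antisymm
  · intro c hc
    obtain ⟨p, rfl⟩ := hsurj c
    have h1 : ET (φ p) = φ (EB p) := IsReynolds.natural hssB hEB hET φ.toLinearMap hφ p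
    have h2 : ET (φ p) = φ p := (hET.fix _).mpr hc
    rw [← h2, h1]
    have h3 := hgen (EB p) (hEB.mem_fixedPts p)
    have h4 : φ (EB p) ∈ (Algebra.adjoin k _).map φ := ⟨_, h3, rfl⟩
    rw [AlgHom.map_adjoin] at h4
    refine Algebra.adjoin_mono ?_ h4
    rintro _ ⟨x, hx | hx, rfl⟩
    · obtain ⟨s, hs, rfl⟩ := hx
      left
      refine ⟨s, mem_invariants_of_polyC_mem b s hs, ?_⟩
      exact (polyEval_C b W.subtype s).symm
    · right
      rw [Finset.coe_image]
      exact ⟨x, hx, rfl⟩
  · apply Algebra.adjoin_le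
    rintro x (hx | hx)
    · obtain ⟨s, hs, rfl⟩ := hx
      have h1 := LinearMap.congr_fun hST s
      simp only [LinearMap.comp_apply, AlgHom.toLinearMap_apply, IsScalarTower.coe_toAlgHom'] at h1
      have hs' : HopfRep.Comod.coact (k := k) (A := H) s = s ⊗ₜ[k] (1 : H) := hs
      rw [hs', LinearMap.rTensor_tmul] at h1
      exact h1
    · rw [Finset.coe_image] at hx
      obtain ⟨z, hz, rfl⟩ := hx
      exact map_mem_fixedPts φ.toLinearMap hφ z (hZ z hz).1

end Groth.Agent.Lib.helper22
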