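import Groth.Prelude.Def_ComodTens
import Groth.Prelude.Def_ComodDual
import Groth.Prelude.Def_Hoch

/-!
Invariants of `W ⊗ V^*` are the comodule maps `V → W`, over a commutative ring, for any
contragredient structure `d` on `V^*`, under an injectivity hypothesis (helper22).
-/

set_option autoImplicit false
universe u v w w'
open scoped TensorProduct

namespace Groth.Agent.Lib.helper22.R

section HomInv

variable {k : Type u} [CommRing k] {A : Type v} [CommRing A] [HopfAlgebra k A]
variable {V : Type w} [AddCommGroup V] [Module k V]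
variable {W : Type w'} [AddCommGroup W] [Module k W]

/-- evaluation `W ⊗ V^* → W` at `v` -/
noncomputable def evAt (v : V) : W ⊗[k] Module.Dual k V →ₗ[k] W :=
  (TensorProduct.rid k W).toLinearMap ∘ₗ (Module.Dual.eval k V v).lTensor W

@[simp] theorem evAt_tmul (v : V) (w : W) (φ : Module.Dual k V) :
    evAt v (w ⊗ₜ[k] φ) = φ v • w := by
  simp [evAt]

/-- the linear map `V → W` attached to an element of `W ⊗ V^*` -/
noncomputable def toHom : W ⊗[k] Module.Dual k V →ₗ[k] (V →ₗ[k] W) :=
  dualTensorHom k V W ∘ₗ (TensorProduct.comm k W (Module.Dual k V)).toLinearMap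

theorem toHom_apply (x : W ⊗[k] Module.Dual k V) (v : V) : toHom x v = evAt v x := by
  induction x using TensorProduct.induction_on with
  | zero => simp
  | tmul w φ => simp [toHom]
  | add x y hx hy => simp only [map_add, LinearMap.add_apply, hx, hy]

/-- `(w ⊗ b) ⊗ a ↦ w ⊗ b a` -/
noncomputable def mulR : (W ⊗[k] A) ⊗[k] A →ₗ[k] W ⊗[k] A :=
  (LinearMap.mul' k A).lTensor W ∘ₗ (TensorProduct.assoc k W A A).toLinearMap

@[simp] theorem mulR_tmul (w : W) (b a : A) :
    mulR ((w ⊗ₜ[k] b) ⊗ₜ[k] a) = w ⊗ₜ[k] (b * a) := by
  simp [mulR]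

/-- key formula for the coaction on `W ⊗ V^*` -/
theorem evAt_rTensor_coact (c : HopfRep.Comod k A V) (e : HopfRep.Comod k A W)
    (d : HopfRep.Comod k A (Module.Dual k V)) (hd : ComodTens.Comod.IsDual c d)
    (x : W ⊗[k] Module.Dual k V) (v : V) :
    (evAt v).rTensor A ((ComodTens.Comod.tensor e d).coact x) =
      mulR (TensorProduct.map (e.coact ∘ₗ toHom x) (HopfAlgebraStruct.antipode (R := k) (A := A))
        (c.coact v)) := by
  induction x using TensorProduct.induction_on with
  | zero => simp
  | tmul w φ =>
    rw [ComodTens.tensor_coact_tmul]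
    have step1 : ∀ (t : W ⊗[k] A) (s : Module.Dual k V ⊗[k] A),
        (evAt v).rTensor A (TensorProduct.map LinearMap.id (LinearMap.mul' k A)
          (TensorProduct.AlgebraTensorModule.tensorTensorTensorComm k k k k W A (Module.Dual k V) A
            (t ⊗ₜ[k] s))) = mulR (t ⊗ₜ[k] dualTensorHom k V A s v) := by
      intro t s
      induction t using TensorProduct.induction_on with
      | zero => simp
      | tmul w₀ b =>
        induction s using TensorProduct.induction_on with
        | zero => simp
        | tmul ψ a => simp [TensorProduct.smul_tmul']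
        | add s₁ s₂ h₁ h₂ => simp only [TensorProduct.tmul_add, map_add, LinearMap.add_apply, h₁, h₂]
      | add t₁ t₂ h₁ h₂ => simp only [TensorProduct.add_tmul, map_add, h₁, h₂]
    rw [step1, hd φ, ComodTens.dualCoactFun_apply]
    generalize c.coact v = y
    induction y using TensorProduct.induction_on with
    | zero => simp
    | tmul v₀ a =>
      simp only [TensorProduct.map_tmul, TensorProduct.lid_tmul, LinearMap.comp_apply, toHom_apply,
        evAt_tmul, map_smul, TensorProduct.tmul_smul, TensorProduct.smul_tmul']
    | add y₁ y₂ h₁ h₂ => simp only [map_add, TensorProduct.tmul_add, h₁, h₂]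
  | add x y hx hy =>
    simp only [map_add, LinearMap.comp_add, TensorProduct.map_add_left, LinearMap.add_apply, hx, hy]

theorem homInv_a (h : V →ₗ[k] W) (y : V ⊗[k] A) :
    mulR (TensorProduct.map (h.rTensor A) (HopfAlgebraStruct.antipode (R := k) (A := A))
      ((TensorProduct.assoc k V A A).symm ((CoalgebraStruct.comul (R := k) (A := A)).lTensor V y))) =
    (h (TensorProduct.rid k V ((CoalgebraStruct.counit (R := k) (A := A)).lTensor V y))) ⊗ₜ[k] (1 : A) := by
  induction y using TensorProduct.induction_on with
  | zero => simp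
  | tmul v₀ a =>
    have key : ∀ t : A ⊗[k] A, mulR (TensorProduct.map (h.rTensor A)
        (HopfAlgebraStruct.antipode (R := k) (A := A))
        ((TensorProduct.assoc k V A A).symm (v₀ ⊗ₜ[k] t))) =
        h v₀ ⊗ₜ[k] LinearMap.mul' k A ((HopfAlgebraStruct.antipode (R := k) (A := A)).lTensor A t) := by
      intro t
      induction t using TensorProduct.induction_on with
      | zero => simp
      | tmul a₁ a₂ => simp
      | add t₁ t₂ h₁ h₂ => simp only [TensorProduct.tmul_add, map_add, h₁, h₂]
    rw [LinearMap.lTensor_tmul, key, HopfAlgebra.mul_antipode_lTensor_comul_apply]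
    simp [Algebra.algebraMap_eq_smul_one, TensorProduct.smul_tmul']
  | add y₁ y₂ h₁ h₂ => simp only [map_add, TensorProduct.add_tmul, h₁, h₂]

theorem homInv_b (e : HopfRep.Comod k A W) (h : V →ₗ[k] W) (y : V ⊗[k] A) :
    mulR (TensorProduct.map (mulR ∘ₗ TensorProduct.map (e.coact ∘ₗ h)
        (HopfAlgebraStruct.antipode (R := k) (A := A))) LinearMap.id
      ((TensorProduct.assoc k V A A).symm ((CoalgebraStruct.comul (R := k) (A := A)).lTensor V y))) =
    e.coact (h (TensorProduct.rid k V ((CoalgebraStruct.counit (R := k) (A := A)).lTensor V y))) := by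
  induction y using TensorProduct.induction_on with
  | zero => simp
  | tmul v₀ a =>
    have key : ∀ (t : A ⊗[k] A) (z : W ⊗[k] A), mulR (TensorProduct.map (mulR ∘ₗ
        TensorProduct.map (LinearMap.id : W ⊗[k] A →ₗ[k] W ⊗[k] A)
          (HopfAlgebraStruct.antipode (R := k) (A := A)))
        LinearMap.id ((TensorProduct.assoc k (W ⊗[k] A) A A).symm (z ⊗ₜ[k] t))) =
        mulR (z ⊗ₜ[k] LinearMap.mul' k A ((HopfAlgebraStruct.antipode (R := k) (A := A)).rTensor A t)) := by
      intro t z
      induction t using TensorProduct.induction_on with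
      | zero => simp
      | tmul a₁ a₂ =>
        induction z using TensorProduct.induction_on with
        | zero => simp
        | tmul w b => simp [mul_assoc]
        | add z₁ z₂ h₁ h₂ => simp only [TensorProduct.add_tmul, map_add, h₁, h₂]
      | add t₁ t₂ h₁ h₂ => simp only [TensorProduct.tmul_add, map_add, h₁, h₂]
    have key2 : ∀ t : A ⊗[k] A, mulR (TensorProduct.map (mulR ∘ₗ TensorProduct.map (e.coact ∘ₗ h)
        (HopfAlgebraStruct.antipode (R := k) (A := A))) LinearMap.id
        ((TensorProduct.assoc k V A A).symm (v₀ ⊗ₜ[k] t))) =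
        mulR (TensorProduct.map (mulR ∘ₗ
        TensorProduct.map (LinearMap.id : W ⊗[k] A →ₗ[k] W ⊗[k] A)
          (HopfAlgebraStruct.antipode (R := k) (A := A)))
        LinearMap.id ((TensorProduct.assoc k (W ⊗[k] A) A A).symm (e.coact (h v₀) ⊗ₜ[k] t))) := by
      intro t
      induction t using TensorProduct.induction_on with
      | zero => simp
      | tmul a₁ a₂ => simp
      | add t₁ t₂ h₁ h₂ => simp only [TensorProduct.tmul_add, map_add, h₁, h₂]
    have hR : e.coact (h (TensorProduct.rid k V ((CoalgebraStruct.counit (R := k) (A := A)).lTensor V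
        (v₀ ⊗ₜ[k] a)))) = CoalgebraStruct.counit (R := k) a • e.coact (h v₀) := by simp
    rw [hR, LinearMap.lTensor_tmul, key2, key, HopfAlgebra.mul_antipode_rTensor_comul_apply]
    generalize e.coact (h v₀) = z
    induction z using TensorProduct.induction_on with
    | zero => simp
    | tmul w b =>
      simp [Algebra.algebraMap_eq_smul_one, TensorProduct.smul_tmul']
    | add z₁ z₂ h₁ h₂ => simp only [TensorProduct.add_tmul, map_add, smul_add, h₁, h₂]
  | add y₁ y₂ h₁ h₂ => simp only [map_add, h₁, h₂]

/-- the invariants of `W ⊗ V^*` are the comodule maps `V → W`, provided elements of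
`(W ⊗ V^*) ⊗ A` are detected by evaluations -/
theorem mem_fixedPts_tensor_dual_iff (c : HopfRep.Comod k A V) (e : HopfRep.Comod k A W)
    (d : HopfRep.Comod k A (Module.Dual k V)) (hd : ComodTens.Comod.IsDual c d)
    (hinj : ∀ z : (W ⊗[k] Module.Dual k V) ⊗[k] A, (∀ v : V, (evAt v).rTensor A z = 0) → z = 0)
    (x : W ⊗[k] Module.Dual k V) :
    x ∈ @HopfRep.fixedPts k A _ _ _ (W ⊗[k] Module.Dual k V) _ _
        (ComodTens.Comod.tensor e d) ↔
      @Hoch.IsComodHom k _ A _ _ _ V _ _ c W _ _ e (toHom x) := by
  have hcoassoc : ∀ v : V, c.coact.rTensor A (c.coact v) =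
      (TensorProduct.assoc k V A A).symm ((CoalgebraStruct.comul (R := k) (A := A)).lTensor V (c.coact v)) := by
    intro v
    have h := LinearMap.congr_fun c.coassoc v
    simp only [LinearMap.comp_apply, LinearEquiv.coe_coe] at h
    rw [← h, LinearEquiv.symm_apply_apply]
  have hcounit : ∀ v : V, (TensorProduct.rid k V)
      ((CoalgebraStruct.counit (R := k) (A := A)).lTensor V (c.coact v)) = v := by
    intro v
    have h := LinearMap.congr_fun c.counit_comp v
    simp only [LinearMap.comp_apply] at h
    rw [h]
    simp
  constructor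
  · intro hx
    have hx' : (ComodTens.Comod.tensor e d).coact x = x ⊗ₜ[k] (1 : A) := hx
    have hR : ∀ v : V, mulR (TensorProduct.map (e.coact ∘ₗ toHom x)
        (HopfAlgebraStruct.antipode (R := k) (A := A)) (c.coact v)) = toHom x v ⊗ₜ[k] (1 : A) := by
      intro v
      rw [← evAt_rTensor_coact c e d hd, hx', LinearMap.rTensor_tmul, toHom_apply]
    have hRlin : (mulR ∘ₗ TensorProduct.map (e.coact ∘ₗ toHom x)
        (HopfAlgebraStruct.antipode (R := k) (A := A))) ∘ₗ c.coact =
        (TensorProduct.mk k W A).flip 1 ∘ₗ toHom x := by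
      apply LinearMap.ext
      intro v
      exact hR v
    apply LinearMap.ext
    intro v
    simp only [LinearMap.comp_apply]
    conv_lhs => rw [← hcounit v]
    rw [← homInv_b, ← hcoassoc]
    have e1 : ∀ (G : V ⊗[k] A →ₗ[k] W ⊗[k] A) (y : V ⊗[k] A),
        mulR (TensorProduct.map G LinearMap.id (c.coact.rTensor A y)) =
        mulR (TensorProduct.map (G ∘ₗ c.coact) LinearMap.id y) := by
      intro G y
      induction y using TensorProduct.induction_on with
      | zero => simp
      | tmul v₀ a => simp
      | add y₁ y₂ h₁ h₂ => simp only [map_add, h₁, h₂]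
    rw [e1, hRlin]
    generalize c.coact v = y
    induction y using TensorProduct.induction_on with
    | zero => simp
    | tmul v₀ a => simp
    | add y₁ y₂ h₁ h₂ => simp only [map_add, h₁, h₂]
  · intro hh
    have hh' : e.coact ∘ₗ toHom x = (toHom x).rTensor A ∘ₗ c.coact := hh
    have hR : ∀ v : V, (evAt v).rTensor A ((ComodTens.Comod.tensor e d).coact x) =
        (evAt v).rTensor A (x ⊗ₜ[k] (1 : A)) := by
      intro v
      rw [evAt_rTensor_coact c e d hd, hh', LinearMap.rTensor_tmul, ← toHom_apply]
      have : TensorProduct.map ((toHom x).rTensor A ∘ₗ c.coact)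
          (HopfAlgebraStruct.antipode (R := k) (A := A)) (c.coact v) =
          TensorProduct.map ((toHom x).rTensor A) (HopfAlgebraStruct.antipode (R := k) (A := A))
            (c.coact.rTensor A (c.coact v)) := by
        generalize c.coact v = y
        induction y using TensorProduct.induction_on with
        | zero => simp
        | tmul v₀ a => simp
        | add y₁ y₂ h₁ h₂ => simp only [map_add, h₁, h₂]
      rw [this, hcoassoc, homInv_a, hcounit]
    change (ComodTens.Comod.tensor e d).coact x = x ⊗ₜ[k] (1 : A)
    rw [← sub_eq_zero]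
    apply hinj
    intro v
    rw [map_sub, hR v, sub_self]

end HomInv

section FP

variable {k : Type u} [CommRing k]
variable {M : Type w} [AddCommGroup M] [Module k M] [Module.FinitePresentation k M]
variable {N : Type w'} [AddCommGroup N] [Module k N] [Module.Flat k N]

/-- `M^* ⊗ N → Hom(M, N)` is bijective for `M` finitely presented and `N` flat -/
theorem dualTensorHom_bijective_of_fp_flat : Function.Bijective (dualTensorHom k M N) := by
  obtain ⟨n, m, f, g, hf, hfg⟩ := Module.FinitePresentation.exists_fin' k M
  have hβ : Function.Bijective (dualTensorHom k (Fin n → k) N) := dualTensorHom_bijective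
  have hγ : Function.Bijective (dualTensorHom k (Fin m → k) N) := dualTensorHom_bijective
  have hnatf : ∀ x, dualTensorHom k (Fin n → k) N (f.dualMap.rTensor N x) =
      (dualTensorHom k M N x) ∘ₗ f := fun x =>
    LinearMap.congr_fun (dualTensorHom_comp_rTensor_dualMap (P := N) f) x
  have hnatg : ∀ y, dualTensorHom k (Fin m → k) N (g.dualMap.rTensor N y) =
      (dualTensorHom k (Fin n → k) N y) ∘ₗ g := fun y =>
    LinearMap.congr_fun (dualTensorHom_comp_rTensor_dualMap (P := N) g) y
  have hexd : Function.Exact f.dualMap g.dualMap :=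
    LinearMap.exact_lcomp_of_exact_of_surjective k hfg hf
  have hinjd : Function.Injective f.dualMap := LinearMap.lcomp_injective_of_surjective f hf
  have hex : Function.Exact (f.dualMap.rTensor N) (g.dualMap.rTensor N) :=
    Module.Flat.rTensor_exact N hexd
  have hinj : Function.Injective (f.dualMap.rTensor N) :=
    Module.Flat.rTensor_preserves_injective_linearMap _ hinjd
  constructor
  · rw [injective_iff_map_eq_zero]
    intro x hx
    apply hinj
    rw [map_zero]
    apply hβ.1
    rw [hnatf, hx, map_zero, LinearMap.zero_comp]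
  · intro h
    obtain ⟨y, hy⟩ := hβ.2 (h ∘ₗ f)
    have h1 : g.dualMap.rTensor N y = 0 := by
      apply hγ.1
      rw [hnatg, hy, map_zero, LinearMap.comp_assoc]
      have : f ∘ₗ g = 0 := hfg.linearMap_comp_eq_zero
      rw [this, LinearMap.comp_zero]
    obtain ⟨x, rfl⟩ := (hex y).mp h1
    refine ⟨x, ?_⟩
    rw [hnatf] at hy
    apply LinearMap.ext
    intro v
    obtain ⟨u, rfl⟩ := hf v
    exact LinearMap.congr_fun hy u

end FP

section Inj

variable {k : Type u} [CommRing k] {A : Type v} [AddCommGroup A] [Module k A]
variable {V : Type w} [AddCommGroup V] [Module k V]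
variable {W : Type w'} [AddCommGroup W] [Module k W]

variable (A) in
theorem dualTensorHom_swap_apply (z : (W ⊗[k] Module.Dual k V) ⊗[k] A) (v : V) :
    dualTensorHom k V (W ⊗[k] A)
      (TensorProduct.assoc k (Module.Dual k V) W A
        ((TensorProduct.comm k W (Module.Dual k V)).toLinearMap.rTensor A z)) v =
      (evAt v).rTensor A z := by
  induction z using TensorProduct.induction_on with
  | zero => simp
  | tmul y a =>
    induction y using TensorProduct.induction_on with
    | zero => simp
    | tmul w φ => simp [TensorProduct.smul_tmul']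
    | add y₁ y₂ h₁ h₂ =>
      simp only [TensorProduct.add_tmul, map_add, LinearMap.add_apply] at h₁ h₂ ⊢
      rw [h₁, h₂]
  | add z₁ z₂ h₁ h₂ => simp only [map_add, LinearMap.add_apply, h₁, h₂]

/-- detection by evaluations, from injectivity of `dualTensorHom k V (W ⊗ A)` -/
theorem eq_zero_of_evAt_rTensor_eq_zero
    (hinj : Function.Injective (dualTensorHom k V (W ⊗[k] A)))
    (z : (W ⊗[k] Module.Dual k V) ⊗[k] A) (hz : ∀ v : V, (evAt v).rTensor A z = 0) : z = 0 := by
  have h1 : TensorProduct.assoc k (Module.Dual k V) W A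
      ((TensorProduct.comm k W (Module.Dual k V)).toLinearMap.rTensor A z) = 0 := by
    apply hinj
    rw [map_zero]
    apply LinearMap.ext
    intro v
    rw [dualTensorHom_swap_apply, hz v, LinearMap.zero_apply]
  have h2 := (TensorProduct.assoc k (Module.Dual k V) W A).injective (h1.trans (map_zero _).symm)
  have h3 : Function.Injective ((TensorProduct.comm k W (Module.Dual k V)).toLinearMap.rTensor A) := by
    have : (TensorProduct.comm k W (Module.Dual k V)).toLinearMap.rTensor A =
        ((TensorProduct.comm k W (Module.Dual k V)).rTensor A).toLinearMap := rfl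
    rw [this]
    exact LinearEquiv.injective _
  exact h3 (h2.trans (map_zero _).symm)

theorem toHom_bijective_of (h : Function.Bijective (dualTensorHom k V W)) :
    Function.Bijective (toHom : W ⊗[k] Module.Dual k V →ₗ[k] (V →ₗ[k] W)) := by
  unfold toHom
  rw [LinearMap.coe_comp]
  exact h.comp (TensorProduct.comm k W (Module.Dual k V)).bijective

end Inj

end Groth.Agent.Lib.helper22.R
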