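import Mathlib
import Groth.Agent.Lib.Helper22.HopfCot

/-!
# Kähler differentials of a commutative Hopf algebra (helper22)

`Ω[A⁄R] ≃ₗ[A] A ⊗[R] I/I²` for a commutative Hopf algebra `A` over `R` with augmentation ideal `I`.
-/

set_option autoImplicit false
universe u v w
open scoped TensorProduct
open Coalgebra

namespace Groth.Agent.Lib.helper22.HopfCot

variable (R : Type u) (A : Type v) [CommRing R] [CommRing A] [HopfAlgebra R A]

/-- the canonical projection `A → I/I²` killing `1` -/
noncomputable def proj : A →ₗ[R] (II R A).Cotangent :=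
  ((II R A).toCotangent.restrictScalars R) ∘ₗ
    LinearMap.codRestrict ((II R A).restrictScalars R)
      (LinearMap.id - Algebra.linearMap R A ∘ₗ counit (R := R) (A := A))
      (fun a => sub_counit_mem a)

theorem proj_apply (a : A) :
    proj R A a = (II R A).toCotangent ⟨a - algebraMap R A (counit (R := R) a), sub_counit_mem a⟩ :=
  rfl

theorem proj_mem (x : II R A) : proj R A (x : A) = (II R A).toCotangent x := by
  rw [proj_apply]
  congr 1
  ext
  have hx := x.2
  rw [RingHom.mem_ker, Bialgebra.counitAlgHom_apply] at hx
  simp [hx]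

theorem proj_one : proj R A 1 = 0 := by
  rw [proj_apply, Ideal.toCotangent_eq_zero]
  simp

/-- the universal derivation `d = (id ⊗ π) ∘ Δ` as a derivation -/
noncomputable def dDer : Derivation R A (A ⊗[R] (II R A).Cotangent) :=
  Derivation.mk' ((proj R A).lTensor A ∘ₗ comul (R := R) (A := A))
    (fun a b => leibniz (proj R A) (proj_mem R A) (proj_one R A) a b)

theorem dDer_apply (a : A) : dDer R A a = (proj R A).lTensor A (comul (R := R) a) := rfl

/-- `A ⊗ I/I² ≃ Ω[A⁄R]` -/
noncomputable def kaehlerEquiv : (A ⊗[R] (II R A).Cotangent) ≃ₗ[A] Ω[A⁄R] := by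
  classical
  have hex := existsUnique_lift (proj R A) (proj_mem R A) (proj_one R A) (KaehlerDifferential.D R A)
  let f := hex.choose
  have hf : ∀ a : A, f (dDer R A a) = KaehlerDifferential.D R A a := hex.choose_spec.1
  let g := (dDer R A).liftKaehlerDifferential
  have hg : ∀ a : A, g (KaehlerDifferential.D R A a) = dDer R A a :=
    fun a => Derivation.liftKaehlerDifferential_comp_D _ a
  refine LinearEquiv.ofLinearMap f g ?_ ?_
  · apply Derivation.liftKaehlerDifferential_unique
    ext a
    change f (g (KaehlerDifferential.D R A a)) = KaehlerDifferential.D R A a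
    rw [hg, hf]
  · have hu := existsUnique_lift (proj R A) (proj_mem R A) (proj_one R A) (dDer R A)
    have h1 : g ∘ₗ f = hu.choose := hu.choose_spec.2 _ (fun a => by
      rw [LinearMap.comp_apply]
      change g (f (dDer R A a)) = _
      rw [hf, hg])
    have h2 : LinearMap.id = hu.choose := hu.choose_spec.2 _ (fun a => rfl)
    rw [h1, ← h2]

end Groth.Agent.Lib.helper22.HopfCot
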