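import Mathlib
import Groth.Agent.Lib.Helper22.ConvPts

/-!
# Monomorphisms of affine groups on Hopf algebras

* `point_ext_of_ker`: if `f : B → A` is a bialgebra map of commutative Hopf algebras with
  `A · f(B⁺) = A⁺` (trivial kernel), then two points of `A` agreeing on `B` are equal.
* `tmul_eq_of_ker`: consequently `1 ⊗ a = a ⊗ 1` in `A ⊗[B] A` (ring epimorphism).
* `surjective_of_finite_of_tmul_eq`: a finite injective ring epimorphism is surjective.
-/

universe u v w

open TensorProduct WithConv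

namespace Groth.Agent.Lib.helper22.HopfMono

section Points

variable {k : Type u} [CommRing k] {A : Type v} {B : Type w}
  [CommRing A] [HopfAlgebra k A] [CommRing B] [HopfAlgebra k B]
  {C : Type*} [CommRing C] [Algebra k C]

theorem convOne_apply' (a : A) :
    (1 : WithConv (A →ₐ[k] C)).ofConv a = algebraMap k C (Coalgebra.counit (R := k) a) := by
  rfl

theorem point_ext_of_ker (f : B →ₐc[k] A)
    (hker : Ideal.map f (RingHom.ker (Bialgebra.counitAlgHom k B)) =
      RingHom.ker (Bialgebra.counitAlgHom k A))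
    (g₁ g₂ : A →ₐ[k] C) (h : g₁.comp (f : B →ₐ[k] A) = g₂.comp (f : B →ₐ[k] A)) : g₁ = g₂ := by
  let x : WithConv (A →ₐ[k] C) := toConv g₁
  let y : WithConv (A →ₐ[k] C) := toConv g₂
  -- the point `x * y⁻¹` is trivial on `B`
  have h1 : ∀ b : B, (x * cinv y).ofConv (f b) = algebraMap k C (Coalgebra.counit (R := k) b) := by
    intro b
    have e1 := AlgHom.convMul_comp_bialgHom_distrib x (cinv y) f
    have e2 := AlgHom.convMul_comp_bialgHom_distrib y (cinv y) f
    have hxy : x.ofConv.comp (f : B →ₐ[k] A) = y.ofConv.comp (f : B →ₐ[k] A) := h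
    rw [hxy, ← e2, mul_cinv] at e1
    have := AlgHom.congr_fun e1 b
    rw [AlgHom.comp_apply, AlgHom.comp_apply] at this
    erw [this]
    change algebraMap k C (Coalgebra.counit (R := k) (f b)) = _
    rw [CoalgHomClass.counit_comp_apply]
  have h2 : RingHom.ker (Bialgebra.counitAlgHom k A) ≤ RingHom.ker ((x * cinv y).ofConv : A →+* C) := by
    rw [← hker, Ideal.map_le_iff_le_comap]
    intro b hb
    rw [RingHom.mem_ker] at hb
    rw [Ideal.mem_comap, RingHom.mem_ker]
    change (x * cinv y).ofConv (f b) = 0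
    rw [h1 b]
    change algebraMap k C (Bialgebra.counitAlgHom k B b) = 0
    rw [hb, map_zero]
  have h3 : x * cinv y = 1 := by
    apply WithConv.ofConv_injective
    apply AlgHom.ext
    intro a
    have ha : a - algebraMap k A (Coalgebra.counit (R := k) a) ∈
        RingHom.ker (Bialgebra.counitAlgHom k A) := by
      rw [RingHom.mem_ker, map_sub, Bialgebra.counitAlgHom_apply, Bialgebra.counitAlgHom_apply,
        Bialgebra.counit_algebraMap, sub_self]
    have := h2 ha
    rw [RingHom.mem_ker] at this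
    have h4 : (x * cinv y).ofConv (a - algebraMap k A (Coalgebra.counit (R := k) a)) = 0 := this
    rw [map_sub, AlgHom.commutes, sub_eq_zero] at h4
    rw [h4]
    rfl
  have h5 : x = y := by
    calc x = x * (cinv y * y) := by rw [cinv_mul, mul_one]
      _ = (x * cinv y) * y := by rw [mul_assoc]
      _ = y := by rw [h3, one_mul]
  exact congrArg WithConv.ofConv h5

end Points

section Epi

variable {B : Type*} {A : Type*} [CommRing B] [CommRing A] [Algebra B A]

/-- a finite injective ring epimorphism is surjective -/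
theorem surjective_of_finite_of_tmul_eq [Module.Finite B A]
    (hinj : Function.Injective (algebraMap B A))
    (h : ∀ a : A, (1 : A) ⊗ₜ[B] a = a ⊗ₜ[B] (1 : A)) : Function.Surjective (algebraMap B A) := by
  classical
  let N : Submodule B A := LinearMap.range (Algebra.linearMap B A)
  by_contra hsurj
  have hN : N ≠ ⊤ := by
    intro htop
    apply hsurj
    intro a
    have : a ∈ N := by rw [htop]; trivial
    obtain ⟨b, hb⟩ := this
    exact ⟨b, hb⟩
  obtain ⟨M', hM', hNM'⟩ := (IsCoatomic.eq_top_or_exists_le_coatom N).resolve_left hN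
  have hsimple : IsSimpleModule B (A ⧸ M') := isSimpleModule_iff_isCoatom.mpr hM'
  obtain ⟨𝔪, hmax, ⟨e⟩⟩ := isSimpleModule_iff_quot_maximal.mp hsimple
  let ψ : A →ₗ[B] B ⧸ 𝔪 := e.toLinearMap ∘ₗ M'.mkQ
  have hψ1 : ψ 1 = 0 := by
    have : (1 : A) ∈ M' := hNM' ⟨1, by simp⟩
    simp only [ψ, LinearMap.comp_apply, Submodule.mkQ_apply]
    rw [(Submodule.Quotient.mk_eq_zero M').mpr this, map_zero]
  have hψsurj : Function.Surjective ψ := e.surjective.comp (Submodule.mkQ_surjective M')
  obtain ⟨a, ha⟩ := hψsurj 1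
  have hker : RingHom.ker (algebraMap B A) ≤ 𝔪 := by
    rw [(RingHom.injective_iff_ker_eq_bot _).mp hinj]; exact bot_le
  have hint : Algebra.IsIntegral B A := Algebra.IsIntegral.of_finite B A
  obtain ⟨𝔫, hnmax, hcomap⟩ := Ideal.exists_ideal_over_maximal_of_isIntegral 𝔪 hker
  have hle : ∀ b ∈ 𝔪, (Algebra.ofId B (A ⧸ 𝔫)) b = 0 := by
    intro b hb
    rw [← hcomap, Ideal.mem_comap] at hb
    change algebraMap B (A ⧸ 𝔫) b = 0
    rw [IsScalarTower.algebraMap_apply B A (A ⧸ 𝔫)]
    exact Ideal.Quotient.eq_zero_iff_mem.mpr hb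
  let ι : B ⧸ 𝔪 →ₐ[B] A ⧸ 𝔫 := Ideal.Quotient.liftₐ 𝔪 (Algebra.ofId B (A ⧸ 𝔫)) hle
  have hιinj : Function.Injective ι := by
    let _ : Field (B ⧸ 𝔪) := Ideal.Quotient.field 𝔪
    have : Nontrivial (A ⧸ 𝔫) := Ideal.Quotient.nontrivial_iff.mpr hnmax.ne_top
    exact (ι : B ⧸ 𝔪 →+* A ⧸ 𝔫).injective
  let φ : A →ₗ[B] A ⧸ 𝔫 := (Ideal.Quotient.mkₐ B 𝔫).toLinearMap
  let β : A ⊗[B] A →ₗ[B] A ⧸ 𝔫 :=
    TensorProduct.lift ((LinearMap.mul B (A ⧸ 𝔫)).compl₁₂ φ (ι.toLinearMap ∘ₗ ψ))
  have hβ := congrArg β (h a)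
  simp only [β, TensorProduct.lift.tmul, LinearMap.compl₁₂_apply, LinearMap.mul_apply',
    LinearMap.comp_apply, AlgHom.toLinearMap_apply, hψ1, ha, map_zero, mul_zero, map_one, φ,
    one_mul] at hβ
  exact one_ne_zero (α := A ⧸ 𝔫) (by
    have : Nontrivial (A ⧸ 𝔫) := Ideal.Quotient.nontrivial_iff.mpr hnmax.ne_top
    exact hβ) |>.elim

end Epi

end Groth.Agent.Lib.helper22.HopfMono
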