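import Mathlib

/-!
# Algebra lemmas for invariants of hyperplane subgroups of Artin–Schreier families (helper22)
-/

set_option autoImplicit false

namespace Groth.Agent.Lib.helper22.HsAlg
universe u v
open Polynomial

section geom
variable (p : ℕ) [hp : Fact p.Prime]

/-- `1 + X + ⋯ + X^(p-1) = (X - 1)^(p-1)` over `𝔽_p` -/
theorem geom_sum_X : (∑ c ∈ Finset.range p, (X : (ZMod p)[X]) ^ c) = (X - 1) ^ (p - 1) := by
  have h1 : (X - 1 : (ZMod p)[X]) ≠ 0 := X_sub_C_ne_zero (1 : ZMod p)
  apply mul_right_cancel₀ h1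
  rw [geom_sum_mul, ← pow_succ, Nat.sub_add_cancel hp.out.one_le, sub_pow_char, one_pow]

/-- in a ring of characteristic `p`: `1 + g + ⋯ + g^(p-1) = (g - 1)^(p-1)` -/
theorem geom_sum_eq {E : Type u} [Ring E] [CharP E p] (g : E) :
    (∑ c ∈ Finset.range p, g ^ c) = (g - 1) ^ (p - 1) := by
  letI := ZMod.algebra E p
  have := congrArg (aeval g) (geom_sum_X p)
  simpa using this

end geom

section trans
variable {R : Type u} [CommRing R] {A : Type v} [CommRing A] [Algebra R A]
  {ι : Type*} (u : ι → A) (hgen : ∀ t : A, ∃ P : MvPolynomial ι R, MvPolynomial.aeval u P = t)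

include hgen in
/-- an algebra endomorphism which moves the generators by multiples of `d` moves everything by
multiples of `d` -/
theorem sub_mem_span (g : A →ₐ[R] A) (d : A) (hg : ∀ i, g (u i) - u i ∈ Ideal.span {d}) (y : A) :
    g y - y ∈ Ideal.span {d} := by
  obtain ⟨P, rfl⟩ := hgen y
  induction P using MvPolynomial.induction_on with
  | C r => simp
  | add P Q hP hQ =>
    have : g (MvPolynomial.aeval u (P + Q)) - MvPolynomial.aeval u (P + Q) =
        (g (MvPolynomial.aeval u P) - MvPolynomial.aeval u P) +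
        (g (MvPolynomial.aeval u Q) - MvPolynomial.aeval u Q) := by
      rw [map_add, map_add]; ring
    rw [this]
    exact Ideal.add_mem _ hP hQ
  | mul_X P i hP =>
    have : g (MvPolynomial.aeval u (P * MvPolynomial.X i)) -
        MvPolynomial.aeval u (P * MvPolynomial.X i) =
        (g (MvPolynomial.aeval u P) - MvPolynomial.aeval u P) * g (u i) +
        MvPolynomial.aeval u P * (g (u i) - u i) := by
      rw [map_mul, map_mul, MvPolynomial.aeval_X]; ring
    rw [this]
    exact Ideal.add_mem _ (Ideal.mul_mem_right _ _ hP) (Ideal.mul_mem_left _ _ (hg i))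

include hgen in
theorem sub_one_pow_mem_span (g : A →ₐ[R] A) (d : R)
    (hg : ∀ i, g (u i) - u i ∈ Ideal.span {algebraMap R A d}) (l : ℕ) (y : A) :
    ((g.toLinearMap - 1) ^ l) y ∈ Ideal.span {algebraMap R A d ^ l} := by
  induction l generalizing y with
  | zero => simp
  | succ l ih =>
    rw [pow_succ (g.toLinearMap - 1) l, Module.End.mul_apply]
    have h1 : (g.toLinearMap - 1) y ∈ Ideal.span {algebraMap R A d} := by
      simpa using sub_mem_span u hgen g _ hg y
    obtain ⟨w, hw⟩ := Ideal.mem_span_singleton'.mp h1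
    rw [← hw, mul_comm, ← Algebra.smul_def, map_smul, Algebra.smul_def]
    obtain ⟨w', hw'⟩ := Ideal.mem_span_singleton'.mp (ih w)
    rw [← hw', pow_succ]
    exact Ideal.mem_span_singleton'.mpr ⟨w', by ring⟩

include hgen in
/-- the trace of an automorphism of order `p` moving the generators by multiples of `d` has values
divisible by `d ^ (p-1)` -/
theorem sum_pow_mem_span (p : ℕ) [Fact p.Prime] [CharP A p] (g : A →ₐ[R] A) (d : R)
    (hg : ∀ i, g (u i) - u i ∈ Ideal.span {algebraMap R A d}) (y : A) :
    (∑ c ∈ Finset.range p, (g ^ c) y) ∈ Ideal.span {algebraMap R A d ^ (p - 1)} := by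
  by_cases hA : Nontrivial A
  · haveI : CharP (Module.End R A) p := by
      refine ⟨fun m => ?_⟩
      rw [← CharP.cast_eq_zero_iff A p m]
      constructor
      · intro h
        have := congrArg (fun f : Module.End R A => f 1) h
        simpa using this
      · intro h
        ext y
        simp only [Module.End.natCast_apply, LinearMap.zero_apply]
        rw [nsmul_eq_mul, h, zero_mul]
    have h1 := geom_sum_eq p (g.toLinearMap : Module.End R A)
    have h3 : ∀ (c : ℕ) (y : A), (g ^ c) y = ((g.toLinearMap : Module.End R A) ^ c) y := by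
      intro c
      induction c with
      | zero => intro y; simp
      | succ c ih =>
        intro y
        rw [pow_succ, pow_succ, Module.End.mul_apply, AlgHom.mul_apply, ← ih]; rfl
    have h2 : (∑ c ∈ Finset.range p, (g ^ c) y) =
        (∑ c ∈ Finset.range p, (g.toLinearMap : Module.End R A) ^ c) y := by
      rw [LinearMap.sum_apply]
      exact Finset.sum_congr rfl fun c _ => h3 c y
    rw [h2, h1]
    exact sub_one_pow_mem_span u hgen g d hg (p - 1) y
  · rw [not_nontrivial_iff_subsingleton] at hA
    rw [Subsingleton.elim (∑ c ∈ Finset.range p, (g ^ c) y) 0]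
    exact Ideal.zero_mem _

end trans

section interp
variable {A : Type v} [CommRing A] (p : ℕ) [hp : Fact p.Prime] [CharP A p]

/-- the polynomial `(z - X)^(p-1) - δ^(p-1)` -/
noncomputable def gp (z δ : A) : A[X] := (C z - X) ^ (p - 1) - C (δ ^ (p - 1))

omit [CharP A p] in
include hp in
theorem gp_natDegree_lt (z δ : A) : (gp p z δ).natDegree < p := by
  have h1 : (gp p z δ).natDegree ≤ p - 1 := by
    unfold gp
    refine (natDegree_sub_le _ _).trans ?_
    rw [natDegree_C, max_le_iff]
    refine ⟨?_, Nat.zero_le _⟩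
    refine natDegree_pow_le.trans ?_
    have : (C z - X : A[X]).natDegree ≤ 1 := by
      refine (natDegree_sub_le _ _).trans ?_
      rw [natDegree_C, max_le_iff]
      exact ⟨Nat.zero_le _, natDegree_X_le⟩
    calc (p - 1) * (C z - X : A[X]).natDegree ≤ (p - 1) * 1 := Nat.mul_le_mul_left _ this
      _ = p - 1 := mul_one _
  have := hp.out.one_le
  omega

omit [CharP A p] hp in
theorem eval_map_gp (ρ : A →+* A) (z δ : A) :
    eval z ((gp p z δ).map ρ) = (ρ z - z) ^ (p - 1) - ρ δ ^ (p - 1) := by
  unfold gp
  simp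

include hp in
theorem natCast_pow_sub_one (c : ℕ) (hc0 : 0 < c) (hcp : c < p) : (c : A) ^ (p - 1) = 1 := by
  have h1 : (c : ZMod p) ≠ 0 := by
    intro h
    rw [ZMod.natCast_eq_zero_iff] at h
    exact absurd (Nat.le_of_dvd hc0 h) (not_le.mpr hcp)
  have h2 := ZMod.pow_card_sub_one_eq_one h1
  have h3 := congrArg (ZMod.castHom (dvd_refl p) A) h2
  simpa using h3

include hp in
/-- the interpolation identity -/
theorem interp (ρ : ℕ → A →+* A) (z δ : A) (hz : ∀ c, ρ c z = z + (c : A) * δ)
    (hδ : ∀ c, ρ c δ = δ) (h0 : ∀ y, ρ 0 y = y) (t : A) :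
    (∑ j ∈ Finset.range p, (∑ c ∈ Finset.range p, ρ c (t * (gp p z δ).coeff j)) * z ^ j) =
      -(δ ^ (p - 1) * t) := by
  have hp1 : p - 1 ≠ 0 := by have := hp.out.two_le; omega
  have h1 : ∀ c, (∑ j ∈ Finset.range p, ρ c ((gp p z δ).coeff j) * z ^ j) =
      ((c : A) ^ (p - 1) - 1) * δ ^ (p - 1) := by
    intro c
    have hdeg : ((gp p z δ).map (ρ c)).natDegree < p :=
      lt_of_le_of_lt natDegree_map_le (gp_natDegree_lt p z δ)
    have := eval_eq_sum_range' hdeg z
    rw [eval_map_gp, hz, hδ] at this
    simp only [coeff_map] at this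
    rw [← this]
    have e : z + (c : A) * δ - z = (c : A) * δ := by ring
    rw [e, mul_pow]
    ring
  calc (∑ j ∈ Finset.range p, (∑ c ∈ Finset.range p, ρ c (t * (gp p z δ).coeff j)) * z ^ j)
      = ∑ c ∈ Finset.range p, ρ c t * (∑ j ∈ Finset.range p, ρ c ((gp p z δ).coeff j) * z ^ j) := by
        simp_rw [Finset.sum_mul]
        rw [Finset.sum_comm]
        refine Finset.sum_congr rfl fun c _ => ?_
        rw [Finset.mul_sum]
        refine Finset.sum_congr rfl fun j _ => ?_
        rw [map_mul, mul_assoc]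
    _ = ∑ c ∈ Finset.range p, ρ c t * (((c : A) ^ (p - 1) - 1) * δ ^ (p - 1)) := by
        simp_rw [h1]
    _ = ρ 0 t * ((((0 : ℕ) : A) ^ (p - 1) - 1) * δ ^ (p - 1)) := by
        apply Finset.sum_eq_single 0
        · intro c hc hc0
          rw [natCast_pow_sub_one p c (Nat.pos_of_ne_zero hc0) (Finset.mem_range.mp hc), sub_self,
            zero_mul, mul_zero]
        · intro h
          exact absurd (Finset.mem_range.mpr hp.out.pos) h
    _ = -(δ ^ (p - 1) * t) := by
        rw [h0, Nat.cast_zero, zero_pow hp1]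
        ring

end interp

section roots
variable {R : Type u} [CommRing R] {A : Type v} [CommRing A] [IsDomain A] [Algebra R A]
  (p : ℕ) [CharP A p]

/-- a polynomial over `R` of degree `< p` vanishing at `z`, where `z` has `p` distinct conjugates
`z + m δ`, vanishes -/
theorem map_eq_zero_of_aeval_eq_zero (τ : A →ₐ[R] A) (z δ : A) (hδ : δ ≠ 0)
    (hτz : τ z = z + δ) (hτδ : τ δ = δ) (r : R[X]) (hr : r.natDegree < p)
    (h0 : aeval z r = 0) : r.map (algebraMap R A) = 0 := by
  classical
  set rA : A[X] := r.map (algebraMap R A) with hrA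
  have hev : ∀ y : A, aeval y r = rA.eval y := by
    intro y; rw [hrA, eval_map_algebraMap]
  have hτev : ∀ y : A, τ (rA.eval y) = rA.eval (τ y) := by
    intro y
    rw [← hev, ← hev, aeval_algHom_apply]
  have hm : ∀ m : ℕ, rA.eval (z + (m : A) * δ) = 0 := by
    intro m
    induction m with
    | zero => simp [← hev, h0]
    | succ m ih =>
      have h1 : τ (rA.eval (z + (m : A) * δ)) = rA.eval (z + ((m + 1 : ℕ) : A) * δ) := by
        rw [hτev, map_add, map_mul, hτz, map_natCast, hτδ]
        congr 1
        push_cast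
        ring
      rw [← h1, ih, map_zero]
  have hdeg : rA.natDegree < p := lt_of_le_of_lt natDegree_map_le hr
  let s : Finset A := (Finset.range p).image fun m : ℕ => z + (m : A) * δ
  have hinj : Set.InjOn (fun m : ℕ => z + (m : A) * δ) (Finset.range p : Set ℕ) := by
    intro m hm m' hm' h
    simp only [Finset.coe_range, Set.mem_Iio] at hm hm'
    have h1 : ((m : A) - (m' : A)) * δ = 0 := by
      have : (z + (m : A) * δ) = (z + (m' : A) * δ) := h
      linear_combination this
    have h2 : (m : A) - (m' : A) = 0 := (mul_eq_zero.mp h1).resolve_right hδ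
    have h3 : (m : A) = (m' : A) := by linear_combination h2
    have h4 := (CharP.natCast_eq_natCast A p).mp h3
    exact Nat.ModEq.eq_of_lt_of_lt h4 hm hm'
  have hcard : s.card = p := by
    rw [Finset.card_image_of_injOn hinj, Finset.card_range]
  apply Polynomial.eq_zero_of_natDegree_lt_card_of_eval_eq_zero' rA s
  · intro y hy
    obtain ⟨m, _, rfl⟩ := Finset.mem_image.mp hy
    exact hm m
  · rw [hcard]; exact hdeg

end roots

end Groth.Agent.Lib.helper22.HsAlg
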