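import Mathlib

set_option autoImplicit false
universe u v w

namespace Groth.Agent.Lib.helper22.TorsCoker

open Module

/-- a linear map between finite modules of the same rank over a domain, with torsion-free source and
torsion cokernel, is injective -/
theorem injective_of_torsion_coker {R : Type u} [CommRing R] [IsDomain R] {M : Type v} {N : Type w}
    [AddCommGroup M] [Module R M] [AddCommGroup N] [Module R N] [Module.IsTorsionFree R M]
    [Module.Finite R M] [Module.Finite R N]
    (hrank : Module.finrank R M = Module.finrank R N) (f : M →ₗ[R] N)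
    (hf : ∀ t : N, ∃ s : R, s ≠ 0 ∧ s • t ∈ LinearMap.range f) : Function.Injective f := by
  have h0 : finrank R (N ⧸ LinearMap.range f) = 0 := by
    rw [Module.finrank_eq_zero_iff]
    intro x
    obtain ⟨t, rfl⟩ := Submodule.Quotient.mk_surjective _ x
    obtain ⟨s, hs, hst⟩ := hf t
    refine ⟨s, hs, ?_⟩
    rw [← Submodule.Quotient.mk_smul, Submodule.Quotient.mk_eq_zero]
    exact hst
  have h1 := Submodule.finrank_quotient_add_finrank (LinearMap.range f)
  rw [h0, zero_add] at h1
  have h2 : Disjoint (⊤ : Submodule R M) (LinearMap.ker f) := by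
    apply Submodule.disjoint_ker_of_finrank_le
    rw [Submodule.map_top, h1, finrank_top, hrank]
  rw [← LinearMap.ker_eq_bot]
  exact top_disjoint.mp h2
  
end Groth.Agent.Lib.helper22.TorsCoker
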