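import Mathlib
import Groth.Agent.Lib.Helper22.SepMonic
import Groth.Agent.Lib.Helper22.TorsCoker

/-!
# The complete intersection ring of minor elements of an Artin–Schreier family (helper22)

Abstract setting: `R` a domain, `A` a finite `R`-algebra of rank `p ^ n` and characteristic `p`
generated by `u_i` with `u_i ^ p = (μ a_i) ^ (p-1) u_i + x_i`.  For an index `i₀` with `a_{i₀} ≠ 0`
the minor elements `z_j = a_{i₀} u_j - a_j u_{i₀}` satisfy
`z_j ^ p = (μ a_{i₀} a_j) ^ (p-1) z_j + (a_{i₀} ^ p x_j - a_j ^ p x_{i₀})` and the complete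
intersection ring `B = R[Z_j] / (these relations)` (free of rank `p ^ (n-1)`) embeds into `A`.
-/

set_option autoImplicit false

namespace Groth.Agent.Lib.helper22.MinorCI
universe u v
open Polynomial

section gpoly
variable {R : Type u} [CommRing R] (p : ℕ)

/-- the Artin–Schreier-type polynomial `T ^ p - c ^ (p-1) T - e` -/
noncomputable def gpoly (c e : R) : R[X] := X ^ p - C (c ^ (p - 1)) * X - C e

theorem gpoly_degree_lt (hp : 2 ≤ p) (c e : R) :
    (C (c ^ (p - 1)) * X + C e : R[X]).degree < (p : WithBot ℕ) := by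
  refine lt_of_le_of_lt (degree_add_le _ _) ?_
  rw [max_lt_iff]
  constructor
  · refine lt_of_le_of_lt (degree_C_mul_X_le _) ?_
    exact_mod_cast (by omega : 1 < p)
  · refine lt_of_le_of_lt degree_C_le ?_
    exact_mod_cast (by omega : 0 < p)

theorem gpoly_monic (hp : 2 ≤ p) (c e : R) : (gpoly p c e).Monic := by
  unfold gpoly
  rw [sub_sub]
  exact monic_X_pow_sub (gpoly_degree_lt p hp c e)

theorem gpoly_natDegree [Nontrivial R] (hp : 2 ≤ p) (c e : R) : (gpoly p c e).natDegree = p := by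
  unfold gpoly
  rw [sub_sub]
  have hdeg : (C (c ^ (p - 1)) * X + C e : R[X]).degree < (X ^ p : R[X]).degree := by
    rw [degree_X_pow]; exact gpoly_degree_lt p hp c e
  apply natDegree_eq_of_degree_eq_some
  rw [degree_sub_eq_left_of_degree_lt hdeg, degree_X_pow]

theorem eval₂_gpoly {S : Type v} [CommRing S] (f : R →+* S) (y : S) (c e : R) :
    eval₂ f y (gpoly p c e) = y ^ p - f (c ^ (p - 1)) * y - f e := by
  simp [gpoly, eval₂_sub, eval₂_mul, eval₂_pow, eval₂_X, eval₂_C]

theorem aeval_gpoly {S : Type v} [CommRing S] [Algebra R S] (y : S) (c e : R) :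
    aeval y (gpoly p c e) = y ^ p - algebraMap R S (c ^ (p - 1)) * y - algebraMap R S e := by
  rw [aeval_def, eval₂_gpoly]

end gpoly

section setting

variable {R : Type u} [CommRing R] (p : ℕ) {n : ℕ}
  (a : Fin n → R) (μ : R) (x : Fin n → R) (i₀ : Fin n)

/-- the relation polynomials of the minor elements -/
noncomputable def rel (j : {j : Fin n // j ≠ i₀}) : MvPolynomial {j : Fin n // j ≠ i₀} R :=
  MvPolynomial.X j ^ p - MvPolynomial.C ((μ * a i₀ * a j.1) ^ (p - 1)) * MvPolynomial.X j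
    - MvPolynomial.C (a i₀ ^ p * x j.1 - a j.1 ^ p * x i₀)

/-- the complete intersection ideal -/
noncomputable def ciIdeal : Ideal (MvPolynomial {j : Fin n // j ≠ i₀} R) :=
  Ideal.span (Set.range (rel p a μ x i₀))

/-- the complete intersection ring of the minor elements -/
abbrev B : Type u := MvPolynomial {j : Fin n // j ≠ i₀} R ⧸ ciIdeal p a μ x i₀

/-- the one variable polynomials -/
noncomputable def g (j : {j : Fin n // j ≠ i₀}) : R[X] :=
  gpoly p (μ * a i₀ * a j.1) (a i₀ ^ p * x j.1 - a j.1 ^ p * x i₀)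

theorem ciIdeal_eq : ciIdeal p a μ x i₀ = SepMonic.relIdeal (g p a μ x i₀) := by
  unfold ciIdeal SepMonic.relIdeal
  congr 1
  ext y
  constructor
  · rintro ⟨i, rfl⟩
    exact ⟨i, by simp [g, rel, aeval_gpoly, MvPolynomial.algebraMap_eq]⟩
  · rintro ⟨i, rfl⟩
    exact ⟨i, by simp [g, rel, aeval_gpoly, MvPolynomial.algebraMap_eq]⟩

theorem card_ne : Fintype.card {j : Fin n // j ≠ i₀} = n - 1 := by
  rw [Fintype.card_subtype_compl, Fintype.card_fin, Fintype.card_subtype_eq]

variable (hp : 2 ≤ p)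
include hp

theorem B_free : Module.Free R (B p a μ x i₀) := by
  have := SepMonic.free (g p a μ x i₀) (fun j => gpoly_monic p hp _ _)
  rwa [← ciIdeal_eq] at this

theorem B_finite : Module.Finite R (B p a μ x i₀) := by
  have := SepMonic.finite (g p a μ x i₀) (fun j => gpoly_monic p hp _ _)
  rwa [← ciIdeal_eq] at this

theorem B_finrank [Nontrivial R] : Module.finrank R (B p a μ x i₀) = p ^ (n - 1) := by
  have := SepMonic.finrank_eq (g p a μ x i₀) (fun j => gpoly_monic p hp _ _)
  rw [← ciIdeal_eq] at this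
  rw [this]
  simp [g, gpoly_natDegree p hp]

end setting

section emb

variable {R : Type u} [CommRing R] [IsDomain R] (p : ℕ) [hpf : Fact p.Prime] {n : ℕ}
  (a : Fin n → R) (μ : R) (x : Fin n → R) (i₀ : Fin n)
  {A : Type u} [CommRing A] [Algebra R A] [CharP A p] (u : Fin n → A)
  (hrel : ∀ i, u i ^ p = algebraMap R A ((μ * a i) ^ (p - 1)) * u i + algebraMap R A (x i))

/-- the minor elements through `u i₀` -/
def z (j : {j : Fin n // j ≠ i₀}) : A :=
  algebraMap R A (a i₀) * u j.1 - algebraMap R A (a j.1) * u i₀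

include hpf hrel in
omit [IsDomain R] in
theorem z_pow (j : {j : Fin n // j ≠ i₀}) :
    z a i₀ u j ^ p = algebraMap R A ((μ * a i₀ * a j.1) ^ (p - 1)) * z a i₀ u j +
      algebraMap R A (a i₀ ^ p * x j.1 - a j.1 ^ p * x i₀) := by
  have e1 : ∀ y : A, y ^ p = y ^ (p - 1) * y := fun y => by
    rw [← pow_succ, Nat.sub_add_cancel hpf.out.one_le]
  unfold z
  rw [sub_pow_char, mul_pow, mul_pow, hrel, hrel]
  simp only [map_sub, map_mul, map_pow]
  rw [e1 (algebraMap R A (a i₀)), e1 (algebraMap R A (a j.1))]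
  ring

include hpf hrel in
omit [IsDomain R] in
theorem aeval_rel (j : {j : Fin n // j ≠ i₀}) :
    MvPolynomial.aeval (z a i₀ u) (rel p a μ x i₀ j) = 0 := by
  unfold rel
  rw [map_sub, map_sub, map_mul, map_pow, MvPolynomial.aeval_X, MvPolynomial.aeval_C,
    MvPolynomial.aeval_C, z_pow p a μ x i₀ u hrel]
  ring

include hpf hrel in
omit [IsDomain R] in
theorem ciIdeal_le : ciIdeal p a μ x i₀ ≤ RingHom.ker
    (MvPolynomial.aeval (z a i₀ u) : MvPolynomial {j : Fin n // j ≠ i₀} R →ₐ[R] A) := by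
  unfold ciIdeal
  rw [Ideal.span_le]
  rintro _ ⟨j, rfl⟩
  exact aeval_rel p a μ x i₀ u hrel j

/-- the map from the complete intersection ring to `A` -/
noncomputable def phi : B p a μ x i₀ →ₐ[R] A :=
  Ideal.Quotient.liftₐ (ciIdeal p a μ x i₀) (MvPolynomial.aeval (z a i₀ u))
    (fun y hy => ciIdeal_le p a μ x i₀ u hrel hy)

omit [IsDomain R] in
theorem phi_mk (P : MvPolynomial {j : Fin n // j ≠ i₀} R) :
    phi p a μ x i₀ u hrel (Ideal.Quotient.mk _ P) = MvPolynomial.aeval (z a i₀ u) P := rfl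

/-- the polynomial of `u i₀` over `B` -/
noncomputable def hpoly : (B p a μ x i₀)[X] :=
  gpoly p (algebraMap R (B p a μ x i₀) (μ * a i₀)) (algebraMap R (B p a μ x i₀) (x i₀))

/-- `B[W]/(W^p - (μ a_{i₀})^(p-1) W - x_{i₀})` -/
abbrev B' : Type u := AdjoinRoot (hpoly p a μ x i₀)

include hpf hrel in
omit [IsDomain R] in
theorem eval₂_hpoly : eval₂ (phi p a μ x i₀ u hrel : B p a μ x i₀ →+* A) (u i₀)
    (hpoly p a μ x i₀) = 0 := by
  unfold hpoly
  rw [eval₂_gpoly, hrel i₀]
  simp only [RingHom.coe_coe, map_pow, AlgHom.commutes]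
  ring

/-- the map `B' → A` -/
noncomputable def psi : B' p a μ x i₀ →ₐ[R] A :=
  AdjoinRoot.liftAlgHom (hpoly p a μ x i₀) (phi p a μ x i₀ u hrel) (u i₀)
    (eval₂_hpoly p a μ x i₀ u hrel)

omit [IsDomain R] in
theorem psi_of (b : B p a μ x i₀) :
    psi p a μ x i₀ u hrel (AdjoinRoot.of _ b) = phi p a μ x i₀ u hrel b := by
  simp [psi]

omit [IsDomain R] in
theorem psi_root :
    psi p a μ x i₀ u hrel (AdjoinRoot.root _) = u i₀ := by
  simp [psi]

end emb

section inj

variable {R : Type u} [CommRing R] [IsDomain R] (p : ℕ) [hpf : Fact p.Prime] {n : ℕ}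
  (a : Fin n → R) (μ : R) (x : Fin n → R) (i₀ : Fin n)
  {A : Type u} [CommRing A] [Algebra R A] [CharP A p] (u : Fin n → A)
  (hrel : ∀ i, u i ^ p = algebraMap R A ((μ * a i) ^ (p - 1)) * u i + algebraMap R A (x i))

include hpf in
theorem B_nontrivial : Nontrivial (B p a μ x i₀) := by
  haveI := B_free p a μ x i₀ hpf.out.two_le
  haveI := B_finite p a μ x i₀ hpf.out.two_le
  apply Module.nontrivial_of_finrank_pos (R := R)
  rw [B_finrank p a μ x i₀ hpf.out.two_le]
  exact pos_of_ne_zero (pow_ne_zero _ hpf.out.ne_zero)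

include hpf in
omit [IsDomain R] in
theorem hpoly_monic : (hpoly p a μ x i₀).Monic := gpoly_monic p hpf.out.two_le _ _

include hpf in
theorem B'_free : Module.Free R (B' p a μ x i₀) := by
  haveI := B_free p a μ x i₀ hpf.out.two_le
  haveI : Module.Free (B p a μ x i₀) (B' p a μ x i₀) :=
    Module.Free.of_basis (AdjoinRoot.powerBasis' (hpoly_monic p a μ x i₀)).basis
  exact Module.Free.trans (R := R) (S := B p a μ x i₀) (M := B' p a μ x i₀)

include hpf in
omit [IsDomain R] in
theorem B'_finite : Module.Finite R (B' p a μ x i₀) := by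
  haveI := B_finite p a μ x i₀ hpf.out.two_le
  haveI : Module.Finite (B p a μ x i₀) (B' p a μ x i₀) :=
    Module.Finite.of_basis (AdjoinRoot.powerBasis' (hpoly_monic p a μ x i₀)).basis
  exact Module.Finite.trans (B p a μ x i₀) (B' p a μ x i₀)

include hpf in
theorem B'_finrank : Module.finrank R (B' p a μ x i₀) = p ^ n := by
  haveI := B_free p a μ x i₀ hpf.out.two_le
  haveI := B_nontrivial p a μ x i₀
  haveI : Module.Free (B p a μ x i₀) (B' p a μ x i₀) :=
    Module.Free.of_basis (AdjoinRoot.powerBasis' (hpoly_monic p a μ x i₀)).basis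
  rw [← Module.finrank_mul_finrank R (B p a μ x i₀) (B' p a μ x i₀),
    B_finrank p a μ x i₀ hpf.out.two_le, (AdjoinRoot.powerBasis' (hpoly_monic p a μ x i₀)).finrank,
    AdjoinRoot.powerBasis'_dim]
  unfold hpoly
  rw [gpoly_natDegree p hpf.out.two_le, ← pow_succ]
  congr 1
  have : 0 < n := Fin.pos i₀
  omega

include hpf in
theorem of_injective : Function.Injective (AdjoinRoot.of (hpoly p a μ x i₀)) := by
  haveI := B_nontrivial p a μ x i₀
  haveI : Module.Free (B p a μ x i₀) (B' p a μ x i₀) :=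
    Module.Free.of_basis (AdjoinRoot.powerBasis' (hpoly_monic p a μ x i₀)).basis
  haveI := B'_free p a μ x i₀
  haveI := B'_finite p a μ x i₀
  haveI : Nontrivial (B' p a μ x i₀) := by
    apply Module.nontrivial_of_finrank_pos (R := R)
    rw [B'_finrank p a μ x i₀]
    exact pos_of_ne_zero (pow_ne_zero _ hpf.out.ne_zero)
  exact FaithfulSMul.algebraMap_injective (B p a μ x i₀) (B' p a μ x i₀)

variable (hgen : ∀ t : A, ∃ P : MvPolynomial (Fin n) R, MvPolynomial.aeval u P = t)

include hgen in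
omit [IsDomain R] in
theorem exists_pow_mul_mem_range (t : A) :
    ∃ M : ℕ, algebraMap R A (a i₀) ^ M * t ∈ (psi p a μ x i₀ u hrel).range := by
  set S := (psi p a μ x i₀ u hrel).range with hS
  have hwS : u i₀ ∈ S := ⟨AdjoinRoot.root _, psi_root p a μ x i₀ u hrel⟩
  have hRS : ∀ r : R, algebraMap R A r ∈ S := fun r => S.algebraMap_mem r
  have hzS : ∀ j, z a i₀ u j ∈ S := fun j =>
    ⟨AdjoinRoot.of _ (Ideal.Quotient.mk _ (MvPolynomial.X j)), by
      rw [AlgHom.toRingHom_eq_coe, RingHom.coe_coe, psi_of, phi_mk, MvPolynomial.aeval_X]⟩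
  have hauS : ∀ i : Fin n, algebraMap R A (a i₀) * u i ∈ S := by
    intro i
    by_cases hi : i = i₀
    · rw [hi]; exact S.mul_mem (hRS _) hwS
    · have : algebraMap R A (a i₀) * u i = z a i₀ u ⟨i, hi⟩ + algebraMap R A (a i) * u i₀ := by
        unfold z; ring
      rw [this]
      exact S.add_mem (hzS _) (S.mul_mem (hRS _) hwS)
  have hclaim : ∀ P : MvPolynomial (Fin n) R,
      ∃ M : ℕ, algebraMap R A (a i₀) ^ M * MvPolynomial.aeval u P ∈ S := by
    intro P
    induction P using MvPolynomial.induction_on with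
    | C r =>
      refine ⟨0, ?_⟩
      rw [pow_zero, one_mul, MvPolynomial.aeval_C]
      exact hRS r
    | add P Q hP hQ =>
      obtain ⟨M1, h1⟩ := hP
      obtain ⟨M2, h2⟩ := hQ
      refine ⟨M1 + M2, ?_⟩
      have : algebraMap R A (a i₀) ^ (M1 + M2) * MvPolynomial.aeval u (P + Q) =
          algebraMap R A (a i₀) ^ M2 * (algebraMap R A (a i₀) ^ M1 * MvPolynomial.aeval u P) +
          algebraMap R A (a i₀) ^ M1 * (algebraMap R A (a i₀) ^ M2 * MvPolynomial.aeval u Q) := by
        rw [map_add, pow_add]; ring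
      rw [this]
      exact S.add_mem (S.mul_mem (S.pow_mem (hRS _) _) h1) (S.mul_mem (S.pow_mem (hRS _) _) h2)
    | mul_X P i hP =>
      obtain ⟨M, h1⟩ := hP
      refine ⟨M + 1, ?_⟩
      have : algebraMap R A (a i₀) ^ (M + 1) * MvPolynomial.aeval u (P * MvPolynomial.X i) =
          (algebraMap R A (a i₀) ^ M * MvPolynomial.aeval u P) * (algebraMap R A (a i₀) * u i) := by
        rw [map_mul, MvPolynomial.aeval_X, pow_succ]; ring
      rw [this]
      exact S.mul_mem h1 (hauS i)
  obtain ⟨P, rfl⟩ := hgen t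
  exact hclaim P

variable [Module.Finite R A] (hrank : Module.finrank R A = p ^ n) (ha0 : a i₀ ≠ 0)

include hpf hgen hrank ha0 in
theorem psi_injective : Function.Injective (psi p a μ x i₀ u hrel) := by
  haveI := B'_free p a μ x i₀
  haveI := B'_finite p a μ x i₀
  have := TorsCoker.injective_of_torsion_coker (R := R) (M := B' p a μ x i₀) (N := A)
    ((B'_finrank p a μ x i₀).trans hrank.symm) (psi p a μ x i₀ u hrel).toLinearMap (by
      intro t
      obtain ⟨M, hM⟩ := exists_pow_mul_mem_range p a μ x i₀ u hrel hgen t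
      refine ⟨a i₀ ^ M, pow_ne_zero _ ha0, ?_⟩
      obtain ⟨b, hb⟩ := hM
      refine ⟨b, ?_⟩
      rw [Algebra.smul_def, map_pow]
      exact hb)
  exact this

include hpf hgen hrank ha0 in
theorem phi_injective : Function.Injective (phi p a μ x i₀ u hrel) := by
  intro b b' h
  apply of_injective p a μ x i₀
  apply psi_injective p a μ x i₀ u hrel hgen hrank ha0
  rw [psi_of, psi_of, h]

include hpf hrel hgen hrank ha0 in
theorem ker_aeval_eq : RingHom.ker
    (MvPolynomial.aeval (z a i₀ u) : MvPolynomial {j : Fin n // j ≠ i₀} R →ₐ[R] A) =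
    ciIdeal p a μ x i₀ := by
  apply le_antisymm
  · intro P hP
    rw [RingHom.mem_ker, ← phi_mk p a μ x i₀ u hrel] at hP
    rw [← map_zero (phi p a μ x i₀ u hrel)] at hP
    have := phi_injective p a μ x i₀ u hrel hgen hrank ha0 hP
    rwa [Ideal.Quotient.eq_zero_iff_mem] at this
  · exact ciIdeal_le p a μ x i₀ u hrel

end inj

end Groth.Agent.Lib.helper22.MinorCI
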