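import Mathlib
import Groth.Agent.Lib.Helper22.ASFam
import Groth.Agent.Lib.Helper22.HsAlg
import Groth.Agent.S2821
import Groth.Agent.Lib.Helper22.MinorCI

/-!
# Invariants of hyperplane subgroups of the Galois group of an Artin–Schreier family (helper22)
-/

set_option autoImplicit false

namespace Groth.Agent.Lib.helper22.HsInv
universe u
open Polynomial

section ufd

theorem prod_pow_dvd {R : Type u} [CommRing R] [IsDomain R] [UniqueFactorizationMonoid R]
    {ι : Type*} (S : Finset ι) (hS : S.Nonempty) (a : ι → R) (μ : R) (hμ : μ ≠ 0)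
    (hcop : ∀ i j, i ≠ j → IsRelPrime (a i) (a j)) (q : ℕ) (m : R)
    (h : ∀ i ∈ S, (μ * a i) ^ q ∣ m) : (μ * ∏ i ∈ S, a i) ^ q ∣ m := by
  obtain ⟨i1, hi1⟩ := hS
  have h1 : μ ^ q ∣ m := by
    refine dvd_trans ?_ (h i1 hi1)
    rw [mul_pow]
    exact dvd_mul_right _ _
  obtain ⟨m', rfl⟩ := h1
  have h2 : ∀ i ∈ S, a i ^ q ∣ m' := by
    intro i hi
    have := h i hi
    rw [mul_pow] at this
    exact (mul_dvd_mul_iff_left (pow_ne_zero q hμ)).mp this
  have h3 : (∏ i ∈ S, a i ^ q) ∣ m' := by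
    apply Finset.prod_dvd_of_isRelPrime _ h2
    intro i _ j _ hij
    exact (hcop i j hij).pow
  rw [mul_pow, ← Finset.prod_pow]
  exact mul_dvd_mul_left _ h3

end ufd

section setting

variable (p : ℕ) [hp : Fact p.Prime] (k : Type u) [Field k] [CharP k p] (n : ℕ)
  (b : Fin n → MvPowerSeries (Fin n) k)

local notation "RR" => MvPowerSeries (Fin n) k
local notation "AA" => ASFam.A p k n b
local notation "uu" => ASFam.uu p k n b
local notation "hh" => ASFam.isASFam p k n b

/-- the Galois action -/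
noncomputable abbrev Psi : Multiplicative (Fin n → ZMod p) →* (AA ≃ₐ[RR] AA) := ASAbs.Psi hh

theorem Psi_u (ν : Fin n → ZMod p) (j : Fin n) :
    Psi p k n b (Multiplicative.ofAdd ν) (uu j) =
      uu j + algebraMap RR AA (MvPowerSeries.C (ZMod.castHom (dvd_refl p) k (ν j)) * b j) := by
  rw [Psi, ASAbs.Psi_apply_u]
  rfl

variable (ham : ∀ i, MvPowerSeries.constantCoeff (b i) = 0) (hb0 : ∀ i, b i ≠ 0)

include ham hb0 in
theorem Psi_bijective : Function.Bijective (Psi p k n b) := by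
  have h1 := (ASAbs.aut_main hh ham hb0).1
  have hΨ := ASAbs.Psi_injective hh hb0
  have hcardM : Nat.card (Multiplicative (Fin n → ZMod p)) = p ^ n := by
    rw [Nat.card_congr (Multiplicative.toAdd (α := Fin n → ZMod p)), Nat.card_eq_fintype_card,
      Fintype.card_fun, ZMod.card, Fintype.card_fin]
  haveI : Finite (AA ≃ₐ[RR] AA) := (ASAbs.card_aut_le_and_fixed hh ham).1
  exact (Nat.bijective_iff_injective_and_card (Psi p k n b)).mpr ⟨hΨ, hcardM.trans h1.symm⟩

include ham hb0 in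
/-- elements fixed by the whole group come from `RR` -/
theorem mem_range_of_fixed (y : AA)
    (hy : ∀ ν : Fin n → ZMod p, Psi p k n b (Multiplicative.ofAdd ν) y = y) :
    y ∈ Set.range (algebraMap RR AA) := by
  apply ((ASAbs.aut_main hh ham hb0).2.2.2 y).mp
  intro σ
  obtain ⟨c, rfl⟩ := (Psi_bijective p k n b ham hb0).2 σ
  exact hy (Multiplicative.toAdd c)

/-- a family of automorphisms translating the single variables is the standard one -/
theorem sigma_eq (σ : Fin n → (AA ≃ₐ[RR] AA))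
    (hσ : ∀ i j, σ i (uu j) = uu j + (if i = j then algebraMap RR AA (b i) else 0)) (i : Fin n) :
    σ i = Psi p k n b (Multiplicative.ofAdd (Pi.single i 1)) := by
  apply AlgEquiv.coe_toAlgHom_injective
  apply ASAbs.algHom_ext hh
  intro j
  show σ i (uu j) = Psi p k n b (Multiplicative.ofAdd (Pi.single i 1)) (uu j)
  rw [hσ, Psi_u, Pi.single_apply]
  by_cases hij : i = j
  · subst hij; simp
  · have : ¬ j = i := fun h => hij h.symm
    simp [hij, this]

theorem prod_sigma_eq (σ : Fin n → (AA ≃ₐ[RR] AA))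
    (hσ : ∀ i j, σ i (uu j) = uu j + (if i = j then algebraMap RR AA (b i) else 0))
    (ν : Fin n → ZMod p) :
    (List.ofFn (fun i : Fin n => σ i ^ (ν i).val)).prod = Psi p k n b (Multiplicative.ofAdd ν) := by
  have h1 : (fun i : Fin n => σ i ^ (ν i).val) =
      (Psi p k n b) ∘ (fun i : Fin n => Multiplicative.ofAdd (Pi.single i (1 : ZMod p)) ^ (ν i).val) := by
    funext i
    rw [Function.comp_apply, map_pow, sigma_eq p k n b σ hσ i]
  rw [h1, ← List.map_ofFn, ← map_list_prod, List.prod_ofFn]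
  congr 1
  simp_rw [← ofAdd_nsmul]
  rw [← ofAdd_sum]
  congr 1
  funext j
  rw [Finset.sum_apply]
  simp only [Pi.smul_apply, Pi.single_apply, smul_ite, nsmul_one, smul_zero]
  rw [Finset.sum_ite_eq Finset.univ j]
  simp

end setting

section core

variable (p : ℕ) [hp : Fact p.Prime] (k : Type u) [Field k] [CharP k p] (n : ℕ)
  (b : Fin n → MvPowerSeries (Fin n) k)
  (s : Fin n → ZMod p) (S : Finset (Fin n)) (hS : ∀ i, i ∈ S ↔ s i ≠ 0)
  (w : Fin n → MvPowerSeries (Fin n) k) (δ0 : MvPowerSeries (Fin n) k)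
  (hwb : ∀ i ∈ S, w i * b i = MvPowerSeries.C (ZMod.castHom (dvd_refl p) k (s i)) * δ0)

local notation "RR" => MvPowerSeries (Fin n) k
local notation "AA" => ASFam.A p k n b
local notation "uu" => ASFam.uu p k n b
local notation "hh" => ASFam.isASFam p k n b

/-- the generator of the ring of invariants -/
noncomputable def zs : AA := ∑ i ∈ S, algebraMap RR AA (w i) * uu i

include hS hwb in
theorem Psi_zs (ν : Fin n → ZMod p) :
    Psi p k n b (Multiplicative.ofAdd ν) (zs p k n b S w) = zs p k n b S w +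
      algebraMap RR AA (MvPowerSeries.C (ZMod.castHom (dvd_refl p) k (∑ i, ν i * s i)) * δ0) := by
  unfold zs
  rw [map_sum]
  have h1 : ∀ i ∈ S, Psi p k n b (Multiplicative.ofAdd ν) (algebraMap RR AA (w i) * uu i) =
      algebraMap RR AA (w i) * uu i +
        algebraMap RR AA (MvPowerSeries.C (ZMod.castHom (dvd_refl p) k (ν i * s i)) * δ0) := by
    intro i hi
    rw [map_mul, AlgEquiv.commutes, Psi_u, mul_add, ← map_mul]
    congr 2
    rw [map_mul, map_mul, mul_assoc, ← hwb i hi]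
    ring
  rw [Finset.sum_congr rfl h1, Finset.sum_add_distrib, ← map_sum, ← Finset.sum_mul, ← map_sum,
    ← map_sum]
  have e : (∑ i ∈ S, ν i * s i) = ∑ i, ν i * s i := by
    apply Finset.sum_subset (Finset.subset_univ S)
    intro i _ hi
    have : s i = 0 := by
      by_contra h
      exact hi ((hS i).mpr h)
    rw [this, mul_zero]
  rw [e]

include hp in
theorem charP_A : CharP AA p := by
  have hinj := ASFam.algebraMap_injective p k n b
  exact charP_of_injective_ringHom (f := (algebraMap RR AA).comp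
      (MvPowerSeries.C : k →+* MvPowerSeries (Fin n) k))
      (hinj.comp MvPowerSeries.C_injective) p

include hS hwb in
theorem zs_pow : zs p k n b S w ^ p = algebraMap RR AA (δ0 ^ (p - 1)) * zs p k n b S w +
    algebraMap RR AA (∑ i ∈ S, w i ^ p * MvPowerSeries.X i) := by
  haveI := charP_A p k n b
  have hp1 : ∀ y : RR, y ^ p = y ^ (p - 1) * y := fun y => by
    rw [← pow_succ, Nat.sub_add_cancel hp.out.one_le]
  unfold zs
  have e := sum_pow_char (R := AA) p S (fun i => algebraMap RR AA (w i) * uu i)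
  rw [e, Finset.mul_sum, map_sum, ← Finset.sum_add_distrib]
  refine Finset.sum_congr rfl fun i hi => ?_
  have hrel := ASFam.mk_X_pow p k n b i
  change uu i ^ p = algebraMap RR AA (b i ^ (p - 1)) * uu i + algebraMap RR AA (MvPowerSeries.X i)
    at hrel
  have hsi : s i ≠ 0 := (hS i).mp hi
  have hc : (MvPowerSeries.C (ZMod.castHom (dvd_refl p) k (s i)) : RR) ^ (p - 1) = 1 := by
    rw [← map_pow, ← map_pow, ZMod.pow_card_sub_one_eq_one hsi, map_one, map_one]
  have h2 : w i ^ p * b i ^ (p - 1) = δ0 ^ (p - 1) * w i := by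
    rw [hp1, mul_assoc, mul_comm (w i) (b i ^ (p - 1)), ← mul_assoc, ← mul_pow, hwb i hi, mul_pow,
      hc, one_mul]
  have h3 : algebraMap RR AA (w i) ^ p * algebraMap RR AA (b i ^ (p - 1)) =
      algebraMap RR AA (δ0 ^ (p - 1)) * algebraMap RR AA (w i) := by
    rw [← map_pow, ← map_mul, h2, map_mul]
  have h4 : algebraMap RR AA (w i ^ p * MvPowerSeries.X i) =
      algebraMap RR AA (w i) ^ p * algebraMap RR AA (MvPowerSeries.X i) := by
    rw [map_mul, map_pow]
  rw [h4]
  linear_combination (algebraMap RR AA (w i) ^ p) * hrel + (uu i) * h3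

end core

section main

variable (p : ℕ) [hp : Fact p.Prime] (k : Type u) [Field k] [CharP k p] (n : ℕ)
  (b : Fin n → MvPowerSeries (Fin n) k)
  (s : Fin n → ZMod p) (S : Finset (Fin n)) (hS : ∀ i, i ∈ S ↔ s i ≠ 0)
  (w : Fin n → MvPowerSeries (Fin n) k) (δ0 : MvPowerSeries (Fin n) k)
  (hwb : ∀ i ∈ S, w i * b i = MvPowerSeries.C (ZMod.castHom (dvd_refl p) k (s i)) * δ0)
  (hs : s ≠ 0) (hδ0 : δ0 ≠ 0)
  (ham : ∀ i, MvPowerSeries.constantCoeff (b i) = 0) (hb0 : ∀ i, b i ≠ 0)

local notation "RR" => MvPowerSeries (Fin n) k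
local notation "AA" => ASFam.A p k n b
local notation "uu" => ASFam.uu p k n b
local notation "hh" => ASFam.isASFam p k n b

include hs in
omit [CharP k p] in
theorem exists_nu0 : ∃ ν0 : Fin n → ZMod p, ∑ i, ν0 i * s i = 1 := by
  obtain ⟨i1, hi1⟩ := Function.ne_iff.mp hs
  refine ⟨Pi.single i1 (s i1)⁻¹, ?_⟩
  rw [Finset.sum_eq_single i1]
  · rw [Pi.single_eq_same]
    exact inv_mul_cancel₀ hi1
  · intro j _ hj
    rw [Pi.single_eq_of_ne hj, zero_mul]
  · intro h; exact absurd (Finset.mem_univ _) h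

include hS hwb in
theorem Psi_zs_of_sum_eq_zero (ν : Fin n → ZMod p) (hν : ∑ i, ν i * s i = 0) :
    Psi p k n b (Multiplicative.ofAdd ν) (zs p k n b S w) = zs p k n b S w := by
  rw [Psi_zs p k n b s S hS w δ0 hwb, hν]
  simp

include hS hwb in
theorem Psi_zs_of_sum_eq_one (ν : Fin n → ZMod p) (hν : ∑ i, ν i * s i = 1) :
    Psi p k n b (Multiplicative.ofAdd ν) (zs p k n b S w) =
      zs p k n b S w + algebraMap RR AA δ0 := by
  rw [Psi_zs p k n b s S hS w δ0 hwb, hν]
  simp

include hS hwb in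
/-- polynomials in `z_s` are invariant -/
theorem fixed_of_mem_range (t : AA)
    (ht : t ∈ (Polynomial.aeval (zs p k n b S w) : RR[X] →ₐ[RR] AA).range)
    (ν : Fin n → ZMod p) (hν : ∑ i, ν i * s i = 0) :
    Psi p k n b (Multiplicative.ofAdd ν) t = t := by
  obtain ⟨P, rfl⟩ := ht
  rw [AlgHom.toRingHom_eq_coe, RingHom.coe_coe]
  have := Polynomial.aeval_algHom_apply
    ((Psi p k n b (Multiplicative.ofAdd ν) : AA ≃ₐ[RR] AA) : AA →ₐ[RR] AA) (zs p k n b S w) P
  rw [AlgEquiv.coe_toAlgHom] at this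
  rw [← this, Psi_zs_of_sum_eq_zero p k n b s S hS w δ0 hwb ν hν]

include hS hwb hs hδ0 ham in
/-- the kernel of `T ↦ z_s` -/
theorem ker_aeval_zs :
    RingHom.ker (Polynomial.aeval (zs p k n b S w) : RR[X] →ₐ[RR] AA) =
      Ideal.span {MinorCI.gpoly p δ0 (∑ i ∈ S, w i ^ p * MvPowerSeries.X i)} := by
  haveI := charP_A p k n b
  haveI : IsDomain AA := (ASFam.main_free p k n b ham).2.2.2
  have hinj := ASFam.algebraMap_injective p k n b
  have hp2 : 2 ≤ p := hp.out.two_le
  set e := ∑ i ∈ S, w i ^ p * MvPowerSeries.X i with he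
  set f := MinorCI.gpoly p δ0 e with hf
  have hfz : Polynomial.aeval (zs p k n b S w) f = 0 := by
    have h1 := MinorCI.aeval_gpoly (S := AA) p (zs p k n b S w) δ0 e
    have h2 := zs_pow p k n b s S hS w δ0 hwb
    refine h1.trans ?_
    rw [h2]
    ring
  have hmonic : f.Monic := MinorCI.gpoly_monic p hp2 δ0 e
  have hdeg : f.natDegree = p := MinorCI.gpoly_natDegree p hp2 δ0 e
  apply le_antisymm
  · intro P hP
    rw [RingHom.mem_ker] at hP
    rw [Ideal.mem_span_singleton, ← Polynomial.modByMonic_eq_zero_iff_dvd hmonic]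
    set r := P %ₘ f with hr
    have hrdeg : r.natDegree < p := by
      rw [← hdeg]
      apply Polynomial.natDegree_modByMonic_lt _ hmonic
      intro h1
      rw [h1, Polynomial.natDegree_one] at hdeg
      omega
    have hrz : Polynomial.aeval (zs p k n b S w) r = 0 := by
      have h1 := Polynomial.modByMonic_add_div P f
      have h2 := congrArg (Polynomial.aeval (zs p k n b S w)) h1
      rw [map_add, map_mul, hfz, zero_mul, add_zero, hP] at h2
      exact h2
    obtain ⟨ν0, hν0⟩ := exists_nu0 p n s hs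
    have hδ : algebraMap RR AA δ0 ≠ 0 := by
      intro h0
      rw [← map_zero (algebraMap RR AA)] at h0
      exact hδ0 (hinj h0)
    have h3 := HsAlg.map_eq_zero_of_aeval_eq_zero p
      ((Psi p k n b (Multiplicative.ofAdd ν0) : AA ≃ₐ[RR] AA) : AA →ₐ[RR] AA)
      (zs p k n b S w) (algebraMap RR AA δ0) hδ
      (by rw [AlgEquiv.coe_toAlgHom]; exact Psi_zs_of_sum_eq_one p k n b s S hS w δ0 hwb ν0 hν0)
      (by rw [AlgEquiv.coe_toAlgHom]; exact AlgEquiv.commutes _ _) r hrdeg hrz
    rw [← Polynomial.map_zero (algebraMap RR AA)] at h3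
    exact Polynomial.map_injective _ hinj h3
  · rw [Ideal.span_le, Set.singleton_subset_iff]
    exact hfz

end main

section incl

variable (p : ℕ) [hp : Fact p.Prime] (k : Type u) [Field k] [CharP k p] (n : ℕ)
  (b : Fin n → MvPowerSeries (Fin n) k)
  (s : Fin n → ZMod p) (S : Finset (Fin n)) (hS : ∀ i, i ∈ S ↔ s i ≠ 0)
  (w : Fin n → MvPowerSeries (Fin n) k) (δ0 : MvPowerSeries (Fin n) k)
  (hwb : ∀ i ∈ S, w i * b i = MvPowerSeries.C (ZMod.castHom (dvd_refl p) k (s i)) * δ0)
  (hs : s ≠ 0) (hδ0 : δ0 ≠ 0)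
  (ham : ∀ i, MvPowerSeries.constantCoeff (b i) = 0) (hb0 : ∀ i, b i ≠ 0)

local notation "RR" => MvPowerSeries (Fin n) k
local notation "AA" => ASFam.A p k n b
local notation "uu" => ASFam.uu p k n b
local notation "hh" => ASFam.isASFam p k n b

omit [CharP k p] hp in
theorem algHom_pow_apply (g : AA ≃ₐ[RR] AA) (c : ℕ) (y : AA) :
    ((g : AA →ₐ[RR] AA) ^ c) y = (g ^ c) y := by
  induction c generalizing y with
  | zero => simp
  | succ c ih =>
    rw [pow_succ, pow_succ, AlgHom.mul_apply, AlgEquiv.mul_apply, ← ih]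
    rfl

theorem Psi_pow (ν : Fin n → ZMod p) (c : ℕ) :
    Psi p k n b (Multiplicative.ofAdd ν) ^ c = Psi p k n b (Multiplicative.ofAdd (c • ν)) := by
  rw [← map_pow, ← ofAdd_nsmul]

theorem Psi_add (ν ν' : Fin n → ZMod p) (y : AA) :
    Psi p k n b (Multiplicative.ofAdd (ν + ν')) y =
      Psi p k n b (Multiplicative.ofAdd ν) (Psi p k n b (Multiplicative.ofAdd ν') y) := by
  rw [ofAdd_add, map_mul, AlgEquiv.mul_apply]

/-- the trace over the powers of `Ψ ν` -/
noncomputable def tr (ν : Fin n → ZMod p) (y : AA) : AA :=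
  ∑ c ∈ Finset.range p, (Psi p k n b (Multiplicative.ofAdd ν) ^ c) y

theorem Psi_pow_p (ν : Fin n → ZMod p) (y : AA) :
    (Psi p k n b (Multiplicative.ofAdd ν) ^ p) y = y := by
  rw [Psi_pow]
  have : p • ν = 0 := by
    funext i
    simp [nsmul_eq_mul, CharP.cast_eq_zero]
  rw [this, ofAdd_zero, map_one, AlgEquiv.one_apply]

/-- the trace is invariant under `Ψ ν` -/
theorem Psi_tr_self (ν : Fin n → ZMod p) (y : AA) :
    Psi p k n b (Multiplicative.ofAdd ν) (tr p k n b ν y) = tr p k n b ν y := by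
  unfold tr
  rw [map_sum]
  have h1 : ∀ c ∈ Finset.range p, Psi p k n b (Multiplicative.ofAdd ν)
      ((Psi p k n b (Multiplicative.ofAdd ν) ^ c) y) =
      (Psi p k n b (Multiplicative.ofAdd ν) ^ (c + 1)) y := by
    intro c _
    rw [pow_succ', AlgEquiv.mul_apply]
  rw [Finset.sum_congr rfl h1]
  have h2 := Finset.sum_range_succ (fun c => (Psi p k n b (Multiplicative.ofAdd ν) ^ c) y) p
  have h3 := Finset.sum_range_succ' (fun c => (Psi p k n b (Multiplicative.ofAdd ν) ^ c) y) p
  rw [h2] at h3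
  simp only [pow_zero, AlgEquiv.one_apply] at h3
  rw [Psi_pow_p] at h3
  exact (add_right_cancel h3).symm

theorem Psi_pow_tr_self (ν : Fin n → ZMod p) (y : AA) (m : ℕ) :
    (Psi p k n b (Multiplicative.ofAdd ν) ^ m) (tr p k n b ν y) = tr p k n b ν y := by
  induction m with
  | zero => simp
  | succ m ih => rw [pow_succ, AlgEquiv.mul_apply, Psi_tr_self, ih]

/-- the trace commutes with the other automorphisms -/
theorem Psi_tr_comm (ν ν' : Fin n → ZMod p) (y : AA) :
    Psi p k n b (Multiplicative.ofAdd ν') (tr p k n b ν y) =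
      tr p k n b ν (Psi p k n b (Multiplicative.ofAdd ν') y) := by
  unfold tr
  rw [map_sum]
  refine Finset.sum_congr rfl fun c _ => ?_
  rw [Psi_pow, ← Psi_add, ← Psi_add, add_comm]

/-- for elements invariant under `H_s`, the trace does not depend on the lift of the generator of
`H / H_s` -/
theorem tr_congr (ν ν' : Fin n → ZMod p) (hνν' : ∑ i, ν i * s i = ∑ i, ν' i * s i) (y : AA)
    (hy : ∀ ν : Fin n → ZMod p, ∑ i, ν i * s i = 0 →
      Psi p k n b (Multiplicative.ofAdd ν) y = y) :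
    tr p k n b ν y = tr p k n b ν' y := by
  unfold tr
  refine Finset.sum_congr rfl fun c _ => ?_
  rw [Psi_pow, Psi_pow]
  have h1 : c • ν = c • ν' + (c • ν - c • ν') := by abel
  rw [h1, Psi_add, hy]
  simp only [Pi.sub_apply, Pi.smul_apply, sub_mul, Finset.sum_sub_distrib, smul_mul_assoc,
    ← Finset.smul_sum]
  rw [hνν', sub_self]

end incl

section incl2

variable (p : ℕ) [hp : Fact p.Prime] (k : Type u) [Field k] [CharP k p] (n : ℕ)
  (b : Fin n → MvPowerSeries (Fin n) k)
  (s : Fin n → ZMod p) (S : Finset (Fin n)) (hS : ∀ i, i ∈ S ↔ s i ≠ 0)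
  (w : Fin n → MvPowerSeries (Fin n) k) (δ0 : MvPowerSeries (Fin n) k)
  (hwb : ∀ i ∈ S, w i * b i = MvPowerSeries.C (ZMod.castHom (dvd_refl p) k (s i)) * δ0)
  (hs : s ≠ 0) (hδ0 : δ0 ≠ 0)
  (ham : ∀ i, MvPowerSeries.constantCoeff (b i) = 0) (hb0 : ∀ i, b i ≠ 0)

local notation "RR" => MvPowerSeries (Fin n) k
local notation "AA" => ASFam.A p k n b
local notation "uu" => ASFam.uu p k n b
local notation "hh" => ASFam.isASFam p k n b

include ham hb0 in
/-- the trace of an `H_s`-invariant element along a generator of `H / H_s` lies in `R` -/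
theorem tr_mem_range (ν0 : Fin n → ZMod p) (hν0 : ∑ i, ν0 i * s i = 1) (y : AA)
    (hy : ∀ ν : Fin n → ZMod p, ∑ i, ν i * s i = 0 →
      Psi p k n b (Multiplicative.ofAdd ν) y = y) :
    tr p k n b ν0 y ∈ Set.range (algebraMap RR AA) := by
  apply mem_range_of_fixed p k n b ham hb0
  intro ν
  set m : ZMod p := ∑ i, ν i * s i with hm
  have h1 : ν = (ν - m.val • ν0) + m.val • ν0 := by abel
  have h2 : ∑ i, (ν - m.val • ν0) i * s i = 0 := by
    simp only [Pi.sub_apply, Pi.smul_apply, sub_mul, Finset.sum_sub_distrib, smul_mul_assoc,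
      ← Finset.smul_sum]
    rw [hν0, ← hm, nsmul_one, ZMod.natCast_zmod_val, sub_self]
  rw [h1, Psi_add, ← Psi_pow, Psi_pow_tr_self, Psi_tr_comm, hy _ h2]

include ham hb0 in
/-- the trace of an `H_s`-invariant element is divisible by `b i ^ (p-1)` for `i` in the support -/
theorem tr_dvd (ν0 : Fin n → ZMod p) (hν0 : ∑ i, ν0 i * s i = 1) (y : AA)
    (hy : ∀ ν : Fin n → ZMod p, ∑ i, ν i * s i = 0 →
      Psi p k n b (Multiplicative.ofAdd ν) y = y)
    (m : RR) (hm : algebraMap RR AA m = tr p k n b ν0 y) (i : Fin n) (hi : s i ≠ 0) :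
    b i ^ (p - 1) ∣ m := by
  haveI := charP_A p k n b
  haveI : IsDomain AA := (ASFam.main_free p k n b ham).2.2.2
  have hinj := ASFam.algebraMap_injective p k n b
  set νi : Fin n → ZMod p := Pi.single i (s i)⁻¹ with hνi
  have hνi1 : ∑ j, νi j * s j = 1 := by
    rw [Finset.sum_eq_single i]
    · rw [hνi, Pi.single_eq_same]
      exact inv_mul_cancel₀ hi
    · intro j _ hj
      rw [hνi, Pi.single_eq_of_ne hj, zero_mul]
    · intro h; exact absurd (Finset.mem_univ _) h
  have h1 : tr p k n b ν0 y = tr p k n b νi y :=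
    tr_congr p k n b s ν0 νi (hν0.trans hνi1.symm) y hy
  -- the divisibility in `A`
  have h2 : tr p k n b νi y ∈ Ideal.span {algebraMap RR AA (b i) ^ (p - 1)} := by
    have h3 := HsAlg.sum_pow_mem_span (R := RR) (A := AA) uu (fun t => by
        obtain ⟨P, rfl⟩ := Ideal.Quotient.mk_surjective t
        exact ⟨P, ASFam.aeval_uu p k n b P⟩) p
      ((Psi p k n b (Multiplicative.ofAdd νi) : AA ≃ₐ[RR] AA) : AA →ₐ[RR] AA) (b i) (by
        intro j
        rw [AlgEquiv.coe_toAlgHom, Psi_u, add_sub_cancel_left]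
        by_cases hj : j = i
        · rw [hj, map_mul]
          exact Ideal.mul_mem_left _ _ (Ideal.subset_span rfl)
        · rw [hνi, Pi.single_eq_of_ne hj, map_zero, map_zero, zero_mul, map_zero]
          exact Ideal.zero_mem _) y
    unfold tr
    simp_rw [algHom_pow_apply] at h3
    exact h3
  obtain ⟨w', hw'⟩ := Ideal.mem_span_singleton'.mp h2
  rw [← h1, ← hm] at hw'
  have hbi : algebraMap RR AA (b i) ^ (p - 1) ≠ 0 := by
    apply pow_ne_zero
    intro h0
    rw [← map_zero (algebraMap RR AA)] at h0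
    exact hb0 i (hinj h0)
  -- `w'` is invariant
  have hw'fix : ∀ ν : Fin n → ZMod p, Psi p k n b (Multiplicative.ofAdd ν) w' = w' := by
    intro ν
    have h4 := congrArg (Psi p k n b (Multiplicative.ofAdd ν)) hw'
    rw [map_mul, map_pow, AlgEquiv.commutes, AlgEquiv.commutes, ← hw'] at h4
    exact mul_right_cancel₀ hbi h4
  obtain ⟨w0, hw0⟩ := mem_range_of_fixed p k n b ham hb0 w' hw'fix
  refine ⟨w0, ?_⟩
  apply hinj
  rw [← hw', ← hw0, map_mul, map_pow]
  ring

end incl2

section incl3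

variable (p : ℕ) [hp : Fact p.Prime] (k : Type u) [Field k] [CharP k p] (n : ℕ)
  (b : Fin n → MvPowerSeries (Fin n) k)
  (s : Fin n → ZMod p) (S : Finset (Fin n)) (hS : ∀ i, i ∈ S ↔ s i ≠ 0)
  (w : Fin n → MvPowerSeries (Fin n) k) (δ0 : MvPowerSeries (Fin n) k)
  (hwb : ∀ i ∈ S, w i * b i = MvPowerSeries.C (ZMod.castHom (dvd_refl p) k (s i)) * δ0)
  (hs : s ≠ 0) (hδ0 : δ0 ≠ 0)
  (ham : ∀ i, MvPowerSeries.constantCoeff (b i) = 0) (hb0 : ∀ i, b i ≠ 0)
  (hdvd : ∀ m : MvPowerSeries (Fin n) k, (∀ i ∈ S, b i ^ (p - 1) ∣ m) → δ0 ^ (p - 1) ∣ m)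

local notation "RR" => MvPowerSeries (Fin n) k
local notation "AA" => ASFam.A p k n b
local notation "uu" => ASFam.uu p k n b
local notation "hh" => ASFam.isASFam p k n b

include hS hwb hs hδ0 ham hb0 hdvd in
/-- an `H_s`-invariant element is a polynomial in `z_s` -/
theorem mem_range_of_fixed_Hs (t : AA)
    (ht : ∀ ν : Fin n → ZMod p, ∑ i, ν i * s i = 0 →
      Psi p k n b (Multiplicative.ofAdd ν) t = t) :
    t ∈ (Polynomial.aeval (zs p k n b S w) : RR[X] →ₐ[RR] AA).range := by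
  haveI := charP_A p k n b
  haveI : IsDomain AA := (ASFam.main_free p k n b ham).2.2.2
  have hinj := ASFam.algebraMap_injective p k n b
  obtain ⟨ν0, hν0⟩ := exists_nu0 p n s hs
  set z := zs p k n b S w with hz
  set δ := algebraMap RR AA δ0 with hδ
  have hδne : δ ≠ 0 := by
    intro h0
    rw [hδ, ← map_zero (algebraMap RR AA)] at h0
    exact hδ0 (hinj h0)
  set τ := Psi p k n b (Multiplicative.ofAdd ν0) with hτ
  have hτcz : ∀ c : ℕ, (τ ^ c) z = z + (c : AA) * δ := by
    intro c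
    rw [hτ, Psi_pow, hz, Psi_zs p k n b s S hS w δ0 hwb]
    simp only [Pi.smul_apply, smul_mul_assoc, ← Finset.smul_sum]
    rw [hν0, nsmul_one, map_natCast, map_natCast, map_mul, map_natCast]
  set g := HsAlg.gp p z δ with hg
  -- the coefficients of `g` are invariant
  have hgfix : ∀ ν : Fin n → ZMod p, ∑ i, ν i * s i = 0 → ∀ j,
      Psi p k n b (Multiplicative.ofAdd ν) (g.coeff j) = g.coeff j := by
    intro ν hν j
    have h1 : g.map ((Psi p k n b (Multiplicative.ofAdd ν) : AA ≃ₐ[RR] AA) : AA →+* AA) = g := by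
      rw [hg]
      unfold HsAlg.gp
      simp only [Polynomial.map_sub, Polynomial.map_pow, Polynomial.map_C, Polynomial.map_X,
        RingHom.coe_coe]
      rw [hz, Psi_zs_of_sum_eq_zero p k n b s S hS w δ0 hwb ν hν, hδ, map_pow, AlgEquiv.commutes]
    have h2 := congrArg (fun q => Polynomial.coeff q j) h1
    simp only [Polynomial.coeff_map, RingHom.coe_coe] at h2
    exact h2
  have hyfix : ∀ j, ∀ ν : Fin n → ZMod p, ∑ i, ν i * s i = 0 →
      Psi p k n b (Multiplicative.ofAdd ν) (t * g.coeff j) = t * g.coeff j := by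
    intro j ν hν
    rw [map_mul, ht ν hν, hgfix ν hν j]
  -- the interpolation identity
  have hinterp := HsAlg.interp p (fun c => ((τ ^ c : AA ≃ₐ[RR] AA) : AA →+* AA)) z δ
    (fun c => by rw [RingHom.coe_coe]; exact hτcz c)
    (fun c => by rw [RingHom.coe_coe, hδ, AlgEquiv.commutes])
    (fun y => by rw [pow_zero, RingHom.coe_coe, AlgEquiv.one_apply]) t
  -- the traces come from `R` and are divisible
  have htr : ∀ j : ℕ, ∃ m' : RR, tr p k n b ν0 (t * g.coeff j) =
      algebraMap RR AA (δ0 ^ (p - 1) * m') := by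
    intro j
    obtain ⟨m, hm⟩ := tr_mem_range p k n b s ham hb0 ν0 hν0 (t * g.coeff j) (hyfix j)
    have h1 : δ0 ^ (p - 1) ∣ m := by
      apply hdvd
      intro i hi
      exact tr_dvd p k n b s ham hb0 ν0 hν0 (t * g.coeff j) (hyfix j) m hm i ((hS i).mp hi)
    obtain ⟨m', rfl⟩ := h1
    exact ⟨m', hm.symm⟩
  choose m' hm' using htr
  have hsum : (∑ j ∈ Finset.range p, (∑ c ∈ Finset.range p,
      ((τ ^ c : AA ≃ₐ[RR] AA) : AA →+* AA) (t * g.coeff j)) * z ^ j) =
      δ ^ (p - 1) * ∑ j ∈ Finset.range p, algebraMap RR AA (m' j) * z ^ j := by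
    rw [Finset.mul_sum]
    refine Finset.sum_congr rfl fun j _ => ?_
    have : (∑ c ∈ Finset.range p, ((τ ^ c : AA ≃ₐ[RR] AA) : AA →+* AA) (t * g.coeff j)) =
        tr p k n b ν0 (t * g.coeff j) := rfl
    rw [this, hm', map_mul, map_pow]
    ring
  rw [hsum] at hinterp
  have hfinal : t = -∑ j ∈ Finset.range p, algebraMap RR AA (m' j) * z ^ j := by
    have h1 : δ ^ (p - 1) * (t + ∑ j ∈ Finset.range p, algebraMap RR AA (m' j) * z ^ j) = 0 := by
      rw [mul_add, hinterp]; ring
    have h2 := (mul_eq_zero.mp h1).resolve_left (pow_ne_zero _ hδne)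
    exact eq_neg_of_add_eq_zero_left h2
  refine ⟨-∑ j ∈ Finset.range p, Polynomial.C (m' j) * Polynomial.X ^ j, ?_⟩
  rw [AlgHom.toRingHom_eq_coe, RingHom.coe_coe, hfinal, map_neg, map_sum]
  congr 1
  refine Finset.sum_congr rfl fun j _ => ?_
  rw [map_mul, map_pow, Polynomial.aeval_C, Polynomial.aeval_X]

end incl3

end Groth.Agent.Lib.helper22.HsInv
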