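import Mathlib
import Groth.Agent.Lib.Helper22.InertiaUnram
import Groth.Agent.Lib.Helper22.InertiaGen

/-!
# An inertia-invariant element separating the other cosets modulo the prime (helper22)

`G` finite acting on `R`, `q` prime with inertia group `I`.  There is `b : R` fixed by `I` with
`σ b - b ∉ q` for all `σ ∉ I` (`exists_inertia_separating`).
-/

set_option autoImplicit false

namespace Groth.Agent.Lib.helper22.InertiaSep
open scoped Pointwise
open Groth.Agent.Lib.helper22

variable {R : Type*} [CommRing R] (G : Type*) [Group G] [Finite G] [MulSemiringAction G R]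
  (q : Ideal R) [q.IsPrime]

omit [q.IsPrime] in
theorem smul_eq_of_mem_inertia {σ : G} (hσ : σ ∈ q.inertia G) : σ • q = q := by
  apply smul_eq_of_smul_le
  intro x hx
  rw [Ideal.mem_pointwise_smul_iff_inv_smul_mem] at hx
  have h1 := hσ (σ⁻¹ • x)
  rw [smul_inv_smul] at h1
  have := q.add_mem h1 hx
  simpa using this

/-- an element outside `q`, invariant under the decomposition group, all of whose other
conjugates lie in `q` -/
theorem exists_decomposition_separating :
    ∃ c : R, c ∉ q ∧ (∀ σ : G, σ • q = q → σ • c = c) ∧ (∀ σ : G, σ • q ≠ q → σ • c ∈ q) := by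
  classical
  cases nonempty_fintype G
  let P' := Finset.inf (Finset.univ.filter (fun g : G => g • q ≠ q)) (fun g ↦ g • q)
  have h1 : ¬ P' ≤ q := by
    rw [Ideal.IsPrime.inf_le' inferInstance]
    rintro ⟨g, hg1, hg2⟩
    exact (Finset.mem_filter.mp hg1).2 (smul_eq_of_smul_le hg2)
  obtain ⟨c₀, hc₀P', hc₀P⟩ := SetLike.not_le_iff_exists.mp h1
  have hc₀ : ∀ g : G, g • q ≠ q → c₀ ∈ g • q := fun g hg ↦
    (Finset.inf_le (Finset.mem_filter.mpr ⟨Finset.mem_univ g, hg⟩) : P' ≤ g • q) hc₀P'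
  set D : Finset G := Finset.univ.filter (fun g => g • q = q) with hD
  set c := ∏ δ ∈ D, δ • c₀ with hc
  have hmemD : ∀ g : G, g ∈ D ↔ g • q = q := fun g => by simp [hD]
  have hcP : c ∉ q := by
    rw [hc, Ideal.IsPrime.prod_mem_iff]
    push Not
    intro δ hδ h
    apply hc₀P
    have hδ' : δ • q = q := (hmemD δ).mp hδ
    rw [← hδ'] at h
    exact (Ideal.smul_mem_pointwise_smul_iff).mp h
  have hcinv : ∀ σ : G, σ • q = q → σ • c = c := by
    intro σ hσ
    rw [hc, Finset.smul_prod']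
    refine Finset.prod_bij (fun δ _ => σ * δ) ?_ ?_ ?_ ?_
    · intro δ hδ
      rw [hmemD] at hδ ⊢
      rw [mul_smul, hδ, hσ]
    · intro δ _ δ' _ h
      exact mul_left_cancel h
    · intro δ hδ
      refine ⟨σ⁻¹ * δ, ?_, by simp⟩
      rw [hmemD] at hδ ⊢
      rw [mul_smul, hδ, inv_smul_eq_iff, hσ]
    · intro δ _
      rw [mul_smul]
  have hcmem : ∀ σ : G, σ • q ≠ q → σ • c ∈ q := by
    intro σ hσ
    have hσ' : σ⁻¹ • q ≠ q := by
      intro h
      apply hσ
      rw [← h, smul_inv_smul]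
      exact h.symm
    have h1 : c₀ ∈ σ⁻¹ • q := hc₀ _ hσ'
    have h2 : c ∈ σ⁻¹ • q := by
      have hd : c₀ ∣ c := by
        have : (1 : G) • c₀ ∣ c :=
          Finset.dvd_prod_of_mem (fun δ => δ • c₀) ((hmemD 1).mpr (one_smul _ _))
        rwa [one_smul] at this
      obtain ⟨d, hd⟩ := hd
      rw [hd]
      exact Ideal.mul_mem_right _ _ h1
    rw [Ideal.mem_pointwise_smul_iff_inv_smul_mem, inv_inv] at h2
    exact h2
  exact ⟨c, hcP, hcinv, hcmem⟩


/-- an inertia-invariant element whose conjugates under elements outside the inertia group differ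
from it modulo `q` -/
theorem exists_inertia_separating :
    ∃ b : R, (∀ σ : G, σ ∈ q.inertia G → σ • b = b) ∧
      (∀ σ : G, σ ∉ q.inertia G → σ • b - b ∉ q) := by
  classical
  let D : Subgroup G := MulAction.stabilizer G q
  have hID : q.inertia G ≤ D := fun σ hσ => smul_eq_of_mem_inertia G q hσ
  let N : Subgroup D := (q.inertia G).subgroupOf D
  haveI : N.Normal := by
    refine ⟨fun n hn d => ?_⟩
    rw [Subgroup.mem_subgroupOf] at hn ⊢
    have h1 := InertiaGen.conj_mem_inertia_smul q d.1 n.1 hn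
    have h2 : d.1 • q = q := d.2
    rw [h2] at h1
    exact h1
  let T' := FixedPoints.subalgebra ℤ R N
  let Q : Ideal T' := q.under T'
  haveI : Q.IsPrime := inferInstance
  have hmemQ : ∀ x : T', x ∈ Q ↔ (x : R) ∈ q := fun x => Iff.rfl
  have hI : Q.inertia (D ⧸ N) = ⊥ := by
    apply InertiaGen.inertia_quotient_eq_bot N Q
    intro P hP hPQ
    haveI := hP
    obtain ⟨τ, hτ⟩ := Algebra.IsInvariant.exists_smul_of_under_eq T' R N P q hPQ
    have hτq : (τ : D).1 ∈ q.inertia G := τ.2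
    have hτ' : q = (τ : D).1 • P := hτ
    have hPq : P = q := by
      have h3 : (τ : D).1 • q = q := smul_eq_of_mem_inertia G q hτq
      have h4 : (τ : D).1 • P = (τ : D).1 • q := by rw [← hτ', h3]
      exact smul_left_cancel _ h4
    subst hPq
    intro σ hσ
    exact hσ
  obtain ⟨b₀, hb₀⟩ := InertiaUnram.exists_forall_smul_sub_notMem (D ⧸ N) Q hI
  obtain ⟨c, hcq, hcinv, hcmem⟩ := exists_decomposition_separating G q
  have hb₀fix : ∀ σ : G, σ ∈ q.inertia G → σ • (b₀ : R) = b₀ := by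
    intro σ hσ
    exact b₀.2 ⟨⟨σ, hID hσ⟩, hσ⟩
  have hb₀sep : ∀ σ : G, σ • q = q → σ ∉ q.inertia G → σ • (b₀ : R) - b₀ ∉ q := by
    intro σ hσq hσ
    have h1 : ((⟨σ, hσq⟩ : D) : D ⧸ N) ≠ 1 := by
      rw [Ne, QuotientGroup.eq_one_iff]
      exact hσ
    have h2 := hb₀ _ h1
    rw [hmemQ] at h2
    exact h2
  -- arrange `b₀ ∉ q`
  obtain ⟨b₁, hb₁q, hb₁fix, hb₁sep⟩ : ∃ b₁ : R, b₁ ∉ q ∧
      (∀ σ : G, σ ∈ q.inertia G → σ • b₁ = b₁) ∧
      (∀ σ : G, σ • q = q → σ ∉ q.inertia G → σ • b₁ - b₁ ∉ q) := by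
    by_cases hb : (b₀ : R) ∈ q
    · refine ⟨(b₀ : R) + 1, fun h => ?_, fun σ hσ => ?_, fun σ hσq hσ => ?_⟩
      · have := q.sub_mem h hb
        rw [add_sub_cancel_left] at this
        exact Ideal.IsPrime.ne_top inferInstance ((Ideal.eq_top_iff_one _).mpr this)
      · rw [smul_add, smul_one, hb₀fix σ hσ]
      · rw [smul_add, smul_one, add_sub_add_right_eq_sub]
        exact hb₀sep σ hσq hσ
    · exact ⟨b₀, hb, hb₀fix, hb₀sep⟩
  refine ⟨c * b₁, fun σ hσ => ?_, fun σ hσ => ?_⟩
  · rw [smul_mul', hcinv σ (hID hσ), hb₁fix σ hσ]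
  · by_cases hσq : σ • q = q
    · have : σ • (c * b₁) - c * b₁ = c * (σ • b₁ - b₁) := by rw [smul_mul', hcinv σ hσq]; ring
      rw [this]
      intro h
      rcases Ideal.IsPrime.mem_or_mem inferInstance h with h | h
      · exact hcq h
      · exact hb₁sep σ hσq hσ h
    · intro h
      have h2 : σ • (c * b₁) ∈ q := by rw [smul_mul']; exact q.mul_mem_right _ (hcmem σ hσq)
      have h3 : c * b₁ ∈ q := by
        have := q.sub_mem h2 h
        simpa using this
      rcases Ideal.IsPrime.mem_or_mem inferInstance h3 with h | h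
      · exact hcq h
      · exact hb₁q h

end Groth.Agent.Lib.helper22.InertiaSep
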