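import Mathlib

/-!
# The orbit polynomial of an element under a finite group action (helper22)

`G` a finite group acting on a commutative ring `R`, `b : R`.

* `orb b`: the orbit of `b` as a finset; `opoly b = ∏_{x ∈ orb b} (X - x)`, invariant, monic,
  vanishing at `b`; `eval_derivative_opoly`.
* `exists_lift_opoly`: it descends to a monic polynomial over the ring of invariants.
* `dvd_mul_derivative_of_eval_eq_zero`: an invariant polynomial vanishing at `b` times the
  derivative of `opoly b` is divisible by `opoly b`.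
* `exists_invariant_interpolation`: for `z` fixed by the stabilizer of `b`, `z * opoly'(b)` is the
  value at `b` of an invariant polynomial.
-/

set_option autoImplicit false

namespace Groth.Agent.Lib.helper22.OrbitPoly
open Polynomial

variable {G : Type*} [Group G] [Fintype G] {R : Type*} [CommRing R] [MulSemiringAction G R]
  [DecidableEq R] (b : R)

/-- the orbit of `b` -/
def orb : Finset R := Finset.univ.image (fun σ : G => σ • b)

variable {b} in
theorem mem_orb {x : R} : x ∈ orb (G := G) b ↔ ∃ σ : G, σ • b = x := by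
  simp [orb]

theorem self_mem_orb : b ∈ orb (G := G) b := mem_orb.mpr ⟨1, one_smul _ _⟩

variable {b} in
theorem smul_mem_orb (τ : G) {x : R} (hx : x ∈ orb (G := G) b) : τ • x ∈ orb (G := G) b := by
  obtain ⟨σ, rfl⟩ := mem_orb.mp hx
  exact mem_orb.mpr ⟨τ * σ, mul_smul _ _ _⟩

theorem image_smul_orb (τ : G) : (orb (G := G) b).image (fun x => τ • x) = orb (G := G) b := by
  ext x
  constructor
  · intro hx
    obtain ⟨y, hy, rfl⟩ := Finset.mem_image.mp hx
    exact smul_mem_orb τ hy
  · intro hx
    refine Finset.mem_image.mpr ⟨τ⁻¹ • x, smul_mem_orb _ hx, smul_inv_smul _ _⟩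

theorem image_smul_erase (τ : G) (x : R) :
    ((orb (G := G) b).erase x).image (fun y => τ • y) = (orb (G := G) b).erase (τ • x) := by
  rw [Finset.image_erase (MulAction.injective τ), image_smul_orb]

/-- the partial products -/
noncomputable def epoly (x : R) : R[X] := ∏ y ∈ (orb (G := G) b).erase x, (X - C y)

/-- the orbit polynomial -/
noncomputable def opoly : R[X] := ∏ y ∈ orb (G := G) b, (X - C y)

theorem opoly_monic : (opoly (G := G) b).Monic := monic_prod_of_monic _ _ fun _ _ => monic_X_sub_C _

variable {b} in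
theorem opoly_eq_mul_epoly {x : R} (hx : x ∈ orb (G := G) b) :
    opoly (G := G) b = (X - C x) * epoly (G := G) b x := by
  rw [opoly, epoly, Finset.mul_prod_erase _ (fun y => X - C y) hx]

variable {b} in
theorem eval_opoly {x : R} (hx : x ∈ orb (G := G) b) : (opoly (G := G) b).eval x = 0 := by
  rw [opoly_eq_mul_epoly hx, eval_mul, eval_sub, eval_X, eval_C, sub_self, zero_mul]

theorem smul_epoly (τ : G) (x : R) : τ • epoly (G := G) b x = epoly (G := G) b (τ • x) := by
  rw [epoly, epoly, Finset.smul_prod', ← image_smul_erase, Finset.prod_image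
    (fun _ _ _ _ h => MulAction.injective τ h)]
  refine Finset.prod_congr rfl fun y _ => ?_
  rw [smul_sub, smul_X, smul_C]

theorem smul_opoly (τ : G) : τ • opoly (G := G) b = opoly (G := G) b := by
  rw [opoly, Finset.smul_prod']
  conv_rhs => rw [← image_smul_orb b τ, Finset.prod_image (fun _ _ _ _ h => MulAction.injective τ h)]
  refine Finset.prod_congr rfl fun y _ => ?_
  rw [smul_sub, smul_X, smul_C]

theorem derivative_opoly : derivative (opoly (G := G) b) = ∑ x ∈ orb (G := G) b, epoly (G := G) b x := by
  rw [opoly, derivative_prod_finset]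
  refine Finset.sum_congr rfl fun x _ => ?_
  rw [derivative_sub, derivative_X, derivative_C, sub_zero, mul_one]
  rfl

variable {b} in
theorem eval_epoly_of_ne {x y : R} (hy : y ∈ orb (G := G) b) (hxy : y ≠ x) :
    (epoly (G := G) b x).eval y = 0 := by
  rw [epoly, eval_prod]
  apply Finset.prod_eq_zero (Finset.mem_erase.mpr ⟨hxy, hy⟩)
  rw [eval_sub, eval_X, eval_C, sub_self]

theorem eval_derivative_opoly :
    (derivative (opoly (G := G) b)).eval b = ∏ y ∈ (orb (G := G) b).erase b, (b - y) := by
  rw [derivative_opoly, eval_finsetSum, Finset.sum_eq_single b]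
  · rw [epoly, eval_prod]
    refine Finset.prod_congr rfl fun y _ => ?_
    rw [eval_sub, eval_X, eval_C]
  · intro x _ hx
    exact eval_epoly_of_ne (self_mem_orb b) (Ne.symm hx)
  · intro h
    exact absurd (self_mem_orb b) h

variable {b} in
/-- an invariant polynomial vanishing at `b` vanishes on the orbit -/
theorem eval_eq_zero_of_smul_eq {h : R[X]} (hh : ∀ τ : G, τ • h = h) (hb : h.eval b = 0)
    {x : R} (hx : x ∈ orb (G := G) b) : h.eval x = 0 := by
  obtain ⟨σ, rfl⟩ := mem_orb.mp hx
  have := Polynomial.smul_eval_smul (S := R) σ h b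
  rw [hh] at this
  rw [this, hb, smul_zero]

variable {b} in
/-- an invariant polynomial vanishing at `b` times the derivative of the orbit polynomial is
divisible by the orbit polynomial -/
theorem opoly_dvd_mul_derivative {h : R[X]} (hh : ∀ τ : G, τ • h = h) (hb : h.eval b = 0) :
    opoly (G := G) b ∣ h * derivative (opoly (G := G) b) := by
  rw [derivative_opoly, Finset.mul_sum]
  apply Finset.dvd_sum
  intro x hx
  have h0 := eval_eq_zero_of_smul_eq hh hb hx
  obtain ⟨k, hk⟩ := Polynomial.dvd_iff_isRoot.mpr h0
  rw [hk, opoly_eq_mul_epoly hx]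
  exact ⟨k, by ring⟩


section Interp

variable (z : R)

/-- the transported value: `wfun b z (σ • b) = σ • z` when `z` is fixed by the stabilizer of `b` -/
noncomputable def wfun (x : R) : R :=
  if h : ∃ σ : G, σ • b = x then h.choose • z else 0

variable {b z} in
theorem wfun_smul (hz : ∀ σ : G, σ • b = b → σ • z = z) (σ : G) :
    wfun (G := G) b z (σ • b) = σ • z := by
  have h : ∃ τ : G, τ • b = σ • b := ⟨σ, rfl⟩
  rw [wfun, dif_pos h]
  have h1 : (σ⁻¹ * h.choose) • b = b := by
    rw [mul_smul, h.choose_spec, inv_smul_smul]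
  have h2 := hz _ h1
  rw [mul_smul, inv_smul_eq_iff] at h2
  exact h2

/-- the interpolation polynomial -/
noncomputable def ipoly : R[X] := ∑ x ∈ orb (G := G) b, C (wfun (G := G) b z x) * epoly (G := G) b x

variable {b z} in
theorem smul_ipoly (hz : ∀ σ : G, σ • b = b → σ • z = z) (τ : G) :
    τ • ipoly (G := G) b z = ipoly (G := G) b z := by
  rw [ipoly, Finset.smul_sum]
  conv_rhs => rw [← image_smul_orb b τ, Finset.sum_image (fun _ _ _ _ h => MulAction.injective τ h)]
  refine Finset.sum_congr rfl fun x hx => ?_
  obtain ⟨σ, rfl⟩ := mem_orb.mp hx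
  show τ • (C (wfun (G := G) b z (σ • b)) * epoly (G := G) b (σ • b)) =
    C (wfun (G := G) b z (τ • σ • b)) * epoly (G := G) b (τ • σ • b)
  rw [smul_mul', smul_C, smul_epoly, wfun_smul hz, ← mul_smul, ← mul_smul, wfun_smul hz]

variable {b z} in
theorem eval_ipoly (hz : ∀ σ : G, σ • b = b → σ • z = z) :
    (ipoly (G := G) b z).eval b = z * (derivative (opoly (G := G) b)).eval b := by
  rw [ipoly, eval_finsetSum, Finset.sum_eq_single b]
  · rw [eval_mul, eval_C, eval_derivative_opoly, epoly, eval_prod]
    have h1 : wfun (G := G) b z b = z := by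
      have := wfun_smul (G := G) hz 1
      rwa [one_smul, one_smul] at this
    rw [h1]
    congr 1
    refine Finset.prod_congr rfl fun y _ => ?_
    rw [eval_sub, eval_X, eval_C]
  · intro x _ hx
    rw [eval_mul, eval_epoly_of_ne (self_mem_orb b) (Ne.symm hx), mul_zero]
  · intro h
    exact absurd (self_mem_orb b) h

end Interp

/-- the derivative of the orbit polynomial at `b` is fixed by the stabilizer of `b` and avoids any
prime avoiding the differences `σ b - b ≠ 0` -/
theorem eval_derivative_opoly_notMem (P : Ideal R) [P.IsPrime]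
    (hP : ∀ σ : G, σ • b ≠ b → σ • b - b ∉ P) :
    (derivative (opoly (G := G) b)).eval b ∉ P := by
  rw [eval_derivative_opoly, Ideal.IsPrime.prod_mem_iff]
  rintro ⟨y, hy, hyP⟩
  obtain ⟨hne, hy'⟩ := Finset.mem_erase.mp hy
  obtain ⟨σ, rfl⟩ := mem_orb.mp hy'
  apply hP σ hne
  have := P.neg_mem hyP
  rwa [neg_sub] at this

section Descent

variable {S : Type*} [CommRing S] [Algebra S R]

omit [Fintype G] [DecidableEq R] in
/-- polynomials over the invariants are invariant -/
theorem smul_map_eq (hS : ∀ (σ : G) (s : S), σ • algebraMap S R s = algebraMap S R s)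
    (τ : G) (p : S[X]) : τ • p.map (algebraMap S R) = p.map (algebraMap S R) := by
  rw [smul_eq_map, map_map]
  congr 1
  ext s
  exact hS τ s

omit [Fintype G] [DecidableEq R] in
/-- invariant polynomials have coefficients in the invariants -/
theorem exists_map_eq_of_smul_eq
    (hS : ∀ z : R, (∀ σ : G, σ • z = z) → z ∈ Set.range (algebraMap S R))
    (p : R[X]) (hp : ∀ τ : G, τ • p = p) : ∃ q : S[X], q.map (algebraMap S R) = p := by
  rw [← mem_lifts, lifts_iff_coeff_lifts]
  intro n
  apply hS
  intro σ
  rw [← coeff_smul, hp]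

end Descent

end Groth.Agent.Lib.helper22.OrbitPoly
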