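import Mathlib
import Groth.Agent.Lib.Helper22.OrbitPoly

/-!
# Invariants of the stabilizer of an element are standard étale over the invariants (helper22)

`G` finite acting on `R`, `S → R` the invariants, `T → R` the invariants of the stabilizer of
`b = algebraMap T R bT`.  Then `T[1/F'(b)]` is (standard) étale over `S`, where `F` is the orbit
polynomial of `b`.
-/

set_option autoImplicit false

namespace Groth.Agent.Lib.helper22.OrbitEtale
open Polynomial Groth.Agent.Lib.helper22.OrbitPoly

/-- a criterion for `T[1/φ a]` to be the localization `A[1/a]` -/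
theorem isLocalization_away_comp {A T Tg : Type*} [CommRing A] [CommRing T] [CommRing Tg]
    [Algebra T Tg] [Algebra A T] [Algebra A Tg] [IsScalarTower A T Tg]
    (a : A) [IsLocalization.Away (algebraMap A T a) Tg]
    (hsurj : ∀ t : T, ∃ (n : ℕ) (x : A), algebraMap A T a ^ n * t = algebraMap A T x)
    (hinj : ∀ x : A, algebraMap A T x = 0 → ∃ n : ℕ, a ^ n * x = 0) :
    IsLocalization.Away a Tg := by
  rw [IsLocalization.Away, isLocalization_iff]
  refine ⟨?_, ?_, ?_⟩
  · rintro ⟨_, n, rfl⟩
    rw [map_pow, IsScalarTower.algebraMap_apply A T Tg]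
    exact (IsLocalization.Away.algebraMap_isUnit (algebraMap A T a)).pow n
  · intro z
    obtain ⟨⟨t, ⟨_, n, rfl⟩⟩, e⟩ := IsLocalization.surj (Submonoid.powers (algebraMap A T a)) z
    obtain ⟨m, x, hx⟩ := hsurj t
    refine ⟨⟨x, ⟨a ^ (n + m), n + m, rfl⟩⟩, ?_⟩
    simp only at e ⊢
    rw [IsScalarTower.algebraMap_apply A T Tg, IsScalarTower.algebraMap_apply A T Tg x, ← hx,
      map_pow, pow_add, map_mul, map_mul, ← e, map_pow]
    ring
  · intro x y hxy
    rw [IsScalarTower.algebraMap_apply A T Tg, IsScalarTower.algebraMap_apply A T Tg y] at hxy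
    obtain ⟨⟨_, n, rfl⟩, hc⟩ :=
      (IsLocalization.eq_iff_exists (Submonoid.powers (algebraMap A T a)) Tg).mp hxy
    simp only at hc
    have h0 : algebraMap A T (a ^ n * (x - y)) = 0 := by
      rw [map_mul, map_pow, map_sub, mul_sub, hc, sub_self]
    obtain ⟨m, hm⟩ := hinj _ h0
    refine ⟨⟨a ^ (m + n), m + n, rfl⟩, ?_⟩
    simp only
    rw [← sub_eq_zero, ← mul_sub, pow_add, mul_assoc, hm]


section Main

variable {G : Type*} [Group G] [Finite G] {R : Type*} [CommRing R] [MulSemiringAction G R]
  {S T : Type*} [CommRing S] [CommRing T] [Algebra S T] [Algebra T R] [Algebra S R]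
  [IsScalarTower S T R]

/-- Let `S = R^G`, `bT : T` with image `b : R`, and `T = R^{Stab(b)}`.  Then there is `g : T` (the
derivative of the orbit polynomial of `b` evaluated at `b`) such that `T[1/g]` is étale over `S`;
`g` avoids any prime which avoids all nonzero differences `σ b - b`. -/
theorem exists_etale_away
    (hSinj : Function.Injective (algebraMap S R))
    (hTinj : Function.Injective (algebraMap T R))
    (hS : ∀ z : R, (∀ σ : G, σ • z = z) ↔ z ∈ Set.range (algebraMap S R))
    (bT : T)
    (hT : ∀ z : R, (∀ σ : G, σ • algebraMap T R bT = algebraMap T R bT → σ • z = z) ↔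
      z ∈ Set.range (algebraMap T R)) :
    ∃ g : T, (∀ P : Ideal R, P.IsPrime → (∀ σ : G, σ • algebraMap T R bT ≠ algebraMap T R bT →
        σ • algebraMap T R bT - algebraMap T R bT ∉ P) → algebraMap T R g ∉ P) ∧
      Algebra.Etale S (Localization.Away g) := by
  classical
  cases nonempty_fintype G
  set b := algebraMap T R bT with hb
  have hS1 : ∀ (σ : G) (s : S), σ • algebraMap S R s = algebraMap S R s := fun σ s =>
    (hS _).mpr ⟨s, rfl⟩ σ
  have hS2 : ∀ z : R, (∀ σ : G, σ • z = z) → z ∈ Set.range (algebraMap S R) :=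
    fun z hz => (hS z).mp hz
  obtain ⟨F, hF⟩ := exists_map_eq_of_smul_eq hS2 (opoly (G := G) b) (smul_opoly b)
  have hFm : F.Monic := monic_of_injective hSinj (by rw [hF]; exact opoly_monic b)
  have hev : ∀ p : S[X], algebraMap T R (aeval bT p) = (p.map (algebraMap S R)).eval b := by
    intro p
    rw [← aeval_algebraMap_apply, aeval_def, eval_map]
  have hFb : F.eval₂ (algebraMap S T) bT = 0 := by
    apply hTinj
    rw [map_zero, ← aeval_def, hev, hF]
    exact eval_opoly (self_mem_orb b)
  let φ : AdjoinRoot F →+* T := AdjoinRoot.lift (algebraMap S T) bT hFb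
  have hφ : ∀ p : S[X], φ (AdjoinRoot.mk F p) = aeval bT p := fun p => by
    rw [aeval_def]; exact AdjoinRoot.lift_mk hFb p
  set a : AdjoinRoot F := AdjoinRoot.mk F (derivative F) with ha
  set g : T := φ a with hg
  have hgR : algebraMap T R g = (derivative (opoly (G := G) b)).eval b := by
    rw [hg, ha, hφ, hev, ← derivative_map, hF]
  refine ⟨g, fun P hP hσ => ?_, ?_⟩
  · rw [hgR]
    exact eval_derivative_opoly_notMem b P hσ
  letI : Algebra (AdjoinRoot F) T := φ.toAlgebra
  haveI : IsScalarTower S (AdjoinRoot F) T := IsScalarTower.of_algebraMap_eq' (by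
    rw [RingHom.algebraMap_toAlgebra, AdjoinRoot.algebraMap_eq]
    exact (AdjoinRoot.lift_comp_of hFb).symm)
  haveI : IsScalarTower S (AdjoinRoot F) (Localization.Away g) :=
    IsScalarTower.of_algebraMap_eq' (by
      rw [IsScalarTower.algebraMap_eq (AdjoinRoot F) T (Localization.Away g), RingHom.comp_assoc,
        ← IsScalarTower.algebraMap_eq S (AdjoinRoot F) T,
        ← IsScalarTower.algebraMap_eq S T (Localization.Away g)])
  haveI : IsLocalization.Away (algebraMap (AdjoinRoot F) T a) (Localization.Away g) :=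
    (inferInstance : IsLocalization.Away g (Localization.Away g))
  haveI : IsLocalization.Away a (Localization.Away g) := by
    apply isLocalization_away_comp (T := T) a
    · -- surjectivity: invariant interpolation
      intro t
      have hz : ∀ σ : G, σ • b = b → σ • algebraMap T R t = algebraMap T R t :=
        (hT _).mpr ⟨t, rfl⟩
      obtain ⟨Q, hQ⟩ := exists_map_eq_of_smul_eq hS2 (ipoly (G := G) b (algebraMap T R t))
        (smul_ipoly hz)
      refine ⟨1, AdjoinRoot.mk F Q, ?_⟩
      apply hTinj
      show algebraMap T R (g ^ 1 * t) = algebraMap T R (φ (AdjoinRoot.mk F Q))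
      rw [hφ Q, hev, hQ, eval_ipoly hz, pow_one, map_mul, hgR, mul_comm]
    · -- injectivity
      intro x hx
      obtain ⟨h, rfl⟩ := AdjoinRoot.mk_surjective x
      have hx' : φ (AdjoinRoot.mk F h) = 0 := hx
      rw [hφ] at hx'
      have h0 : (h.map (algebraMap S R)).eval b = 0 := by rw [← hev, hx', map_zero]
      have hdvd := opoly_dvd_mul_derivative (G := G) (smul_map_eq hS1 · h) h0
      rw [← hF, derivative_map, ← Polynomial.map_mul,
        map_dvd_map _ hSinj hFm] at hdvd
      refine ⟨1, ?_⟩
      rw [pow_one, ha, ← map_mul, AdjoinRoot.mk_eq_zero, mul_comm]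
      exact hdvd
  let P : StandardEtalePair S := ⟨F, hFm, derivative F, ⟨1, 0, 1, by simp⟩⟩
  let e1 : Localization.Away a ≃ₐ[AdjoinRoot F] Localization.Away g :=
    IsLocalization.algEquiv (Submonoid.powers a) _ _
  let e : P.Ring ≃ₐ[S] Localization.Away g :=
    P.equivAwayAdjoinRoot.trans (e1.restrictScalars S)
  exact Algebra.Etale.of_equiv e

end Main

end Groth.Agent.Lib.helper22.OrbitEtale
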