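import Mathlib
import Groth.Agent.Lib.Helper22.OrbitEtale
import Groth.Agent.Lib.Helper22.InertiaSep

/-!
# Inertia invariants of the integral closure in an infinite Galois extension (helper22)

`A` integrally closed with fraction field `K`, `L/K` Galois (possibly infinite), `G = Gal(L/K)`,
`B` the integral closure of `A` in `L`, `q` a prime of `B`.  For a normal subgroup `N` of `G`:

* `inertiaAt q N`: the `σ : G` acting trivially modulo `q` on the `N`-invariants of `B`;
  `fixedAlg q N`: the subalgebra of `B` fixed by `inertiaAt q N`.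
* `exists_etale_away_level`: if `G ⧸ N` is finite there is `g ∈ fixedAlg q N`, `g ∉ q`, with
  `(fixedAlg q N)[1/g]` étale over `A`.
* `exists_level`: an element of `B` fixed by the inertia group of `q` lies in `fixedAlg q N` for
  some open normal subgroup `N` (compactness of `G`).
* `etale_away_mul`: `T[1/g]` étale ⇒ `T[1/(g s)]` étale.
-/

set_option autoImplicit false
universe u

namespace Groth.Agent.Lib.helper22.IndInertia

open scoped Pointwise

theorem etale_away_mul {A T : Type u} [CommRing A] [CommRing T] [Algebra A T] (g s : T)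
    [Algebra.Etale A (Localization.Away g)] : Algebra.Etale A (Localization.Away (g * s)) := by
  let T₁ := Localization.Away g
  let T₂ := Localization.Away (algebraMap T T₁ s)
  haveI : Algebra.Etale A T₂ := inferInstance
  haveI : IsLocalization.Away (g * s) T₂ := inferInstance
  let e : T₂ ≃ₐ[T] Localization.Away (g * s) :=
    IsLocalization.algEquiv (Submonoid.powers (g * s)) _ _
  exact Algebra.Etale.of_equiv (e.restrictScalars A)


variable {A K L : Type u} [CommRing A] [IsDomain A] [IsIntegrallyClosed A]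
    [Field K] [Field L] [Algebra A K] [IsFractionRing A K] [Algebra K L] [Algebra A L]
    [IsScalarTower A K L] [IsGalois K L]

instance smulComm : SMulCommClass (L ≃ₐ[K] L) A L :=
  ⟨fun σ a x => by
    show σ (a • x) = a • σ x
    rw [← algebraMap_smul K a x, ← algebraMap_smul K a (σ x), map_smul]⟩

variable (q : Ideal (integralClosure A L))

/-- the automorphisms acting trivially modulo `q` on the `N`-invariants of `B` -/
def inertiaAt (N : Subgroup (L ≃ₐ[K] L)) : Set (L ≃ₐ[K] L) :=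
  {σ | ∀ y : integralClosure A L, (∀ n ∈ N, n • y = y) → σ • y - y ∈ q}

theorem subset_inertiaAt (N : Subgroup (L ≃ₐ[K] L)) : (N : Set (L ≃ₐ[K] L)) ⊆ inertiaAt q N := by
  intro n hn y hy
  rw [hy n hn, sub_self]
  exact q.zero_mem

theorem inertiaAt_mono {N N' : Subgroup (L ≃ₐ[K] L)} (h : N ≤ N') :
    inertiaAt q N ⊆ inertiaAt q N' := by
  intro σ hσ y hy
  exact hσ y (fun n hn => hy n (h hn))

/-- the elements of `B` fixed by `inertiaAt q N` -/
def fixedAlg (N : Subgroup (L ≃ₐ[K] L)) : Subalgebra A L where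
  carrier := {x | x ∈ integralClosure A L ∧ ∀ σ ∈ inertiaAt q N, σ x = x}
  mul_mem' := by
    rintro x y ⟨hx, hx'⟩ ⟨hy, hy'⟩
    exact ⟨mul_mem hx hy, fun σ hσ => by rw [map_mul, hx' σ hσ, hy' σ hσ]⟩
  add_mem' := by
    rintro x y ⟨hx, hx'⟩ ⟨hy, hy'⟩
    exact ⟨add_mem hx hy, fun σ hσ => by rw [map_add, hx' σ hσ, hy' σ hσ]⟩
  algebraMap_mem' := by
    intro a
    refine ⟨Subalgebra.algebraMap_mem _ a, fun σ _ => ?_⟩
    rw [IsScalarTower.algebraMap_apply A K L, AlgEquiv.commutes]

theorem fixedAlg_mono {N N' : Subgroup (L ≃ₐ[K] L)} (h : N ≤ N') :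
    fixedAlg q N' ≤ fixedAlg q N := by
  rintro x ⟨hx, hx'⟩
  exact ⟨hx, fun σ hσ => hx' σ (inertiaAt_mono q h hσ)⟩

/-- invariants of the whole Galois group in `B` come from `A`. -/
theorem mem_range_of_fixed (z : integralClosure A L) (hz : ∀ σ : L ≃ₐ[K] L, σ • z = z) :
    ∃ a : A, algebraMap A L a = z := by
  have h1 : (z : L) ∈ Set.range (algebraMap K L) := by
    rw [InfiniteGalois.mem_range_algebraMap_iff_fixed]
    intro σ
    exact congrArg Subtype.val (hz σ)
  obtain ⟨k, hk⟩ := h1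
  have h2 : IsIntegral A k := by
    have h3 : IsIntegral A (algebraMap K L k) := by rw [hk]; exact z.2
    exact (isIntegral_algHom_iff (IsScalarTower.toAlgHom A K L) (algebraMap K L).injective).mp h3
  obtain ⟨a, ha⟩ := IsIntegrallyClosed.isIntegral_iff.mp h2
  exact ⟨a, by rw [IsScalarTower.algebraMap_apply A K L, ha, hk]⟩

theorem exists_etale_away_level [q.IsPrime] (N : Subgroup (L ≃ₐ[K] L)) [N.Normal]
    [Finite ((L ≃ₐ[K] L) ⧸ N)] :
    ∃ g : fixedAlg q N, (⟨g.1, g.2.1⟩ : integralClosure A L) ∉ q ∧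
      Algebra.Etale A (Localization.Away g) := by
  classical
  let RN := FixedPoints.subalgebra A (integralClosure A L) N
  let qN : Ideal RN := q.comap RN.val
  haveI : qN.IsPrime := Ideal.comap_isPrime _ _
  obtain ⟨b, hbfix, hbsep⟩ :=
    Groth.Agent.Lib.helper22.InertiaSep.exists_inertia_separating ((L ≃ₐ[K] L) ⧸ N) qN
  -- relation between the two inertia notions
  have hsmul : ∀ (σ : L ≃ₐ[K] L) (x : RN), (((σ : (L ≃ₐ[K] L) ⧸ N) • x : RN) : integralClosure A L)
      = σ • (x : integralClosure A L) := fun σ x => rfl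
  have hin : ∀ σ : L ≃ₐ[K] L, ((σ : (L ≃ₐ[K] L) ⧸ N) ∈ qN.inertia ((L ≃ₐ[K] L) ⧸ N)) ↔
      σ ∈ inertiaAt q N := by
    intro σ
    constructor
    · intro h y hy
      exact h ⟨y, fun n => hy n.1 n.2⟩
    · intro h x
      exact h x.1 (fun n hn => x.2 ⟨n, hn⟩)
  -- algebra structure
  let j : fixedAlg q N →+* RN :=
    { toFun := fun x => ⟨⟨x.1, x.2.1⟩, fun n => Subtype.ext (x.2.2 n.1 (subset_inertiaAt q N n.2))⟩
      map_one' := rfl
      map_mul' := fun _ _ => rfl
      map_zero' := rfl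
      map_add' := fun _ _ => rfl }
  letI : Algebra (fixedAlg q N) RN := j.toAlgebra
  haveI : IsScalarTower A (fixedAlg q N) RN := IsScalarTower.of_algebraMap_eq (fun a => rfl)
  have hjinj : Function.Injective (algebraMap (fixedAlg q N) RN) := by
    intro x y hxy
    apply Subtype.ext
    exact congrArg (fun t : RN => ((t : integralClosure A L) : L)) hxy
  have hSinj : Function.Injective (algebraMap A RN) := by
    intro x y hxy
    have h1 : algebraMap A L x = algebraMap A L y :=
      congrArg (fun t : RN => ((t : integralClosure A L) : L)) hxy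
    rw [IsScalarTower.algebraMap_apply A K L, IsScalarTower.algebraMap_apply A K L] at h1
    exact IsFractionRing.injective A K ((algebraMap K L).injective h1)
  let bT : fixedAlg q N := ⟨b.1.1, b.1.2, fun σ hσ => by
    have := hbfix _ ((hin σ).mpr hσ)
    exact congrArg (fun t : RN => ((t : integralClosure A L) : L)) this⟩
  have hbT : algebraMap (fixedAlg q N) RN bT = b := Subtype.ext (Subtype.ext rfl)
  have hS : ∀ z : RN, (∀ σ : (L ≃ₐ[K] L) ⧸ N, σ • z = z) ↔ z ∈ Set.range (algebraMap A RN) := by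
    intro z
    constructor
    · intro hz
      obtain ⟨a, ha⟩ := mem_range_of_fixed (K := K) z.1 (fun (σ : L ≃ₐ[K] L) => by
        have := hz (QuotientGroup.mk σ)
        exact congrArg Subtype.val this)
      exact ⟨a, Subtype.ext (Subtype.ext ha)⟩
    · rintro ⟨a, rfl⟩
      intro τ
      obtain ⟨τ, rfl⟩ := QuotientGroup.mk_surjective τ
      apply Subtype.ext
      apply Subtype.ext
      show τ (algebraMap A L a) = algebraMap A L a
      rw [IsScalarTower.algebraMap_apply A K L, AlgEquiv.commutes]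
  have hstab : ∀ σ : (L ≃ₐ[K] L) ⧸ N, σ • b = b ↔ σ ∈ qN.inertia ((L ≃ₐ[K] L) ⧸ N) := by
    intro σ
    constructor
    · intro h
      by_contra hn
      apply hbsep σ hn
      rw [h, sub_self]
      exact qN.zero_mem
    · exact hbfix σ
  have hT : ∀ z : RN, (∀ σ : (L ≃ₐ[K] L) ⧸ N, σ • algebraMap (fixedAlg q N) RN bT =
      algebraMap (fixedAlg q N) RN bT → σ • z = z) ↔
      z ∈ Set.range (algebraMap (fixedAlg q N) RN) := by
    intro z
    rw [hbT]
    constructor
    · intro hz
      refine ⟨⟨z.1.1, z.1.2, fun σ hσ => ?_⟩, Subtype.ext (Subtype.ext rfl)⟩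
      have := hz (σ : (L ≃ₐ[K] L) ⧸ N) ((hstab _).mpr ((hin σ).mpr hσ))
      exact congrArg (fun t : RN => ((t : integralClosure A L) : L)) this
    · rintro ⟨t, rfl⟩ σ hσ
      obtain ⟨σ, rfl⟩ := QuotientGroup.mk_surjective σ
      have h1 := (hin σ).mp ((hstab _).mp hσ)
      apply Subtype.ext
      apply Subtype.ext
      exact t.2.2 σ h1
  obtain ⟨g, hg, hEt⟩ := Groth.Agent.Lib.helper22.OrbitEtale.exists_etale_away
    (G := (L ≃ₐ[K] L) ⧸ N) (R := RN) (S := A) (T := fixedAlg q N) hSinj hjinj hS bT hT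
  refine ⟨g, ?_, hEt⟩
  have := hg qN inferInstance (by
    intro σ hσ
    rw [hbT] at hσ ⊢
    exact hbsep σ (fun h => hσ ((hstab σ).mpr h)))
  exact this


theorem isClosed_inertiaAt (N : Subgroup (L ≃ₐ[K] L)) : IsClosed (inertiaAt (K := K) q N) := by
  letI : TopologicalSpace L := ⊥
  haveI : DiscreteTopology L := ⟨rfl⟩
  haveI : ContinuousSMul (L ≃ₐ[K] L) L :=
    continuousSMul_iff_stabilizer_isOpen.mpr (fun x => stabilizer_isOpen_of_isIntegral x)
  have : inertiaAt (K := K) q N = ⋂ (y : integralClosure A L) (_ : ∀ n ∈ N, n • y = y),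
      {σ : L ≃ₐ[K] L | σ • y - y ∈ q} := by
    ext σ
    simp only [inertiaAt, Set.mem_setOf_eq, Set.mem_iInter]
  rw [this]
  refine isClosed_iInter fun y => isClosed_iInter fun _ => ?_
  have hcont : Continuous (fun σ : L ≃ₐ[K] L => σ • (y : L)) :=
    continuous_id.smul continuous_const
  have : {σ : L ≃ₐ[K] L | σ • y - y ∈ q} =
      (fun σ : L ≃ₐ[K] L => σ • (y : L)) ⁻¹' {x : L | ∃ c ∈ q, (c : L) = x - y} := by
    ext σ
    simp only [Set.mem_setOf_eq, Set.mem_preimage]
    constructor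
    · intro h
      exact ⟨_, h, rfl⟩
    · rintro ⟨c, hc, hce⟩
      have : c = σ • y - y := Subtype.ext hce
      rwa [← this]
  rw [this]
  exact (isClosed_discrete _).preimage hcont

theorem exists_level (I : Subgroup (L ≃ₐ[K] L))
    (hI : ∀ σ : L ≃ₐ[K] L, (∀ b : integralClosure A L, σ • b - b ∈ q) → σ ∈ I)
    (z : L) (hzB : z ∈ integralClosure A L) (hzI : ∀ σ ∈ I, σ z = z) :
    ∃ N : OpenNormalSubgroup (L ≃ₐ[K] L), z ∈ fixedAlg q (N : Subgroup (L ≃ₐ[K] L)) := by
  by_contra hno
  push Not at hno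
  have hne : ∀ N : OpenNormalSubgroup (L ≃ₐ[K] L),
      (inertiaAt q (N : Subgroup (L ≃ₐ[K] L)) ∩ {σ | σ z ≠ z}).Nonempty := by
    intro N
    have := hno N
    by_contra hemp
    apply this
    refine ⟨hzB, fun σ hσ => ?_⟩
    by_contra hσz
    exact hemp ⟨σ, hσ, hσz⟩
  have hclosed : ∀ N : OpenNormalSubgroup (L ≃ₐ[K] L),
      IsClosed (inertiaAt q (N : Subgroup (L ≃ₐ[K] L)) ∩ {σ | σ z ≠ z}) := by
    intro N
    refine (isClosed_inertiaAt q _).inter ?_
    have hopen : IsOpen ((MulAction.stabilizer (L ≃ₐ[K] L) z : Subgroup _) : Set (L ≃ₐ[K] L)) :=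
      stabilizer_isOpen_of_isIntegral z
    have : {σ : L ≃ₐ[K] L | σ z ≠ z} =
        ((MulAction.stabilizer (L ≃ₐ[K] L) z : Subgroup _) : Set (L ≃ₐ[K] L))ᶜ := by
      ext σ
      rfl
    rw [this]
    exact hopen.isClosed_compl
  haveI : Nonempty (OpenNormalSubgroup (L ≃ₐ[K] L)) := by
    obtain ⟨N, -⟩ := ProfiniteGrp.exist_openNormalSubgroup_sub_open_nhds_of_one
      (G := L ≃ₐ[K] L) isOpen_univ (Set.mem_univ _)
    exact ⟨N⟩
  obtain ⟨σ, hσ⟩ := IsCompact.nonempty_iInter_of_directed_nonempty_isCompact_isClosed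
    (fun N : OpenNormalSubgroup (L ≃ₐ[K] L) =>
      inertiaAt q (N : Subgroup (L ≃ₐ[K] L)) ∩ {σ | σ z ≠ z})
    (by
      intro N₁ N₂
      refine ⟨N₁ ⊓ N₂, ?_, ?_⟩
      · exact Set.inter_subset_inter_left _ (inertiaAt_mono q inf_le_left)
      · exact Set.inter_subset_inter_left _ (inertiaAt_mono q inf_le_right))
    hne (fun N => (hclosed N).isCompact) hclosed
  rw [Set.mem_iInter] at hσ
  have hσI : σ ∈ I := by
    apply hI
    intro b
    have hopen : IsOpen ((MulAction.stabilizer (L ≃ₐ[K] L) (b : L) : Subgroup _) :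
        Set (L ≃ₐ[K] L)) := stabilizer_isOpen_of_isIntegral (b : L)
    obtain ⟨N, hN⟩ := ProfiniteGrp.exist_openNormalSubgroup_sub_open_nhds_of_one hopen
      (one_mem _)
    exact (hσ N).1 b (fun n hn => Subtype.ext (hN hn))
  obtain ⟨N₀⟩ := ‹Nonempty (OpenNormalSubgroup (L ≃ₐ[K] L))›
  exact (hσ N₀).2 (hzI σ hσI)


end Groth.Agent.Lib.helper22.IndInertia
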