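import Mathlib
import Groth.Agent.Lib.Helper24.IndEtaleCrit

/-!
# Ind-étale localizations of directed unions of subalgebras of a field (helper22)

`isIndEtale_of_levels`: let `BI` be an `A`-subalgebra of a field, `qI` a prime of `BI`, and `T j`
(`j` in a meet-semilattice, `T` antitone) subalgebras of `BI` covering `BI`, each with an element
`g ∉ qI` such that `(T j)[1/g]` is étale over `A`.  Then `BI` localized at `qI` is ind-étale over
`A` (via helper24's `IndEtaleCrit.isIndEtale_of_family`).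
-/

set_option autoImplicit false
universe u

namespace Groth.Agent.Lib.helper22.IndLevels

theorem etale_away_mul {A T : Type u} [CommRing A] [CommRing T] [Algebra A T] (g s : T)
    [Algebra.Etale A (Localization.Away g)] : Algebra.Etale A (Localization.Away (g * s)) := by
  let T₁ := Localization.Away g
  let T₂ := Localization.Away (algebraMap T T₁ s)
  haveI : Algebra.Etale A T₂ := inferInstance
  haveI : IsLocalization.Away (g * s) T₂ := inferInstance
  let e : T₂ ≃ₐ[T] Localization.Away (g * s) :=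
    IsLocalization.algEquiv (Submonoid.powers (g * s)) _ _
  exact Algebra.Etale.of_equiv (e.restrictScalars A)

section

variable {A : Type u} [CommRing A] {Lf : Type u} [Field Lf] [Algebra A Lf]
  (BI : Subalgebra A Lf) (qI : Ideal BI) [qI.IsPrime]
  {J : Type u} [SemilatticeInf J] [Nonempty J]
  (T : J → Subalgebra A Lf) (hT : ∀ j, T j ≤ BI) (hmono : ∀ j j', j ≤ j' → T j' ≤ T j)

/-- the map from a level to the localization -/
noncomputable def lvl (j : J) : T j →ₐ[A] Localization.AtPrime qI :=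
  (IsScalarTower.toAlgHom A BI (Localization.AtPrime qI)).comp (Subalgebra.inclusion (hT j))

theorem lvl_injective (j : J) : Function.Injective (lvl BI qI T hT j) :=
  (IsLocalization.injective (Localization.AtPrime qI)
    (Ideal.primeCompl_le_nonZeroDivisors qI)).comp (Subalgebra.inclusion_injective (hT j))

theorem lvl_isUnit (j : J) (g : T j) (hg : Subalgebra.inclusion (hT j) g ∉ qI) :
    IsUnit (lvl BI qI T hT j g) :=
  IsLocalization.map_units (Localization.AtPrime qI) (⟨_, hg⟩ : qI.primeCompl)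

theorem lvl_mono (j j' : J) (h : j ≤ j') (t : T j') :
    lvl BI qI T hT j (Subalgebra.inclusion (hmono j j' h) t) = lvl BI qI T hT j' t := rfl

/-- the index type -/
def Idx : Type u :=
  Σ j : J, {g : T j // Subalgebra.inclusion (hT j) g ∉ qI ∧ Algebra.Etale A (Localization.Away g)}

/-- the étale algebras -/
def Cfam (i : Idx BI qI T hT) : Type u := Localization.Away i.2.1

noncomputable instance (i : Idx BI qI T hT) : CommRing (Cfam BI qI T hT i) :=
  inferInstanceAs (CommRing (Localization.Away i.2.1))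

noncomputable instance (i : Idx BI qI T hT) : Algebra (T i.1) (Cfam BI qI T hT i) :=
  inferInstanceAs (Algebra (T i.1) (Localization.Away i.2.1))

noncomputable instance (i : Idx BI qI T hT) : Algebra A (Cfam BI qI T hT i) :=
  inferInstanceAs (Algebra A (Localization.Away i.2.1))

instance (i : Idx BI qI T hT) : IsScalarTower A (T i.1) (Cfam BI qI T hT i) :=
  inferInstanceAs (IsScalarTower A (T i.1) (Localization.Away i.2.1))

instance (i : Idx BI qI T hT) : IsLocalization.Away i.2.1 (Cfam BI qI T hT i) :=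
  inferInstanceAs (IsLocalization.Away i.2.1 (Localization.Away i.2.1))

instance (i : Idx BI qI T hT) : Algebra.Etale A (Cfam BI qI T hT i) := i.2.2.2

/-- the maps to the localization -/
noncomputable def φfam (i : Idx BI qI T hT) : Cfam BI qI T hT i →ₐ[A] Localization.AtPrime qI :=
  IsLocalization.Away.liftAlgHom (A := A) (S := Cfam BI qI T hT i) (i.2.1)
    (f := lvl BI qI T hT i.1) (lvl_isUnit BI qI T hT i.1 i.2.1 i.2.2.1)

theorem φfam_algebraMap (i : Idx BI qI T hT) (t : T i.1) :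
    φfam BI qI T hT i (algebraMap (T i.1) (Cfam BI qI T hT i) t) = lvl BI qI T hT i.1 t :=
  IsLocalization.Away.lift_eq (S := Cfam BI qI T hT i) (i.2.1)
    (g := (lvl BI qI T hT i.1 : T i.1 →+* Localization.AtPrime qI))
    (lvl_isUnit BI qI T hT i.1 i.2.1 i.2.2.1) t

theorem φfam_eq_zero (i : Idx BI qI T hT) (x : Cfam BI qI T hT i)
    (hx : φfam BI qI T hT i x = 0) : x = 0 := by
  obtain ⟨n, t, ht⟩ := IsLocalization.Away.surj (i.2.1 : T i.1) x
  have h1 : φfam BI qI T hT i (x * algebraMap (T i.1) (Cfam BI qI T hT i) (i.2.1 : T i.1) ^ n)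
      = 0 := by
    rw [map_mul, hx, zero_mul]
  rw [ht, φfam_algebraMap] at h1
  have h2 : t = 0 := lvl_injective BI qI T hT i.1 (by rw [h1, map_zero])
  rw [h2, map_zero] at ht
  have hu : IsUnit (algebraMap (T i.1) (Cfam BI qI T hT i) (i.2.1 : T i.1) ^ n) :=
    (IsLocalization.Away.algebraMap_isUnit (i.2.1 : T i.1)).pow n
  exact (hu.mul_left_eq_zero).mp ht

include hmono in
theorem exists_transition (i k : Idx BI qI T hT) (h : k.1 ≤ i.1)
    (hdvd : Subalgebra.inclusion (hmono k.1 i.1 h) (i.2.1 : T i.1) ∣ (k.2.1 : T k.1)) :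
    ∃ ψ : Cfam BI qI T hT i →ₐ[A] Cfam BI qI T hT k,
      (φfam BI qI T hT k).comp ψ = φfam BI qI T hT i := by
  let f₀ : T i.1 →ₐ[A] Cfam BI qI T hT k :=
    (IsScalarTower.toAlgHom A (T k.1) (Cfam BI qI T hT k)).comp
      (Subalgebra.inclusion (hmono k.1 i.1 h))
  have hu : IsUnit (f₀ (i.2.1 : T i.1)) := by
    have h1 : IsUnit (algebraMap (T k.1) (Cfam BI qI T hT k) (k.2.1 : T k.1)) :=
      IsLocalization.Away.algebraMap_isUnit (k.2.1 : T k.1)
    exact isUnit_of_dvd_unit (map_dvd (algebraMap (T k.1) (Cfam BI qI T hT k)) hdvd) h1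
  refine ⟨IsLocalization.Away.liftAlgHom (A := A) (S := Cfam BI qI T hT i) (i.2.1 : T i.1)
    (f := f₀) hu, ?_⟩
  apply IsLocalization.algHom_ext (A := T i.1) (Submonoid.powers (i.2.1 : T i.1))
  ext t
  simp only [AlgHom.coe_comp, Function.comp_apply]
  have h1 : (Algebra.algHom A (T i.1) (Cfam BI qI T hT i)) t =
      algebraMap (T i.1) (Cfam BI qI T hT i) t := rfl
  rw [h1, φfam_algebraMap]
  have h2 : (IsLocalization.Away.liftAlgHom (A := A) (S := Cfam BI qI T hT i) (i.2.1 : T i.1)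
      (f := f₀) hu) (algebraMap (T i.1) (Cfam BI qI T hT i) t) = f₀ t :=
    IsLocalization.Away.lift_eq (S := Cfam BI qI T hT i) (i.2.1 : T i.1)
      (g := (f₀ : T i.1 →+* Cfam BI qI T hT k)) hu t
  rw [h2]
  show φfam BI qI T hT k (algebraMap (T k.1) (Cfam BI qI T hT k)
    (Subalgebra.inclusion (hmono k.1 i.1 h) t)) = _
  rw [φfam_algebraMap]
  rfl

theorem exists_div (i : Idx BI qI T hT) (t : T i.1) :
    ∃ c : Cfam BI qI T hT i,
      φfam BI qI T hT i c * lvl BI qI T hT i.1 (i.2.1 : T i.1) = lvl BI qI T hT i.1 t := by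
  have hgu : IsUnit (algebraMap (T i.1) (Cfam BI qI T hT i) (i.2.1 : T i.1)) :=
    IsLocalization.Away.algebraMap_isUnit (i.2.1 : T i.1)
  refine ⟨algebraMap (T i.1) (Cfam BI qI T hT i) t * ↑(hgu.unit⁻¹), ?_⟩
  rw [← φfam_algebraMap BI qI T hT i (i.2.1 : T i.1), ← map_mul, mul_assoc, IsUnit.val_inv_mul,
    mul_one, φfam_algebraMap]

include hmono in
/-- **Criterion**: a localization of a directed union of subalgebras of a field, each of which is
étale over `A` after inverting an element outside the prime, is ind-étale. -/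
theorem isIndEtale_of_levels (hcover : ∀ z : BI, ∃ j, (z : Lf) ∈ T j)
    (hkey : ∀ j, ∃ g : T j, Subalgebra.inclusion (hT j) g ∉ qI ∧
      Algebra.Etale A (Localization.Away g)) :
    EtPBC.IsIndEtale A (Localization.AtPrime qI) := by
  classical
  apply Groth.Agent.Lib.Helper24.IndEtaleCrit.isIndEtale_of_family (ι := Idx BI qI T hT)
    (Cfam BI qI T hT) (φfam BI qI T hT)
  · -- directedness
    intro i₁ i₂
    obtain ⟨g₀, hg₀, hEt⟩ := hkey (i₁.1 ⊓ i₂.1)
    let g₁' : T (i₁.1 ⊓ i₂.1) :=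
      Subalgebra.inclusion (hmono (i₁.1 ⊓ i₂.1) i₁.1 inf_le_left) (i₁.2.1 : T i₁.1)
    let g₂' : T (i₁.1 ⊓ i₂.1) :=
      Subalgebra.inclusion (hmono (i₁.1 ⊓ i₂.1) i₂.1 inf_le_right) (i₂.2.1 : T i₂.1)
    have hg₁' : Subalgebra.inclusion (hT (i₁.1 ⊓ i₂.1)) g₁' ∉ qI := i₁.2.2.1
    have hg₂' : Subalgebra.inclusion (hT (i₁.1 ⊓ i₂.1)) g₂' ∉ qI := i₂.2.2.1
    haveI := hEt
    have hnot : Subalgebra.inclusion (hT (i₁.1 ⊓ i₂.1)) (g₀ * (g₁' * g₂')) ∉ qI := by
      rw [map_mul, map_mul]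
      intro h
      rcases (Ideal.IsPrime.mem_or_mem inferInstance h) with h | h
      · exact hg₀ h
      · rcases (Ideal.IsPrime.mem_or_mem inferInstance h) with h | h
        · exact hg₁' h
        · exact hg₂' h
    let k : Idx BI qI T hT := ⟨i₁.1 ⊓ i₂.1, g₀ * (g₁' * g₂'), hnot, etale_away_mul g₀ (g₁' * g₂')⟩
    obtain ⟨ψ₁, h₁⟩ := exists_transition BI qI T hT hmono i₁ k inf_le_left
      (Dvd.intro_left (g₀ * g₂') (by ring))
    obtain ⟨ψ₂, h₂⟩ := exists_transition BI qI T hT hmono i₂ k inf_le_right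
      (Dvd.intro_left (g₀ * g₁') (by ring))
    exact ⟨k, ψ₁, ψ₂, h₁, h₂⟩
  · -- kernels
    intro i x hx
    refine ⟨i, AlgHom.id A _, AlgHom.comp_id _, ?_⟩
    rw [φfam_eq_zero BI qI T hT i x hx]
    exact map_zero _
  · -- surjectivity
    intro x
    obtain ⟨⟨z, s⟩, hx⟩ := IsLocalization.surj qI.primeCompl x
    obtain ⟨j₁, hz⟩ := hcover z
    obtain ⟨j₂, hs⟩ := hcover s.1
    let z' : T (j₁ ⊓ j₂) := ⟨z, hmono (j₁ ⊓ j₂) j₁ inf_le_left hz⟩
    let s' : T (j₁ ⊓ j₂) := ⟨s.1, hmono (j₁ ⊓ j₂) j₂ inf_le_right hs⟩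
    obtain ⟨g₀, hg₀, hEt⟩ := hkey (j₁ ⊓ j₂)
    haveI := hEt
    have hs' : Subalgebra.inclusion (hT (j₁ ⊓ j₂)) s' ∉ qI := s.2
    have hnot : Subalgebra.inclusion (hT (j₁ ⊓ j₂)) (g₀ * s') ∉ qI := by
      rw [map_mul]
      intro h
      rcases (Ideal.IsPrime.mem_or_mem inferInstance h) with h | h
      · exact hg₀ h
      · exact hs' h
    let k : Idx BI qI T hT := ⟨j₁ ⊓ j₂, g₀ * s', hnot, etale_away_mul g₀ s'⟩
    obtain ⟨c, h1⟩ := exists_div BI qI T hT k (z' * g₀ : T (j₁ ⊓ j₂))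
    refine ⟨k, c, ?_⟩
    have h1' : φfam BI qI T hT k c * lvl BI qI T hT (j₁ ⊓ j₂) (g₀ * s') =
        lvl BI qI T hT (j₁ ⊓ j₂) (z' * g₀) := h1
    have hu : IsUnit (lvl BI qI T hT (j₁ ⊓ j₂) (g₀ * s')) :=
      lvl_isUnit BI qI T hT (j₁ ⊓ j₂) (g₀ * s') hnot
    have h2 : x * lvl BI qI T hT (j₁ ⊓ j₂) (g₀ * s') = lvl BI qI T hT (j₁ ⊓ j₂) (z' * g₀) := by
      rw [map_mul, map_mul]
      have hs1 : lvl BI qI T hT (j₁ ⊓ j₂) s' = algebraMap BI (Localization.AtPrime qI) s.1 := rfl
      have hz1 : lvl BI qI T hT (j₁ ⊓ j₂) z' = algebraMap BI (Localization.AtPrime qI) z := rfl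
      rw [hs1, hz1, ← hx]
      ring
    exact hu.mul_right_cancel (h1'.trans h2.symm)

end

end Groth.Agent.Lib.helper22.IndLevels
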