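import Mathlib
import Groth.Agent.Lib.Helper22.OrbitEtale
import Groth.Agent.Lib.Helper22.InertiaSep

/-!
# Inertia invariants are étale at the prime, over a one-dimensional local base (helper22)

`G` finite acting on a domain `B`, `A → B' → B` with `A = B^G`, `B' = B^I` (`I` the inertia group of
a maximal ideal `m`), `A` local whose only primes are `⊥` and the maximal ideal.  Then
`B'_{m ∩ B'}` is étale over `A` (`etale_atPrime_inertia_invariants`).
-/

set_option autoImplicit false

namespace Groth.Agent.Lib.helper22.InertiaEtaleDimOne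
open scoped Pointwise
open Groth.Agent.Lib.helper22

/-- elements outside `m ∩ B'` become units in `B'[1/h]` as soon as every prime of `B` avoiding `h`
is contained in `m` -/
theorem isUnit_of_forall_prime_le {B' B S₂ : Type*} [CommRing B'] [CommRing B] [CommRing S₂]
    [Algebra B' B] [Algebra B' S₂] [Algebra.IsIntegral B' B]
    (hinj : Function.Injective (algebraMap B' B)) (h : B') [IsLocalization.Away h S₂]
    (m : Ideal B)
    (H : ∀ P : Ideal B, P.IsPrime → algebraMap B' B h ∉ P → P ≤ m) (r : B')
    (hr : algebraMap B' B r ∉ m) : IsUnit (algebraMap B' S₂ r) := by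
  by_contra hu
  obtain ⟨M, hM, hrM⟩ := exists_max_ideal_of_mem_nonunits hu
  haveI := hM
  set p : Ideal B' := M.comap (algebraMap B' S₂) with hp
  haveI : p.IsPrime := Ideal.comap_isPrime _ _
  have hhp : h ∉ p := by
    intro hh
    have h1 : algebraMap B' S₂ h ∈ M := hh
    exact hM.ne_top (Ideal.eq_top_of_isUnit_mem _ h1 (IsLocalization.Away.algebraMap_isUnit h))
  obtain ⟨P, -, hPprime, hPp⟩ := Ideal.exists_ideal_over_prime_of_isIntegral
    (S := B) p (⊥ : Ideal B) (by
      rw [← RingHom.ker_eq_comap_bot, (RingHom.injective_iff_ker_eq_bot _).mp hinj]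
      exact bot_le)
  have hhP : algebraMap B' B h ∉ P := by
    intro hh
    apply hhp
    rw [← hPp]
    exact hh
  have hPm := H P hPprime hhP
  apply hr
  apply hPm
  have : r ∈ P.comap (algebraMap B' B) := by rw [hPp]; exact hrM
  exact this


section Main

variable {G : Type*} [Group G] [Finite G] {A B' B : Type*} [CommRing A] [CommRing B'] [CommRing B]
  [IsDomain B] [MulSemiringAction G B] [Algebra A B'] [Algebra B' B] [Algebra A B]
  [IsScalarTower A B' B] [IsLocalRing A]

theorem etale_atPrime_inertia_invariants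
    (hA1 : ∀ p : Ideal A, p.IsPrime → p = ⊥ ∨ p = IsLocalRing.maximalIdeal A)
    (hAinj : Function.Injective (algebraMap A B)) (hB'inj : Function.Injective (algebraMap B' B))
    (hA : ∀ z : B, (∀ σ : G, σ • z = z) ↔ z ∈ Set.range (algebraMap A B))
    (m : Ideal B) [m.IsMaximal]
    (hB' : ∀ z : B, (∀ σ ∈ m.inertia G, σ • z = z) ↔ z ∈ Set.range (algebraMap B' B)) :
    Algebra.Etale A (Localization.AtPrime (m.comap (algebraMap B' B))) := by
  classical
  haveI : Nontrivial A := inferInstance
  haveI : SMulCommClass G A B := ⟨fun σ a x => by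
    rw [Algebra.smul_def, Algebra.smul_def, smul_mul', (hA _).mpr ⟨a, rfl⟩ σ]⟩
  haveI : Algebra.IsInvariant A B G := ⟨fun b hb => (hA b).mp hb⟩
  haveI : Algebra.IsIntegral A B := Algebra.IsInvariant.isIntegral A B G
  haveI : Algebra.IsIntegral B' B := Algebra.IsIntegral.tower_top A
  -- primes over the maximal ideal
  have hmA : m.under A = IsLocalRing.maximalIdeal A :=
    IsLocalRing.eq_maximalIdeal (Ideal.isMaximal_comap_of_isIntegral_of_isMaximal m)
  have hPA : ∀ P : Ideal B, P.IsPrime → P ≠ ⊥ → ∃ σ : G, P = σ • m := by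
    intro P hP hP0
    haveI := hP
    have h1 : P.under A ≠ ⊥ := fun h => hP0 (Ideal.eq_bot_of_comap_eq_bot h)
    have h2 : P.under A = IsLocalRing.maximalIdeal A := by
      rcases hA1 (P.under A) inferInstance with h | h
      · exact absurd h h1
      · exact h
    exact Algebra.IsInvariant.exists_smul_of_under_eq A B G m P (hmA.trans h2.symm)
  -- the separating element and the étale localization
  obtain ⟨b, hbfix, hbsep⟩ := InertiaSep.exists_inertia_separating G m
  obtain ⟨bT, rfl⟩ := (hB' b).mp hbfix
  have hstab : ∀ σ : G, σ • algebraMap B' B bT = algebraMap B' B bT → σ ∈ m.inertia G := by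
    intro σ hσ
    by_contra h
    apply hbsep σ h
    rw [hσ, sub_self]
    exact m.zero_mem
  obtain ⟨g, hg, hEt⟩ := OrbitEtale.exists_etale_away (G := G) hAinj hB'inj hA bT
    (fun z => ⟨fun hz => (hB' z).mp (fun σ hσ => hz σ (hbfix σ hσ)), by
      rintro ⟨t, rfl⟩ σ hσ
      exact (hB' _).mpr ⟨t, rfl⟩ σ (hstab σ hσ)⟩)
  have hgm : algebraMap B' B g ∉ m := by
    refine hg m inferInstance (fun σ hσ => ?_)
    apply hbsep σ
    intro h
    exact hσ (hbfix σ h)
  -- the element cutting out the other maximal ideals
  obtain ⟨c, hcm, hcinv, hcmem⟩ := InertiaSep.exists_decomposition_separating G m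
  obtain ⟨c', rfl⟩ := (hB' c).mp
    (fun σ hσ => hcinv σ (InertiaSep.smul_eq_of_mem_inertia G m hσ))
  -- the localization away from `g * c'`
  let S₁ := Localization.Away g
  let S₂ := Localization.Away (algebraMap B' S₁ c')
  haveI : Algebra.Etale A S₁ := hEt
  haveI : Algebra.Etale S₁ S₂ := Algebra.Etale.of_isLocalizationAway (algebraMap B' S₁ c')
  haveI : Algebra.Etale A S₂ := Algebra.Etale.comp A S₁ S₂
  haveI : IsLocalization.Away (g * c') S₂ := inferInstance
  have hH : ∀ P : Ideal B, P.IsPrime → algebraMap B' B (g * c') ∉ P → P ≤ m := by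
    intro P hP hgc
    by_cases hP0 : P = ⊥
    · rw [hP0]; exact bot_le
    obtain ⟨σ, rfl⟩ := hPA P hP hP0
    have hc : algebraMap B' B c' ∉ σ • m := by
      intro h
      apply hgc
      rw [map_mul]
      exact Ideal.mul_mem_left _ _ h
    rw [Ideal.mem_pointwise_smul_iff_inv_smul_mem] at hc
    have hσ : σ⁻¹ • m = m := by
      by_contra h
      exact hc (hcmem σ⁻¹ h)
    have : σ • m = m := by
      rw [← hσ, smul_inv_smul]
      exact hσ.symm
    rw [this]
  haveI : IsLocalization (m.comap (algebraMap B' B)).primeCompl S₂ := by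
    apply IsLocalization.of_le (Submonoid.powers (g * c')) (m.comap (algebraMap B' B)).primeCompl
    · rintro _ ⟨n, rfl⟩
      apply Submonoid.pow_mem
      show g * c' ∉ m.comap (algebraMap B' B)
      rw [Ideal.mem_comap, map_mul]
      intro h
      rcases Ideal.IsPrime.mem_or_mem inferInstance h with h | h
      · exact hgm h
      · exact hcm h
    · intro r hr
      exact isUnit_of_forall_prime_le hB'inj (g * c') m hH r hr
  let e : S₂ ≃ₐ[B'] Localization.AtPrime (m.comap (algebraMap B' B)) :=
    IsLocalization.algEquiv (m.comap (algebraMap B' B)).primeCompl _ _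
  exact Algebra.Etale.of_equiv (e.restrictScalars A)

end Main

end Groth.Agent.Lib.helper22.InertiaEtaleDimOne
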