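import Mathlib
import Groth.Agent.Lib.Helper22.InertiaSep

/-!
# Unramified at a prime implies trivial inertia action (helper22)

`G` finite acting on a noetherian domain `R` by `B`-algebra automorphisms, `m` a prime such that
`R_m` is formally unramified over `B`.  Then the inertia group of `m` acts trivially on `R`
(`smul_eq_of_mem_inertia_of_formallyUnramified`).
-/

set_option autoImplicit false

namespace Groth.Agent.Lib.helper22.UnramInertia
open scoped Pointwise
open Groth.Agent.Lib.helper22

variable {B R G : Type*} [CommRing B] [CommRing R] [Algebra B R] [Group G] [Finite G]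
  [MulSemiringAction G R] [SMulCommClass G B R] [IsNoetherianRing R] [IsDomain R]

theorem smul_eq_of_mem_inertia_of_formallyUnramified (m : Ideal R) [m.IsPrime]
    [Algebra.FormallyUnramified B (Localization.AtPrime m)] {σ : G} (hσ : σ ∈ m.inertia G)
    (r : R) : σ • r = r := by
  have hσm : σ • m = m := InertiaSep.smul_eq_of_mem_inertia G m hσ
  let Rm := Localization.AtPrime m
  let f : R →ₐ[B] Rm := (IsScalarTower.toAlgHom B R Rm).comp (MulSemiringAction.toAlgHom B R σ)
  have hfapp : ∀ x : R, f x = algebraMap R Rm (σ • x) := fun x => rfl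
  have hf : ∀ y : m.primeCompl, IsUnit (f y) := by
    intro y
    rw [hfapp]
    apply IsLocalization.map_units Rm (⟨σ • (y : R), ?_⟩ : m.primeCompl)
    intro h
    apply y.2
    have h' : σ • (y : R) ∈ σ • m := by rw [hσm]; exact h
    exact (Ideal.smul_mem_pointwise_smul_iff).mp h'
  let σm : Rm →ₐ[B] Rm := IsLocalization.liftAlgHom (M := m.primeCompl) hf
  have hσm_app : ∀ x : R, σm (algebraMap R Rm x) = algebraMap R Rm (σ • x) := by
    intro x
    show IsLocalization.lift hf (algebraMap R Rm x) = _
    rw [IsLocalization.lift_eq]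
    rfl
  have hI : ⨅ i, (IsLocalRing.maximalIdeal Rm) ^ i = ⊥ :=
    Ideal.iInf_pow_eq_bot_of_isLocalRing _ (IsLocalRing.maximalIdeal.isMaximal Rm).ne_top
  have key : AlgHom.id B Rm = σm := by
    apply Algebra.FormallyUnramified.ext_of_iInf (I := IsLocalRing.maximalIdeal Rm) hI
    intro x
    have h2 : (Ideal.Quotient.mk (IsLocalRing.maximalIdeal Rm)).comp (AlgHom.id B Rm).toRingHom =
        (Ideal.Quotient.mk (IsLocalRing.maximalIdeal Rm)).comp σm.toRingHom := by
      apply IsLocalization.ringHom_ext m.primeCompl
      ext x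
      show Ideal.Quotient.mk _ (algebraMap R Rm x) = Ideal.Quotient.mk _ (σm (algebraMap R Rm x))
      rw [hσm_app, Ideal.Quotient.eq, ← map_sub, ← Ideal.mem_comap, ← Ideal.under_def,
        IsLocalization.AtPrime.under_maximalIdeal Rm m]
      have := m.neg_mem (hσ x)
      rwa [neg_sub] at this
    exact RingHom.congr_fun h2 x
  have h3 := hσm_app r
  rw [← key] at h3
  have hinj : Function.Injective (algebraMap R Rm) :=
    IsLocalization.injective Rm m.primeCompl_le_nonZeroDivisors
  exact (hinj h3).symm

end Groth.Agent.Lib.helper22.UnramInertia
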