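import Mathlib
import Groth.Agent.Lib.Helper22.InertiaUnram
import Groth.Agent.Lib.Helper22.UnramInertia
import Groth.Agent.Lib.Helper3.HensFinite

/-!
# Trivial inertia over a henselian local base (helper22)

`R` henselian local, `S` a noetherian domain finite over `R` with a finite group `G` acting
faithfully with invariants `R`, `n` a maximal ideal of `S` over `m = m_R`.  Then the inertia group
of `n` is trivial iff `m S = n` and `S/n` is finite separable over `R/m`
(`inertia_eq_bot_iff`).
-/

set_option autoImplicit false

namespace Groth.Agent.Lib.helper22.InertiaLocalIff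
open IsLocalRing
universe u

section
variable {R S : Type u} [CommRing R] [CommRing S] [IsLocalRing R] [Algebra R S]
  [Algebra.IsIntegral R S] (n : Ideal S) [hn : n.IsMaximal]

/-- if `m S = n` then every element outside `n` is a unit -/
theorem forall_isUnit_of_map_eq (hmap : (maximalIdeal R).map (algebraMap R S) = n)
    (s : S) (hs : s ∉ n) : IsUnit s := by
  by_contra hu
  obtain ⟨M, hM, hsM⟩ := exists_max_ideal_of_mem_nonunits hu
  haveI := hM
  have h1 : (M.comap (algebraMap R S)).IsMaximal :=
    Ideal.isMaximal_comap_of_isIntegral_of_isMaximal M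
  have h2 : M.comap (algebraMap R S) = maximalIdeal R := IsLocalRing.eq_maximalIdeal h1
  have h3 : n ≤ M := by
    rw [← hmap, Ideal.map_le_iff_le_comap, h2]
  have h4 : n = M := hn.eq_of_le hM.ne_top h3
  exact hs (h4 ▸ hsM)

omit [IsLocalRing R] [Algebra.IsIntegral R S] in
theorem isLocalRing_of_forall_isUnit (hunit : ∀ s : S, s ∉ n → IsUnit s) : IsLocalRing S := by
  refine IsLocalRing.of_unique_max_ideal ⟨n, hn, ?_⟩
  intro M hM
  by_contra hne
  have hnle : ¬ M ≤ n := fun hle => hne (hM.eq_of_le hn.ne_top hle)
  obtain ⟨s, hsm, hsn⟩ := Set.not_subset.mp hnle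
  exact hM.ne_top (Ideal.eq_top_of_isUnit_mem M hsm (hunit s hsn))

end

section Local

variable (R S G : Type u) [CommRing R] [CommRing S] [IsDomain S] [IsNoetherianRing S]
  [IsLocalRing R] [IsLocalRing S]
  [Algebra R S] [Module.Finite R S]
  [Group G] [Finite G] [MulSemiringAction G S] [SMulCommClass G R S] [Algebra.IsInvariant R S G]
  [FaithfulSMul G S]

/-- for local `S`: trivial inertia iff formally unramified -/
theorem inertia_eq_bot_iff_formallyUnramified :
    (maximalIdeal S).inertia G = ⊥ ↔ Algebra.FormallyUnramified R S := by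
  have hunit : ∀ x ∈ (maximalIdeal S).primeCompl, IsUnit x := fun x hx => by
    by_contra h
    exact hx ((IsLocalRing.mem_maximalIdeal x).mpr h)
  constructor
  · intro hI
    have h1 : Algebra.IsUnramifiedAt R (maximalIdeal S) :=
      InertiaUnram.isUnramifiedAt_of_inertia_eq_bot G (maximalIdeal S) hI
    haveI : Algebra.FormallyUnramified R (Localization.AtPrime (maximalIdeal S)) := h1
    let e : S ≃ₐ[S] Localization.AtPrime (maximalIdeal S) :=
      IsLocalization.atUnits S (maximalIdeal S).primeCompl hunit
    exact Algebra.FormallyUnramified.of_equiv (e.symm.restrictScalars R)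
  · intro hU
    haveI := hU
    haveI : Algebra.FormallyUnramified S (Localization.AtPrime (maximalIdeal S)) :=
      Algebra.FormallyUnramified.of_isLocalization (maximalIdeal S).primeCompl
    haveI : Algebra.FormallyUnramified R (Localization.AtPrime (maximalIdeal S)) :=
      Algebra.FormallyUnramified.comp R S _
    rw [eq_bot_iff]
    intro σ hσ
    rw [Subgroup.mem_bot]
    apply FaithfulSMul.eq_of_smul_eq_smul (α := S)
    intro r
    rw [one_smul]
    exact UnramInertia.smul_eq_of_mem_inertia_of_formallyUnramified (B := R) (maximalIdeal S) hσ r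


/-- for local `S` with maximal ideal `n` over `m`: trivial inertia iff `m S = n` and the residue
field extension is finite separable -/
theorem inertia_eq_bot_iff (n : Ideal S) [n.IsMaximal] [hlo : n.LiesOver (maximalIdeal R)] :
    n.inertia G = ⊥ ↔ ((maximalIdeal R).map (algebraMap R S) = n ∧
      Module.Finite (R ⧸ maximalIdeal R) (S ⧸ n) ∧
      Algebra.IsSeparable (R ⧸ maximalIdeal R) (S ⧸ n)) := by
  obtain rfl : n = maximalIdeal S := IsLocalRing.eq_maximalIdeal inferInstance
  haveI : IsLocalHom (algebraMap R S) :=
    ((local_hom_TFAE (algebraMap R S)).out 0 4).mpr hlo.over.symm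
  rw [inertia_eq_bot_iff_formallyUnramified R S G,
    Algebra.FormallyUnramified.iff_map_maximalIdeal_eq]
  constructor
  · rintro ⟨hsep, hmap⟩
    refine ⟨hmap, ?_, hsep⟩
    haveI : Module.Finite R (S ⧸ maximalIdeal S) := inferInstance
    exact Module.Finite.of_restrictScalars_finite R _ _
  · rintro ⟨hmap, -, hsep⟩
    exact ⟨hsep, hmap⟩

end Local

end Groth.Agent.Lib.helper22.InertiaLocalIff
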