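import Groth.Prelude.Def_W4c1tameactTame
import Mathlib

set_option autoImplicit false
universe u v w w' w''
open TensorProduct

namespace Groth.Agent.Lib.helper22.Integral

section Shear

variable {k : Type u} [CommRing k] {A : Type v} [CommRing A] [HopfAlgebra k A]
variable {M : Type w} [AddCommGroup M] [Module k M] [HopfRep.Comod k A M]

local notation "ρ" => HopfRep.Comod.coact (k := k) (A := A)
local notation "Δ" => CoalgebraStruct.comul (R := k) (A := A)
local notation "ε" => CoalgebraStruct.counit (R := k) (A := A)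
local notation "𝑆" => HopfAlgebraStruct.antipode (R := k) (A := A)

theorem coassoc_apply (m : M) :
    (TensorProduct.assoc k M A A) ((ρ).rTensor A ((ρ : M →ₗ[k] M ⊗[k] A) m)) =
      (Δ).lTensor M ((ρ : M →ₗ[k] M ⊗[k] A) m) :=
  LinearMap.congr_fun HopfRep.Comod.coassoc m

theorem counit_apply (m : M) :
    (ε).lTensor M ((ρ : M →ₗ[k] M ⊗[k] A) m) = m ⊗ₜ[k] (1 : k) :=
  LinearMap.congr_fun HopfRep.Comod.counit_comp m

/-- `at' β a : c ↦ β (c ⊗ a)`. -/
def at' (β : A ⊗[k] A →ₗ[k] A) (a : A) : A →ₗ[k] A := β ∘ₗ (TensorProduct.mk k A A).flip a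

@[simp] theorem at'_apply (β : A ⊗[k] A →ₗ[k] A) (a c : A) : at' β a c = β (c ⊗ₜ a) := rfl

theorem assoc_tmul_right {N : Type*} [AddCommGroup N] [Module k N] (y : N ⊗[k] A) (a : A) :
    TensorProduct.assoc k N A A (y ⊗ₜ[k] a) = ((TensorProduct.mk k A A).flip a).lTensor N y := by
  induction y using TensorProduct.induction_on with
  | zero => simp
  | tmul n c => simp
  | add x y hx hy => rw [add_tmul, map_add, hx, hy, map_add]

/-- `shear β (m ⊗ a) = Σ m₀ ⊗ β (m₁ ⊗ a)`. -/
def shear (β : A ⊗[k] A →ₗ[k] A) : M ⊗[k] A →ₗ[k] M ⊗[k] A :=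
  β.lTensor M ∘ₗ (TensorProduct.assoc k M A A).toLinearMap ∘ₗ (ρ).rTensor A

theorem shear_tmul (β : A ⊗[k] A →ₗ[k] A) (m : M) (a : A) :
    shear β (m ⊗ₜ[k] a) = (at' β a).lTensor M ((ρ : M →ₗ[k] M ⊗[k] A) m) := by
  simp only [shear, LinearMap.comp_apply, LinearMap.rTensor_tmul, LinearEquiv.coe_coe]
  rw [assoc_tmul_right, at', LinearMap.lTensor_comp, LinearMap.comp_apply]

theorem shear_shear (β γ : A ⊗[k] A →ₗ[k] A) (m : M) (a : A) :
    shear β (shear γ (m ⊗ₜ[k] a)) =
      (β ∘ₗ (at' γ a).lTensor A ∘ₗ Δ).lTensor M ((ρ : M →ₗ[k] M ⊗[k] A) m) := by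
  have key : ∀ y : M ⊗[k] A, shear β ((at' γ a).lTensor M y) =
      (β ∘ₗ (at' γ a).lTensor A).lTensor M (TensorProduct.assoc k M A A ((ρ).rTensor A y)) := by
    intro y
    induction y using TensorProduct.induction_on with
    | zero => simp
    | tmul m' c =>
      rw [LinearMap.lTensor_tmul, shear_tmul, LinearMap.rTensor_tmul, assoc_tmul_right,
        ← LinearMap.comp_apply (LinearMap.lTensor M (β ∘ₗ LinearMap.lTensor A (at' γ a))),
        ← LinearMap.lTensor_comp]
      congr 2
    | add x y hx hy => simp only [map_add, hx, hy]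
  rw [shear_tmul, key, coassoc_apply, ← LinearMap.comp_apply, ← LinearMap.lTensor_comp,
    LinearMap.comp_assoc]

theorem lTensor_comp_counit (f : k →ₗ[k] A) (m : M) :
    (f ∘ₗ ε).lTensor M ((ρ : M →ₗ[k] M ⊗[k] A) m) = m ⊗ₜ[k] f 1 := by
  rw [LinearMap.lTensor_comp, LinearMap.comp_apply, counit_apply, LinearMap.lTensor_tmul]

/-- `θ (m ⊗ a) = Σ m₀ ⊗ m₁ a`. -/
def theta : M ⊗[k] A →ₗ[k] M ⊗[k] A := shear (LinearMap.mul' k A)

/-- `T (m ⊗ a) = Σ m₀ ⊗ S(m₁) a`. -/
def tau : M ⊗[k] A →ₗ[k] M ⊗[k] A := shear (LinearMap.mul' k A ∘ₗ (𝑆).rTensor A)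

theorem theta_tau (x : M ⊗[k] A) : theta (tau x) = x := by
  induction x using TensorProduct.induction_on with
  | zero => simp
  | tmul m a =>
    rw [theta, tau, shear_shear]
    have : LinearMap.mul' k A ∘ₗ (at' (LinearMap.mul' k A ∘ₗ (𝑆).rTensor A) a).lTensor A ∘ₗ Δ =
        (LinearMap.toSpanSingleton k A a) ∘ₗ ε := by
      have h1 : LinearMap.mul' k A ∘ₗ (at' (LinearMap.mul' k A ∘ₗ (𝑆).rTensor A) a).lTensor A =
          LinearMap.mulRight k a ∘ₗ LinearMap.mul' k A ∘ₗ (𝑆).lTensor A := by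
        ext c' c''
        simp [mul_assoc]
      rw [← LinearMap.comp_assoc, h1]
      ext c
      simp [Algebra.smul_def]
    rw [this, lTensor_comp_counit]
    simp
  | add x y hx hy => simp only [map_add, hx, hy]

theorem tau_theta (x : M ⊗[k] A) : tau (theta x) = x := by
  induction x using TensorProduct.induction_on with
  | zero => simp
  | tmul m a =>
    rw [theta, tau, shear_shear]
    have : (LinearMap.mul' k A ∘ₗ (𝑆).rTensor A) ∘ₗ (at' (LinearMap.mul' k A) a).lTensor A ∘ₗ Δ =
        (LinearMap.toSpanSingleton k A a) ∘ₗ ε := by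
      have h1 : (LinearMap.mul' k A ∘ₗ (𝑆).rTensor A) ∘ₗ (at' (LinearMap.mul' k A) a).lTensor A =
          LinearMap.mulRight k a ∘ₗ LinearMap.mul' k A ∘ₗ (𝑆).rTensor A := by
        ext c' c''
        simp [mul_assoc]
      rw [← LinearMap.comp_assoc, h1]
      ext c
      simp [Algebra.smul_def]
    rw [this, lTensor_comp_counit]
    simp
  | add x y hx hy => simp only [map_add, hx, hy]

theorem theta_tmul_one (m : M) : theta (m ⊗ₜ[k] (1 : A)) = (ρ : M →ₗ[k] M ⊗[k] A) m := by
  rw [theta, shear_tmul]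
  have : at' (LinearMap.mul' k A) (1 : A) = LinearMap.id := by
    ext c; simp
  rw [this, LinearMap.lTensor_id, LinearMap.id_apply]

end Shear

section HopfMod

variable {k : Type u} [CommRing k] {A : Type v} [CommRing A] [HopfAlgebra k A]
variable {B : Type w'} [CommRing B] [Algebra k B]
variable {M : Type w} [AddCommGroup M] [Module k M] [Module B M] [IsScalarTower k B M]

local notation "ρ" => HopfRep.Comod.coact (k := k) (A := A)
local notation "Δ" => CoalgebraStruct.comul (R := k) (A := A)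
local notation "ε" => CoalgebraStruct.counit (R := k) (A := A)
local notation "𝑆" => HopfAlgebraStruct.antipode (R := k) (A := A)

/-- `actα (m ⊗ a) = α a • m`. -/
def actα (α : A →ₗ[k] B) : M ⊗[k] A →ₗ[k] M :=
  TensorProduct.lift ((Algebra.lsmul k k M : B →ₐ[k] Module.End k M).toLinearMap ∘ₗ α).flip

@[simp] theorem actα_tmul (α : A →ₗ[k] B) (m : M) (a : A) : actα α (m ⊗ₜ[k] a) = α a • m := by
  simp [actα]

variable [HopfRep.Comod k A M]

/-- `lam (m ⊗ a) = Σ α (S(m₁) a) • m₀`. -/
def lam (α : A →ₗ[k] B) : M ⊗[k] A →ₗ[k] M := actα α ∘ₗ tau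

theorem lam_theta (α : A →ₗ[k] B) (x : M ⊗[k] A) : lam α (theta x) = actα α x := by
  rw [lam, LinearMap.comp_apply, tau_theta]

theorem lam_coact (α : A →ₗ[k] B) (m : M) :
    lam α ((ρ : M →ₗ[k] M ⊗[k] A) m) = α 1 • m := by
  rw [← theta_tmul_one, lam_theta, actα_tmul]

/-- the diagonal coaction on `M ⊗ A`: `m ⊗ a ↦ Σ (m₀ ⊗ a₁) ⊗ m₁ a₂`. -/
def diag : M ⊗[k] A →ₗ[k] (M ⊗[k] A) ⊗[k] A :=
  (LinearMap.mul' k A).lTensor (M ⊗[k] A) ∘ₗ
    (TensorProduct.tensorTensorTensorComm k M A A A).toLinearMap ∘ₗ TensorProduct.map (ρ) (Δ)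

/-- `θ` is a comodule map from the diagonal coaction to the induced one. -/
theorem theta_comod (x : M ⊗[k] A) :
    Hoch.Ind.coactAux k A M (theta x) = (theta (M := M)).rTensor A (diag x) := by
  -- third level
  have h3 : ∀ (z : M ⊗[k] A) (c a' a'' : A),
      ((at' (LinearMap.mul' k A) a').lTensor M z) ⊗ₜ[k] (c * a'') =
        (TensorProduct.assoc k M A A).symm ((LinearMap.mulRight k (a' ⊗ₜ[k] a'')).lTensor M
          (((TensorProduct.mk k A A).flip c).lTensor M z)) := by
    intro z c a' a''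
    induction z using TensorProduct.induction_on with
    | zero => simp
    | tmul m'' c' => simp
    | add z₁ z₂ h₁ h₂ => simp only [map_add, add_tmul, h₁, h₂]
  have h2 : ∀ (y : M ⊗[k] A) (u : A ⊗[k] A),
      (theta (M := M)).rTensor A ((LinearMap.mul' k A).lTensor (M ⊗[k] A)
          (TensorProduct.tensorTensorTensorComm k M A A A (y ⊗ₜ[k] u))) =
        (TensorProduct.assoc k M A A).symm ((LinearMap.mulRight k u).lTensor M
          (TensorProduct.assoc k M A A ((ρ).rTensor A y))) := by
    intro y u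
    induction y using TensorProduct.induction_on with
    | zero => simp
    | tmul m' c =>
      induction u using TensorProduct.induction_on with
      | zero => simp
      | tmul a' a'' =>
        rw [TensorProduct.tensorTensorTensorComm_tmul, LinearMap.lTensor_tmul,
          LinearMap.mul'_apply, LinearMap.rTensor_tmul, theta, shear_tmul,
          LinearMap.rTensor_tmul, assoc_tmul_right, h3]
      | add t₁ t₂ h₁ h₂ =>
        have hadd : LinearMap.mulRight k (t₁ + t₂) =
            LinearMap.mulRight k t₁ + LinearMap.mulRight k t₂ := by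
          apply LinearMap.ext; intro z; simp [mul_add]
        simp only [map_add, tmul_add, h₁, h₂, hadd, LinearMap.lTensor_add, LinearMap.add_apply]
    | add y₁ y₂ h₁ h₂ => simp only [map_add, add_tmul, h₁, h₂]
  have h1 : ∀ (y : M ⊗[k] A) (a : A),
      Hoch.Ind.coactAux k A M ((at' (LinearMap.mul' k A) a).lTensor M y) =
        (TensorProduct.assoc k M A A).symm ((LinearMap.mulRight k (Δ a)).lTensor M
          ((Δ).lTensor M y)) := by
    intro y a
    induction y using TensorProduct.induction_on with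
    | zero => simp
    | tmul m' c => simp [Bialgebra.comul_mul]
    | add y₁ y₂ h₁ h₂ => simp only [map_add, h₁, h₂]
  induction x using TensorProduct.induction_on with
  | zero => simp
  | tmul m a =>
    rw [theta, shear_tmul, h1, diag, LinearMap.comp_apply, LinearMap.comp_apply,
      TensorProduct.map_tmul, LinearEquiv.coe_coe]
    rw [← theta, h2, coassoc_apply]
  | add x y hx hy => simp only [map_add, hx, hy]

theorem actα_comod [HopfRep.Comod k A B] [TameAct.IsHopfMod k A B M] (α : A →ₗ[k] B) (hα : Hoch.IsComodHom A α) (x : M ⊗[k] A) :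
    (ρ : M →ₗ[k] M ⊗[k] A) (actα α x) = (actα α).rTensor A (diag x) := by
  have key : ∀ (y : M ⊗[k] A) (t : A ⊗[k] A),
      TameAct.hmSMul k A B M (α.rTensor A t) y = (actα α).rTensor A
        ((LinearMap.mul' k A).lTensor (M ⊗[k] A)
          (TensorProduct.tensorTensorTensorComm k M A A A (y ⊗ₜ[k] t))) := by
    intro y t
    induction y using TensorProduct.induction_on with
    | zero => simp
    | tmul m' c =>
      induction t using TensorProduct.induction_on with
      | zero => simp
      | tmul a' a'' => simp [mul_comm]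
      | add t₁ t₂ h₁ h₂ => simp only [map_add, tmul_add, LinearMap.add_apply, h₁, h₂]
    | add y₁ y₂ h₁ h₂ => simp only [map_add, add_tmul, h₁, h₂]
  induction x using TensorProduct.induction_on with
  | zero => simp
  | tmul m a =>
    rw [actα_tmul, TameAct.IsHopfMod.coact_smul (k := k) (A := A)]
    have h := LinearMap.congr_fun hα a
    simp only [LinearMap.comp_apply] at h
    rw [h, key]
    rfl
  | add x y hx hy => simp only [map_add, hx, hy]

/-- **Key lemma**: `lam α : Ind M → M` is a morphism of comodules. -/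
theorem lam_comod [HopfRep.Comod k A B] [TameAct.IsHopfMod k A B M] (α : A →ₗ[k] B)
    (hα : Hoch.IsComodHom A α) (x : M ⊗[k] A) :
    (ρ : M →ₗ[k] M ⊗[k] A) (lam α x) = (lam α).rTensor A (Hoch.Ind.coactAux k A M x) := by
  rw [← theta_tau x]
  generalize tau x = y
  rw [lam_theta, actα_comod α hα, theta_comod, ← LinearMap.comp_apply ((lam α).rTensor A),
    ← LinearMap.rTensor_comp]
  congr 2
  ext m a
  simp only [TensorProduct.AlgebraTensorModule.curry_apply, LinearMap.restrictScalars_self,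
    TensorProduct.curry_apply, LinearMap.comp_apply]
  rw [lam_theta]

theorem reynolds_eq_lam (α : A →ₗ[k] B) (m : M) :
    TameAct.reynolds k A B M α m = lam α (m ⊗ₜ[k] (1 : A)) := by
  have key : ∀ y : M ⊗[k] A, actα α ((𝑆).lTensor M y) =
      TensorProduct.lift ((Algebra.lsmul k k M : B →ₐ[k] Module.End k M).toLinearMap ∘ₗ α ∘ₗ
        (𝑆)).flip y := by
    intro y
    induction y using TensorProduct.induction_on with
    | zero => simp
    | tmul m' c => simp
    | add y₁ y₂ h₁ h₂ => simp only [map_add, h₁, h₂]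
  rw [lam, LinearMap.comp_apply, tau, shear_tmul]
  have : at' (LinearMap.mul' k A ∘ₗ (𝑆).rTensor A) (1 : A) = 𝑆 := by
    ext c; simp
  rw [this, key]
  rfl

theorem reynolds_mem_fixedPts [HopfRep.Comod k A B] [TameAct.IsHopfMod k A B M] (α : A →ₗ[k] B)
    (hα : Hoch.IsComodHom A α) (m : M) :
    TameAct.reynolds k A B M α m ∈ HopfRep.fixedPts k A M := by
  change (ρ : M →ₗ[k] M ⊗[k] A) _ = _
  rw [reynolds_eq_lam, lam_comod α hα]
  simp [Bialgebra.comul_one, Algebra.TensorProduct.one_def]

theorem reynolds_of_mem_fixedPts (α : A →ₗ[k] B) (hα1 : α 1 = 1) (m : M)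
    (hm : m ∈ HopfRep.fixedPts k A M) : TameAct.reynolds k A B M α m = m := by
  rw [TameAct.reynolds_apply_of_coact_eq k A B M α m m 1 hm, HopfAlgebra.antipode_one, hα1,
    one_smul]

end HopfMod

end Groth.Agent.Lib.helper22.Integral
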