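import Groth.Agent.Lib.Helper22.Integral

/-!
Reynolds operator of a total integral on the coordinate ring `B` itself (helper22).
-/

set_option autoImplicit false
universe u v w
open TensorProduct

namespace Groth.Agent.Lib.helper22.Integral

section Ring

variable {k : Type u} [CommRing k] {A : Type v} [CommRing A] [HopfAlgebra k A]
variable {B : Type w} [CommRing B] [Algebra k B] [HopfRep.Comod k A B] [GLin.IsCoactAlg k A B]

local notation "ρ" => HopfRep.Comod.coact (k := k) (A := A)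
local notation "𝑆" => HopfAlgebraStruct.antipode (R := k) (A := A)

omit [HopfRep.Comod k A B] [GLin.IsCoactAlg k A B] in
theorem hmSMul_self (x y : B ⊗[k] A) : TameAct.hmSMul k A B B x y = x * y := by
  induction x using TensorProduct.induction_on with
  | zero => simp
  | tmul b' a' =>
    induction y using TensorProduct.induction_on with
    | zero => simp
    | tmul b'' a'' => simp
    | add y₁ y₂ h₁ h₂ => simp only [map_add, mul_add, h₁, h₂]
  | add x₁ x₂ h₁ h₂ => simp only [map_add, add_mul, LinearMap.add_apply, h₁, h₂]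

theorem isHopfMod_self : TameAct.IsHopfMod k A B B :=
  ⟨fun b m => by
    rw [smul_eq_mul, GLin.IsCoactAlg.coact_mul (k := k) (A := A), hmSMul_self]⟩

/-- the `k`-linear functional underlying the Reynolds operator -/
noncomputable def reyAux (α : A →ₗ[k] B) : B ⊗[k] A →ₗ[k] B :=
  TensorProduct.lift ((Algebra.lsmul k k B : B →ₐ[k] Module.End k B).toLinearMap ∘ₗ α ∘ₗ (𝑆)).flip

omit [HopfRep.Comod k A B] [GLin.IsCoactAlg k A B] in
@[simp] theorem reyAux_tmul (α : A →ₗ[k] B) (b : B) (a : A) :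
    reyAux α (b ⊗ₜ[k] a) = α (𝑆 a) * b := by
  simp [reyAux]

/-- the Reynolds operator on `B` -/
noncomputable def rey (α : A →ₗ[k] B) : B →ₗ[k] B := TameAct.reynolds k A B B α

omit [GLin.IsCoactAlg k A B] in
theorem rey_apply (α : A →ₗ[k] B) (b : B) : rey α b = reyAux α ((ρ : B →ₗ[k] B ⊗[k] A) b) := rfl

theorem rey_mem (α : A →ₗ[k] B) (hα : Hoch.IsComodHom A α) (b : B) :
    rey α b ∈ GLin.invariants k A B := by
  have := isHopfMod_self (k := k) (A := A) (B := B)
  exact reynolds_mem_fixedPts (M := B) α hα b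

omit [GLin.IsCoactAlg k A B] in
theorem rey_of_mem (α : A →ₗ[k] B) (hα1 : α 1 = 1) (c : B)
    (hc : (ρ : B →ₗ[k] B ⊗[k] A) c = c ⊗ₜ[k] (1 : A)) : rey α c = c :=
  reynolds_of_mem_fixedPts (M := B) α hα1 c hc

theorem rey_mul (α : A →ₗ[k] B) (c : B)
    (hc : (ρ : B →ₗ[k] B ⊗[k] A) c = c ⊗ₜ[k] (1 : A)) (b : B) : rey α (c * b) = c * rey α b := by
  have key : ∀ y : B ⊗[k] A, reyAux α (c ⊗ₜ[k] (1 : A) * y) = c * reyAux α y := by
    intro y
    induction y using TensorProduct.induction_on with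
    | zero => simp
    | tmul b' a' => simp [mul_left_comm]
    | add y₁ y₂ h₁ h₂ => simp only [map_add, mul_add, h₁, h₂]
  rw [rey_apply, GLin.IsCoactAlg.coact_mul (k := k) (A := A), hc, key, ← rey_apply]

omit [GLin.IsCoactAlg k A B] in
theorem rey_mem_ideal (α : A →ₗ[k] B) (I : Ideal B)
    (hI : HopfRep.IsSubcomod (k := k) (A := A) (I.restrictScalars k)) (x : B) (hx : x ∈ I) :
    rey α x ∈ I := by
  obtain ⟨y, hy⟩ := hI x hx
  rw [rey_apply, ← hy]
  clear hy
  induction y using TensorProduct.induction_on with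
  | zero => simp
  | tmul x' a' =>
    simp only [LinearMap.rTensor_tmul, Submodule.subtype_apply, reyAux_tmul]
    exact I.mul_mem_left _ x'.2
  | add y₁ y₂ h₁ h₂ => rw [map_add, map_add]; exact I.add_mem h₁ h₂

theorem rey_map_mem (α : A →ₗ[k] B) (hα : Hoch.IsComodHom A α)
    (c : Ideal (GLin.invariants k A B)) (y : B)
    (hy : y ∈ c.map (algebraMap (GLin.invariants k A B) B)) :
    ∃ c₀ ∈ c, rey α y = (c₀ : B) := by
  have key : ∀ y ∈ c.map (algebraMap (GLin.invariants k A B) B), ∀ b : B,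
      ∃ c₀ ∈ c, rey α (b * y) = (c₀ : B) := by
    intro y hy
    induction hy using Submodule.span_induction with
    | mem y hy =>
      obtain ⟨c₀, hc₀, rfl⟩ := hy
      intro b
      refine ⟨c₀ * ⟨rey α b, rey_mem α hα b⟩, c.mul_mem_right _ hc₀, ?_⟩
      rw [mul_comm]
      exact rey_mul α c₀.1 c₀.2 b
    | zero => intro b; exact ⟨0, c.zero_mem, by simp⟩
    | add y z _ _ hy hz =>
      intro b
      obtain ⟨c₁, h₁, e₁⟩ := hy b
      obtain ⟨c₂, h₂, e₂⟩ := hz b
      exact ⟨c₁ + c₂, c.add_mem h₁ h₂, by rw [mul_add, map_add, e₁, e₂]; rfl⟩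
    | smul a y _ hy =>
      intro b
      obtain ⟨c₁, h₁, e₁⟩ := hy (b * a)
      exact ⟨c₁, h₁, by rw [smul_eq_mul, ← mul_assoc]; exact e₁⟩
  obtain ⟨c₀, hc₀, e⟩ := key y hy 1
  rw [one_mul] at e
  exact ⟨c₀, hc₀, e⟩

end Ring

end Groth.Agent.Lib.helper22.Integral
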