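import Mathlib
import Groth.Agent.Lib.Helper22.InertiaGen
import Groth.Agent.Lib.Helper22.EakinNagata
import Groth.Agent.Lib.Helper24.RegularAscent

/-!
# Height one primes of rings of invariants of factorial domains (helper22)

* `finrank_le_finrank_fiber`: semicontinuity of the fibre rank of a finite algebra over a domain.
* `inertiaDeg_eq_one_of_residue_trivial`.
* `card_stabilizer_le_ramificationIdx`: residue degree one ⇒ `|D| ≤ e` (via Mathlib's
  `Ideal.sum_ramification_inertia_eq_finrank_fiber`; no flatness needed).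
* `pow_ramificationIdx_dvd`: if `p = (π)` lies over `q ≠ 0` then `π ^ e ∣ x` for `x ∈ q`.
* `prod_smul_dvd`: in a UFD the norm `∏ σ π` divides `x` as soon as all `(σ π) ^ |D|` do.
* `exists_generator`: a height one prime of `A^G` (`A` noetherian factorial, finite over `A^G`)
  with a prime above it with trivial residue extension is principal.
* `isLocalRing_of_isInvariant`, `isRegularLocalRing_of_principal`.
-/

set_option autoImplicit false

namespace Groth.Agent.Lib.helper22.InvPrincipal
universe u
open TensorProduct Pointwise IsLocalRing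
open Groth.Agent.Lib.helper22.InertiaGen

/-- semicontinuity of fibre rank: generic rank ≤ rank of the fibre at any prime. -/
theorem finrank_le_finrank_fiber {R S : Type*} [CommRing R] [IsDomain R] [CommRing S]
    [Algebra R S] [Module.Finite R S] (q : Ideal R) [q.IsPrime] :
    Module.finrank R S ≤ Module.finrank q.ResidueField (q.Fiber S) := by
  classical
  let κ := q.ResidueField
  let F := q.Fiber S
  let r := Module.finrank κ F
  let b : Module.Basis (Fin r) κ F := Module.finBasis κ F
  choose t ht m hm using fun i => Ideal.Fiber.exists_smul_eq_one_tmul q (b i)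
  let N : Submodule R S := Submodule.span R (Set.range m)
  let g : κ ⊗[R] S →ₗ[κ] κ ⊗[R] (S ⧸ N) := N.mkQ.baseChange κ
  have hgsurj : Function.Surjective g := by
    have : (g : κ ⊗[R] S → κ ⊗[R] (S ⧸ N)) = N.mkQ.lTensor κ := by
      ext x; simp [g, LinearMap.baseChange_eq_ltensor]
    rw [this]
    exact LinearMap.lTensor_surjective κ N.mkQ_surjective
  have hgb : ∀ i, g (b i) = 0 := by
    intro i
    have h1 : g (t i • b i) = 0 := by
      rw [hm i]
      simp only [g, LinearMap.baseChange_tmul, Submodule.mkQ_apply]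
      rw [(Submodule.Quotient.mk_eq_zero N).mpr (Submodule.subset_span ⟨i, rfl⟩), tmul_zero]
    have h2 : t i • b i = (algebraMap R κ (t i)) • b i := by
      rw [algebraMap_smul]
    rw [h2, map_smul] at h1
    have h3 : algebraMap R κ (t i) ≠ 0 := by
      rw [Ne, Ideal.algebraMap_residueField_eq_zero]
      exact ht i
    exact (smul_eq_zero.mp h1).resolve_left h3
  have hg0 : g = 0 := b.ext (by simpa using hgb)
  have hsub : Subsingleton (κ ⊗[R] (S ⧸ N)) := by
    refine ⟨fun x y => ?_⟩
    obtain ⟨x', rfl⟩ := hgsurj x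
    obtain ⟨y', rfl⟩ := hgsurj y
    simp [hg0]
  have hsupp : (⟨q, inferInstance⟩ : PrimeSpectrum R) ∉ Module.support R (S ⧸ N) := by
    rw [Module.mem_support_iff_nontrivial_residueField_tensorProduct]
    exact not_nontrivial_iff_subsingleton.mpr hsub
  rw [Module.notMem_support_iff'] at hsupp
  have h0 : Module.finrank R (S ⧸ N) = 0 := by
    rw [Module.finrank_eq_zero_iff]
    intro x
    obtain ⟨a, ha, hax⟩ := hsupp x
    exact ⟨a, fun h0 => ha (h0 ▸ q.zero_mem), hax⟩
  have h1 := N.finrank_quotient_add_finrank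
  have h2 : Module.finrank R N ≤ r := by
    have := finrank_range_le_card (R := R) m
    simpa [Set.finrank] using this
  have h3 : Module.finrank R S ≤ r := by omega
  exact h3

/-- trivial residue field extension means inertia degree one -/
theorem inertiaDeg_eq_one_of_residue_trivial {A B : Type*} [CommRing A] [CommRing B] [Algebra B A]
    (q : Ideal B) [q.IsPrime] (p : Ideal A) [p.IsPrime] [p.LiesOver q]
    (hres : ∀ a : A, ∃ b c : B, c ∉ q ∧ algebraMap B A c * a - algebraMap B A b ∈ p) :
    p.inertiaDeg B = 1 := by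
  let _ := Localization.AtPrime.algebraOfLiesOver q p
  rw [Ideal.inertiaDeg_eq q p]
  apply Module.finrank_of_bijective_algebraMap
  refine ⟨(algebraMap q.ResidueField p.ResidueField).injective, ?_⟩
  set ι := algebraMap q.ResidueField p.ResidueField with hι
  set φ := algebraMap A p.ResidueField with hφ
  set ψ := algebraMap B q.ResidueField with hψ
  have hcomp : ∀ b : B, ι (ψ b) = φ (algebraMap B A b) := by
    intro b
    rw [hι, hψ, hφ, ← IsScalarTower.algebraMap_apply, ← IsScalarTower.algebraMap_apply]
  have key : ∀ a : A, ∃ u : q.ResidueField, ι u = φ a := by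
    intro a
    obtain ⟨b, c, hc, hmem⟩ := hres a
    have h1 : φ (algebraMap B A c * a - algebraMap B A b) = 0 := by
      rw [hφ, Ideal.algebraMap_residueField_eq_zero]; exact hmem
    rw [map_sub, map_mul, sub_eq_zero, ← hcomp, ← hcomp] at h1
    have hc0 : ψ c ≠ 0 := by
      rw [hψ, Ne, Ideal.algebraMap_residueField_eq_zero]; exact hc
    refine ⟨ψ b / ψ c, ?_⟩
    rw [map_div₀, ← h1, mul_div_cancel_left₀]
    exact (map_ne_zero ι).mpr hc0
  intro z
  obtain ⟨x, y, hy, rfl⟩ := IsFractionRing.div_surjective (A := A ⧸ p) z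
  obtain ⟨a, rfl⟩ := Ideal.Quotient.mk_surjective x
  obtain ⟨s, rfl⟩ := Ideal.Quotient.mk_surjective y
  obtain ⟨u, hu⟩ := key a
  obtain ⟨v, hv⟩ := key s
  refine ⟨u / v, ?_⟩
  rw [map_div₀, hu, hv]
  rfl

/-- if the residue degree is one, the decomposition group has order at most the ramification
index (no flatness needed). -/
theorem card_stabilizer_le_ramificationIdx {A B G : Type*} [CommRing A] [IsDomain A] [CommRing B]
    [Algebra B A] [FaithfulSMul B A] [Module.Finite B A]
    [Group G] [Finite G] [MulSemiringAction G A] [FaithfulSMul G A] [SMulCommClass G B A]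
    [Algebra.IsInvariant B A G]
    (q : Ideal B) [q.IsPrime] (p : Ideal A) [p.IsPrime] [p.LiesOver q]
    (hf : p.inertiaDeg B = 1) :
    Nat.card (MulAction.stabilizer G p) ≤ p.ramificationIdx B := by
  classical
  haveI : IsDomain B := IsDomain.of_faithfulSMul B A
  haveI : IsGaloisGroup G B A := ⟨inferInstance, inferInstance, inferInstance⟩
  have hfin : (q.primesOver A).Finite := Algebra.QuasiFinite.finite_primesOver q
  let _ : Fintype (q.primesOver A) := hfin.fintype
  have h1 := Ideal.sum_ramification_inertia_eq_finrank_fiber q A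
  have h2 : ∀ P : q.primesOver A, P.1.ramificationIdx B * P.1.inertiaDeg B =
      p.ramificationIdx B := by
    intro P
    haveI := P.2.1
    haveI := P.2.2
    obtain ⟨σ, hσ⟩ := Algebra.IsInvariant.exists_smul_of_under_eq B A G p P.1
      ((Ideal.over_def p q).symm.trans (Ideal.over_def P.1 q))
    rw [hσ, Ideal.ramificationIdx_smul, Ideal.inertiaDeg_smul, hf, mul_one]
  rw [Finset.sum_congr rfl (fun P _ => h2 P), Finset.sum_const, Finset.card_univ,
    smul_eq_mul] at h1
  have h3 : Nat.card G ≤ Module.finrank q.ResidueField (q.Fiber A) := by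
    rw [IsGaloisGroup.card_eq_finrank' G B A]
    exact finrank_le_finrank_fiber q
  have h4 : Fintype.card (q.primesOver A) = (MulAction.stabilizer G p).index := by
    rw [MulAction.index_stabilizer, Algebra.IsInvariant.orbit_eq_primesOver B A G q p,
      Set.ncard_eq_toFinset_card', Set.toFinset_card]
  have h5 := (MulAction.stabilizer G p).card_mul_index
  have hpos : 0 < (MulAction.stabilizer G p).index := Nat.pos_of_ne_zero Subgroup.index_ne_zero_of_finite
  rw [h4] at h1
  rw [← h1, ← h5, mul_comm] at h3
  exact Nat.le_of_mul_le_mul_left h3 hpos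

/-- if `p = (π)` lies over `q ≠ 0`, then `π ^ e` divides every element of `q`, where `e` is the
ramification index. -/
theorem pow_ramificationIdx_dvd {A B : Type*} [CommRing A] [IsDomain A] [IsNoetherianRing A]
    [CommRing B] [Algebra B A] (hinj : Function.Injective (algebraMap B A))
    (q : Ideal B) [q.IsPrime] (hq0 : q ≠ ⊥) (p : Ideal A) [p.IsPrime] [p.LiesOver q]
    (π : A) (hπ : Prime π) (hp : p = Ideal.span {π}) (x : B) (hx : x ∈ q) :
    π ^ (p.ramificationIdx B) ∣ algebraMap B A x := by
  classical
  let Ap := Localization.AtPrime p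
  have hle : p.primeCompl ≤ nonZeroDivisors A := p.primeCompl_le_nonZeroDivisors
  haveI : IsDomain Ap := IsLocalization.isDomain_of_le_nonZeroDivisors Ap hle
  haveI : IsNoetherianRing Ap := IsLocalization.isNoetherianRing p.primeCompl Ap inferInstance
  have hinjA : Function.Injective (algebraMap A Ap) := IsLocalization.injective Ap hle
  have hm : maximalIdeal Ap = Ideal.span {algebraMap A Ap π} := by
    have h1 : p.map (algebraMap A Ap) = (Ideal.span {π}).map (algebraMap A Ap) :=
      congrArg (Ideal.map (algebraMap A Ap)) hp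
    rw [← Localization.AtPrime.map_eq_maximalIdeal, h1, Ideal.map_span, Set.image_singleton]
  have hm0 : maximalIdeal Ap ≠ ⊥ := by
    rw [hm, Ne, Ideal.span_singleton_eq_bot]
    exact fun h => hπ.ne_zero (hinjA (h.trans (map_zero _).symm))
  have hnf : ¬ IsField Ap := by
    rw [IsLocalRing.isField_iff_maximalIdeal_eq]; exact hm0
  have hprinc : (maximalIdeal Ap).IsPrincipal := ⟨⟨_, hm⟩⟩
  haveI hdvr : IsDiscreteValuationRing Ap := ((IsDiscreteValuationRing.TFAE Ap hnf).out 4 0).mp hprinc
  have hpow := ((IsDiscreteValuationRing.TFAE Ap hnf).out 0 6).mp hdvr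
  set I := q.map (algebraMap B Ap) with hI
  have hI0 : I ≠ ⊥ := by
    obtain ⟨y, hy, hy0⟩ := Submodule.exists_mem_ne_zero_of_ne_bot hq0
    intro h
    have h1 : algebraMap B Ap y ∈ I := Ideal.mem_map_of_mem _ hy
    rw [h, Ideal.mem_bot, IsScalarTower.algebraMap_apply B A Ap] at h1
    exact hy0 (hinj (hinjA (h1.trans (map_zero _).symm) |>.trans (map_zero _).symm))
  obtain ⟨n, hn⟩ := hpow I hI0
  have he : p.ramificationIdx B = n := by
    rw [Ideal.ramificationIdx_eq q p, ← hI, hn,
      IsDiscreteValuationRing.length_quotient_pow_maximalIdeal, ENat.toNat_natCast]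
  rw [he]
  have hxI : algebraMap B Ap x ∈ I := Ideal.mem_map_of_mem _ hx
  rw [hn, hm, Ideal.span_singleton_pow, Ideal.mem_span_singleton'] at hxI
  obtain ⟨y, hy⟩ := hxI
  obtain ⟨a, s, rfl⟩ := IsLocalization.exists_mk'_eq p.primeCompl y
  rw [IsScalarTower.algebraMap_apply B A Ap, ← map_pow] at hy
  have h2 : algebraMap A Ap (a * π ^ n) = algebraMap A Ap ((s : A) * algebraMap B A x) := by
    rw [map_mul, map_mul, ← hy, ← mul_assoc, mul_comm (algebraMap A Ap (s : A)),
      IsLocalization.mk'_spec]
  have h3 : a * π ^ n = (s : A) * algebraMap B A x := hinjA h2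
  have hs : ¬ π ∣ (s : A) := by
    intro hdvd
    apply s.2
    have h4 : (s : A) ∈ Ideal.span {π} := Ideal.mem_span_singleton.mpr hdvd
    exact hp ▸ h4
  exact hπ.pow_dvd_of_dvd_mul_left n hs ⟨a, by rw [← h3, mul_comm]⟩

theorem associated_smul {A G : Type*} [CommRing A] [Group G] [MulSemiringAction G A]
    (σ : G) {a b : A} (h : Associated a b) : Associated (σ • a) (σ • b) := by
  have := Associated.map (MulSemiringAction.toRingEquiv G A σ).toRingHom h
  simpa using this

theorem prime_smul {A G : Type*} [CommRing A] [Group G] [MulSemiringAction G A]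
    (σ : G) {a : A} (h : Prime a) : Prime (σ • a) :=
  (MulEquiv.prime_iff (MulSemiringAction.toRingEquiv G A σ)).mpr h

/-- in a UFD, the norm of a prime element `π` divides any `x` divisible by all `(σ π)^d`, where
`d` bounds the order of the decomposition group. -/
theorem prod_smul_dvd {A G : Type*} [CommRing A] [IsDomain A] [UniqueFactorizationMonoid A]
    [Group G] [Fintype G] [MulSemiringAction G A] (π : A) (hπ : Prime π) (d : ℕ)
    (hd : ∀ [DecidablePred fun τ : G => Associated (τ • π) π],
      (Finset.univ.filter (fun τ : G => Associated (τ • π) π)).card ≤ d)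
    (x : A) (hx : ∀ σ : G, (σ • π) ^ d ∣ x) : ∏ σ : G, σ • π ∣ x := by
  classical
  have hprime : ∀ σ : G, Prime (σ • π) := fun σ => prime_smul σ hπ
  have hf0 : ∏ σ : G, σ • π ≠ 0 := Finset.prod_ne_zero_iff.mpr (fun σ _ => (hprime σ).ne_zero)
  rw [UniqueFactorizationMonoid.dvd_iff_emultiplicity_le hf0]
  intro ϖ hϖ
  rw [Finset.emultiplicity_prod hϖ]
  have hterm : ∀ σ : G, emultiplicity ϖ (σ • π) = if ϖ ∣ σ • π then 1 else 0 := by
    intro σ
    split_ifs with h
    · have hass : Associated ϖ (σ • π) := (hϖ.dvd_prime_iff_associated (hprime σ)).mp h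
      rw [emultiplicity_eq_of_associated_left hass.symm]
      simpa using emultiplicity_pow_self_of_prime (hprime σ) 1
    · exact emultiplicity_eq_zero.mpr h
  rw [Finset.sum_congr rfl (fun σ _ => hterm σ)]
  have hsum : (∑ σ : G, (if ϖ ∣ σ • π then (1 : ℕ∞) else 0)) =
      ((Finset.univ.filter (fun σ : G => ϖ ∣ σ • π)).card : ℕ∞) := by
    rw [Finset.card_filter]; push_cast; rfl
  rw [hsum]
  by_cases hex : ∃ σ₀ : G, ϖ ∣ σ₀ • π
  · obtain ⟨σ₀, hσ₀⟩ := hex
    have hass : Associated ϖ (σ₀ • π) := (hϖ.dvd_prime_iff_associated (hprime σ₀)).mp hσ₀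
    have hcard : (Finset.univ.filter (fun σ : G => ϖ ∣ σ • π)).card ≤ d := by
      refine le_trans ?_ hd
      apply Finset.card_le_card_of_injOn (fun σ => σ₀⁻¹ * σ)
      · intro σ hσ
        simp only [Finset.coe_filter, Finset.mem_univ, true_and, Set.mem_ofPred_eq] at hσ ⊢
        have h1 : Associated (σ • π) (σ₀ • π) :=
          ((hϖ.dvd_prime_iff_associated (hprime σ)).mp hσ).symm.trans hass
        have h2 := associated_smul σ₀⁻¹ h1
        rwa [smul_smul, smul_smul, inv_mul_cancel, one_smul] at h2
      · intro a _ b _ hab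
        exact mul_left_cancel hab
    calc ((Finset.univ.filter (fun σ : G => ϖ ∣ σ • π)).card : ℕ∞) ≤ (d : ℕ∞) := by
          exact_mod_cast hcard
      _ ≤ emultiplicity (σ₀ • π) x := le_emultiplicity_of_pow_dvd (hx σ₀)
      _ = emultiplicity ϖ x := emultiplicity_eq_of_associated_left hass
  · push Not at hex
    have : Finset.univ.filter (fun σ : G => ϖ ∣ σ • π) = ∅ := by
      rw [Finset.filter_eq_empty_iff]; intro σ _; exact hex σ
    rw [this]; simp

/-- **Main theorem**: a height one prime `q` of the invariant ring `B = A^G` of a noetherian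
factorial domain `A`, finite over `B`, is principal as soon as some prime `p` over it has trivial
residue field extension. -/
theorem exists_generator {A B G : Type*} [CommRing A] [IsDomain A] [IsNoetherianRing A]
    [UniqueFactorizationMonoid A]
    [CommRing B] [Algebra B A] [FaithfulSMul B A] [Module.Finite B A]
    [Group G] [Finite G] [MulSemiringAction G A] [FaithfulSMul G A] [SMulCommClass G B A]
    [Algebra.IsInvariant B A G]
    (q : Ideal B) [q.IsPrime] (hq : q.height = 1) (p : Ideal A) [p.IsPrime] [p.LiesOver q]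
    (hres : ∀ a : A, ∃ b c : B, c ∉ q ∧ algebraMap B A c * a - algebraMap B A b ∈ p) :
    ∃ f₀ : B, f₀ ≠ 0 ∧ q = Ideal.span {f₀} := by
  classical
  cases nonempty_fintype G
  have hinj : Function.Injective (algebraMap B A) := FaithfulSMul.algebraMap_injective B A
  haveI : IsDomain B := IsDomain.of_faithfulSMul B A
  haveI : Algebra.IsIntegral B A := Algebra.IsIntegral.of_finite B A
  have hq0 : q ≠ ⊥ := Ideal.ne_bot_of_height_eq_one hq
  have hp0 : p ≠ ⊥ := by
    intro h
    apply hq0
    rw [Ideal.over_def p q, h]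
    exact Ideal.comap_bot_of_injective _ hinj
  have hph : p.height = 1 := by
    apply le_antisymm
    · have := height_le_height_under_of_isIntegral (A' := B) p
      rwa [← Ideal.over_def p q, hq] at this
    · rw [Order.one_le_iff_pos, pos_iff_ne_zero, Ne, Ideal.height_eq_zero_iff_eq_bot]
      exact hp0
  obtain ⟨π, hπmem, hπ⟩ := Ideal.IsPrime.exists_mem_prime_of_ne_bot ‹p.IsPrime› hp0
  have hp : p = Ideal.span {π} := p.eq_span_singleton_of_height_eq_one hph hπmem hπ
  have hf := inertiaDeg_eq_one_of_residue_trivial q p hres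
  have hcard := card_stabilizer_le_ramificationIdx (G := G) q p hf
  set d := Nat.card (MulAction.stabilizer G p) with hd
  have hdiv : ∀ x ∈ q, ∀ σ : G, (σ • π) ^ d ∣ algebraMap B A x := by
    intro x hx σ
    have h1 := pow_ramificationIdx_dvd hinj q hq0 p π hπ hp x hx
    have h2 : π ^ d ∣ algebraMap B A x := (pow_dvd_pow π hcard).trans h1
    obtain ⟨y, hy⟩ := h2
    refine ⟨σ • y, ?_⟩
    rw [← smul_pow', ← smul_mul', ← hy, smul_algebraMap]
  have hsmulp : ∀ τ : G, τ • p = Ideal.span {τ • π} := by
    intro τ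
    rw [Ideal.pointwise_smul_def, hp, Ideal.map_span, Set.image_singleton]
    rfl
  have hstab : ∀ [DecidablePred fun τ : G => Associated (τ • π) π],
      (Finset.univ.filter (fun τ : G => Associated (τ • π) π)).card ≤ d := by
    intro _
    rw [hd, Nat.card_eq_fintype_card, Fintype.card_subtype]
    apply le_of_eq
    congr 1
    ext τ
    simp only [Finset.mem_filter, Finset.mem_univ, true_and, MulAction.mem_stabilizer_iff]
    rw [hsmulp τ]
    conv_rhs => rw [hp]
    rw [Ideal.span_singleton_eq_span_singleton]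
  set f := ∏ σ : G, σ • π with hfdef
  have hfinv : ∀ σ : G, σ • f = f := fun σ => Finset.smul_prod_perm π σ
  obtain ⟨f₀, hf₀⟩ := Algebra.IsInvariant.isInvariant (A := B) f hfinv
  have hfne : f ≠ 0 := Finset.prod_ne_zero_iff.mpr (fun σ _ => by
    have : Prime (σ • π) := (MulEquiv.prime_iff (MulSemiringAction.toRingEquiv G A σ)).mpr hπ
    exact this.ne_zero)
  have hf₀ne : f₀ ≠ 0 := by
    rintro rfl
    exact hfne (by rw [← hf₀, map_zero])
  have hπf : π ∣ f := by
    have := Finset.dvd_prod_of_mem (fun σ : G => σ • π) (Finset.mem_univ (1 : G))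
    simpa using this
  have hf₀q : f₀ ∈ q := by
    rw [Ideal.over_def p q, Ideal.under_def, Ideal.mem_comap, hf₀]
    exact Ideal.mem_of_dvd p hπf hπmem
  refine ⟨f₀, hf₀ne, le_antisymm ?_ ((Ideal.span_singleton_le_iff_mem _).mpr hf₀q)⟩
  intro x hx
  obtain ⟨y, hy⟩ := prod_smul_dvd π hπ d hstab (algebraMap B A x) (hdiv x hx)
  have hyinv : ∀ σ : G, σ • y = y := by
    intro σ
    have h1 : σ • (algebraMap B A x) = algebraMap B A x := smul_algebraMap σ x
    rw [hy, smul_mul', ← hfdef, hfinv σ] at h1
    exact mul_left_cancel₀ hfne h1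
  obtain ⟨y₀, hy₀⟩ := Algebra.IsInvariant.isInvariant (A := B) y hyinv
  rw [Ideal.mem_span_singleton]
  refine ⟨y₀, hinj ?_⟩
  rw [hy, map_mul, hf₀, hy₀]

/-- the ring of invariants of a local ring is local -/
theorem isLocalRing_of_isInvariant {A B G : Type*} [CommRing A] [IsLocalRing A]
    [CommRing B] [Algebra B A] [FaithfulSMul B A]
    [Group G] [MulSemiringAction G A] [SMulCommClass G B A]
    [Algebra.IsInvariant B A G] : IsLocalRing B := by
  have hinj : Function.Injective (algebraMap B A) := FaithfulSMul.algebraMap_injective B A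
  haveI : Nontrivial B := (algebraMap B A).domain_nontrivial
  have hunit : ∀ b : B, IsUnit (algebraMap B A b) → IsUnit b := by
    intro b hb
    obtain ⟨y, hy⟩ := hb.exists_right_inv
    have hyinv : ∀ σ : G, σ • y = y := by
      intro σ
      have h1 : algebraMap B A b * σ • y = 1 := by
        have := congrArg (σ • ·) hy
        simpa [smul_mul', smul_algebraMap] using this
      calc σ • y = (y * algebraMap B A b) * σ • y := by rw [mul_comm y, hy, one_mul]
        _ = y := by rw [mul_assoc, h1, mul_one]
    obtain ⟨y₀, hy₀⟩ := Algebra.IsInvariant.isInvariant (A := B) y hyinv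
    refine IsUnit.of_mul_eq_one y₀ (hinj ?_)
    rw [map_mul, hy₀, hy, map_one]
  refine IsLocalRing.of_nonunits_add ?_
  intro a b ha hb
  have ha' : algebraMap B A a ∈ nonunits A := fun h => ha (hunit a h)
  have hb' : algebraMap B A b ∈ nonunits A := fun h => hb (hunit b h)
  have hab := IsLocalRing.nonunits_add ha' hb'
  intro h
  apply hab
  rw [← map_add]
  exact h.map _

theorem isRegularLocalRing_of_principal {A B G : Type u} [CommRing A] [IsDomain A]
    [IsNoetherianRing A] [IsLocalRing A]
    [CommRing B] [Algebra B A] [FaithfulSMul B A] [Module.Finite B A]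
    [Group G] [MulSemiringAction G A] [SMulCommClass G B A]
    [Algebra.IsInvariant B A G]
    (q : Ideal B) [q.IsPrime] (f₀ : B) (hf₀ : f₀ ≠ 0) (hq : q = Ideal.span {f₀})
    (hreg : IsRegularLocalRing (B ⧸ q)) : IsRegularLocalRing B := by
  have hinj : Function.Injective (algebraMap B A) := FaithfulSMul.algebraMap_injective B A
  haveI : IsDomain B := IsDomain.of_faithfulSMul B A
  haveI : IsNoetherianRing B := EakinNagata.isNoetherianRing_of_finite_of_injective B A hinj
  haveI : IsLocalRing B := isLocalRing_of_isInvariant (A := A) (B := B) (G := G)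
  have hle : q ≤ maximalIdeal B := IsLocalRing.le_maximalIdeal (Ideal.IsPrime.ne_top inferInstance)
  apply Groth.Agent.Lib.Helper24.RegularAscent.isRegularLocalRing_of_quotient B q hle
  have h1 : q.spanFinrank ≤ 1 := by
    rw [hq]
    have := Submodule.spanFinrank_span_le_ncard_of_finite (R := B) (Set.finite_singleton f₀)
    simpa using this
  have h2 : ringKrullDim (B ⧸ q) + 1 ≤ ringKrullDim B :=
    ringKrullDim_succ_le_of_surjective (Ideal.Quotient.mk q) Ideal.Quotient.mk_surjective
      (mem_nonZeroDivisors_of_ne_zero hf₀)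
      (Ideal.Quotient.eq_zero_iff_mem.mpr (hq ▸ Ideal.mem_span_singleton_self f₀))
  calc (q.spanFinrank : WithBot ℕ∞) + ringKrullDim (B ⧸ q)
      ≤ 1 + ringKrullDim (B ⧸ q) := by
        gcongr
        exact_mod_cast h1
    _ = ringKrullDim (B ⧸ q) + 1 := add_comm _ _
    _ ≤ ringKrullDim B := h2

end Groth.Agent.Lib.helper22.InvPrincipal
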