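import Mathlib

/-!
Independence of the isotypic components attached to a family of pairwise non-isomorphic simple modules.
-/

set_option autoImplicit false
universe u v w x

namespace Groth.Agent.Lib.helper22

section
variable {R : Type v} [Ring R] {M : Type u} [AddCommGroup M] [Module R M]

theorem iSup_range_le_isotypicComponent (S : Type w) [AddCommGroup S] [Module R S] [IsSimpleModule R S] :
    (⨆ g : S →ₗ[R] M, LinearMap.range g) ≤ isotypicComponent R M S := by
  apply iSup_le
  intro g
  by_cases hg : g = 0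
  · rw [hg, LinearMap.range_zero]; exact bot_le
  · have hinj := LinearMap.injective_of_ne_zero hg
    exact le_sSup ⟨(LinearEquiv.ofInjective g hinj).symm⟩

theorem exists_linearEquiv_of_isotypicComponent_ne_bot (S : Type w) [AddCommGroup S] [Module R S]
    (h : isotypicComponent R M S ≠ ⊥) : ∃ m : Submodule R M, Nonempty (m ≃ₗ[R] S) := by
  by_contra hcon
  apply h
  have : {m : Submodule R M | Nonempty (m ≃ₗ[R] S)} = ∅ := by
    ext m
    simp only [Set.mem_ofPred_eq, Set.mem_empty_iff_false, iff_false]
    exact fun hm => hcon ⟨m, hm⟩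
  rw [isotypicComponent, this, sSup_empty]

theorem iSupIndep_isotypicComponent {ι : Type x} (S : ι → Type w) [∀ j, AddCommGroup (S j)]
    [∀ j, Module R (S j)] [∀ j, IsSimpleModule R (S j)]
    (hne : ∀ j j', j ≠ j' → IsEmpty (S j ≃ₗ[R] S j')) :
    iSupIndep (fun j => isotypicComponent R M (S j)) := by
  intro j
  change Disjoint (isotypicComponent R M (S j)) (⨆ j', ⨆ (_ : j' ≠ j), isotypicComponent R M (S j'))
  by_cases h : isotypicComponent R M (S j) = ⊥
  · rw [h]; exact disjoint_bot_left
  obtain ⟨m, ⟨e⟩⟩ := exists_linearEquiv_of_isotypicComponent_ne_bot (S j) h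
  have : IsSimpleModule R m := IsSimpleModule.congr e
  have hj : isotypicComponent R M (S j) ∈ isotypicComponents R M :=
    ⟨m, inferInstance, (e.isotypicComponent_eq (M := M)).symm⟩
  refine (sSupIndep_isotypicComponents R M hj).mono_right (iSup₂_le fun j' hj' => ?_)
  by_cases h' : isotypicComponent R M (S j') = ⊥
  · rw [h']; exact bot_le
  obtain ⟨m', ⟨e'⟩⟩ := exists_linearEquiv_of_isotypicComponent_ne_bot (S j') h'
  have : IsSimpleModule R m' := IsSimpleModule.congr e'
  refine le_sSup ⟨⟨m', inferInstance, (e'.isotypicComponent_eq (M := M)).symm⟩, ?_⟩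
  intro heq
  have hm : m ≤ isotypicComponent R M (S j') := by
    rw [heq]
    exact le_sSup ⟨e⟩
  obtain ⟨e''⟩ := isIsotypicOfType_submodule_iff.mp (IsIsotypicOfType.isotypicComponent R M (S j')) m hm
  exact (hne j j' (Ne.symm hj')).false (e.symm.trans e'')

theorem iSupIndep_iSup_range {ι : Type x} (S : ι → Type w) [∀ j, AddCommGroup (S j)]
    [∀ j, Module R (S j)] [∀ j, IsSimpleModule R (S j)]
    (hne : ∀ j j', j ≠ j' → IsEmpty (S j ≃ₗ[R] S j')) :
    iSupIndep (fun j => ⨆ g : S j →ₗ[R] M, LinearMap.range g) :=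
  (iSupIndep_isotypicComponent (M := M) S hne).mono fun j => iSup_range_le_isotypicComponent (S j)

end

end Groth.Agent.Lib.helper22
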