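import Groth.Agent.S13699
import Mathlib

/-!
# Universal test for the kernel of a base-changed polynomial law (helper22)

For `B` generated as an `A`-module by `g : Fin m → B`, a law `F : B →ₚₗ[A] A` and an `A`-algebra `A'`:
`z ∈ PolLaw.kerBC F A'` iff the single equation
`F_{P'} (x0 + w0 * ẑ) = F_{P'} x0` holds over `P' = MvPolynomial (Fin m ⊕ Fin m) A'`
(`mem_kerBC_iff_univ`).  Also `compat`, `compat'` (compatibility of `F` with algebra maps, after
`TensorProduct.rid`) and `exists_rep`.
-/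

set_option autoImplicit false
universe u
open scoped TensorProduct

namespace Groth.Agent.Lib.helper22.KerBCUniv
open MvPolynomial

variable {A : Type u} [CommRing A] {B : Type u} [CommRing B] [Algebra A B]

/-- universal elements over `A'` -/
noncomputable def x0 (A' : Type u) [CommRing A'] [Algebra A A'] {m : ℕ} (g : Fin m → B) :
    MvPolynomial (Fin m ⊕ Fin m) A' ⊗[A] B :=
  ∑ i, X (Sum.inl i) ⊗ₜ[A] g i

noncomputable def w0 (A' : Type u) [CommRing A'] [Algebra A A'] {m : ℕ} (g : Fin m → B) :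
    MvPolynomial (Fin m ⊕ Fin m) A' ⊗[A] B :=
  ∑ i, X (Sum.inr i) ⊗ₜ[A] g i

/-- the structure map `A' → A'[X,U]` as an `A`-algebra map -/
noncomputable def cHom (A' : Type u) [CommRing A'] [Algebra A A'] (m : ℕ) :
    A' →ₐ[A] MvPolynomial (Fin m ⊕ Fin m) A' :=
  IsScalarTower.toAlgHom A A' (MvPolynomial (Fin m ⊕ Fin m) A')

theorem cHom_apply (A' : Type u) [CommRing A'] [Algebra A A'] (m : ℕ) (a : A') :
    cHom (A := A) A' m a = C a := rfl

theorem exists_rep {m : ℕ} (g : Fin m → B) (hg : Submodule.span A (Set.range g) = ⊤)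
    (S : Type u) [CommSemiring S] [Algebra A S] (x : S ⊗[A] B) :
    ∃ s : Fin m → S, x = ∑ i, s i ⊗ₜ[A] g i := by
  induction x using TensorProduct.induction_on with
  | zero => exact ⟨0, by simp⟩
  | tmul a b =>
    have hb : b ∈ Submodule.span A (Set.range g) := by rw [hg]; trivial
    obtain ⟨c, rfl⟩ := (Submodule.mem_span_range_iff_exists_fun A).1 hb
    refine ⟨fun i => c i • a, ?_⟩
    rw [TensorProduct.tmul_sum]
    refine Finset.sum_congr rfl (fun i _ => ?_)
    rw [TensorProduct.tmul_smul, TensorProduct.smul_tmul']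
  | add x y hx hy =>
    obtain ⟨s, rfl⟩ := hx
    obtain ⟨s', rfl⟩ := hy
    refine ⟨s + s', ?_⟩
    rw [← Finset.sum_add_distrib]
    refine Finset.sum_congr rfl (fun i _ => ?_)
    rw [Pi.add_apply, TensorProduct.add_tmul]

theorem compat (F : B →ₚₗ[A] A) {S S' : Type u} [CommSemiring S] [Algebra A S] [CommSemiring S']
    [Algebra A S'] (φ : S →ₐ[A] S') (y : S ⊗[A] B) :
    F.toFun' S' (Algebra.TensorProduct.map φ (AlgHom.id A B) y) =
      φ.toLinearMap.rTensor A (F.toFun' S y) := by
  rw [← Groth.Agent.S13699.rTensor_algHom_apply']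
  exact (congrFun (F.isCompat' φ) y).symm

/-- compatibility of `rid` -/
theorem rid_rTensor {S S' : Type u} [CommRing S] [Algebra A S] [CommRing S'] [Algebra A S']
    (φ : S →ₐ[A] S') (z : S ⊗[A] A) :
    TensorProduct.rid A S' (φ.toLinearMap.rTensor A z) = φ (TensorProduct.rid A S z) := by
  induction z using TensorProduct.induction_on with
  | zero => simp
  | tmul p a => simp
  | add x y hx hy => simp [hx, hy]

theorem compat' (F : B →ₚₗ[A] A) {S S' : Type u} [CommRing S] [Algebra A S] [CommRing S']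
    [Algebra A S'] (φ : S →ₐ[A] S') (y : S ⊗[A] B) :
    TensorProduct.rid A S' (F.toFun' S' (Algebra.TensorProduct.map φ (AlgHom.id A B) y)) =
      φ (TensorProduct.rid A S (F.toFun' S y)) := by
  rw [compat, rid_rTensor]

theorem map_map_apply {S S' S'' : Type u} [CommSemiring S] [Algebra A S] [CommSemiring S']
    [Algebra A S'] [CommSemiring S''] [Algebra A S''] (φ : S →ₐ[A] S') (φ' : S' →ₐ[A] S'')
    (z : S ⊗[A] B) :
    Algebra.TensorProduct.map φ' (AlgHom.id A B) (Algebra.TensorProduct.map φ (AlgHom.id A B) z) =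
      Algebra.TensorProduct.map (φ'.comp φ) (AlgHom.id A B) z := by
  induction z using TensorProduct.induction_on with
  | zero => simp
  | tmul p a => simp
  | add x y hx hy => simp only [map_add, hx, hy]

/-- **Universal test** for membership in `kerBC`. -/
theorem mem_kerBC_iff_univ (F : B →ₚₗ[A] A) {m : ℕ} (g : Fin m → B)
    (hg : Submodule.span A (Set.range g) = ⊤) (A' : Type u) [CommRing A'] [Algebra A A']
    (z : A' ⊗[A] B) :
    z ∈ PolLaw.kerBC F A' ↔
      F.toFun' (MvPolynomial (Fin m ⊕ Fin m) A')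
        (x0 A' g + w0 A' g * Algebra.TensorProduct.map (cHom (A := A) A' m) (AlgHom.id A B) z) =
      F.toFun' (MvPolynomial (Fin m ⊕ Fin m) A') (x0 A' g) := by
  rw [Groth.Agent.S13699.mem_kerBC_iff]
  constructor
  · intro h
    exact h (MvPolynomial (Fin m ⊕ Fin m) A') (cHom (A := A) A' m) _ _
  · intro h R _ _ ψ x w
    obtain ⟨s, rfl⟩ := exists_rep g hg R x
    obtain ⟨v, rfl⟩ := exists_rep g hg R w
    let Φ : MvPolynomial (Fin m ⊕ Fin m) A' →ₐ[A] R := aevalTower ψ (Sum.elim s v)
    have hΦ : Φ.comp (cHom (A := A) A' m) = ψ := by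
      ext a
      simp [Φ, cHom_apply]
    have e0 : Algebra.TensorProduct.map Φ (AlgHom.id A B) (x0 A' g) = ∑ i, s i ⊗ₜ[A] g i := by
      simp [x0, Φ]
    have e1 : Algebra.TensorProduct.map Φ (AlgHom.id A B)
        (x0 A' g + w0 A' g * Algebra.TensorProduct.map (cHom (A := A) A' m) (AlgHom.id A B) z) =
        ∑ i, s i ⊗ₜ[A] g i + (∑ i, v i ⊗ₜ[A] g i) *
          Algebra.TensorProduct.map ψ (AlgHom.id A B) z := by
      rw [map_add, map_mul, e0, map_map_apply, hΦ]
      congr 2
      simp [w0, Φ]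
    rw [← e1, ← e0, compat, compat, h]

/-! ### Functoriality of the universal test in `A'` -/

theorem map_x0 {S S' : Type u} [CommRing S] [Algebra A S] [CommRing S'] [Algebra A S']
    (φ : S →ₐ[A] S') {m : ℕ} (g : Fin m → B) :
    Algebra.TensorProduct.map (mapAlgHom (σ := Fin m ⊕ Fin m) φ) (AlgHom.id A B) (x0 S g) =
      x0 S' g := by
  simp [x0]

theorem map_w0 {S S' : Type u} [CommRing S] [Algebra A S] [CommRing S'] [Algebra A S']
    (φ : S →ₐ[A] S') {m : ℕ} (g : Fin m → B) :
    Algebra.TensorProduct.map (mapAlgHom (σ := Fin m ⊕ Fin m) φ) (AlgHom.id A B) (w0 S g) =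
      w0 S' g := by
  simp [w0]

theorem mapAlgHom_comp_cHom {S S' : Type u} [CommRing S] [Algebra A S] [CommRing S']
    [Algebra A S'] (φ : S →ₐ[A] S') (m : ℕ) :
    (mapAlgHom (σ := Fin m ⊕ Fin m) φ).comp (cHom (A := A) S m) =
      (cHom (A := A) S' m).comp φ := by
  ext a
  simp [cHom_apply]

/-- the "difference polynomial" whose vanishing tests membership in `kerBC` -/
noncomputable def delta (F : B →ₚₗ[A] A) {m : ℕ} (g : Fin m → B) (S : Type u) [CommRing S]
    [Algebra A S] (z : S ⊗[A] B) : MvPolynomial (Fin m ⊕ Fin m) S :=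
  TensorProduct.rid A _ (F.toFun' (MvPolynomial (Fin m ⊕ Fin m) S)
      (x0 S g + w0 S g * Algebra.TensorProduct.map (cHom (A := A) S m) (AlgHom.id A B) z)) -
    TensorProduct.rid A _ (F.toFun' (MvPolynomial (Fin m ⊕ Fin m) S) (x0 S g))

theorem mem_kerBC_iff_delta (F : B →ₚₗ[A] A) {m : ℕ} (g : Fin m → B)
    (hg : Submodule.span A (Set.range g) = ⊤) (S : Type u) [CommRing S] [Algebra A S]
    (z : S ⊗[A] B) :
    z ∈ PolLaw.kerBC F S ↔ delta F g S z = 0 := by
  rw [mem_kerBC_iff_univ F g hg, delta, sub_eq_zero]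
  exact ((TensorProduct.rid A _).injective.eq_iff).symm

theorem map_delta (F : B →ₚₗ[A] A) {m : ℕ} (g : Fin m → B) {S S' : Type u} [CommRing S]
    [Algebra A S] [CommRing S'] [Algebra A S'] (φ : S →ₐ[A] S') (z : S ⊗[A] B) :
    delta F g S' (Algebra.TensorProduct.map φ (AlgHom.id A B) z) =
      MvPolynomial.map (φ : S →+* S') (delta F g S z) := by
  have h1 : x0 S' g + w0 S' g * Algebra.TensorProduct.map (cHom (A := A) S' m) (AlgHom.id A B)
      (Algebra.TensorProduct.map φ (AlgHom.id A B) z) =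
      Algebra.TensorProduct.map (mapAlgHom (σ := Fin m ⊕ Fin m) φ) (AlgHom.id A B)
        (x0 S g + w0 S g * Algebra.TensorProduct.map (cHom (A := A) S m) (AlgHom.id A B) z) := by
    rw [map_add, map_mul, map_x0, map_w0, map_map_apply, map_map_apply, mapAlgHom_comp_cHom]
  rw [delta, h1, ← map_x0 φ g, compat', compat', delta, map_sub]
  rfl

end Groth.Agent.Lib.helper22.KerBCUniv
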