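import Mathlib

set_option autoImplicit false

noncomputable section

namespace Groth.Agent.Lib.helper22.KummerEt

open MvPolynomial

universe u

/-- The Kummer algebra `A[T_1, …, T_r]/(T_i^{n_i} - f_i)` (same expression as the prelude's
`SGA1.kummerAlg`). -/
abbrev KAlg (A : Type u) [CommRing A] {r : ℕ} (f : Fin r → A) (n : Fin r → ℕ) : Type u :=
  MvPolynomial (Fin r) A ⧸ Ideal.span (Set.range fun i => (MvPolynomial.X i : MvPolynomial (Fin r) A) ^ n i - MvPolynomial.C (f i))

variable (R : Type u) [CommRing R] {r : ℕ} (u : Fin r → R) (n : Fin r → ℕ)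

/-- The naive pre-submersive presentation of the Kummer algebra. -/
def pre : Algebra.PreSubmersivePresentation R (KAlg R u n) (Fin r) (Fin r) :=
  Algebra.PreSubmersivePresentation.naive (v := fun i => (MvPolynomial.X i : MvPolynomial (Fin r) R) ^ n i - MvPolynomial.C (u i)) id Function.injective_id

theorem pre_jacobiMatrix :
    (pre R u n).jacobiMatrix = Matrix.diagonal (fun j => (n j : MvPolynomial (Fin r) R) * X j ^ (n j - 1)) := by
  ext i j
  rw [pre, Algebra.PreSubmersivePresentation.jacobiMatrix_naive, Matrix.diagonal_apply]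
  simp only [id, map_sub, pderiv_C, sub_zero]
  rw [pderiv_pow, pderiv_X]
  by_cases h : i = j
  · subst h
    simp
  · rw [if_neg h, Pi.single_eq_of_ne (Ne.symm h)]
    simp

theorem pre_val (i : Fin r) : (pre R u n).val i = Ideal.Quotient.mk _ (X i) := rfl

theorem pre_jacobian :
    (pre R u n).jacobian = ∏ j, ((n j : KAlg R u n) * (Ideal.Quotient.mk _ (X j)) ^ (n j - 1)) := by
  rw [Algebra.PreSubmersivePresentation.jacobian_eq_jacobiMatrix_det, pre_jacobiMatrix,
    Matrix.det_diagonal, map_prod]
  refine Finset.prod_congr rfl (fun j _ => ?_)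
  rw [map_mul, map_pow, map_natCast]
  rfl

theorem mk_X_pow (i : Fin r) : (Ideal.Quotient.mk _ (X i) : KAlg R u n) ^ n i = algebraMap R (KAlg R u n) (u i) := by
  rw [← map_pow, ← sub_eq_zero]
  have : algebraMap R (KAlg R u n) (u i) = Ideal.Quotient.mk _ (C (u i)) := rfl
  rw [this, ← map_sub, Ideal.Quotient.eq_zero_iff_mem]
  exact Ideal.subset_span ⟨i, rfl⟩

/-- **Kummer algebras of units with invertible exponents are étale.** -/
theorem etale (hu : ∀ i, IsUnit (u i)) (hn : ∀ i, 1 ≤ n i) (hnu : ∀ i, IsUnit ((n i : ℕ) : R)) :
    Algebra.Etale R (KAlg R u n) := by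
  have hjac : IsUnit (pre R u n).jacobian := by
    rw [pre_jacobian]
    rw [IsUnit.prod_iff]  -- each factor is a unit
    intro j _
    refine IsUnit.mul ?_ (IsUnit.pow _ ?_)
    · have := (hnu j).map (algebraMap R (KAlg R u n))
      rwa [map_natCast] at this
    · have h1 : IsUnit ((Ideal.Quotient.mk _ (X j) : KAlg R u n) ^ n j) := by
        rw [mk_X_pow]
        exact (hu j).map _
      exact (isUnit_pow_iff (Nat.one_le_iff_ne_zero.1 (hn j))).1 h1
  let P : Algebra.SubmersivePresentation R (KAlg R u n) (Fin r) (Fin r) := ⟨pre R u n, hjac⟩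
  have : Algebra.IsStandardSmoothOfRelativeDimension 0 R (KAlg R u n) :=
    P.isStandardSmoothOfRelativeDimension (by simp [Algebra.Presentation.dimension])
  infer_instance

section Away

variable (A : Type u) [CommRing A] {r : ℕ} (f : Fin r → A) (n : Fin r → ℕ) (g : A)

/-- `A' → A_g[T]/(T^n - f)`. -/
def psi0 : KAlg A f n →+* KAlg (Localization.Away g) (fun i => algebraMap A (Localization.Away g) (f i)) n :=
  Ideal.Quotient.lift _ ((Ideal.Quotient.mk _).comp (MvPolynomial.map (algebraMap A (Localization.Away g))))
    (by
      intro a ha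
      have hle : Ideal.span (Set.range fun i => (MvPolynomial.X i : MvPolynomial (Fin r) A) ^ n i - MvPolynomial.C (f i)) ≤
          RingHom.ker ((Ideal.Quotient.mk (Ideal.span (Set.range fun i => (MvPolynomial.X i : MvPolynomial (Fin r) (Localization.Away g)) ^ n i - MvPolynomial.C (algebraMap A (Localization.Away g) (f i))))).comp
            (MvPolynomial.map (algebraMap A (Localization.Away g)))) := by
        rw [Ideal.span_le]
        rintro _ ⟨i, rfl⟩
        rw [SetLike.mem_coe, RingHom.mem_ker, RingHom.comp_apply, Ideal.Quotient.eq_zero_iff_mem]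
        refine Ideal.subset_span ⟨i, ?_⟩
        simp
      exact hle ha)

theorem psi0_mk (p : MvPolynomial (Fin r) A) :
    psi0 A f n g (Ideal.Quotient.mk _ p) =
      Ideal.Quotient.mk _ (MvPolynomial.map (algebraMap A (Localization.Away g)) p) := rfl

theorem psi0_algebraMap (a : A) :
    psi0 A f n g (algebraMap A (KAlg A f n) a) =
      algebraMap (Localization.Away g) (KAlg (Localization.Away g) (fun i => algebraMap A (Localization.Away g) (f i)) n)
        (algebraMap A (Localization.Away g) a) := by
  have : algebraMap A (KAlg A f n) a = Ideal.Quotient.mk _ (C a) := rfl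
  rw [this, psi0_mk, MvPolynomial.map_C]
  rfl

/-- `A'[1/g] → A_g[T]/(T^n - f)`. -/
def psi : Localization.Away (algebraMap A (KAlg A f n) g) →+*
    KAlg (Localization.Away g) (fun i => algebraMap A (Localization.Away g) (f i)) n :=
  IsLocalization.Away.lift (algebraMap A (KAlg A f n) g) (g := psi0 A f n g) (by
    rw [psi0_algebraMap]
    exact (IsLocalization.Away.algebraMap_isUnit g).map _)

theorem psi_algebraMap (x : KAlg A f n) :
    psi A f n g (algebraMap (KAlg A f n) (Localization.Away (algebraMap A (KAlg A f n) g)) x) =
      psi0 A f n g x := by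
  rw [psi, IsLocalization.Away.lift_eq]

end Away

section Away2

variable (A : Type u) [CommRing A] {r : ℕ} (f : Fin r → A) (n : Fin r → ℕ) (g : A)

set_option maxHeartbeats 1600000 in
/-- **The Kummer algebra becomes étale after inverting an element making the `f_i` and the `n_i`
invertible.** -/
theorem etale_away (hu : ∀ i, IsUnit (algebraMap A (Localization.Away g) (f i)))
    (hn : ∀ i, 1 ≤ n i) (hnu : ∀ i, IsUnit ((n i : ℕ) : Localization.Away g)) :
    letI := (Localization.awayMap (algebraMap A (KAlg A f n)) g).toAlgebra
    Algebra.Etale (Localization.Away g) (Localization.Away (algebraMap A (KAlg A f n) g)) := by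
  letI : Algebra (Localization.Away g) (Localization.Away (algebraMap A (KAlg A f n) g)) :=
    (Localization.awayMap (algebraMap A (KAlg A f n)) g).toAlgebra
  have halg : ∀ a : A, algebraMap (Localization.Away g) (Localization.Away (algebraMap A (KAlg A f n) g))
      (algebraMap A (Localization.Away g) a) =
      algebraMap (KAlg A f n) (Localization.Away (algebraMap A (KAlg A f n) g)) (algebraMap A (KAlg A f n) a) :=
    by
    intro a
    show IsLocalization.Away.map (Localization.Away g)
      (Localization.Away (algebraMap A (KAlg A f n) g)) (algebraMap A (KAlg A f n)) g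
      (algebraMap A (Localization.Away g) a) = _
    unfold IsLocalization.Away.map
    rw [IsLocalization.map_eq]
  let φ0 : MvPolynomial (Fin r) (Localization.Away g) →ₐ[Localization.Away g]
      Localization.Away (algebraMap A (KAlg A f n) g) :=
    aeval (fun i => algebraMap (KAlg A f n) (Localization.Away (algebraMap A (KAlg A f n) g))
      (Ideal.Quotient.mk _ (X i)))
  have hφ0 : ∀ x ∈ Ideal.span (Set.range fun i => (MvPolynomial.X i : MvPolynomial (Fin r) (Localization.Away g)) ^ n i - MvPolynomial.C (algebraMap A (Localization.Away g) (f i))), φ0 x = 0 := by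
    intro x hx
    have hle : Ideal.span (Set.range fun i => (MvPolynomial.X i : MvPolynomial (Fin r) (Localization.Away g)) ^ n i - MvPolynomial.C (algebraMap A (Localization.Away g) (f i))) ≤
        RingHom.ker φ0.toRingHom := by
      rw [Ideal.span_le]
      rintro _ ⟨i, rfl⟩
      rw [SetLike.mem_coe, RingHom.mem_ker]
      show φ0 _ = 0
      rw [map_sub, map_pow]
      simp only [φ0, aeval_X, aeval_C]
      rw [halg, ← map_pow, mk_X_pow, sub_self]
    exact hle hx
  let φ : KAlg (Localization.Away g) (fun i => algebraMap A (Localization.Away g) (f i)) n →ₐ[Localization.Away g]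
      Localization.Away (algebraMap A (KAlg A f n) g) :=
    Ideal.Quotient.liftₐ _ φ0 hφ0
  have hφmk : ∀ p, φ (Ideal.Quotient.mk _ p) = φ0 p := fun p => rfl
  have hψc : ∀ a : Localization.Away g,
      psi A f n g (algebraMap (Localization.Away g) (Localization.Away (algebraMap A (KAlg A f n) g)) a) =
        algebraMap (Localization.Away g) (KAlg (Localization.Away g) (fun i => algebraMap A (Localization.Away g) (f i)) n) a := by
    intro a
    have := IsLocalization.ringHom_ext (Submonoid.powers g)
      (j := (psi A f n g).comp (algebraMap (Localization.Away g) (Localization.Away (algebraMap A (KAlg A f n) g))))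
      (k := algebraMap (Localization.Away g) (KAlg (Localization.Away g) (fun i => algebraMap A (Localization.Away g) (f i)) n))
      (by
        ext a
        simp only [RingHom.comp_apply]
        rw [halg, psi_algebraMap, psi0_algebraMap])
    exact RingHom.congr_fun this a
  let ψ : Localization.Away (algebraMap A (KAlg A f n) g) →ₐ[Localization.Away g]
      KAlg (Localization.Away g) (fun i => algebraMap A (Localization.Away g) (f i)) n :=
    { psi A f n g with commutes' := hψc }
  have hψ : ∀ x, ψ x = psi A f n g x := fun x => rfl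
  have h1 : φ.comp ψ = AlgHom.id _ _ := by
    apply AlgHom.coe_ringHom_injective
    apply IsLocalization.ringHom_ext (Submonoid.powers (algebraMap A (KAlg A f n) g))
    apply Ideal.Quotient.ringHom_ext
    apply MvPolynomial.ringHom_ext
    · intro a
      simp only [RingHom.comp_apply, AlgHom.coe_toRingHom, AlgHom.comp_apply, AlgHom.id_apply]
      rw [hψ, psi_algebraMap, psi0_mk, MvPolynomial.map_C, hφmk]
      simp only [φ0, aeval_C]
      rw [halg]
      rfl
    · intro i
      simp only [RingHom.comp_apply, AlgHom.coe_toRingHom, AlgHom.comp_apply, AlgHom.id_apply]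
      rw [hψ, psi_algebraMap, psi0_mk, MvPolynomial.map_X, hφmk]
      simp only [φ0, aeval_X]
  have h2 : ψ.comp φ = AlgHom.id _ _ := by
    apply Ideal.Quotient.algHom_ext
    apply MvPolynomial.algHom_ext
    intro i
    simp only [AlgHom.comp_apply, AlgHom.id_apply, Ideal.Quotient.mkₐ_eq_mk]
    rw [hφmk]
    simp only [φ0, aeval_X]
    rw [hψ, psi_algebraMap, psi0_mk, MvPolynomial.map_X]
  let e : KAlg (Localization.Away g) (fun i => algebraMap A (Localization.Away g) (f i)) n ≃ₐ[Localization.Away g]
      Localization.Away (algebraMap A (KAlg A f n) g) := AlgEquiv.ofAlgHom φ ψ h1 h2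
  haveI := etale (Localization.Away g) (fun i => algebraMap A (Localization.Away g) (f i)) n hu hn hnu
  exact Algebra.Etale.of_equiv e

end Away2

end Groth.Agent.Lib.helper22.KummerEt
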