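import Mathlib
import Groth.Agent.Lib.Helper24.Tower2

set_option autoImplicit false

noncomputable section

namespace Groth.Agent.Lib.helper22.Kummer

open MvPolynomial IsLocalRing

universe u


section Dim

variable {R S : Type*} [CommRing R] [CommRing S]

/-- (after helper1's `IntegralDim`) -/
theorem comap_strictMono (φ : R →+* S) (hφ : φ.IsIntegral) :
    StrictMono (PrimeSpectrum.comap φ) := by
  letI := φ.toAlgebra
  haveI : Algebra.IsIntegral R S := ⟨hφ⟩
  intro p q hpq
  haveI := p.isPrime
  exact Ideal.IsIntegral.comap_lt_comap (R := R) (I := p.asIdeal) (J := q.asIdeal) hpq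

theorem ringKrullDim_le_of_isIntegral (φ : R →+* S) (hφ : φ.IsIntegral) :
    ringKrullDim S ≤ ringKrullDim R :=
  Order.krullDim_le_of_strictMono _ (comap_strictMono φ hφ)

theorem coheight_comap_eq (φ : R →+* S) (hφ : φ.IsIntegral) (q : PrimeSpectrum S) :
    Order.coheight q = Order.coheight (PrimeSpectrum.comap φ q) := by
  refine Order.coheight_eq_of_strictMono _ (comap_strictMono φ hφ) ?_ q
  intro q p hlt
  letI := φ.toAlgebra
  haveI : Algebra.IsIntegral R S := ⟨hφ⟩
  haveI := q.isPrime
  haveI := p.isPrime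
  obtain ⟨Q, hQ, hQp, hQc⟩ :=
    Ideal.exists_ideal_over_prime_of_isIntegral_of_isPrime p.asIdeal q.asIdeal hlt.le
  have hQe : PrimeSpectrum.comap φ ⟨Q, hQp⟩ = p := PrimeSpectrum.ext hQc
  refine ⟨⟨Q, hQp⟩, lt_of_le_of_ne hQ ?_, hQe⟩
  rintro rfl
  rw [hQe] at hlt
  exact lt_irrefl _ hlt

theorem ringKrullDim_eq_of_isIntegral_of_surjective (φ : R →+* S) (hφ : φ.IsIntegral)
    (hs : Function.Surjective (PrimeSpectrum.comap φ)) :
    ringKrullDim S = ringKrullDim R := by
  refine le_antisymm (ringKrullDim_le_of_isIntegral φ hφ) ?_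
  unfold ringKrullDim
  rw [Order.krullDim_eq_iSup_coheight, Order.krullDim_eq_iSup_coheight]
  refine iSup_le fun p => ?_
  obtain ⟨q, rfl⟩ := hs p
  rw [← coheight_comap_eq φ hφ q]
  exact le_iSup (fun q : PrimeSpectrum S => ((Order.coheight q : ℕ∞) : WithBot ℕ∞)) q

end Dim

/-- The Kummer algebra `A[T_1, …, T_r]/(T_i^{n_i} - f_i)` (same expression as the prelude's
`SGA1.kummerAlg`). -/
abbrev KAlg (A : Type u) [CommRing A] {r : ℕ} (f : Fin r → A) (n : Fin r → ℕ) : Type u :=
  MvPolynomial (Fin r) A ⧸ Ideal.span (Set.range fun i => (MvPolynomial.X i : MvPolynomial (Fin r) A) ^ n i - MvPolynomial.C (f i))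

variable (A : Type u) [CommRing A] {r : ℕ} (f : Fin r → A) (n : Fin r → ℕ)

/-- The class of `T_i`. -/
def T (i : Fin r) : KAlg A f n := Ideal.Quotient.mk _ (X i)

theorem T_pow (i : Fin r) : T A f n i ^ n i = algebraMap A (KAlg A f n) (f i) := by
  rw [T, ← map_pow, ← sub_eq_zero]
  have : algebraMap A (KAlg A f n) (f i) = Ideal.Quotient.mk _ (C (f i)) := rfl
  rw [this, ← map_sub, Ideal.Quotient.eq_zero_iff_mem]
  exact Ideal.subset_span ⟨i, rfl⟩

/-- The tower datum. -/
def datum : Helper24.Tower.Datum A (Fin r) where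
  d := n
  c j e := if e = 0 then - C (f j) else 0
  hc j e := by
    split_ifs
    · exact Subalgebra.neg_mem _ (Subalgebra.algebraMap_mem _ _)
    · exact Subalgebra.zero_mem _

theorem datum_F (hn : ∀ i, 1 ≤ n i) (j : Fin r) :
    (datum A f n).F j = X j ^ n j - C (f j) := by
  unfold Helper24.Tower.Datum.F Helper24.Tower.monicIn
  simp only [datum]
  rw [Finset.sum_eq_single 0]
  · simp [sub_eq_add_neg]
  · intro b _ hb
    simp [hb]
  · intro h
    exact absurd (Finset.mem_range.2 (hn j)) h

theorem datum_I (hn : ∀ i, 1 ≤ n i) :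
    (datum A f n).I = Ideal.span (Set.range fun i => (MvPolynomial.X i : MvPolynomial (Fin r) A) ^ n i - MvPolynomial.C (f i)) := by
  unfold Helper24.Tower.Datum.I
  congr 1
  congr 1
  funext j
  exact datum_F A f n hn j

theorem flat (hn : ∀ i, 1 ≤ n i) : Module.Flat A (KAlg A f n) := by
  have h := (datum A f n).flat
  rw [datum_I A f n hn] at h
  exact h

theorem isIntegral_T (hn : ∀ i, 1 ≤ n i) (i : Fin r) : IsIntegral A (T A f n i) := by
  refine ⟨Polynomial.X ^ n i - Polynomial.C (f i),
    Polynomial.monic_X_pow_sub_C _ (Nat.one_le_iff_ne_zero.1 (hn i)), ?_⟩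
  simp [T_pow]

theorem adjoin_T : Algebra.adjoin A (Set.range (T A f n)) = ⊤ := by
  rw [eq_top_iff]
  rintro x -
  obtain ⟨p, rfl⟩ := Ideal.Quotient.mk_surjective x
  induction p using MvPolynomial.induction_on with
  | C a => exact Subalgebra.algebraMap_mem _ a
  | add p q hp hq => rw [map_add]; exact Subalgebra.add_mem _ hp hq
  | mul_X p i hp =>
    rw [map_mul]
    exact Subalgebra.mul_mem _ hp (Algebra.subset_adjoin ⟨i, rfl⟩)

theorem isIntegral (hn : ∀ i, 1 ≤ n i) : Algebra.IsIntegral A (KAlg A f n) := by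
  refine ⟨fun x => ?_⟩
  have hx : x ∈ Algebra.adjoin A (Set.range (T A f n)) := by rw [adjoin_T]; trivial
  refine IsIntegral.of_mem_of_fg _ ?_ x hx
  exact fg_adjoin_of_finite (Set.finite_range _) (by rintro _ ⟨i, rfl⟩; exact isIntegral_T A f n hn i)

theorem finite (hn : ∀ i, 1 ≤ n i) : Module.Finite A (KAlg A f n) := by
  rw [Module.finite_def]
  have := fg_adjoin_of_finite (Set.finite_range (T A f n))
    (by rintro _ ⟨i, rfl⟩; exact isIntegral_T A f n hn i)
  rwa [adjoin_T] at this

section Local

variable [IsLocalRing A] (hm : ∀ i, f i ∈ maximalIdeal A) (hn : ∀ i, 1 ≤ n i)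

include hm hn in
theorem chi_aux : Ideal.span (Set.range fun i => (MvPolynomial.X i : MvPolynomial (Fin r) A) ^ n i - MvPolynomial.C (f i)) ≤
    RingHom.ker (eval₂Hom (residue A) (fun _ : Fin r => (0 : ResidueField A))) := by
  rw [Ideal.span_le]
  rintro _ ⟨i, rfl⟩
  rw [SetLike.mem_coe, RingHom.mem_ker, map_sub, map_pow]
  simp only [coe_eval₂Hom, eval₂_X, eval₂_C]
  rw [zero_pow (Nat.one_le_iff_ne_zero.1 (hn i)), zero_sub, neg_eq_zero, residue_eq_zero_iff]
  exact hm i

/-- The residue character `T_i ↦ 0`. -/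
def chi : KAlg A f n →+* ResidueField A :=
  Ideal.Quotient.lift _ (eval₂Hom (residue A) (fun _ : Fin r => (0 : ResidueField A)))
    (fun _ ha => chi_aux A f n hm hn ha)

theorem chi_mk (p : MvPolynomial (Fin r) A) :
    chi A f n hm hn (Ideal.Quotient.mk _ p) = residue A (constantCoeff p) := by
  rw [chi, Ideal.Quotient.lift_mk]
  induction p using MvPolynomial.induction_on with
  | C a => simp
  | add p q hp hq => rw [map_add, hp, hq, map_add, map_add]
  | mul_X p i hp => simp

theorem chi_surjective : Function.Surjective (chi A f n hm hn) := by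
  intro y
  obtain ⟨a, rfl⟩ := residue_surjective y
  exact ⟨Ideal.Quotient.mk _ (C a), by rw [chi_mk]; simp⟩

omit [IsLocalRing A] in
/-- Every element is a constant modulo the `T_i`. -/
theorem mk_sub_const_mem (p : MvPolynomial (Fin r) A) :
    (Ideal.Quotient.mk _ p : KAlg A f n) - algebraMap A (KAlg A f n) (constantCoeff p) ∈
      Ideal.span (Set.range (T A f n)) := by
  induction p using MvPolynomial.induction_on with
  | C a =>
    have : (Ideal.Quotient.mk _ (C a) : KAlg A f n) = algebraMap A (KAlg A f n) a := rfl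
    simp [this]
  | add p q hp hq =>
    rw [map_add, map_add, map_add, add_sub_add_comm]
    exact Ideal.add_mem _ hp hq
  | mul_X p i hp =>
    rw [map_mul, map_mul, constantCoeff_X, mul_zero, map_zero, sub_zero]
    exact Ideal.mul_mem_left _ _ (Ideal.subset_span ⟨i, rfl⟩)

variable {A f n} in
include hm hn in
/-- `A'` is local with maximal ideal generated by the `T_i` and generators of the maximal ideal of
`A` other than the `f_i`. -/
theorem local_and_maximalIdeal (S : Set A)
    (hS : Ideal.span (Set.range f ∪ S) = maximalIdeal A) :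
    ∃ _ : IsLocalRing (KAlg A f n), maximalIdeal (KAlg A f n) =
      Ideal.span (Set.range (T A f n) ∪ algebraMap A (KAlg A f n) '' S) := by
  set J : Ideal (KAlg A f n) := Ideal.span (Set.range (T A f n) ∪ algebraMap A (KAlg A f n) '' S)
    with hJ
  have hint : Algebra.IsIntegral A (KAlg A f n) := isIntegral A f n hn
  have hTJ : ∀ i, T A f n i ∈ J := fun i => Ideal.subset_span (Or.inl ⟨i, rfl⟩)
  -- (i) the kernel of `chi` lies in `J`
  have h1 : RingHom.ker (chi A f n hm hn) ≤ J := by
    intro x hx
    obtain ⟨p, rfl⟩ := Ideal.Quotient.mk_surjective x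
    rw [RingHom.mem_ker, chi_mk, residue_eq_zero_iff, ← hS] at hx
    have h2 : algebraMap A (KAlg A f n) (constantCoeff p) ∈ J := by
      have := Ideal.mem_map_of_mem (algebraMap A (KAlg A f n)) hx
      rw [Ideal.map_span] at this
      refine Ideal.span_le.2 ?_ this
      rintro _ ⟨a, (⟨i, rfl⟩ | ha), rfl⟩
      · rw [← T_pow]
        exact Ideal.pow_mem_of_mem _ (hTJ i) _ (hn i)
      · exact Ideal.subset_span (Or.inr ⟨a, ha, rfl⟩)
    have h3 := mk_sub_const_mem A f n p
    have h4 : Ideal.span (Set.range (T A f n)) ≤ J := Ideal.span_mono Set.subset_union_left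
    have := J.add_mem (h4 h3) h2
    rwa [sub_add_cancel] at this
  -- (ii) `J` lies in every maximal ideal
  have h2 : ∀ M : Ideal (KAlg A f n), M.IsMaximal → J ≤ M := by
    intro M hM
    have hcm : (M.comap (algebraMap A (KAlg A f n))).IsMaximal :=
      Ideal.isMaximal_comap_of_isIntegral_of_isMaximal M
    have hcm' := IsLocalRing.eq_maximalIdeal hcm
    have hmem : ∀ a ∈ maximalIdeal A, algebraMap A (KAlg A f n) a ∈ M := by
      intro a ha
      rw [← hcm'] at ha
      exact ha
    rw [hJ, Ideal.span_le]
    rintro _ (⟨i, rfl⟩ | ⟨a, ha, rfl⟩)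
    · have := hmem _ (hm i)
      rw [← T_pow] at this
      exact hM.isPrime.mem_of_pow_mem _ this
    · refine hmem a ?_
      rw [← hS]
      exact Ideal.subset_span (Or.inr ha)
  have hker : (RingHom.ker (chi A f n hm hn)).IsMaximal :=
    RingHom.ker_isMaximal_of_surjective _ (chi_surjective A f n hm hn)
  have h3 : ∀ M : Ideal (KAlg A f n), M.IsMaximal → M = RingHom.ker (chi A f n hm hn) := by
    intro M hM
    exact (hker.eq_of_le hM.ne_top (h1.trans (h2 M hM))).symm
  have hloc : IsLocalRing (KAlg A f n) :=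
    IsLocalRing.of_unique_max_ideal ⟨_, hker, fun M hM => h3 M hM⟩
  refine ⟨hloc, ?_⟩
  have h4 : maximalIdeal (KAlg A f n) = RingHom.ker (chi A f n hm hn) :=
    h3 _ (maximalIdeal.isMaximal _)
  rw [h4]
  exact le_antisymm h1 (h2 _ hker)

end Local

section Regular

variable {A f n}

/-- Extend elements of the maximal ideal with linearly independent classes in the cotangent space
to a minimal system of generators. -/
theorem exists_generators [IsLocalRing A] [IsNoetherianRing A] (hm : ∀ i, f i ∈ maximalIdeal A)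
    (hf : LinearIndependent (ResidueField A)
      (fun i => (maximalIdeal A).toCotangent ⟨f i, hm i⟩)) :
    ∃ (k : ℕ) (g : Fin k → A), r + k = (maximalIdeal A).spanFinrank ∧
      Ideal.span (Set.range f ∪ Set.range g) = maximalIdeal A := by
  classical
  set v : Fin r → CotangentSpace A := fun i => (maximalIdeal A).toCotangent ⟨f i, hm i⟩ with hv
  set W : Submodule (ResidueField A) (CotangentSpace A) :=
    Submodule.span (ResidueField A) (Set.range v) with hW
  obtain ⟨W', hW'⟩ := Submodule.exists_isCompl W
  let b := Module.finBasis (ResidueField A) W'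
  choose g0 hg0 using fun j => (maximalIdeal A).toCotangent_surjective (b j : CotangentSpace A)
  refine ⟨Module.finrank (ResidueField A) W', fun j => (g0 j : A), ?_, ?_⟩
  · rw [spanFinrank_maximalIdeal_eq_finrank_cotangentSpace,
      ← Submodule.finrank_add_eq_of_isCompl hW', hW, finrank_span_eq_card hf, Fintype.card_fin]
  · let s : Set (maximalIdeal A) := Set.range (fun i => (⟨f i, hm i⟩ : maximalIdeal A)) ∪ Set.range g0
    have hs : Submodule.span (ResidueField A) ((maximalIdeal A).toCotangent '' s) = ⊤ := by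
      rw [Set.image_union, Submodule.span_union, ← Set.range_comp, ← Set.range_comp]
      have e1 : ((maximalIdeal A).toCotangent ∘ fun i => (⟨f i, hm i⟩ : maximalIdeal A)) = v := rfl
      have e2 : ((maximalIdeal A).toCotangent ∘ g0) = fun j => (b j : CotangentSpace A) :=
        funext hg0
      have e3 : Submodule.span (ResidueField A) (Set.range fun j => (b j : CotangentSpace A)) = W' := by
        have : (Set.range fun j => (b j : CotangentSpace A)) = W'.subtype '' Set.range b := by
          rw [← Set.range_comp]; rfl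
        rw [this, ← Submodule.map_span, b.span_eq, Submodule.map_top, Submodule.range_subtype]
      rw [e1, e2, e3]
      exact hW'.sup_eq_top
    have hs' := CotangentSpace.span_image_eq_top_iff.1 hs
    have := congrArg (Submodule.map (maximalIdeal A).subtype) hs'
    rw [Submodule.map_span, Submodule.map_top, Submodule.range_subtype] at this
    have e : (Set.range f ∪ Set.range fun j => (g0 j : A)) = (maximalIdeal A).subtype '' s := by
      ext x
      simp only [s, Set.mem_union, Set.mem_range, Set.mem_image, Submodule.coe_subtype]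
      constructor
      · rintro (⟨i, rfl⟩ | ⟨j, rfl⟩)
        · exact ⟨_, Or.inl ⟨i, rfl⟩, rfl⟩
        · exact ⟨_, Or.inr ⟨j, rfl⟩, rfl⟩
      · rintro ⟨y, (⟨i, rfl⟩ | ⟨j, rfl⟩), rfl⟩
        · exact Or.inl ⟨i, rfl⟩
        · exact Or.inr ⟨j, rfl⟩
    rw [e]
    exact this

/-- **The Kummer algebra of part of a regular system of parameters is a regular local ring.** -/
theorem isRegularLocalRing [IsRegularLocalRing A] (hm : ∀ i, f i ∈ maximalIdeal A)
    (hf : LinearIndependent (ResidueField A)
      (fun i => (maximalIdeal A).toCotangent ⟨f i, hm i⟩))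
    (hn : ∀ i, 1 ≤ n i) : IsRegularLocalRing (KAlg A f n) := by
  classical
  obtain ⟨k, g, hk, hg⟩ := exists_generators hm hf
  obtain ⟨hloc, hmax⟩ := local_and_maximalIdeal hm hn (Set.range g) hg
  have hint : Algebra.IsIntegral A (KAlg A f n) := isIntegral A f n hn
  have hflat : Module.Flat A (KAlg A f n) := flat A f n hn
  -- the structure map is local
  have hlh : IsLocalHom (algebraMap A (KAlg A f n)) := by
    refine ((IsLocalRing.local_hom_TFAE (algebraMap A (KAlg A f n))).out 0 2).2 ?_
    rw [hmax, ← hg, Ideal.map_span, Ideal.span_le]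
    rintro _ ⟨a, (⟨i, rfl⟩ | ha), rfl⟩
    · rw [← T_pow]
      have hTi : T A f n i ∈
          Ideal.span (Set.range (T A f n) ∪ algebraMap A (KAlg A f n) '' Set.range g) :=
        Ideal.subset_span (Or.inl ⟨i, rfl⟩)
      exact Ideal.pow_mem_of_mem _ hTi _ (hn i)
    · exact Ideal.subset_span (Or.inr ⟨a, ha, rfl⟩)
  have hff : Module.FaithfullyFlat A (KAlg A f n) := Module.FaithfullyFlat.of_flat_of_isLocalHom
  have hdim : ringKrullDim (KAlg A f n) = ringKrullDim A :=
    ringKrullDim_eq_of_isIntegral_of_surjective (algebraMap A (KAlg A f n))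
      (algebraMap_isIntegral_iff.2 hint) PrimeSpectrum.comap_surjective_of_faithfullyFlat
  apply IsRegularLocalRing.of_spanFinrank_maximalIdeal_le
  rw [hdim, ← IsRegularLocalRing.spanFinrank_maximalIdeal, ← hk, hmax]
  have hfin : (Set.range (T A f n) ∪ algebraMap A (KAlg A f n) '' Set.range g).Finite :=
    (Set.finite_range _).union ((Set.finite_range _).image _)
  have h1 : (Ideal.span (Set.range (T A f n) ∪ algebraMap A (KAlg A f n) '' Set.range g)).spanFinrank
      ≤ (Set.range (T A f n) ∪ algebraMap A (KAlg A f n) '' Set.range g).ncard :=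
    Submodule.spanFinrank_span_le_ncard_of_finite hfin
  have h2 : (Set.range (T A f n) ∪ algebraMap A (KAlg A f n) '' Set.range g).ncard ≤ r + k := by
    refine (Set.ncard_union_le _ _).trans (add_le_add ?_ ?_)
    · have : Set.range (T A f n) = ↑(Finset.univ.image (T A f n)) := by
        rw [Finset.coe_image, Finset.coe_univ, Set.image_univ]
      rw [this, Set.ncard_coe_finset]
      exact Finset.card_image_le.trans (by simp)
    · rw [← Set.range_comp]
      have : Set.range (algebraMap A (KAlg A f n) ∘ g) =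
          ↑(Finset.univ.image (algebraMap A (KAlg A f n) ∘ g)) := by
        rw [Finset.coe_image, Finset.coe_univ, Set.image_univ]
      rw [this, Set.ncard_coe_finset]
      exact Finset.card_image_le.trans (by simp)
  exact_mod_cast h1.trans h2

end Regular

end Groth.Agent.Lib.helper22.Kummer
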