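import Groth.Prelude.Def_DeRham
import Groth.Agent.Lib.Helper22.DeRhamGen
import Groth.Agent.S19632
import Mathlib

/-! De Rham cohomology of `G_m = Spec k[T, T⁻¹]`, char zero (helper22). -/

set_option autoImplicit false
universe u

open exteriorPower LaurentPolynomial

namespace Groth.Agent.Lib.helper22.LaurentDR

variable (k : Type u) [Field k]

local notation "A" => LaurentPolynomial k
local notation "E" => Groth.Agent.S19632.euler k

theorem euler_T (n : ℤ) : E (T n : A) = (n : k) • (T n : A) := by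
  change Groth.Agent.S19632.eulerLin k (AddMonoidAlgebra.single n 1) = _
  rw [Groth.Agent.S19632.eulerLin_single, mul_one]
  change _ = (n : k) • (AddMonoidAlgebra.single n (1 : k) : A)
  rw [AddMonoidAlgebra.smul_single, smul_eq_mul, mul_one]

variable {k}

theorem der_eq_zero {N : Type*} [AddCommGroup N] [Module A N] [Module k N] [IsScalarTower k A N]
    (δ : Derivation k A N) (h : δ (T 1) = 0) (f : A) : δ f = 0 := by
  have hnat : ∀ n : ℕ, δ (T (n : ℤ)) = 0 := by
    intro n
    induction n with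
    | zero => rw [Nat.cast_zero, T_zero]; exact δ.map_one_eq_zero
    | succ n ih => rw [Nat.cast_succ, T_add, Derivation.leibniz, ih, h, smul_zero, smul_zero, add_zero]
  have hneg : ∀ n : ℕ, δ (T (-(n : ℤ))) = 0 := by
    intro n
    have h1 : (T (-(n : ℤ)) : A) * T (n : ℤ) = 1 := by rw [← T_add, neg_add_cancel, T_zero]
    have h2 := congrArg δ h1
    rw [Derivation.leibniz, hnat, smul_zero, zero_add, Derivation.map_one_eq_zero] at h2
    have h3 := congrArg (fun x => (T (-(n : ℤ)) : A) • x) h2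
    simp only [smul_smul, h1, one_smul, smul_zero] at h3
    exact h3
  have hT : ∀ n : ℤ, δ (T n) = 0 := by
    intro n
    rcases Int.eq_nat_or_neg n with ⟨m, rfl | rfl⟩
    · exact hnat m
    · exact hneg m
  induction f using LaurentPolynomial.induction_on' with
  | add p q hp hq => rw [map_add, hp, hq, add_zero]
  | C_mul_T n a =>
    rw [Derivation.leibniz, hT, smul_zero, zero_add]
    have : (C a : A) = algebraMap k A a := rfl
    rw [this, Derivation.map_algebraMap, smul_zero]

variable (k)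

/-- `D f = (T⁻¹ · E f) • D T`. -/
theorem D_eq (f : A) : KaehlerDifferential.D k A f =
    (T (-1) * E f) • KaehlerDifferential.D k A (T 1) := by
  let δ₂ : Derivation k A (Ω[A⁄k]) :=
    (LinearMap.toSpanSingleton A (Ω[A⁄k]) (KaehlerDifferential.D k A (T 1))).compDer
      ((T (-1) : A) • E)
  have h : (KaehlerDifferential.D k A - δ₂) (T 1) = 0 := by
    rw [Derivation.sub_apply]
    change _ - (T (-1) * E (T 1)) • KaehlerDifferential.D k A (T 1) = 0
    rw [euler_T, Int.cast_one, one_smul, ← T_add, neg_add_cancel, T_zero, one_smul, sub_self]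
  have := der_eq_zero (KaehlerDifferential.D k A - δ₂) h f
  rw [Derivation.sub_apply, sub_eq_zero] at this
  rw [this]
  rfl

theorem euler_C_mul_T (n : ℤ) (c : k) : E (C c * T n : A) = C ((n : k) * c) * T n := by
  rw [← single_eq_C_mul_T, ← single_eq_C_mul_T]
  exact Groth.Agent.S19632.eulerLin_single k n c

theorem span_D_T : Submodule.span A {KaehlerDifferential.D k A (T 1)} = ⊤ := by
  rw [eq_top_iff, ← KaehlerDifferential.span_range_derivation k A, Submodule.span_le]
  rintro _ ⟨f, rfl⟩
  rw [SetLike.mem_coe, D_eq k f]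
  exact Submodule.smul_mem (Submodule.span A {KaehlerDifferential.D k A (T 1)}) _
    (Submodule.subset_span rfl)

theorem extPow_eq_zero (i : ℕ) (x : ↥(⋀[A]^(i + 2) (Ω[A⁄k]))) : x = 0 := by
  have h := ιMulti_span_of_span A (i + 2) (Ω[A⁄k]) (span_D_T k)
  have hx : x ∈ (⊤ : Submodule A ↥(⋀[A]^(i + 2) (Ω[A⁄k]))) := trivial
  rw [← h] at hx
  have hle : Submodule.span A (ιMulti A (i + 2) '' {a : Fin (i + 2) → Ω[A⁄k] |
      Set.range a ⊆ {KaehlerDifferential.D k A (T 1)}}) ≤ ⊥ := by
    rw [Submodule.span_le]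
    rintro _ ⟨a, ha, rfl⟩
    have h0 : a 0 = KaehlerDifferential.D k A (T 1) := ha ⟨0, rfl⟩
    have h1 : a 1 = KaehlerDifferential.D k A (T 1) := ha ⟨1, rfl⟩
    exact (ιMulti A (i + 2)).map_eq_zero_of_eq a (h0.trans h1.symm) (by simp)
  exact (Submodule.mem_bot A).mp (hle hx)

/-- Every `f dT` is exact plus a multiple of `T⁻¹ dT`. -/
theorem smul_D_T_mem [CharZero k] (f : A) :
    f • KaehlerDifferential.D k A (T 1) ∈
      LinearMap.range ((KaehlerDifferential.D k A : A →ₗ[k] Ω[A⁄k])) ⊔
        Submodule.span k {(T (-1) : A) • KaehlerDifferential.D k A (T 1)} := by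
  induction f using LaurentPolynomial.induction_on' with
  | add p q hp hq => rw [add_smul]; exact Submodule.add_mem _ hp hq
  | C_mul_T n a =>
    by_cases hn : n = -1
    · subst hn
      refine Submodule.mem_sup_right ?_
      have : (C a * T (-1) : A) • KaehlerDifferential.D k A (T 1) =
          a • ((T (-1) : A) • KaehlerDifferential.D k A (T 1)) := by
        rw [mul_smul]
        have : (C a : A) = algebraMap k A a := rfl
        rw [this, algebraMap_smul]
      rw [this]
      exact Submodule.smul_mem _ _ (Submodule.subset_span rfl)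
    · refine Submodule.mem_sup_left ⟨C (a / ((n : k) + 1)) * T (n + 1), ?_⟩
      have hn' : ((n : k) + 1) ≠ 0 := by
        have : ((n + 1 : ℤ) : k) ≠ 0 := by
          rw [Int.cast_ne_zero]
          omega
        simpa using this
      change KaehlerDifferential.D k A (C (a / ((n : k) + 1)) * T (n + 1)) = _
      rw [D_eq, euler_C_mul_T]
      congr 1
      rw [mul_left_comm, ← T_add]
      congr 2
      · push_cast
        rw [mul_div_cancel₀ _ hn']
      · ring

/-- The residue functional on 1-forms. -/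
noncomputable def res : ↥(⋀[A]^1 (Ω[A⁄k])) →ₗ[k] k :=
  Finsupp.lapply (0 : ℤ) ∘ₗ (AddMonoidAlgebra.coeffLinearEquiv k).toLinearMap ∘ₗ
    ((E).liftKaehlerDifferential.restrictScalars k) ∘ₗ
    ((oneEquiv A (Ω[A⁄k])).restrictScalars k).toLinearMap

theorem res_apply (x : ↥(⋀[A]^1 (Ω[A⁄k]))) :
    res k x = ((E).liftKaehlerDifferential (oneEquiv A (Ω[A⁄k]) x)).coeff 0 := rfl

theorem main [CharZero k]
    (d : ∀ p : ℕ, ↥(⋀[A]^p (Ω[A⁄k])) →ₗ[k] ↥(⋀[A]^(p + 1) (Ω[A⁄k])))
    (hd : DeRham.IsDiff (KaehlerDifferential.D k A) d) :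
    DeRham.cocycles d 1 = ⊤ ∧
    IsCompl (DeRham.coboundaries d 1)
      (Submodule.span k {DeRham.gen (KaehlerDifferential.D k A) 1 (T (-1)) (fun _ => T 1)}) ∧
    DeRham.gen (KaehlerDifferential.D k A) 1 (T (-1)) (fun _ => T 1) ∉ DeRham.coboundaries d 1 ∧
    ∀ i : ℕ, DeRham.cocycles d (i + 2) ≤ DeRham.coboundaries d (i + 2) := by
  set ω₀ := DeRham.gen (KaehlerDifferential.D k A) 1 (T (-1)) (fun _ => T 1) with hω₀
  have h1 : oneEquiv A (Ω[A⁄k]) ω₀ = (T (-1) : A) • KaehlerDifferential.D k A (T 1) := by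
    rw [hω₀, DeRham.gen, map_smul, oneEquiv_ιMulti]
  have hd0 : ∀ g : A, ∀ b : Fin 0 → A, oneEquiv A (Ω[A⁄k]) (d 0 (DeRham.gen
      (KaehlerDifferential.D k A) 0 g b)) = KaehlerDifferential.D k A g := by
    intro g b
    rw [hd.1 0 g b, oneEquiv_ιMulti, Fin.cons_zero]
  have hres0 : ∀ x, res k (d 0 x) = 0 := by
    intro x
    induction x using Groth.Agent.Lib.helper22.DeRhamGen.kaehler_gen_induction with
    | zero => simp
    | add x y hx hy => rw [map_add, map_add, hx, hy, add_zero]
    | gen b₀ b =>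
      rw [res_apply, hd0, Derivation.liftKaehlerDifferential_comp_D]
      have := Groth.Agent.S19632.eulerLin_coeff k b₀ 0
      rw [Int.cast_zero, zero_mul] at this
      exact this
  have hres1 : res k ω₀ = 1 := by
    rw [res_apply, h1, map_smul, Derivation.liftKaehlerDifferential_comp_D, euler_T, Int.cast_one,
      one_smul, smul_eq_mul, ← T_add, neg_add_cancel, T_zero]
    simp
  have hnot : ω₀ ∉ DeRham.coboundaries d 1 := by
    rintro ⟨x, hx⟩
    have := hres0 x
    rw [hx, hres1] at this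
    exact one_ne_zero this
  refine ⟨?_, ⟨?_, ?_⟩, hnot, ?_⟩
  · rw [eq_top_iff]
    intro x _
    exact extPow_eq_zero k 0 (d 1 x)
  · rw [Submodule.disjoint_def]
    intro x hx1 hx2
    obtain ⟨y, rfl⟩ := hx1
    obtain ⟨c, hc⟩ := Submodule.mem_span_singleton.mp hx2
    have := hres0 y
    rw [← hc, map_smul, hres1, smul_eq_mul, mul_one] at this
    rw [← hc, this, zero_smul]
  · rw [codisjoint_iff, eq_top_iff]
    intro ω _
    obtain ⟨f, hf⟩ := Submodule.mem_span_singleton.mp
      (show oneEquiv A (Ω[A⁄k]) ω ∈ Submodule.span A {KaehlerDifferential.D k A (T 1)} by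
        rw [span_D_T]; trivial)
    have hmem := smul_D_T_mem k f
    rw [hf] at hmem
    obtain ⟨u, ⟨g, rfl⟩, v, hv, huv⟩ := Submodule.mem_sup.mp hmem
    obtain ⟨c, rfl⟩ := Submodule.mem_span_singleton.mp hv
    have : ω = d 0 (DeRham.gen (KaehlerDifferential.D k A) 0 g (fun i => i.elim0)) + c • ω₀ := by
      apply (oneEquiv A (Ω[A⁄k])).injective
      rw [map_add, hd0, ← algebraMap_smul A c ω₀, map_smul, h1, algebraMap_smul, ← huv]
      rfl
    rw [this]
    exact Submodule.add_mem_sup ⟨_, rfl⟩ (Submodule.smul_mem _ _ (Submodule.subset_span rfl))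
  · intro i x _
    rw [extPow_eq_zero k i x]
    exact zero_mem _

end Groth.Agent.Lib.helper22.LaurentDR
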