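import Groth.Prelude.Def_DeRham
import Mathlib

/-! Contraction and Lie derivative on exterior powers, on de Rham generators (helper22). -/

set_option autoImplicit false
universe v u

open exteriorPower

namespace Groth.Agent.Lib.helper22.LieDer

variable {R : Type v} {S M : Type u} [CommRing R] [CommRing S] [Algebra R S]
  [AddCommGroup M] [Module S M] [Module R M] [IsScalarTower R S M]

/-- Contraction with a linear form. -/
noncomputable def contr (φ : M →ₗ[S] S) (p : ℕ) : ⋀[S]^(p + 1) M →ₗ[S] ⋀[S]^p M :=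
  alternatingMapLinearEquiv (AlternatingMap.alternatizeUncurryFin (φ.smulRight (ιMulti S p)))

omit [Module R M] in
theorem contr_ιMulti (φ : M →ₗ[S] S) (p : ℕ) (u : Fin (p + 1) → M) :
    contr φ p (ιMulti S (p + 1) u) =
      ∑ j : Fin (p + 1), (-1) ^ (j : ℕ) • (φ (u j) • ιMulti S p (j.removeNth u)) := by
  unfold contr
  rw [alternatingMapLinearEquiv_apply_ιMulti, AlternatingMap.alternatizeUncurryFin_apply]
  rfl

omit [Module R M] in
theorem cons_removeNth (p : ℕ) (j : Fin (p + 1)) (u : Fin (p + 1) → M) :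
    (-1) ^ (j : ℕ) • ιMulti S (p + 1) (Fin.cons (u j) (j.removeNth u)) = ιMulti S (p + 1) u := by
  have h := AlternatingMap.neg_one_pow_smul_map_insertNth (ιMulti S (p + 1) (M := M)) j (u j)
    (j.removeNth u)
  rw [Fin.insertNth_self_removeNth] at h
  have h2 := congrArg (fun z => (-1 : ℤ) ^ (j : ℕ) • z) h
  simp only [smul_smul] at h2
  rw [← pow_add, Even.neg_one_pow ⟨_, rfl⟩, one_smul] at h2
  exact h2.symm

/-- `x ↦ x ∧ v₁ ∧ … ∧ v_p` as a linear map. -/
noncomputable def consL (p : ℕ) (v : Fin p → M) : M →ₗ[S] ⋀[S]^(p + 1) M where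
  toFun x := ιMulti S (p + 1) (Fin.cons x v)
  map_add' x y := (ιMulti S (p + 1)).toMultilinearMap.cons_add v x y
  map_smul' c x := (ιMulti S (p + 1)).toMultilinearMap.cons_smul v c x

omit [Module R M] in
theorem consL_apply (p : ℕ) (v : Fin p → M) (x : M) :
    consL (S := S) p v x = ιMulti S (p + 1) (Fin.cons x v) := rfl

section Lie

variable (δ : Derivation R S M) (d : ∀ p : ℕ, ⋀[S]^p M →ₗ[R] ⋀[S]^(p + 1) M)
  (hd : DeRham.IsRule δ d) (φ : M →ₗ[S] S)

theorem contr_gen (p : ℕ) (b₀ : S) (b : Fin (p + 1) → S) :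
    contr φ p (DeRham.gen δ (p + 1) b₀ b) =
      ∑ j : Fin (p + 1), (-1) ^ (j : ℕ) • DeRham.gen δ p (b₀ * φ (δ (b j))) (j.removeNth b) := by
  unfold DeRham.gen
  rw [map_smul, contr_ιMulti, Finset.smul_sum]
  refine Finset.sum_congr rfl fun j _ => ?_
  rw [smul_comm b₀, smul_smul]
  rfl

include hd in
/-- The Lie derivative on an eigen-generator, positive degree. -/
theorem lie_gen_succ (p : ℕ) (b₀ : S) (b : Fin (p + 1) → S) (n₀ : ℕ) (n : Fin (p + 1) → ℕ)
    (h₀ : φ (δ b₀) = n₀ • b₀) (h : ∀ j, φ (δ (b j)) = n j • b j) :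
    d p (contr φ p (DeRham.gen δ (p + 1) b₀ b)) +
      contr φ (p + 1) (d (p + 1) (DeRham.gen δ (p + 1) b₀ b)) =
      (n₀ + ∑ j, n j) • DeRham.gen δ (p + 1) b₀ b := by
  set w := ιMulti S (p + 1) (fun i => δ (b i)) with hw
  have hG : DeRham.gen δ (p + 1) b₀ b = b₀ • w := rfl
  have key1 : ∀ j : Fin (p + 1), d p (DeRham.gen δ p (b₀ * φ (δ (b j))) (j.removeNth b)) =
      n j • (b₀ • consL p (j.removeNth fun i => δ (b i)) (δ (b j)) +
        b j • consL p (j.removeNth fun i => δ (b i)) (δ b₀)) := by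
    intro j
    rw [hd p]
    change consL p (j.removeNth fun i => δ (b i)) (δ (b₀ * φ (δ (b j)))) = _
    rw [h j, mul_smul_comm, map_nsmul, Derivation.leibniz, map_nsmul, map_add, map_smul, map_smul]
  have key2 : contr φ (p + 1) (d (p + 1) (DeRham.gen δ (p + 1) b₀ b)) =
      n₀ • (b₀ • w) - ∑ j : Fin (p + 1), (-1) ^ (j : ℕ) •
        (n j • (b j • consL p (j.removeNth fun i => δ (b i)) (δ b₀))) := by
    rw [hd (p + 1), contr_ιMulti, Fin.sum_univ_succ]
    have h0 : (0 : Fin (p + 1 + 1)).removeNth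
        (Fin.cons (δ b₀) (fun i => δ (b i)) : Fin (p + 1 + 1) → M) = fun i => δ (b i) := by
      rw [Fin.removeNth_zero, Fin.tail_cons]
    rw [h0]
    simp only [Fin.val_zero, pow_zero, one_smul, Fin.cons_zero, Fin.cons_succ, Fin.val_succ]
    rw [h₀, sub_eq_add_neg, ← Finset.sum_neg_distrib, smul_assoc]
    congr 1
    refine Finset.sum_congr rfl fun j _ => ?_
    have hj : (j.succ).removeNth (Fin.cons (δ b₀) (fun i => δ (b i)) : Fin (p + 1 + 1) → M) =
        Fin.cons (δ b₀) (j.removeNth fun i => δ (b i)) :=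
      Fin.cons_comp_succ_succAbove (δ b₀) (fun i => δ (b i)) j
    rw [hj, pow_succ, mul_neg, mul_one, neg_smul, h j, smul_assoc, consL_apply]
  have key3 : ∀ j : Fin (p + 1),
      (-1) ^ (j : ℕ) • consL p (j.removeNth fun i => δ (b i)) (δ (b j)) = w := by
    intro j
    exact cons_removeNth p j (fun i => δ (b i))
  rw [contr_gen, map_sum, key2]
  simp_rw [map_zsmul, key1, smul_add, Finset.sum_add_distrib]
  have e1 : ∀ j : Fin (p + 1), (-1) ^ (j : ℕ) •
      n j • b₀ • consL p (j.removeNth fun i => δ (b i)) (δ (b j)) = n j • (b₀ • w) := by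
    intro j
    rw [smul_comm ((-1 : ℤ) ^ (j : ℕ)) (n j), smul_comm ((-1 : ℤ) ^ (j : ℕ)) b₀, key3]
  simp_rw [e1]
  rw [hG, add_smul, Finset.sum_smul]
  abel

include hd in
/-- The Lie derivative on an eigen-generator, degree zero. -/
theorem lie_gen_zero (b₀ : S) (b : Fin 0 → S) (n₀ : ℕ) (h₀ : φ (δ b₀) = n₀ • b₀) :
    contr φ 0 (d 0 (DeRham.gen δ 0 b₀ b)) = n₀ • DeRham.gen δ 0 b₀ b := by
  rw [hd 0, contr_ιMulti, Fin.sum_univ_succ]
  simp only [Fin.val_zero, pow_zero, one_smul, Fin.cons_zero, Finset.univ_eq_empty,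
    Finset.sum_empty, add_zero]
  rw [h₀, smul_assoc]
  congr 2

end Lie

section Operator

variable {V : Type*} [AddCommGroup V] [Module R V] [Algebra ℚ R]

/-- `∏_{N=1}^{M} (1 - L/N)`. -/
noncomputable def Pop (L : V →ₗ[R] V) : ℕ → (V →ₗ[R] V)
  | 0 => LinearMap.id
  | M + 1 => (LinearMap.id - algebraMap ℚ R (1 / ((M : ℚ) + 1)) • L) ∘ₗ Pop L M

theorem Pop_eigen (L : V →ₗ[R] V) (g : V) (N : ℕ) (hg : L g = N • g) (M : ℕ) :
    ∃ c : R, Pop L M g = c • g ∧ (N = 0 → c = 1) ∧ (1 ≤ N → N ≤ M → c = 0) := by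
  induction M with
  | zero => exact ⟨1, by simp [Pop], fun _ => rfl, fun h1 h2 => by omega⟩
  | succ M ih =>
    obtain ⟨c, hc, hc0, hc1⟩ := ih
    refine ⟨c * (1 - (N : R) * algebraMap ℚ R (1 / ((M : ℚ) + 1))), ?_, ?_, ?_⟩
    · simp only [Pop, LinearMap.comp_apply, hc, LinearMap.sub_apply, LinearMap.id_apply,
        LinearMap.smul_apply, map_smul, hg]
      rw [← Nat.cast_smul_eq_nsmul R N g, smul_smul]
      nth_rewrite 1 [← one_smul R g]
      rw [← sub_smul, smul_smul]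
      congr 1
      ring
    · intro h0
      rw [hc0 h0, h0]
      simp
    · intro h1 h2
      rcases Nat.lt_or_ge N (M + 1) with h3 | h3
      · rw [hc1 h1 (by omega), zero_mul]
      · have hN : N = M + 1 := le_antisymm h2 h3
        have : (N : R) * algebraMap ℚ R (1 / ((M : ℚ) + 1)) = 1 := by
          rw [hN]
          have : ((M + 1 : ℕ) : R) = algebraMap ℚ R ((M : ℚ) + 1) := by
            rw [map_add, map_one, map_natCast]; push_cast; rfl
          rw [this, ← map_mul, mul_one_div_cancel (by positivity), map_one]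
        rw [this, sub_self, mul_zero]

theorem Pop_mem (L : V →ₗ[R] V) (K E : Submodule R V) (hK : ∀ y ∈ K, L y ∈ K)
    (hE : ∀ y ∈ K, L y ∈ E) (M : ℕ) (y : V) (hy : y ∈ K) :
    Pop L M y ∈ K ∧ y - Pop L M y ∈ E := by
  induction M with
  | zero => simp [Pop, hy]
  | succ M ih =>
    obtain ⟨h1, h2⟩ := ih
    simp only [Pop, LinearMap.comp_apply, LinearMap.sub_apply, LinearMap.id_apply,
      LinearMap.smul_apply]
    refine ⟨K.sub_mem h1 (K.smul_mem _ (hK _ h1)), ?_⟩
    have : y - (Pop L M y - algebraMap ℚ R (1 / ((M : ℚ) + 1)) • L (Pop L M y)) =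
        (y - Pop L M y) + algebraMap ℚ R (1 / ((M : ℚ) + 1)) • L (Pop L M y) := by abel
    rw [this]
    exact E.add_mem h2 (E.smul_mem _ (hE _ h1))

end Operator

end Groth.Agent.Lib.helper22.LieDer
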