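import Mathlib
import Groth.Agent.Lib.Helper22.FieldTwist

/-!
# Restricting an endomorphism of the fraction field to the integral closure (helper22)

`exists_ringEquiv_extends`: `B ⊆ A` integral extension of domains, `A` integrally closed,
`[Frac A : Frac B]` prime, `φ : B ≃+* B`. A field endomorphism of `Frac A` inducing `φ` on
`Frac B` restricts to an automorphism of `A` extending `φ`.
-/

set_option autoImplicit false

namespace Groth.Agent.Lib.helper22.LiftCase1
universe u v w

section
variable {B : Type u} {A : Type v} [CommRing B] [CommRing A] [IsDomain B] [IsDomain A]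
  [IsIntegrallyClosed A] [Algebra B A] [FaithfulSMul B A] [Algebra.IsIntegral B A]

attribute [local instance] FractionRing.liftAlgebra

theorem exists_ringEquiv_extends (φ : B ≃+* B)
    (hp : (Module.finrank (FractionRing B) (FractionRing A)).Prime)
    (ψL : FractionRing A →+* FractionRing A)
    (hψ : ∀ x : FractionRing B, ψL (algebraMap (FractionRing B) (FractionRing A) x) =
      algebraMap (FractionRing B) (FractionRing A) (IsFractionRing.ringEquivOfRingEquiv φ x)) :
    ∃ ψ : A ≃+* A, ∀ b : B, ψ (algebraMap B A b) = algebraMap B A (φ b) := by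
  classical
  have hι : Function.Injective (algebraMap A (FractionRing A)) :=
    IsFractionRing.injective A (FractionRing A)
  have key1 : ∀ b : B, ψL (algebraMap B (FractionRing A) b) =
      algebraMap B (FractionRing A) (φ b) := by
    intro b
    rw [IsScalarTower.algebraMap_apply B (FractionRing B) (FractionRing A), hψ,
      IsFractionRing.ringEquivOfRingEquiv_algebraMap,
      ← IsScalarTower.algebraMap_apply B (FractionRing B) (FractionRing A)]
  have key2 : ∀ (φ' : B ≃+* B) (ψ' : FractionRing A →+* FractionRing A),
      (∀ b : B, ψ' (algebraMap B (FractionRing A) b) = algebraMap B (FractionRing A) (φ' b)) →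
      ∀ (f : Polynomial B) (y : FractionRing A),
        Polynomial.eval₂ (algebraMap B (FractionRing A)) (ψ' y) (f.map φ'.toRingHom) =
          ψ' (Polynomial.eval₂ (algebraMap B (FractionRing A)) y f) := by
    intro φ' ψ' h f y
    rw [Polynomial.eval₂_map, Polynomial.hom_eval₂]
    congr 1
    ext b
    exact (h b).symm
  have hint : ∀ a : A, IsIntegral B (ψL (algebraMap A (FractionRing A) a)) := by
    intro a
    obtain ⟨f, hfm, hf⟩ := Algebra.IsIntegral.isIntegral (R := B) a
    refine ⟨f.map φ.toRingHom, hfm.map _, ?_⟩
    rw [key2 φ ψL key1, IsScalarTower.algebraMap_eq B A (FractionRing A), ← Polynomial.hom_eval₂,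
      hf, map_zero, map_zero]
  have hmem : ∀ a : A, ψL (algebraMap A (FractionRing A) a) ∈
      (algebraMap A (FractionRing A)).range := by
    intro a
    exact IsIntegrallyClosed.isIntegral_iff.mp ((hint a).tower_top (A := A))
  let e : A ≃+* (algebraMap A (FractionRing A)).range :=
    RingEquiv.ofBijective (algebraMap A (FractionRing A)).rangeRestrict
      ⟨fun x y h => hι (congrArg Subtype.val h), (algebraMap A (FractionRing A)).rangeRestrict_surjective⟩
  let ψ₀ : A →+* A := e.symm.toRingHom.comp
    ((ψL.comp (algebraMap A (FractionRing A))).codRestrict _ hmem)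
  have hψ₀ : ∀ a, algebraMap A (FractionRing A) (ψ₀ a) = ψL (algebraMap A (FractionRing A) a) := by
    intro a
    have : e (ψ₀ a) = ((ψL.comp (algebraMap A (FractionRing A))).codRestrict _ hmem) a :=
      e.apply_symm_apply _
    exact congrArg Subtype.val this
  have hinj : Function.Injective ψ₀ := by
    intro a a' h
    apply hι
    apply ψL.injective
    rw [← hψ₀, ← hψ₀, h]
  have hψLs : Function.Surjective ψL := FieldTwist.surjective_of_extends _ hp ψL hψ
  have hsurj : Function.Surjective ψ₀ := by
    intro a
    obtain ⟨l, hl⟩ := hψLs (algebraMap A (FractionRing A) a)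
    have hlint : IsIntegral B l := by
      obtain ⟨f, hfm, hf⟩ := Algebra.IsIntegral.isIntegral (R := B) a
      refine ⟨f.map φ.symm.toRingHom, hfm.map _, ?_⟩
      apply ψL.injective
      rw [map_zero, ← key2 φ ψL key1, hl, Polynomial.map_map]
      have : φ.toRingHom.comp φ.symm.toRingHom = RingHom.id B := by
        ext b; simp
      rw [this, Polynomial.map_id, IsScalarTower.algebraMap_eq B A (FractionRing A),
        ← Polynomial.hom_eval₂, hf, map_zero]
    obtain ⟨a', ha'⟩ := IsIntegrallyClosed.isIntegral_iff.mp (hlint.tower_top (A := A))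
    refine ⟨a', hι ?_⟩
    rw [hψ₀, ha', hl]
  refine ⟨RingEquiv.ofBijective ψ₀ ⟨hinj, hsurj⟩, fun b => hι ?_⟩
  show algebraMap A (FractionRing A) (ψ₀ (algebraMap B A b)) = _
  rw [hψ₀, ← IsScalarTower.algebraMap_apply, key1, IsScalarTower.algebraMap_apply B A (FractionRing A)]

end

end Groth.Agent.Lib.helper22.LiftCase1
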