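import Mathlib
import Groth.Agent.Lib.Helper22.InertiaGen

/-!
# Purity and residue field extensions (helper22)

`exists_isGalois_of_trivial_inertia`: let `R` be a regular local ring with a coefficient field
`k`, `D` a normal local domain finite over `R`, and `H` a group of prime order `p` acting
faithfully on `D` with invariants `R` and trivial inertia at all primes of height at most one.
Then (by Zariski–Nagata purity `D/R` is étale, hence) the residue field of `D` is a Galois
extension of `k` of degree `p`.
-/

set_option autoImplicit false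

namespace Groth.Agent.Lib.helper22.PurityGal
universe u v w w'
open IsLocalRing

attribute [local instance] Ideal.Quotient.field

/-- Galois descends along a surjection of base fields -/
theorem isGalois_of_surjective (k : Type*) (F : Type*) (E : Type*) [Field k] [Field F] [Field E]
    [Algebra k F] [Algebra F E] [Algebra k E] [IsScalarTower k F E] [FiniteDimensional F E]
    [IsGalois F E] (hs : Function.Surjective (algebraMap k F)) :
    FiniteDimensional k E ∧ IsGalois k E ∧ Module.finrank k E = Module.finrank F E := by
  have hbij : Function.Bijective (Algebra.linearMap k F) :=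
    ⟨(algebraMap k F).injective, hs⟩
  have h1 : Module.finrank k F = 1 := by
    rw [← (LinearEquiv.ofBijective _ hbij).finrank_eq, Module.finrank_self]
  haveI : Module.Finite k F := Module.finite_of_finrank_pos (by rw [h1]; exact one_pos)
  haveI : FiniteDimensional k E := Module.Finite.trans F E
  have h2 : Module.finrank k E = Module.finrank F E := by
    rw [← Module.finrank_mul_finrank k F E, h1, one_mul]
  refine ⟨inferInstance, ?_, h2⟩
  apply IsGalois.of_card_aut_eq_finrank
  apply le_antisymm
  · rw [Nat.card_eq_fintype_card]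
    exact AlgEquiv.card_le
  · rw [h2, ← IsGalois.card_aut_eq_finrank F E]
    exact Nat.card_le_card_of_injective (AlgEquiv.restrictScalars k)
      (AlgEquiv.restrictScalars_injective k)

theorem exists_isGalois_of_trivial_inertia
    (p : ℕ) [Fact p.Prime]
    (R : Type u) [CommRing R] [IsRegularLocalRing R]
    (k : Type v) [Field k] [Algebra k R]
    (hk : Function.Surjective (residue R ∘ algebraMap k R))
    (D : Type w) [CommRing D] [IsDomain D] [IsIntegrallyClosed D] [IsLocalRing D] [Algebra R D]
    [Module.Finite R D] (hinj : Function.Injective (algebraMap R D))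
    (H : Type w') [Group H] [Finite H] (hH : Nat.card H = p) [MulSemiringAction H D]
    [SMulCommClass H R D] [FaithfulSMul H D]
    (hfix : ∀ d : D, (∀ h : H, h • d = d) → d ∈ Set.range (algebraMap R D))
    (hram : ∀ Q : Ideal D, Q.IsPrime → Q.height ≤ 1 → Q.inertia H = ⊥) :
    ∃ (k' : Type v) (_ : Field k') (_ : Algebra k k'),
      IsGalois k k' ∧ Module.finrank k k' = p := by
  classical
  haveI : Algebra.IsInvariant R D H := ⟨fun d hd => hfix d hd⟩
  have hUn : PurityInd.UnramCodimOne R D := by
    intro Q _ hQ
    exact InertiaUnram.isUnramifiedAt_of_inertia_eq_bot H Q (hram Q inferInstance hQ)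
  haveI : Algebra.Etale R D := PurityInd.etale_of_unramCodimOne hinj hUn
  haveI : FaithfulSMul R D := (faithfulSMul_iff_algebraMap_injective R D).mpr hinj
  haveI : Algebra.IsIntegral R D := Algebra.IsIntegral.of_finite R D
  haveI : IsLocalHom (algebraMap R D) := inferInstance
  haveI hlies : (maximalIdeal D).LiesOver (maximalIdeal R) :=
    ⟨(((local_hom_TFAE (algebraMap R D)).out 0 4 rfl rfl).mp inferInstance).symm⟩
  -- the residue field extension
  haveI : Algebra.FormallyUnramified D (D ⧸ maximalIdeal D) := .quotient _
  haveI : Algebra.FormallyUnramified R (D ⧸ maximalIdeal D) := .comp R D _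
  haveI : Algebra.FormallyUnramified (R ⧸ maximalIdeal R) (D ⧸ maximalIdeal D) :=
    .of_restrictScalars R _ _
  haveI : Module.Finite R (D ⧸ maximalIdeal D) := inferInstance
  haveI : Module.Finite (R ⧸ maximalIdeal R) (D ⧸ maximalIdeal D) :=
    Module.Finite.of_restrictScalars_finite R _ _
  haveI : Algebra.IsSeparable (R ⧸ maximalIdeal R) (D ⧸ maximalIdeal D) :=
    Algebra.FormallyUnramified.isSeparable _ _
  haveI : Normal (R ⧸ maximalIdeal R) (D ⧸ maximalIdeal D) :=
    Ideal.Quotient.normal H (maximalIdeal R) (maximalIdeal D)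
  haveI : IsGalois (R ⧸ maximalIdeal R) (D ⧸ maximalIdeal D) := ⟨⟩
  have hsurj := Ideal.Quotient.stabilizerHom_surjective H (maximalIdeal R) (maximalIdeal D)
  have hcard : Module.finrank (R ⧸ maximalIdeal R) (D ⧸ maximalIdeal D) ∣ p := by
    rw [← IsGalois.card_aut_eq_finrank, ← hH]
    exact (Subgroup.card_dvd_of_surjective _ hsurj).trans (Subgroup.card_subgroup_dvd_card _)
  have hne1 : Module.finrank (R ⧸ maximalIdeal R) (D ⧸ maximalIdeal D) ≠ 1 := by
    intro h1
    have hres : Function.Surjective (residue D ∘ algebraMap R D) := by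
      intro z
      change D ⧸ maximalIdeal D at z
      have hz : z ∈ (⊥ : Subalgebra (R ⧸ maximalIdeal R) (D ⧸ maximalIdeal D)) := by
        rw [Subalgebra.bot_eq_top_of_finrank_eq_one h1]
        trivial
      obtain ⟨f, hf⟩ := Algebra.mem_bot.mp hz
      obtain ⟨r, rfl⟩ := Ideal.Quotient.mk_surjective f
      refine ⟨r, ?_⟩
      rw [← hf, Ideal.Quotient.algebraMap_mk_of_liesOver]
      rfl
    have hN : ∀ P : Ideal D, P.IsPrime → P.height ≤ 1 → P.inertia H ≤ (⊥ : Subgroup H) :=
      fun P hP hht => le_of_eq (hram P hP hht)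
    have := InertiaGen.eq_top_of_inertia_le R D hinj hres H hfix ⊥ hN
    have h2 : Nat.card H = 1 := by
      rw [← Subgroup.card_top (G := H), ← this, Subgroup.card_bot]
    rw [hH] at h2
    exact (Fact.out : p.Prime).one_lt.ne' h2
  have hfr : Module.finrank (R ⧸ maximalIdeal R) (D ⧸ maximalIdeal D) = p :=
    ((Nat.dvd_prime Fact.out).mp hcard).resolve_left hne1
  -- transfer to `k`
  letI : Algebra k D := ((algebraMap R D).comp (algebraMap k R)).toAlgebra
  haveI : IsScalarTower k R D := IsScalarTower.of_algebraMap_eq (fun _ => rfl)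
  haveI : IsScalarTower k (R ⧸ maximalIdeal R) (D ⧸ maximalIdeal D) :=
    IsScalarTower.of_algebraMap_eq (fun c => by
      show Ideal.Quotient.mk (maximalIdeal D) (algebraMap R D (algebraMap k R c)) =
        algebraMap (R ⧸ maximalIdeal R) (D ⧸ maximalIdeal D)
          (Ideal.Quotient.mk (maximalIdeal R) (algebraMap k R c))
      rw [Ideal.Quotient.algebraMap_mk_of_liesOver])
  have hs : Function.Surjective (algebraMap k (R ⧸ maximalIdeal R)) := hk
  obtain ⟨hfd, hgal, hfr'⟩ :=
    isGalois_of_surjective k (R ⧸ maximalIdeal R) (D ⧸ maximalIdeal D) hs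
  haveI := hfd
  haveI := hgal
  haveI : Small.{v} (D ⧸ maximalIdeal D) := by
    obtain ⟨m, f, hf⟩ := Module.Finite.exists_fin' k (D ⧸ maximalIdeal D)
    exact small_of_surjective hf
  let e : Shrink.{v} (D ⧸ maximalIdeal D) ≃ₐ[k] (D ⧸ maximalIdeal D) := Shrink.algEquiv k _
  refine ⟨Shrink.{v} (D ⧸ maximalIdeal D), inferInstance, inferInstance, ?_, ?_⟩
  · exact IsGalois.of_algEquiv e.symm
  · rw [e.toLinearEquiv.finrank_eq, hfr', hfr]

end Groth.Agent.Lib.helper22.PurityGal
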