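import Mathlib
import Groth.Agent.Lib.Helper24.SopPS
import Groth.Agent.Lib.Helper24.RedFib5
import Groth.Agent.Lib.Helper22.InertiaUnram
import Groth.Agent.Lib.Helper9.PurityFlat
import Groth.Agent.Lib.Helper22.Coprod
import Groth.Agent.Lib.Helper22.InertiaGen
import Groth.Agent.Lib.Helper26.RegularNormal

/-!
# Invariants of a finite group acting on a complete regular local ring, wild case (helper22)

* `exists_invariant_parameters`: finitely many invariants in the maximal ideal generating an
  `m`-primary ideal.
* `exists_ps_finite`: a complete Noetherian local ring with coefficient field `K` is finite over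
  `K[[X₁..Xᵣ]]` via `Xᵢ ↦ cᵢ` for `(c₁..cᵣ)` primary to the maximal ideal.
* `smul_ps_eq`: the image of such a map is invariant when the `cᵢ` and `K` are.
* `exists_complete_finite`, `fixedPoints_structure`: `A^G` is a complete Noetherian local ring and `A`
  is finite over it.
* `exists_away_formallyUnramified`: unramified at all primes over `q` ⇒ unramified over a basic open
  neighbourhood of `q`.
* `not_flat_fixedPoints`: `A` is not flat over `A^G` when the action is free outside the closed point
  and `dim A ≥ 2`.
* `isIntegrallyClosed_fixedPoints_subring`.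
* `fixedPoints_main`: the package for a complete regular local ring.
-/

set_option autoImplicit false

namespace Groth.Agent.Lib.helper22.WildFin
universe u v w
open IsLocalRing

section
variable (A : Type u) [CommRing A] [IsLocalRing A] [IsNoetherianRing A]
  (G : Type w) [Group G] [Finite G] [MulSemiringAction G A]

/-- there are finitely many invariants in the maximal ideal generating an ideal primary to the
maximal ideal -/
theorem exists_invariant_parameters :
    ∃ (r : ℕ) (c : Fin r → A) (N : ℕ), (∀ i, c i ∈ maximalIdeal A) ∧
      (∀ i (σ : G), σ • c i = c i) ∧ maximalIdeal A ^ N ≤ Ideal.span (Set.range c) := by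
  classical
  haveI : Algebra.IsInvariant (FixedPoints.subring A G) A G := ⟨fun b hb => ⟨⟨b, hb⟩, rfl⟩⟩
  haveI : Algebra.IsIntegral (FixedPoints.subring A G) A :=
    Algebra.IsInvariant.isIntegral (FixedPoints.subring A G) A G
  set mC : Ideal (FixedPoints.subring A G) :=
    (maximalIdeal A).comap (algebraMap (FixedPoints.subring A G) A) with hmC
  haveI hmCmax : mC.IsMaximal := Ideal.isMaximal_comap_of_isIntegral_of_isMaximal _
  set I : Ideal A := mC.map (algebraMap (FixedPoints.subring A G) A) with hI
  have hIm : I ≤ maximalIdeal A := Ideal.map_comap_le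
  have hrad : maximalIdeal A ≤ I.radical := by
    rw [Ideal.radical_eq_sInf]
    apply le_sInf
    rintro Q ⟨hIQ, hQ⟩
    haveI := hQ
    have h1 : mC ≤ Q.comap (algebraMap (FixedPoints.subring A G) A) :=
      Ideal.map_le_iff_le_comap.mp hIQ
    have h2 : Q.comap (algebraMap (FixedPoints.subring A G) A) = mC :=
      (hmCmax.eq_of_le (Ideal.IsPrime.ne_top (Ideal.comap_isPrime _ _)) h1).symm
    have h3 : Q.IsMaximal := by
      apply Ideal.isMaximal_of_isIntegral_of_isMaximal_comap (R := FixedPoints.subring A G)
      rw [h2]; exact hmCmax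
    rw [IsLocalRing.eq_maximalIdeal h3]
  obtain ⟨N, hN⟩ := Ideal.exists_pow_le_of_le_radical_of_fg hrad
    (IsNoetherian.noetherian (maximalIdeal A))
  have hfg : I.FG := IsNoetherian.noetherian I
  rw [hI, Ideal.map] at hfg
  obtain ⟨s, hs, hspan⟩ := (Submodule.fg_span_iff_fg_span_finset_subset _).mp hfg
  refine ⟨s.card, fun i => (s.equivFin.symm i : A), N, ?_, ?_, ?_⟩
  · intro i
    have := hs (s.equivFin.symm i).2
    obtain ⟨x, hx, hxe⟩ := this
    show (s.equivFin.symm i : A) ∈ _
    rw [← hxe]
    exact hx
  · intro i σ
    have := hs (s.equivFin.symm i).2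
    obtain ⟨x, hx, hxe⟩ := this
    show σ • (s.equivFin.symm i : A) = (s.equivFin.symm i : A)
    rw [← hxe]
    exact x.2 σ
  · refine hN.trans ?_
    rw [hI, Ideal.map]
    show Submodule.span A _ ≤ _
    rw [hspan]
    apply Ideal.span_mono
    intro x hx
    exact ⟨s.equivFin ⟨x, hx⟩, by simp⟩

end

section
variable (A : Type u) [CommRing A] [IsLocalRing A] [IsNoetherianRing A]
  [IsAdicComplete (maximalIdeal A) A]

/-- a `K`-algebra map from a power series ring to a complete local ring sending the variables to
invariants has invariant image -/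
theorem smul_ps_eq (K : Type u) [Field K] [Algebra K A]
    (G : Type w) [Group G] [MulSemiringAction G A]
    (hGK : ∀ (σ : G) (a : K), σ • algebraMap K A a = algebraMap K A a)
    (r : ℕ) (c : Fin r → A) (hc : ∀ i, c i ∈ maximalIdeal A)
    (hcfix : ∀ i (σ : G), σ • c i = c i)
    (f : MvPowerSeries (Fin r) K →ₐ[K] A) (hf : ∀ i, f (MvPowerSeries.X i) = c i)
    (g : MvPowerSeries (Fin r) K) (σ : G) : σ • f g = f g := by
  classical
  let e := MvPowerSeries.toAdicCompletionAlgEquiv (Fin r) K
  -- `f` on polynomials
  have hfpoly : ∀ t : MvPolynomial (Fin r) K,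
      f (t : MvPowerSeries (Fin r) K) = MvPolynomial.aeval c t := by
    intro t
    have : f.comp (MvPolynomial.coeToMvPowerSeries.algHom K) = MvPolynomial.aeval c := by
      apply MvPolynomial.algHom_ext
      intro i
      simp [hf]
    exact congrArg (fun φ => φ t) this
  -- `σ` fixes the values on polynomials
  have hσpoly : ∀ t : MvPolynomial (Fin r) K,
      σ • MvPolynomial.aeval c t = MvPolynomial.aeval c t := by
    intro t
    let τ : A →ₐ[K] A :=
      { MulSemiringAction.toRingHom G A σ with commutes' := hGK σ }
    have : τ.comp (MvPolynomial.aeval c) = MvPolynomial.aeval c := by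
      apply MvPolynomial.algHom_ext
      intro i
      simp only [AlgHom.comp_apply, MvPolynomial.aeval_X]
      exact hcfix i σ
    exact congrArg (fun φ => φ t) this
  have hesymm : ∀ t : MvPolynomial (Fin r) K,
      e.symm (algebraMap (MvPolynomial (Fin r) K) _ t) = (t : MvPowerSeries (Fin r) K) := by
    intro t
    rw [AlgEquiv.symm_apply_eq, MvPowerSeries.toAdicCompletionAlgEquiv_apply,
      MvPowerSeries.toAdicCompletion_coe]
    rfl
  let h : AdicCompletion (MvPolynomial.idealOfVars (Fin r) K) (MvPolynomial (Fin r) K) →+* A :=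
    f.toRingHom.comp e.symm.toRingEquiv.toRingHom
  let h' : AdicCompletion (MvPolynomial.idealOfVars (Fin r) K) (MvPolynomial (Fin r) K) →+* A :=
    (MulSemiringAction.toRingHom G A σ).comp h
  have hh0 : ∀ t : MvPolynomial (Fin r) K, h (algebraMap _ _ t) = MvPolynomial.aeval c t := by
    intro t
    show f (e.symm _) = _
    rw [hesymm, hfpoly]
  have hh0' : ∀ t : MvPolynomial (Fin r) K, h' (algebraMap _ _ t) = MvPolynomial.aeval c t := by
    intro t
    show σ • h (algebraMap _ _ t) = _
    rw [hh0, hσpoly]
  have hmem : ∀ t ∈ MvPolynomial.idealOfVars (Fin r) K, MvPolynomial.aeval c t ∈ maximalIdeal A := by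
    intro t ht
    have h1 : (MvPolynomial.idealOfVars (Fin r) K).map (MvPolynomial.aeval c : _ →ₐ[K] A) ≤
        maximalIdeal A := by
      rw [Ideal.map_span, Ideal.span_le]
      rintro _ ⟨_, ⟨i, rfl⟩, rfl⟩
      simp only [AlgHom.coe_coe, MvPolynomial.aeval_X]
      exact hc i
    exact h1 (Ideal.mem_map_of_mem _ ht)
  have hh : ((MvPolynomial.idealOfVars (Fin r) K).map (algebraMap _ (AdicCompletion
      (MvPolynomial.idealOfVars (Fin r) K) (MvPolynomial (Fin r) K)))).map h ≤ maximalIdeal A := by
    rw [Ideal.map_map, Ideal.map_le_iff_le_comap]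
    intro t ht
    rw [Ideal.mem_comap, RingHom.comp_apply, hh0]
    exact hmem t ht
  have hh' : ((MvPolynomial.idealOfVars (Fin r) K).map (algebraMap _ (AdicCompletion
      (MvPolynomial.idealOfVars (Fin r) K) (MvPolynomial (Fin r) K)))).map h' ≤ maximalIdeal A := by
    rw [Ideal.map_map, Ideal.map_le_iff_le_comap]
    intro t ht
    rw [Ideal.mem_comap, RingHom.comp_apply, hh0']
    exact hmem t ht
  have key : h = h' := Groth.Agent.LibCR29.hom_ext_of_isHausdorff _
    (MvPolynomial.idealOfVars_fg (Fin r) K) (maximalIdeal A) h h' hh hh'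
    (fun t => (hh0 t).trans (hh0' t).symm)
  have h1 : h (e g) = h' (e g) := by rw [key]
  have h2 : h (e g) = f g := by
    show f (e.symm (e g)) = f g
    rw [AlgEquiv.symm_apply_apply]
  have h3 : h' (e g) = σ • f g := by
    show σ • h (e g) = _
    rw [h2]
  rw [← h3, ← h1, h2]

end

section
variable (A : Type u) [CommRing A] [IsLocalRing A] [IsNoetherianRing A]
  [IsAdicComplete (maximalIdeal A) A]

/-- a complete Noetherian local ring containing a field `K` mapping onto the residue field is
finite over the power series ring `K[[X₁..Xᵣ]]` via `Xᵢ ↦ cᵢ` when `(c₁..cᵣ)` is primary to the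
maximal ideal -/
theorem exists_ps_finite (K : Type u) [Field K] [Algebra K A]
    (hK : Function.Surjective (residue A ∘ algebraMap K A))
    (r : ℕ) (c : Fin r → A) (hc : ∀ i, c i ∈ maximalIdeal A) (N : ℕ)
    (hN : maximalIdeal A ^ N ≤ Ideal.span (Set.range c)) :
    ∃ f : MvPowerSeries (Fin r) K →ₐ[K] A, (∀ i, f (MvPowerSeries.X i) = c i) ∧
      IsLocalHom f.toRingHom ∧ f.toRingHom.Finite := by
  classical
  letI : Algebra K (ResidueField A) := ((residue A).comp (algebraMap K A)).toAlgebra
  let S : ArtFun.CRing K (ResidueField A) :=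
    { carrier := A
      res := { (residue A) with commutes' := fun r => rfl }
      res_surjective := IsLocalRing.residue_surjective
      isAdicComplete := inferInstance }
  obtain ⟨F, hF⟩ := Groth.Agent.LibCR29.exists_ps_algHom S r c hc
  let f : MvPowerSeries (Fin r) K →+* A := F.toRingHom
  have hfC' : ∀ a, f (MvPowerSeries.C a) = algebraMap K A a := by
    intro a
    have h1 := F.commutes a
    rw [MvPowerSeries.algebraMap_apply, Algebra.algebraMap_self, RingHom.id_apply] at h1
    exact h1
  have hfX : ∀ i, f (MvPowerSeries.X i) = c i := hF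
  have hspanX : ∀ g ∈ Ideal.span (Set.range
      (MvPowerSeries.X : Fin r → MvPowerSeries (Fin r) K)), f g ∈ maximalIdeal A := by
    intro g hg
    have h1 : (Ideal.span (Set.range
        (MvPowerSeries.X : Fin r → MvPowerSeries (Fin r) K))).map f ≤ maximalIdeal A := by
      rw [Ideal.map_span, Ideal.span_le]
      rintro _ ⟨_, ⟨i, rfl⟩, rfl⟩
      rw [hfX]
      exact hc i
    exact h1 (Ideal.mem_map_of_mem _ hg)
  have hloc : IsLocalHom f := by
    refine ⟨fun g hg => ?_⟩
    rw [MvPowerSeries.isUnit_iff_constantCoeff]
    have h1 : f g = algebraMap K A (MvPowerSeries.constantCoeff g) +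
        f (g - MvPowerSeries.C (MvPowerSeries.constantCoeff g)) := by
      rw [← hfC', ← map_add]
      congr 1
      ring
    have h2 := hspanX _ (Groth.Agent.LibCR29.sub_C_mem_span_X g)
    by_contra hnu
    have h0 : MvPowerSeries.constantCoeff g = 0 := by
      by_contra h0
      exact hnu (IsUnit.mk0 _ h0)
    have h5 : f g ∈ maximalIdeal A := by
      rw [h1]
      refine Ideal.add_mem _ ?_ h2
      rw [h0, map_zero]
      exact Ideal.zero_mem _
    exact (IsLocalRing.mem_maximalIdeal _).1 h5 hg
  have hmapf : (maximalIdeal (MvPowerSeries (Fin r) K)).map f = Ideal.span (Set.range c) := by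
    rw [Groth.Agent.LibCR29.maximalIdeal_ps, Ideal.map_sup, IsLocalRing.maximalIdeal_eq_bot,
      Ideal.map_bot, Ideal.map_bot, bot_sup_eq, Ideal.map_span]
    congr 1
    ext y
    constructor
    · rintro ⟨_, ⟨i, rfl⟩, rfl⟩
      exact ⟨i, (hfX i).symm⟩
    · rintro ⟨i, rfl⟩
      exact ⟨_, ⟨i, rfl⟩, hfX i⟩
  letI algPR : Algebra (MvPowerSeries (Fin r) K) A := f.toAlgebra
  haveI : IsLocalHom (algebraMap (MvPowerSeries (Fin r) K) A) := hloc
  haveI hfinres : Module.Finite (ResidueField (MvPowerSeries (Fin r) K)) (ResidueField A) := by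
    refine ⟨⟨{1}, ?_⟩⟩
    rw [eq_top_iff]
    intro y _
    obtain ⟨a, ha⟩ := hK y
    have h2 : y = (residue (MvPowerSeries (Fin r) K) (MvPowerSeries.C a)) • (1 : ResidueField A) := by
      rw [Algebra.smul_def, IsLocalRing.ResidueField.algebraMap_residue, mul_one, ← ha]
      show residue A (algebraMap K A a) = residue A (f (MvPowerSeries.C a))
      rw [hfC']
    rw [h2]
    exact Submodule.smul_mem _ _ (Submodule.subset_span (by simp))
  haveI : IsAdicComplete (maximalIdeal K) K := by
    rw [IsLocalRing.maximalIdeal_eq_bot]; infer_instance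
  haveI := Groth.Agent.LibCR29.isAdicComplete_mvPowerSeries r K
  have hN' : maximalIdeal A ^ N ≤
      (maximalIdeal (MvPowerSeries (Fin r) K)).map (algebraMap (MvPowerSeries (Fin r) K) A) := by
    have : algebraMap (MvPowerSeries (Fin r) K) A = f := rfl
    rw [this, hmapf]
    exact hN
  have hfin : Module.Finite (MvPowerSeries (Fin r) K) A :=
    Groth.Agent.Lib.Helper24.SopFinite.finite_of_primary N hN'
  exact ⟨F, hF, hloc, hfin⟩

end

section
variable (A : Type u) [CommRing A] [IsLocalRing A] [IsNoetherianRing A]

/-- **Finiteness over the invariants** of a finite group acting on a complete Noetherian local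
ring and fixing a coefficient field: there is a complete Noetherian local ring `P` mapping into
the invariants over which the whole ring is finite. -/
theorem exists_complete_finite [IsAdicComplete (maximalIdeal A) A] (k : Type v) [Field k] [Algebra k A]
    (hk : Function.Surjective (residue A ∘ algebraMap k A))
    (G : Type w) [Group G] [Finite G] [MulSemiringAction G A]
    (hGk : ∀ (σ : G) (c : k), σ • algebraMap k A c = algebraMap k A c) :
    ∃ (P : Type u) (_ : CommRing P) (_ : IsLocalRing P) (_ : IsNoetherianRing P)
      (_ : IsAdicComplete (maximalIdeal P) P) (φ : P →+* FixedPoints.subring A G),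
      ((FixedPoints.subring A G).subtype.comp φ).Finite := by
  classical
  let K : Subring A := (algebraMap k A).range
  have hinjk : Function.Injective (algebraMap k A) := (algebraMap k A).injective
  let eK : k ≃+* K := RingEquiv.ofBijective (algebraMap k A).rangeRestrict
    ⟨fun x y h => hinjk (congrArg Subtype.val h), (algebraMap k A).rangeRestrict_surjective⟩
  have hKf : IsField K := MulEquiv.isField (Field.toIsField k) eK.symm.toMulEquiv
  letI : Field K := hKf.toField
  have hK : Function.Surjective (residue A ∘ algebraMap K A) := by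
    intro y
    obtain ⟨c, hc⟩ := hk y
    exact ⟨⟨algebraMap k A c, c, rfl⟩, hc⟩
  have hGK : ∀ (σ : G) (a : K), σ • algebraMap K A a = algebraMap K A a := by
    rintro σ ⟨_, c, rfl⟩
    exact hGk σ c
  obtain ⟨r, c, N, hc, hcfix, hN⟩ := exists_invariant_parameters A G
  obtain ⟨f, hfX, hloc, hfin⟩ := exists_ps_finite A K hK r c hc N hN
  have hinv := smul_ps_eq A K G hGK r c hc hcfix f hfX
  haveI : IsAdicComplete (maximalIdeal K) K := by
    rw [IsLocalRing.maximalIdeal_eq_bot]; infer_instance
  refine ⟨MvPowerSeries (Fin r) K, inferInstance, inferInstance, inferInstance,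
    Groth.Agent.LibCR29.isAdicComplete_mvPowerSeries r K,
    f.toRingHom.codRestrict (FixedPoints.subring A G) (fun g σ => hinv g σ), ?_⟩
  have : (FixedPoints.subring A G).subtype.comp
      (f.toRingHom.codRestrict (FixedPoints.subring A G) (fun g σ => hinv g σ)) = f.toRingHom := by
    ext g; rfl
  rw [this]
  exact hfin

/-- **Structure of the invariant ring** of a finite group acting on a complete Noetherian local
domain and fixing a coefficient field: it is a complete Noetherian local ring and `A` is finite
over it. -/
theorem fixedPoints_structure [IsDomain A] [IsAdicComplete (maximalIdeal A) A]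
    (k : Type v) [Field k] [Algebra k A]
    (hk : Function.Surjective (residue A ∘ algebraMap k A))
    (G : Type w) [Group G] [Finite G] [MulSemiringAction G A]
    (hGk : ∀ (σ : G) (c : k), σ • algebraMap k A c = algebraMap k A c) :
    IsNoetherianRing (FixedPoints.subring A G) ∧ Module.Finite (FixedPoints.subring A G) A ∧
      ∃ _ : IsLocalRing (FixedPoints.subring A G),
        IsAdicComplete (maximalIdeal (FixedPoints.subring A G)) (FixedPoints.subring A G) := by
  classical
  obtain ⟨P, _, _, _, _, φ, hfin⟩ := exists_complete_finite A k hk G hGk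
  letI : Algebra P (FixedPoints.subring A G) := φ.toAlgebra
  letI : Algebra P A := ((FixedPoints.subring A G).subtype.comp φ).toAlgebra
  haveI : IsScalarTower P (FixedPoints.subring A G) A := IsScalarTower.of_algebraMap_eq (fun _ => rfl)
  haveI hPA : Module.Finite P A := hfin
  haveI hCA : Module.Finite (FixedPoints.subring A G) A :=
    Module.Finite.of_restrictScalars_finite P (FixedPoints.subring A G) A
  haveI hPC : Module.Finite P (FixedPoints.subring A G) := by
    let ι : (FixedPoints.subring A G) →ₗ[P] A :=
      { toFun := fun x => (x : A)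
        map_add' := fun _ _ => rfl
        map_smul' := fun r x => by
          show ((φ r * x : FixedPoints.subring A G) : A) = ((FixedPoints.subring A G).subtype.comp φ) r * (x : A)
          rfl }
    exact Module.Finite.of_injective ι Subtype.val_injective
  haveI hCN : IsNoetherianRing (FixedPoints.subring A G) := IsNoetherianRing.of_finite P _
  exact ⟨hCN, hCA,
    Groth.Agent.Lib.Helper24.RedFib.exists_isLocalRing_isAdicComplete_of_finite P
      (FixedPoints.subring A G)⟩

omit [IsNoetherianRing A] in
theorem comap_maximalIdeal_fixedPoints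
    (G : Type w) [Group G] [Finite G] [MulSemiringAction G A]
    [IsLocalRing (FixedPoints.subring A G)] :
    Ideal.comap (FixedPoints.subring A G).subtype (maximalIdeal A) =
      maximalIdeal (FixedPoints.subring A G) := by
  haveI : Algebra.IsInvariant (FixedPoints.subring A G) A G := ⟨fun b hb => ⟨⟨b, hb⟩, rfl⟩⟩
  haveI : Algebra.IsIntegral (FixedPoints.subring A G) A :=
    Algebra.IsInvariant.isIntegral (FixedPoints.subring A G) A G
  have : ((maximalIdeal A).comap (algebraMap (FixedPoints.subring A G) A)).IsMaximal :=
    Ideal.isMaximal_comap_of_isIntegral_of_isMaximal _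
  exact IsLocalRing.eq_maximalIdeal this

end

/-- Let `B` be integral and of finite type over `R`, and `q` a prime of `R` such that `B` is
unramified over `R` at every prime above `q`. Then `B[1/s]` is unramified over `R` for some
`s ∉ q`. -/
theorem exists_away_formallyUnramified {R B : Type*} [CommRing R] [CommRing B] [Algebra R B]
    [Algebra.IsIntegral R B] [Algebra.FiniteType R B] (q : Ideal R) [q.IsPrime]
    (H : ∀ (Q : Ideal B) [Q.IsPrime], Q.comap (algebraMap R B) = q → Algebra.IsUnramifiedAt R Q) :
    ∃ s : R, s ∉ q ∧ Algebra.FormallyUnramified R (Localization.Away (algebraMap R B s)) := by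
  classical
  set J : Ideal B := Module.annihilator B Ω[B⁄R] with hJ
  have hnot : ¬ J.comap (algebraMap R B) ≤ q := by
    intro hle
    obtain ⟨Q, hJQ, hQ, hQq⟩ := Ideal.exists_ideal_over_prime_of_isIntegral q J hle
    haveI := hQ
    have hun := H Q hQq
    have hmem : (⟨Q, hQ⟩ : PrimeSpectrum B) ∈ Algebra.unramifiedLocus R B := hun
    rw [Algebra.unramifiedLocus_eq_compl_support] at hmem
    exact hmem (Module.mem_support_iff_of_finite.mpr hJQ)
  obtain ⟨s, hsJ, hsq⟩ := Set.not_subset.mp hnot
  refine ⟨s, hsq, ?_⟩
  rw [← Algebra.basicOpen_subset_unramifiedLocus_iff, Algebra.unramifiedLocus_eq_compl_support]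
  intro Q hQ hsupp
  have hJQ : J ≤ Q.asIdeal := Module.mem_support_iff_of_finite.mp hsupp
  exact hQ (hJQ hsJ)

section
variable (A : Type u) [CommRing A] (G : Type w) [Group G] [MulSemiringAction G A]

theorem smulCommClass_fixedPoints_subring : SMulCommClass G (FixedPoints.subring A G) A where
  smul_comm g a x := by
    show g • ((a : A) * x) = (a : A) * g • x
    rw [smul_mul', a.2 g]

theorem isInvariant_fixedPoints_subring : Algebra.IsInvariant (FixedPoints.subring A G) A G :=
  ⟨fun b hb => ⟨⟨b, hb⟩, rfl⟩⟩

/-- **Non-flatness over the invariants**: a nontrivial finite group acting on a Noetherian local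
domain `A` of dimension at least two, fixing a coefficient field, with trivial inertia away from the
closed point, and such that `A` is finite over the (local Noetherian) ring of invariants: then `A`
is not flat over the invariants. -/
theorem not_flat_fixedPoints [IsDomain A] [IsLocalRing A]
    (hdim : 2 ≤ ringKrullDim A)
    (k : Type v) [Field k] [Algebra k A]
    (hk : Function.Surjective (residue A ∘ algebraMap k A))
    [Finite G] [Nontrivial G]
    (hGk : ∀ (σ : G) (c : k), σ • algebraMap k A c = algebraMap k A c)
    (hram : ∀ P : Ideal A, P.IsPrime → P ≠ maximalIdeal A → P.inertia G = ⊥)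
    [IsNoetherianRing (FixedPoints.subring A G)] [Module.Finite (FixedPoints.subring A G) A]
    [IsLocalRing (FixedPoints.subring A G)] :
    ¬ Module.Flat (FixedPoints.subring A G) A := by
  classical
  intro hflat
  haveI := smulCommClass_fixedPoints_subring A G
  haveI := isInvariant_fixedPoints_subring A G
  haveI : Algebra.IsIntegral (FixedPoints.subring A G) A := Algebra.IsIntegral.of_finite _ A
  have hinj : Function.Injective (algebraMap (FixedPoints.subring A G) A) := Subtype.val_injective
  have hdimC : ringKrullDim A = ringKrullDim (FixedPoints.subring A G) :=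
    Coprod.ringKrullDim_eq_of_finite_injective hinj
  have hmC : (maximalIdeal A).comap (algebraMap (FixedPoints.subring A G) A) =
      maximalIdeal (FixedPoints.subring A G) := comap_maximalIdeal_fixedPoints A G
  -- (a) unramified in codimension one
  have H : ∀ q : Ideal (FixedPoints.subring A G), q.IsPrime → q.height ≤ 1 →
      ∃ s : FixedPoints.subring A G, s ∉ q ∧ Algebra.FormallyUnramified (FixedPoints.subring A G)
        (Localization.Away (algebraMap (FixedPoints.subring A G) A s)) := by
    intro q hq hht
    haveI := hq
    have hqm : q ≠ maximalIdeal (FixedPoints.subring A G) := by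
      rintro rfl
      have h1 : ((maximalIdeal (FixedPoints.subring A G)).height : WithBot ℕ∞) =
          ringKrullDim (FixedPoints.subring A G) :=
        IsLocalRing.maximalIdeal_height_eq_ringKrullDim
      rw [← hdimC] at h1
      have h2 : (2 : WithBot ℕ∞) ≤ ((1 : ℕ∞) : WithBot ℕ∞) := by
        refine hdim.trans ?_
        rw [← h1]
        exact_mod_cast hht
      have h3 : (2 : ℕ∞) ≤ 1 := WithBot.coe_le_coe.mp h2
      exact absurd h3 (by decide)
    apply exists_away_formallyUnramified q
    intro Q _ hQq
    apply InertiaUnram.isUnramifiedAt_of_inertia_eq_bot G Q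
    apply hram Q inferInstance
    rintro rfl
    exact hqm (hQq.symm.trans hmC)
  haveI : Algebra.FormallyUnramified (FixedPoints.subring A G) A :=
    Groth.Agent.Lib.helper9.PurityFlat.formallyUnramified_of_codim_two H
  -- (c) surjectivity
  haveI : FaithfulSMul (FixedPoints.subring A G) A :=
    (faithfulSMul_iff_algebraMap_injective _ _).mpr hinj
  haveI : IsLocalHom (algebraMap (FixedPoints.subring A G) A) := inferInstance
  have hmap : (maximalIdeal (FixedPoints.subring A G)).map
      (algebraMap (FixedPoints.subring A G) A) = maximalIdeal A :=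
    Algebra.FormallyUnramified.map_maximalIdeal
  have hle : (⊤ : Submodule (FixedPoints.subring A G) A) ≤
      LinearMap.range (Algebra.linearMap (FixedPoints.subring A G) A) := by
    apply Submodule.le_of_le_smul_of_le_jacobson_bot (I := maximalIdeal (FixedPoints.subring A G))
      Module.Finite.fg_top (IsLocalRing.maximalIdeal_le_jacobson _)
    intro a _
    obtain ⟨c, hc⟩ := hk (IsLocalRing.residue A a)
    have h1 : a - algebraMap k A c ∈ maximalIdeal A := by
      rw [← Ideal.Quotient.eq]
      exact hc.symm
    rw [← hmap] at h1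
    have h3 : a - algebraMap k A c ∈
        (maximalIdeal (FixedPoints.subring A G) • ⊤ : Submodule (FixedPoints.subring A G) A) := by
      rw [Ideal.smul_top_eq_map]
      exact h1
    have h4 : a = algebraMap k A c + (a - algebraMap k A c) := by ring
    rw [h4]
    exact Submodule.add_mem_sup ⟨⟨algebraMap k A c, fun σ => hGk σ c⟩, rfl⟩ h3
  -- conclusion
  obtain ⟨σ, hσ⟩ := exists_ne (1 : G)
  have hbotne : (⊥ : Ideal A) ≠ maximalIdeal A := by
    intro h
    have hf : IsField A := IsLocalRing.isField_iff_maximalIdeal_eq.mpr h.symm
    have h0 : ringKrullDim A = 0 := by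
      letI := hf.toField
      exact ringKrullDim_eq_zero_of_field A
    rw [h0] at hdim
    exact absurd hdim (by decide)
  have hbot : (⊥ : Ideal A).inertia G = ⊥ := hram ⊥ Ideal.isPrime_bot hbotne
  have hmem : σ ∈ (⊥ : Ideal A).inertia G := by
    intro a
    obtain ⟨c, rfl⟩ := hle (Submodule.mem_top (x := a))
    show σ • (c : A) - c ∈ _
    rw [c.2 σ, sub_self]
    exact zero_mem _
  rw [hbot, Subgroup.mem_bot] at hmem
  exact hσ hmem

theorem isIntegrallyClosed_fixedPoints_subring [IsDomain A] [IsIntegrallyClosed A] :
    IsIntegrallyClosed (FixedPoints.subring A G) := by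
  have h := InertiaGen.isIntegrallyClosed_of_dvd_closed (R := ℤ)
    (subalgebraOfSubring (FixedPoints.subring A G)) (by
      intro a b hb ⟨c, hc⟩
      have hcfix : ∀ g : G, g • c = c := by
        intro g
        have h1 : g • (a : A) = a := a.2 g
        have h2 : g • (b : A) = b := b.2 g
        have h3 : g • c * (b : A) = c * b := by
          rw [← hc, ← h1, hc, smul_mul', h2]
        exact mul_right_cancel₀ hb h3
      exact ⟨⟨c, hcfix⟩, Subtype.ext hc⟩)
  exact h


/-- **The invariant ring of a wild `ℤ/p`-action ramified precisely at the origin.** -/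
theorem fixedPoints_main [IsRegularLocalRing A] [IsAdicComplete (maximalIdeal A) A]
    (hdim : 2 ≤ ringKrullDim A)
    (k : Type v) [Field k] [Algebra k A]
    (hk : Function.Surjective (residue A ∘ algebraMap k A))
    [Finite G] [Nontrivial G]
    (hGk : ∀ (σ : G) (c : k), σ • algebraMap k A c = algebraMap k A c)
    (hram : ∀ P : Ideal A, P.IsPrime → P ≠ maximalIdeal A → P.inertia G = ⊥) :
    IsNoetherianRing (FixedPoints.subring A G) ∧ Module.Finite (FixedPoints.subring A G) A ∧
      IsIntegrallyClosed (FixedPoints.subring A G) ∧
      ringKrullDim (FixedPoints.subring A G) = ringKrullDim A ∧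
      IsAdicComplete (Ideal.comap (FixedPoints.subring A G).subtype (maximalIdeal A))
        (FixedPoints.subring A G) ∧
      ¬ Module.Flat (FixedPoints.subring A G) A ∧
      ¬ IsRegularLocalRing (FixedPoints.subring A G) := by
  classical
  haveI : IsDomain A := Groth.Agent.Lib.helper15.isDomain_of_isRegularLocalRing A
  haveI : IsIntegrallyClosed A := Groth.Agent.Lib.helper26.RegNormal.isIntegrallyClosed A
  obtain ⟨hN, hF, hL, hC⟩ := fixedPoints_structure A k hk G hGk
  haveI := hN
  haveI := hF
  haveI := hL
  haveI : Algebra.IsIntegral (FixedPoints.subring A G) A := Algebra.IsIntegral.of_finite _ A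
  have hinj : Function.Injective (algebraMap (FixedPoints.subring A G) A) := Subtype.val_injective
  have hnf : ¬ Module.Flat (FixedPoints.subring A G) A :=
    not_flat_fixedPoints A G hdim k hk hGk hram
  refine ⟨hN, hF, isIntegrallyClosed_fixedPoints_subring A G,
    (Coprod.ringKrullDim_eq_of_finite_injective hinj).symm, ?_, hnf, ?_⟩
  · rw [comap_maximalIdeal_fixedPoints A G]
    exact hC
  · intro hreg
    haveI := hreg
    haveI : Module.Free (FixedPoints.subring A G) A := Coprod.free_of_regular_finite hinj
    exact hnf inferInstance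

end

end Groth.Agent.Lib.helper22.WildFin
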