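import Mathlib
import Groth.Agent.Lib.Helper22.FieldTwist
import Groth.Agent.Lib.Helper22.PurityGal
import Groth.Agent.Lib.Helper22.WildFin

/-!
# Lifting automorphisms of the invariant ring: the unramified compositum is trivial (helper22)

`card_gal_ne`: `A` complete regular local of dimension `≥ 2` with coefficient field `k` having no
Galois extension of degree `p`; `G` of order `p` acting with invariants `B`, ramified only at the
closed point; `φ : B ≃+* B`; `Φ : Frac A → Ω` extending `φ`. Then `Gal(L·Φ(L) / L)` does not have
order `p` (otherwise the normalization of `A` in the compositum is unramified in codimension one,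
hence étale by purity, and its residue field is a Galois extension of `k` of degree `p`).
-/

set_option autoImplicit false

namespace Groth.Agent.Lib.helper22.LiftCase2
universe u v w w'
open IsLocalRing

section Units
variable {B : Type w'} {A : Type u} [CommRing B] [CommRing A] [Algebra B A]

/-- an element of the invariant ring which is a unit upstairs is a unit -/
theorem isUnit_of_isUnit_algebraMap (G : Type w) [Group G] [MulSemiringAction G A]
    [IsGaloisGroup G B A] (hinj : Function.Injective (algebraMap B A)) (x : B)
    (hx : IsUnit (algebraMap B A x)) : IsUnit x := by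
  haveI : SMulCommClass G B A := IsGaloisGroup.commutes
  haveI : Algebra.IsInvariant B A G := IsGaloisGroup.isInvariant
  obtain ⟨c, hc⟩ := hx.exists_right_inv
  have hfix : ∀ g : G, g • c = c := by
    intro g
    have h1 : algebraMap B A x * g • c = 1 := by
      have := congrArg (fun y => g • y) hc
      simp only [smul_mul', smul_one, smul_algebraMap] at this
      exact this
    calc g • c = (c * algebraMap B A x) * g • c := by rw [mul_comm c, hc, one_mul]
      _ = c * (algebraMap B A x * g • c) := by ring
      _ = c := by rw [h1, mul_one]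
  obtain ⟨y, hy⟩ := Algebra.IsInvariant.isInvariant (A := B) (G := G) c hfix
  refine IsUnit.of_mul_eq_one y (hinj ?_)
  rw [map_mul, hy, hc, map_one]

theorem mem_maximalIdeal_of_ringEquiv [IsLocalRing A] (G : Type w) [Group G]
    [MulSemiringAction G A] [IsGaloisGroup G B A]
    (hinj : Function.Injective (algebraMap B A)) (φ' : B ≃+* B) (b : B)
    (hb : algebraMap B A b ∈ maximalIdeal A) : algebraMap B A (φ' b) ∈ maximalIdeal A := by
  by_contra h
  rw [mem_maximalIdeal, mem_nonunits_iff, not_not] at h
  have h1 : IsUnit (φ' b) := isUnit_of_isUnit_algebraMap G hinj _ h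
  have h2 : IsUnit b := by
    have := h1.map φ'.symm
    rwa [RingEquiv.symm_apply_apply] at this
  exact (mem_maximalIdeal _).mp hb (h2.map (algebraMap B A))

end Units

section Main
variable (p : ℕ) [Fact p.Prime] (A : Type u) [CommRing A] [IsRegularLocalRing A]
  [IsAdicComplete (maximalIdeal A) A] (hdim : 2 ≤ ringKrullDim A)
  (k : Type v) [Field k] [Algebra k A]
  (hk : Function.Surjective (residue A ∘ algebraMap k A))
  (hkp : ∀ (E : Type v) [Field E] [Algebra k E], IsGalois k E → Module.finrank k E ≠ p)
  (B : Type w') [CommRing B] [IsDomain B] [Algebra B A]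
  (hinjB : Function.Injective (algebraMap B A))
  (G : Type w) [Group G] [Finite G] [MulSemiringAction G A] [IsGaloisGroup G B A]
  (hram : ∀ P : Ideal A, P.IsPrime → P ≠ maximalIdeal A → P.inertia G = ⊥)
  (φ : B ≃+* B)

attribute [local instance] FractionRing.liftAlgebra

include hdim hk hkp hinjB hram in
theorem card_gal_ne [IsDomain A] [IsIntegrallyClosed A] [FaithfulSMul B A]
    [IsGalois (FractionRing B) (FractionRing A)]
    [FiniteDimensional (FractionRing B) (FractionRing A)]
    (Φ : FractionRing A →+* AlgebraicClosure (FractionRing A))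
    (hΦ : ∀ x : FractionRing B, Φ (algebraMap (FractionRing B) (FractionRing A) x) =
      algebraMap (FractionRing A) (AlgebraicClosure (FractionRing A))
        (algebraMap (FractionRing B) (FractionRing A)
          ((IsFractionRing.ringEquivOfRingEquiv φ : FractionRing B ≃+* FractionRing B) x))) :
    Nat.card (FieldTwist.Mfield Φ ≃ₐ[FractionRing A] FieldTwist.Mfield Φ) ≠ p := by
  classical
  intro hH
  set φK : FractionRing B ≃+* FractionRing B := IsFractionRing.ringEquivOfRingEquiv φ with hφK
  haveI : IsGalois (FractionRing A) (FieldTwist.Mfield Φ) := FieldTwist.isGalois_Mfield φK Φ hΦ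
  haveI : FiniteDimensional (FractionRing A) (FieldTwist.Mfield Φ) :=
    FieldTwist.finiteDimensional_Mfield φK Φ hΦ
  haveI : IsFractionRing (integralClosure A (FieldTwist.Mfield Φ)) (FieldTwist.Mfield Φ) :=
    integralClosure.isFractionRing_of_finite_extension (FractionRing A) (FieldTwist.Mfield Φ)
  haveI : IsIntegrallyClosed (integralClosure A (FieldTwist.Mfield Φ)) :=
    integralClosure.isIntegrallyClosedOfFiniteExtension (FractionRing A)
  haveI : Module.Finite A (integralClosure A (FieldTwist.Mfield Φ)) :=
    IsIntegralClosure.finite A (FractionRing A) (FieldTwist.Mfield Φ) _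
  obtain ⟨hDloc, -⟩ := Groth.Agent.Lib.Helper24.RedFib.exists_isLocalRing_isAdicComplete_of_finite A
    (integralClosure A (FieldTwist.Mfield Φ))
  letI : MulSemiringAction (FieldTwist.Mfield Φ ≃ₐ[FractionRing A] FieldTwist.Mfield Φ)
      (integralClosure A (FieldTwist.Mfield Φ)) :=
    IsIntegralClosure.MulSemiringAction A (FractionRing A) (FieldTwist.Mfield Φ) _
  haveI : Algebra.IsInvariant A (integralClosure A (FieldTwist.Mfield Φ))
      (FieldTwist.Mfield Φ ≃ₐ[FractionRing A] FieldTwist.Mfield Φ) :=
    Algebra.isInvariant_of_isGalois A (FractionRing A) (FieldTwist.Mfield Φ) _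
  have hsmul : ∀ (σ : (FieldTwist.Mfield Φ ≃ₐ[FractionRing A] FieldTwist.Mfield Φ)) (d : (integralClosure A (FieldTwist.Mfield Φ))),
      algebraMap (integralClosure A (FieldTwist.Mfield Φ)) (FieldTwist.Mfield Φ) (σ • d) = σ (algebraMap (integralClosure A (FieldTwist.Mfield Φ)) (FieldTwist.Mfield Φ) d) :=
    fun σ d => algebraMap_galRestrict_apply A σ d
  haveI : SMulCommClass (FieldTwist.Mfield Φ ≃ₐ[FractionRing A] FieldTwist.Mfield Φ) A (integralClosure A (FieldTwist.Mfield Φ)) := by
    refine ⟨fun σ a d => ?_⟩
    show galRestrict A (FractionRing A) (FieldTwist.Mfield Φ) (integralClosure A (FieldTwist.Mfield Φ)) σ (a • d) = a • galRestrict A (FractionRing A) (FieldTwist.Mfield Φ) (integralClosure A (FieldTwist.Mfield Φ)) σ d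
    exact map_smul _ _ _
  haveI : FaithfulSMul (FieldTwist.Mfield Φ ≃ₐ[FractionRing A] FieldTwist.Mfield Φ) (integralClosure A (FieldTwist.Mfield Φ)) := by
    refine ⟨fun {σ σ'} h => ?_⟩
    apply (galRestrict A (FractionRing A) (FieldTwist.Mfield Φ) (integralClosure A (FieldTwist.Mfield Φ))).injective
    exact AlgEquiv.ext h
  have hinjD : Function.Injective (algebraMap A (integralClosure A (FieldTwist.Mfield Φ))) := by
    intro x y h
    apply IsFractionRing.injective A (FractionRing A)
    apply (algebraMap (FractionRing A) (FieldTwist.Mfield Φ)).injective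
    have h1 := congrArg (algebraMap (integralClosure A (FieldTwist.Mfield Φ)) (FieldTwist.Mfield Φ)) h
    rw [← IsScalarTower.algebraMap_apply A (integralClosure A (FieldTwist.Mfield Φ)) (FieldTwist.Mfield Φ), ← IsScalarTower.algebraMap_apply A (integralClosure A (FieldTwist.Mfield Φ)) (FieldTwist.Mfield Φ),
      IsScalarTower.algebraMap_apply A (FractionRing A) (FieldTwist.Mfield Φ), IsScalarTower.algebraMap_apply A (FractionRing A) (FieldTwist.Mfield Φ)] at h1
    exact h1
  have hfix : ∀ d : (integralClosure A (FieldTwist.Mfield Φ)), (∀ h : (FieldTwist.Mfield Φ ≃ₐ[FractionRing A] FieldTwist.Mfield Φ), h • d = d) → d ∈ Set.range (algebraMap A (integralClosure A (FieldTwist.Mfield Φ))) :=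
    fun d hd => Algebra.IsInvariant.isInvariant (A := A) (G := (FieldTwist.Mfield Φ ≃ₐ[FractionRing A] FieldTwist.Mfield Φ)) d hd
  have hramD : ∀ Q : Ideal (integralClosure A (FieldTwist.Mfield Φ)), Q.IsPrime → Q.height ≤ 1 → Q.inertia (FieldTwist.Mfield Φ ≃ₐ[FractionRing A] FieldTwist.Mfield Φ) = ⊥ := by
    intro Q hQ hht
    haveI := hQ
    rw [eq_bot_iff]
    intro σ hσ
    rw [Subgroup.mem_bot]
    apply FieldTwist.eq_one_of_tauHom_eq_one φK Φ hΦ
    have hτspec : ∀ l, σ (FieldTwist.ΦM Φ l) =
        FieldTwist.ΦM Φ (FieldTwist.tauHom φK Φ hΦ σ l) := FieldTwist.tauHom_spec φK Φ hΦ σ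
    generalize FieldTwist.tauHom φK Φ hΦ σ = τ at hτspec ⊢
    -- restrict `τ` to `A`
    haveI : Algebra.IsIntegral B A := Algebra.IsInvariant.isIntegral B A G
    haveI : IsIntegralClosure A B (FractionRing A) := IsIntegralClosure.of_isIntegrallyClosed A B (FractionRing A)
    have hτA : ∀ a, algebraMap A (FractionRing A) (galRestrict B (FractionRing B) (FractionRing A) A τ a) = τ (algebraMap A (FractionRing A) a) :=
      algebraMap_galRestrict_apply B τ
    have hg : ∀ a, (IsGaloisGroup.mulEquivAlgEquiv G B A).symm (galRestrict B (FractionRing B) (FractionRing A) A τ) • a =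
        galRestrict B (FractionRing B) (FractionRing A) A τ a := by
      intro a
      have := congrArg (fun f : A ≃ₐ[B] A => f a)
        ((IsGaloisGroup.mulEquivAlgEquiv G B A).apply_symm_apply (galRestrict B (FractionRing B) (FractionRing A) A τ))
      exact this
    generalize (IsGaloisGroup.mulEquivAlgEquiv G B A).symm (galRestrict B (FractionRing B) (FractionRing A) A τ) = g at hg
    suffices hg1 : g = 1 by
      have h1 : galRestrict B (FractionRing B) (FractionRing A) A τ = 1 := by
        ext a
        rw [← hg, hg1, one_smul]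
        rfl
      exact (galRestrict B (FractionRing B) (FractionRing A) A).injective (h1.trans (map_one _).symm)
    -- the map `A → D`
    have keyB : ∀ b : B, FieldTwist.ΦM Φ (algebraMap A (FractionRing A) (algebraMap B A b)) =
        algebraMap A (FieldTwist.Mfield Φ) (algebraMap B A (φ b)) := by
      intro b
      apply Subtype.ext
      rw [FieldTwist.ΦM_val, ← IsScalarTower.algebraMap_apply B A (FractionRing A),
        IsScalarTower.algebraMap_apply B (FractionRing B) (FractionRing A), hΦ, hφK,
        IsFractionRing.ringEquivOfRingEquiv_algebraMap,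
        ← IsScalarTower.algebraMap_apply B (FractionRing B) (FractionRing A), IsScalarTower.algebraMap_apply B A (FractionRing A)]
      rfl
    have hΦint : ∀ a : A, FieldTwist.ΦM Φ (algebraMap A (FractionRing A) a) ∈ integralClosure A (FieldTwist.Mfield Φ) := by
      intro a
      obtain ⟨f, hfm, hf⟩ := Algebra.IsIntegral.isIntegral (R := B) a
      refine ⟨(f.map φ.toRingHom).map (algebraMap B A), (hfm.map _).map _, ?_⟩
      rw [Polynomial.eval₂_map, Polynomial.eval₂_map]
      have h1 : ((algebraMap A (FieldTwist.Mfield Φ)).comp (algebraMap B A)).comp φ.toRingHom =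
          (FieldTwist.ΦM Φ).comp ((algebraMap A (FractionRing A)).comp (algebraMap B A)) := by
        ext b
        exact congrArg Subtype.val (keyB b).symm
      rw [h1, ← Polynomial.hom_eval₂, ← Polynomial.hom_eval₂, hf, map_zero, map_zero]
    let ΦA : A →+* (integralClosure A (FieldTwist.Mfield Φ)) :=
      ((FieldTwist.ΦM Φ).comp (algebraMap A (FractionRing A))).codRestrict (integralClosure A (FieldTwist.Mfield Φ)) hΦint
    have hΦA : ∀ a, algebraMap (integralClosure A (FieldTwist.Mfield Φ)) (FieldTwist.Mfield Φ) (ΦA a) = FieldTwist.ΦM Φ (algebraMap A (FractionRing A) a) :=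
      fun a => rfl
    have hΦAB : ∀ b : B, ΦA (algebraMap B A b) = algebraMap A (integralClosure A (FieldTwist.Mfield Φ)) (algebraMap B A (φ b)) := by
      intro b
      apply Subtype.ext
      exact keyB b
    have hσΦA : ∀ a, σ • ΦA a = ΦA (g • a) := by
      intro a
      apply Subtype.ext
      show algebraMap (integralClosure A (FieldTwist.Mfield Φ)) (FieldTwist.Mfield Φ) (σ • ΦA a) = algebraMap (integralClosure A (FieldTwist.Mfield Φ)) (FieldTwist.Mfield Φ) (ΦA (g • a))
      rw [hsmul, hΦA, hΦA, hτspec, hg, hτA]
    -- the inertia group of the contraction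
    have hmem : g ∈ (Q.comap ΦA).inertia G := by
      intro a
      show ΦA (g • a - a) ∈ Q
      rw [map_sub, ← hσΦA]
      exact hσ (ΦA a)
    have hne : Q.comap ΦA ≠ maximalIdeal A := by
      intro hP'
      -- `Q ∩ A` lies over the same prime of `B` as the maximal ideal
      have hle : Q.comap (algebraMap A (integralClosure A (FieldTwist.Mfield Φ))) ≤ maximalIdeal A :=
        IsLocalRing.le_maximalIdeal (Ideal.IsPrime.ne_top (Ideal.comap_isPrime _ _))
      have hcomap : (maximalIdeal A).comap (algebraMap B A) ≤
          (Q.comap (algebraMap A (integralClosure A (FieldTwist.Mfield Φ)))).comap (algebraMap B A) := by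
        intro b hb
        have hb' : algebraMap B A (φ.symm b) ∈ maximalIdeal A :=
          mem_maximalIdeal_of_ringEquiv G hinjB φ.symm b hb
        rw [← hP'] at hb'
        have h2 : ΦA (algebraMap B A (φ.symm b)) ∈ Q := hb'
        rw [hΦAB, RingEquiv.apply_symm_apply] at h2
        exact h2
      have hPeq : Q.comap (algebraMap A (integralClosure A (FieldTwist.Mfield Φ))) = maximalIdeal A := by
        by_contra hne'
        have hlt : Q.comap (algebraMap A (integralClosure A (FieldTwist.Mfield Φ))) < maximalIdeal A := lt_of_le_of_ne hle hne'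
        have := Ideal.IsIntegral.comap_lt_comap (R := B) hlt
        exact absurd (lt_of_lt_of_le this hcomap) (lt_irrefl _)
      have hQmax : Q.IsMaximal := by
        apply Ideal.isMaximal_of_isIntegral_of_isMaximal_comap (R := A)
        rw [hPeq]
        infer_instance
      have hQ' : Q = maximalIdeal (integralClosure A (FieldTwist.Mfield Φ)) := IsLocalRing.eq_maximalIdeal hQmax
      have h1 : ((maximalIdeal (integralClosure A (FieldTwist.Mfield Φ))).height : WithBot ℕ∞) = ringKrullDim (integralClosure A (FieldTwist.Mfield Φ)) :=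
        IsLocalRing.maximalIdeal_height_eq_ringKrullDim
      rw [Coprod.ringKrullDim_eq_of_finite_injective hinjD] at h1
      rw [← hQ'] at h1
      have h3 : (2 : WithBot ℕ∞) ≤ (Q.height : WithBot ℕ∞) := h1 ▸ hdim
      have h4 : (Q.height : WithBot ℕ∞) ≤ ((1 : ℕ∞) : WithBot ℕ∞) := by exact_mod_cast hht
      have h5 : (2 : WithBot ℕ∞) ≤ ((1 : ℕ∞) : WithBot ℕ∞) := h3.trans h4
      exact absurd h5 (by decide)
    have hgP := hram (Q.comap ΦA) (Ideal.comap_isPrime _ _) hne
    rw [hgP, Subgroup.mem_bot] at hmem
    exact hmem
  obtain ⟨k', _, _, hgal, hfr⟩ := PurityGal.exists_isGalois_of_trivial_inertia p A k hk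
    (integralClosure A (FieldTwist.Mfield Φ)) hinjD (FieldTwist.Mfield Φ ≃ₐ[FractionRing A] FieldTwist.Mfield Φ) hH hfix hramD
  exact hkp k' hgal hfr

end Main

end Groth.Agent.Lib.helper22.LiftCase2
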