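import Mathlib
import Groth.Agent.Lib.Helper22.LiftCase1
import Groth.Agent.Lib.Helper22.LiftCase2

/-!
# Lifting automorphisms of the ring of invariants (helper22)

`exists_ringEquiv_extends`: `A` complete regular local of dimension `≥ 2`, coefficient field `k`
without Galois extensions of degree `p`, `G` of order `p` acting with ring of invariants `B`,
ramified precisely at the origin. Every automorphism of `B` lifts to `A`.

`exists_algEquiv_extends`: the version for `B = FixedPoints.subalgebra k A G` and `k`-algebra
automorphisms.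
-/

set_option autoImplicit false

namespace Groth.Agent.Lib.helper22.LiftAut
universe u v w w'
open IsLocalRing

section Setup
variable (A : Type u) [CommRing A] (k : Type v) [Field k] [Algebra k A]
  (G : Type w) [Group G] [MulSemiringAction G A] [SMulCommClass G k A]

instance smulCommClass_fixed : SMulCommClass G (FixedPoints.subalgebra k A G) A where
  smul_comm g b x := by
    rw [Algebra.smul_def, Algebra.smul_def, smul_mul']
    congr 1
    exact b.2 g

theorem isGaloisGroup_fixed [FaithfulSMul G A] : IsGaloisGroup G (FixedPoints.subalgebra k A G) A :=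
  ⟨inferInstance, inferInstance, ⟨fun a ha => ⟨⟨a, ha⟩, rfl⟩⟩⟩

end Setup

section Main
variable (p : ℕ) [Fact p.Prime] (A : Type u) [CommRing A] [IsRegularLocalRing A]
  [IsAdicComplete (maximalIdeal A) A] (hdim : 2 ≤ ringKrullDim A)
  (k : Type v) [Field k] [Algebra k A]
  (hk : Function.Surjective (residue A ∘ algebraMap k A))
  (hkp : ∀ (E : Type v) [Field E] [Algebra k E], IsGalois k E → Module.finrank k E ≠ p)
  (G : Type w) [Group G] [Finite G] [MulSemiringAction G A] (hcard : Nat.card G = p)
  (hram : ∀ P : Ideal A, P.IsPrime → P ≠ maximalIdeal A → P.inertia G = ⊥)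

omit [IsAdicComplete (maximalIdeal A) A] [Finite G] in
include hdim hram in
theorem faithfulSMul_of_ram : FaithfulSMul G A := by
  haveI : IsDomain A := Groth.Agent.Lib.helper15.isDomain_of_isRegularLocalRing _
  have hne : (⊥ : Ideal A) ≠ maximalIdeal A := by
    intro h
    have h1 : ((maximalIdeal A).height : WithBot ℕ∞) = ringKrullDim A :=
      IsLocalRing.maximalIdeal_height_eq_ringKrullDim
    rw [← h, Ideal.height_bot] at h1
    rw [← h1] at hdim
    exact absurd hdim (by decide)
  have hbot := hram ⊥ Ideal.isPrime_bot hne
  refine ⟨fun {g₁ g₂} h => ?_⟩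
  have hmem : g₂⁻¹ * g₁ ∈ (⊥ : Ideal A).inertia G := by
    intro a
    show (g₂⁻¹ * g₁) • a - a ∈ (⊥ : Ideal A)
    rw [mul_smul, h a, inv_smul_smul, sub_self]
    exact Ideal.zero_mem _
  rw [hbot, Subgroup.mem_bot] at hmem
  exact (inv_mul_eq_one.mp hmem).symm

attribute [local instance] FractionRing.liftAlgebra

include hdim hk hkp hcard hram in
theorem exists_ringEquiv_extends
    (B : Type w') [CommRing B] [IsDomain B] [Algebra B A]
    (hinjB : Function.Injective (algebraMap B A)) [IsGaloisGroup G B A] (φ : B ≃+* B) :
    ∃ ψ : A ≃+* A, ∀ b : B, ψ (algebraMap B A b) = algebraMap B A (φ b) := by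
  classical
  haveI : IsDomain A := Groth.Agent.Lib.helper15.isDomain_of_isRegularLocalRing _
  haveI : IsIntegrallyClosed A := Groth.Agent.Lib.helper26.RegNormal.isIntegrallyClosed A
  haveI : FaithfulSMul B A := (faithfulSMul_iff_algebraMap_injective _ _).mpr hinjB
  haveI : Algebra.IsInvariant B A G := IsGaloisGroup.isInvariant
  haveI : Algebra.IsIntegral B A := Algebra.IsInvariant.isIntegral B A G
  -- the fraction fields
  letI actL : MulSemiringAction G (FractionRing A) :=
    IsFractionRing.mulSemiringAction G A (FractionRing A)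
  haveI hGalKL : IsGaloisGroup G (FractionRing B) (FractionRing A) :=
    IsGaloisGroup.toFractionRing G B A
  haveI : IsGalois (FractionRing B) (FractionRing A) := IsGaloisGroup.isGalois G _ _
  haveI : FiniteDimensional (FractionRing B) (FractionRing A) :=
    IsGaloisGroup.finiteDimensional G _ _
  have hrank : Module.finrank (FractionRing B) (FractionRing A) = p := by
    rw [← IsGaloisGroup.card_eq_finrank G, hcard]
  set φK : FractionRing B ≃+* FractionRing B := IsFractionRing.ringEquivOfRingEquiv φ with hφK
  obtain ⟨Φ, hΦ⟩ := FieldTwist.exists_ringHom_extends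
    (K := FractionRing B) (L := FractionRing A) (Ω := AlgebraicClosure (FractionRing A))
    ((algebraMap (FractionRing A) (AlgebraicClosure (FractionRing A))).comp
      ((algebraMap (FractionRing B) (FractionRing A)).comp φK.toRingHom))
  have hΦ' : ∀ x : FractionRing B, Φ (algebraMap (FractionRing B) (FractionRing A) x) =
      algebraMap (FractionRing A) (AlgebraicClosure (FractionRing A))
        (algebraMap (FractionRing B) (FractionRing A) (φK x)) := hΦ
  -- the Galois group of the compositum is trivial
  have hdvd := FieldTwist.card_gal_dvd φK Φ hΦ'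
  rw [hrank] at hdvd
  have hne := LiftCase2.card_gal_ne p A hdim k hk hkp B hinjB G hram φ Φ hΦ'
  have hone : Nat.card (FieldTwist.Mfield Φ ≃ₐ[FractionRing A] FieldTwist.Mfield Φ) = 1 :=
    ((Nat.dvd_prime Fact.out).mp hdvd).resolve_right hne
  have hrange := FieldTwist.range_subset_of_card_eq_one φK Φ hΦ' hone
  -- the endomorphism of `Frac A`
  have hιΩ : Function.Injective (algebraMap (FractionRing A) (AlgebraicClosure (FractionRing A))) :=
    FaithfulSMul.algebraMap_injective _ _
  let e : FractionRing A ≃+*
      (algebraMap (FractionRing A) (AlgebraicClosure (FractionRing A))).range :=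
    RingEquiv.ofBijective (algebraMap (FractionRing A) (AlgebraicClosure (FractionRing A))).rangeRestrict
      ⟨fun x y h => hιΩ (congrArg Subtype.val h),
        (algebraMap (FractionRing A) (AlgebraicClosure (FractionRing A))).rangeRestrict_surjective⟩
  let ψL : FractionRing A →+* FractionRing A :=
    e.symm.toRingHom.comp (Φ.codRestrict _ hrange)
  have hψL : ∀ l, algebraMap (FractionRing A) (AlgebraicClosure (FractionRing A)) (ψL l) = Φ l := by
    intro l
    have : e (ψL l) = (Φ.codRestrict _ hrange) l := e.apply_symm_apply _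
    exact congrArg Subtype.val this
  have hψ : ∀ x : FractionRing B, ψL (algebraMap (FractionRing B) (FractionRing A) x) =
      algebraMap (FractionRing B) (FractionRing A) (IsFractionRing.ringEquivOfRingEquiv φ x) := by
    intro x
    apply hιΩ
    rw [hψL, hΦ']
  exact LiftCase1.exists_ringEquiv_extends φ (hrank ▸ Fact.out) ψL hψ

include hdim hk hkp hcard hram in
theorem exists_algEquiv_extends [SMulCommClass G k A]
    (φ : FixedPoints.subalgebra k A G ≃ₐ[k] FixedPoints.subalgebra k A G) :
    ∃ ψ : A ≃ₐ[k] A, ∀ x : FixedPoints.subalgebra k A G, ψ x = φ x := by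
  haveI : IsDomain A := Groth.Agent.Lib.helper15.isDomain_of_isRegularLocalRing _
  haveI : FaithfulSMul G A := faithfulSMul_of_ram A hdim G hram
  haveI hGal : IsGaloisGroup G (FixedPoints.subalgebra k A G) A := isGaloisGroup_fixed A k G
  obtain ⟨ψ₀, hψ₀⟩ := exists_ringEquiv_extends p A hdim k hk hkp G hcard hram
    (FixedPoints.subalgebra k A G) Subtype.val_injective φ.toRingEquiv
  refine ⟨AlgEquiv.ofRingEquiv (f := ψ₀) (fun c => ?_), fun x => hψ₀ x⟩
  have h1 : algebraMap k A c =
      algebraMap (FixedPoints.subalgebra k A G) A (algebraMap k (FixedPoints.subalgebra k A G) c) :=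
    rfl
  rw [h1, hψ₀]
  congr 1
  exact φ.commutes c

end Main

end Groth.Agent.Lib.helper22.LiftAut
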