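import Mathlib
import Groth.Prelude.Def_Conn

/-!
# helper22: coordinates of wedge products in the basis of an exterior power
-/

set_option autoImplicit false
universe u

open Module Set Set.powersetCard

namespace Groth.Agent.Lib.helper22.LogLayer

variable {B L : Type u} [CommRing B] [AddCommGroup L] [Module B L] {n : ℕ}
  (ω : Module.Basis (Fin n) B L)

/-- the coordinate of `ω_{v 0} ∧ … ∧ ω_{v (m-1)}` at `s` vanishes if some `k ∈ s` is not a `v a` -/
theorem coord_ιMulti_eq_zero (m : ℕ) (s : Set.powersetCard (Fin n) m) (v : Fin m → Fin n)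
    (k : Fin n) (hk : k ∈ s) (hkv : ∀ a, v a ≠ k) :
    (ω.exteriorPower m).coord s (exteriorPower.ιMulti B m (ω ∘ v)) = 0 := by
  rw [exteriorPower.basis_coord, exteriorPower.ιMultiDual_apply_ιMulti]
  obtain ⟨j, rfl⟩ := (Set.powersetCard.mem_range_ofFinEmbEquiv_symm_iff_mem s k).mpr hk
  apply Matrix.det_eq_zero_of_column_eq_zero j
  intro a
  rw [Matrix.of_apply, Basis.coord_apply, Function.comp_apply, Basis.repr_self,
    Finsupp.single_apply, if_neg (hkv a)]

theorem coord_ιMulti_ne_zero (m : ℕ) (s : Set.powersetCard (Fin n) m) (v : Fin m → Fin n)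
    (h : (ω.exteriorPower m).coord s (exteriorPower.ιMulti B m (ω ∘ v)) ≠ 0) :
    (s : Finset (Fin n)) = Finset.univ.image v := by
  have hsub : (s : Finset (Fin n)) ⊆ Finset.univ.image v := by
    intro k hk
    by_contra hk'
    apply h
    apply coord_ιMulti_eq_zero ω m s v k hk
    intro a ha
    apply hk'
    rw [Finset.mem_image]
    exact ⟨a, Finset.mem_univ _, ha⟩
  refine Finset.eq_of_subset_of_card_le hsub ?_
  rw [Set.powersetCard.card_eq]
  exact Finset.card_image_le.trans (by simp)

/-- `ω_i ∧ ω_K` as a multi-wedge -/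
theorem wedge_basis (p : ℕ) (i : Fin n) (K : Set.powersetCard (Fin n) p) :
    Conn.wedge p ((exteriorPower.oneEquiv B L).symm (ω i)) (ω.exteriorPower p K) =
      exteriorPower.ιMulti B (p + 1) (ω ∘ Fin.cons i (Set.powersetCard.ofFinEmbEquiv.symm K)) := by
  apply Subtype.ext
  rw [Conn.wedge_apply_coe, exteriorPower.oneEquiv_symm_apply, exteriorPower.basis_apply,
    exteriorPower.ιMulti_apply_coe, exteriorPower.ιMulti_apply_coe,
    exteriorPower.ιMulti_family_apply_coe, ExteriorAlgebra.ιMulti_succ_apply,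
    ExteriorAlgebra.ιMulti_succ_apply, ExteriorAlgebra.ιMulti_zero_apply, mul_one]
  simp only [Function.comp_apply, Fin.cons_zero]
  congr 1

/-- the coordinate of `ω_i ∧ ω_K` at `K'` vanishes unless `K' = K ∪ {i}`, `i ∉ K` -/
theorem coord_wedge_basis_ne_zero (p : ℕ) (i : Fin n) (K : Set.powersetCard (Fin n) p)
    (K' : Set.powersetCard (Fin n) (p + 1))
    (h : (ω.exteriorPower (p + 1)).coord K'
      (Conn.wedge p ((exteriorPower.oneEquiv B L).symm (ω i)) (ω.exteriorPower p K)) ≠ 0) :
    (K' : Finset (Fin n)) = insert i (K : Finset (Fin n)) ∧ i ∉ (K : Finset (Fin n)) := by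
  rw [wedge_basis] at h
  have h1 := coord_ιMulti_ne_zero ω (p + 1) K' _ h
  have h2 : Finset.univ.image (Fin.cons i (Set.powersetCard.ofFinEmbEquiv.symm K) :
      Fin (p + 1) → Fin n) = insert i (K : Finset (Fin n)) := by
    ext x
    simp only [Finset.mem_image, Finset.mem_univ, true_and, Finset.mem_insert]
    constructor
    · rintro ⟨a, rfl⟩
      refine Fin.cases ?_ (fun b => ?_) a
      · left; simp
      · right
        rw [Fin.cons_succ]
        exact (Set.powersetCard.mem_range_ofFinEmbEquiv_symm_iff_mem K _).mp ⟨b, rfl⟩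
    · rintro (rfl | hx)
      · exact ⟨0, by simp⟩
      · obtain ⟨b, hb⟩ := (Set.powersetCard.mem_range_ofFinEmbEquiv_symm_iff_mem K x).mpr hx
        exact ⟨b.succ, by rw [Fin.cons_succ]; exact hb⟩
  rw [h2] at h1
  refine ⟨h1, fun hi => ?_⟩
  have h3 := Set.powersetCard.card_eq K'
  rw [h1, Finset.insert_eq_of_mem hi, Set.powersetCard.card_eq] at h3
  omega

end Groth.Agent.Lib.helper22.LogLayer
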