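import Mathlib
import Groth.Prelude.Def_W4swconnpcurvhiggsLogLam
import Groth.Prelude.Def_LogDiff
import Groth.Agent.Lib.Helper22.LogLayerA

/-!
# helper22: expansion of `∇^p` on basis tensors, commutation of the components of an integrable
logarithmic `λ`-connection
-/

set_option autoImplicit false
set_option linter.unusedSectionVars false
universe v u

open TensorProduct LogConn

namespace Groth.Agent.Lib.helper22.LogLayer

section expand
variable {B N E : Type u} [CommRing B] [AddCommGroup N] [Module B N] [AddCommGroup E] [Module B E]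
  {κ : Type*} [Fintype κ] (b : Module.Basis κ B N)

/-- expansion of an element of `E ⊗ N` in a finite basis of `N` -/
theorem tensor_expand (y : E ⊗[B] N) :
    y = ∑ k, (TensorProduct.rid B E (TensorProduct.map LinearMap.id (b.coord k) y)) ⊗ₜ[B] b k := by
  induction y using TensorProduct.induction_on with
  | zero => simp
  | tmul e l =>
    simp only [TensorProduct.map_tmul, LinearMap.id_apply, TensorProduct.rid_tmul]
    conv_lhs => rw [← b.sum_repr l, TensorProduct.tmul_sum]
    refine Finset.sum_congr rfl fun k _ => ?_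
    rw [TensorProduct.tmul_smul, TensorProduct.smul_tmul', Module.Basis.coord_apply]
  | add x y hx hy =>
    conv_lhs => rw [hx, hy]
    rw [← Finset.sum_add_distrib]
    refine Finset.sum_congr rfl fun k _ => ?_
    rw [map_add, map_add, TensorProduct.add_tmul]

end expand

variable {A : Type v} {B L E : Type u} [CommRing A] [CommRing B]
    [Algebra A B] [AddCommGroup L] [Module B L] [Module A L] [IsScalarTower A B L]
    [AddCommGroup E] [Module B E] [Module A E] [IsScalarTower A B E]
    (lam : B) {n : ℕ}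
    (ω : Module.Basis (Fin n) B L) (ι : KaehlerDifferential A B →ₗ[B] L)
    (nabla : E →ₗ[A] E ⊗[B] L)
    (d : ∀ p : ℕ, ↥(⋀[B]^p L) →ₗ[A] ↥(⋀[B]^(p + 1) L))
    (hd : LogDiff.IsLogRule (KaehlerDifferential.D A B) ι (⇑ω) d)
    (nablas : ∀ p : ℕ, E ⊗[B] ↥(⋀[B]^p L) →ₗ[A] E ⊗[B] ↥(⋀[B]^(p + 1) L))
    (hint : Conn.IsIntegrable nabla (fun p => lam • d p) nablas)

theorem nabla_expand (e : E) : nabla e = ∑ j, comp nabla ω j e ⊗ₜ[B] ω j :=
  tensor_expand ω (nabla e)

theorem coordE_tmul (p : ℕ) (K : Set.powersetCard (Fin n) p) (e : E) (η : ↥(⋀[B]^p L)) :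
    coordE ω p K (e ⊗ₜ[B] η) = (ω.exteriorPower p).coord K η • e := by
  simp [coordE]

theorem layer_expand (p : ℕ) (x : E ⊗[B] ↥(⋀[B]^p L)) :
    x = ∑ K : Set.powersetCard (Fin n) p, coordE ω p K x ⊗ₜ[B] (ω.exteriorPower p K) :=
  tensor_expand (ω.exteriorPower p) x

include hd in
theorem d_basis (p : ℕ) (K : Set.powersetCard (Fin n) p) : d p (ω.exteriorPower p K) = 0 := by
  have h := hd p 1 (ω ∘ (Set.powersetCard.ofFinEmbEquiv.symm K)) (fun k => Or.inr ⟨_, rfl⟩)
  rw [one_smul] at h
  rw [exteriorPower.basis_apply, exteriorPower.ιMulti_family, h, Derivation.map_one_eq_zero,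
    map_zero]
  exact AlternatingMap.map_coord_zero _ (0 : Fin (p + 1)) (by simp)

include hd hint in
theorem nablas_basis (p : ℕ) (K : Set.powersetCard (Fin n) p) (e : E) :
    nablas p (e ⊗ₜ[B] (ω.exteriorPower p K)) =
      ∑ i, comp nabla ω i e ⊗ₜ[B]
        Conn.wedge p ((exteriorPower.oneEquiv B L).symm (ω i)) (ω.exteriorPower p K) := by
  rw [hint.1 p e (ω.exteriorPower p K)]
  have h0 : (lam • d p) (ω.exteriorPower p K) = 0 := by
    rw [LinearMap.smul_apply, d_basis ω ι d hd, smul_zero]
  rw [h0, TensorProduct.tmul_zero, add_zero, nabla_expand ω nabla e, map_sum, map_sum,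
    LinearMap.sum_apply]
  refine Finset.sum_congr rfl fun i _ => ?_
  rw [Conn.toOne_tmul, Conn.twedge_tmul]

end Groth.Agent.Lib.helper22.LogLayer
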