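import Mathlib
import Groth.Agent.Lib.Helper22.LogLayerB

/-!
# helper22: the components of an integrable logarithmic `λ`-connection commute
-/

set_option autoImplicit false
set_option linter.unusedSectionVars false
universe v u

open TensorProduct LogConn

namespace Groth.Agent.Lib.helper22.LogLayer

section pair
variable {B L : Type u} [CommRing B] [AddCommGroup L] [Module B L] {n : ℕ}
  (ω : Module.Basis (Fin n) B L)

/-- the two-element set `{a, b}`, `a < b` -/
def pairSet (a b : Fin n) (hab : a < b) : Set.powersetCard (Fin n) 2 :=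
  ⟨{a, b}, by
    rw [Set.powersetCard.mem_iff]
    exact Finset.card_pair hab.ne⟩

theorem pairSet_emb (a b : Fin n) (hab : a < b) :
    ⇑(Set.powersetCard.ofFinEmbEquiv.symm (pairSet a b hab)) = ![a, b] := by
  rw [Set.powersetCard.ofFinEmbEquiv_symm_apply]
  symm
  apply Finset.orderEmbOfFin_unique
  · intro x
    fin_cases x
    · simp [pairSet]
    · simp [pairSet]
  · intro x y hxy
    fin_cases x <;> fin_cases y
    · exact absurd hxy (lt_irrefl _)
    · exact hab
    · exact absurd hxy (by decide)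
    · exact absurd hxy (lt_irrefl _)

theorem wedge_one_one (i j : Fin n) :
    Conn.wedge 1 ((exteriorPower.oneEquiv B L).symm (ω i))
      ((exteriorPower.oneEquiv B L).symm (ω j)) =
      exteriorPower.ιMulti B 2 (ω ∘ ![i, j]) := by
  apply Subtype.ext
  rw [Conn.wedge_apply_coe, exteriorPower.oneEquiv_symm_apply, exteriorPower.oneEquiv_symm_apply,
    exteriorPower.ιMulti_apply_coe, exteriorPower.ιMulti_apply_coe,
    exteriorPower.ιMulti_apply_coe, ExteriorAlgebra.ιMulti_succ_apply,
    ExteriorAlgebra.ιMulti_succ_apply, ExteriorAlgebra.ιMulti_succ_apply,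
    ExteriorAlgebra.ιMulti_succ_apply, ExteriorAlgebra.ιMulti_zero_apply,
    ExteriorAlgebra.ιMulti_zero_apply, mul_one, mul_one]
  simp [Matrix.vecTail]

theorem coord_pair (a b : Fin n) (hab : a < b) (i j : Fin n) :
    (ω.exteriorPower 2).coord (pairSet a b hab) (exteriorPower.ιMulti B 2 (ω ∘ ![i, j])) =
      (if i = a ∧ j = b then (1 : B) else 0) - (if i = b ∧ j = a then (1 : B) else 0) := by
  rw [exteriorPower.basis_coord, exteriorPower.ιMultiDual_apply_ιMulti, pairSet_emb,
    Matrix.det_fin_two]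
  simp only [Matrix.of_apply, Module.Basis.coord_apply, Function.comp_apply,
    Matrix.cons_val_zero, Matrix.cons_val_one, Module.Basis.repr_self, Finsupp.single_apply]
  have hne : a ≠ b := hab.ne
  have hne' : b ≠ a := hab.ne'
  by_cases h1 : i = a <;> by_cases h2 : j = b <;> by_cases h3 : i = b <;> by_cases h4 : j = a <;>
    simp_all

end pair

variable {A : Type v} {B L E : Type u} [CommRing A] [CommRing B]
    [Algebra A B] [AddCommGroup L] [Module B L] [Module A L] [IsScalarTower A B L]
    [AddCommGroup E] [Module B E] [Module A E] [IsScalarTower A B E]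
    (lam : B) {n : ℕ}
    (ω : Module.Basis (Fin n) B L) (ι : KaehlerDifferential A B →ₗ[B] L)
    (nabla : E →ₗ[A] E ⊗[B] L)
    (d : ∀ p : ℕ, ↥(⋀[B]^p L) →ₗ[A] ↥(⋀[B]^(p + 1) L))
    (hd : LogDiff.IsLogRule (KaehlerDifferential.D A B) ι (⇑ω) d)
    (nablas : ∀ p : ℕ, E ⊗[B] ↥(⋀[B]^p L) →ₗ[A] E ⊗[B] ↥(⋀[B]^(p + 1) L))
    (hint : Conn.IsIntegrable nabla (fun p => lam • d p) nablas)

include hd in
theorem d_one (j : Fin n) : d 1 ((exteriorPower.oneEquiv B L).symm (ω j)) = 0 := by
  have h := hd 1 1 (fun _ => ω j) (fun k => Or.inr ⟨_, rfl⟩)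
  rw [one_smul] at h
  rw [exteriorPower.oneEquiv_symm_apply, h, Derivation.map_one_eq_zero, map_zero]
  exact AlternatingMap.map_coord_zero _ (0 : Fin 2) (by simp)

include hd hint in
theorem nablas_one (e : E) (j : Fin n) :
    nablas 1 (e ⊗ₜ[B] (exteriorPower.oneEquiv B L).symm (ω j)) =
      ∑ i, comp nabla ω i e ⊗ₜ[B] exteriorPower.ιMulti B 2 (ω ∘ ![i, j]) := by
  rw [hint.1 1 e _]
  have h0 : (lam • d 1) ((exteriorPower.oneEquiv B L).symm (ω j)) = 0 := by
    rw [LinearMap.smul_apply, d_one ω ι d hd, smul_zero]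
  rw [h0, TensorProduct.tmul_zero, add_zero, nabla_expand ω nabla e, map_sum, map_sum,
    LinearMap.sum_apply]
  refine Finset.sum_congr rfl fun i _ => ?_
  rw [Conn.toOne_tmul, Conn.twedge_tmul, wedge_one_one]

include hd hint in
theorem comp_comm_lt (a b : Fin n) (hab : a < b) (m : E) :
    comp nabla ω a (comp nabla ω b m) = comp nabla ω b (comp nabla ω a m) := by
  have h := hint.2 m
  rw [nabla_expand ω nabla m, map_sum, map_sum] at h
  have h1 : ∀ j, nablas 1 (Conn.toOne (comp nabla ω j m ⊗ₜ[B] ω j)) =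
      ∑ i, comp nabla ω i (comp nabla ω j m) ⊗ₜ[B] exteriorPower.ιMulti B 2 (ω ∘ ![i, j]) := by
    intro j
    rw [Conn.toOne_tmul, nablas_one lam ω ι nabla d hd nablas hint]
  rw [Finset.sum_congr rfl (fun j _ => h1 j)] at h
  have h2 := congrArg (coordE ω 2 (pairSet a b hab)) h
  rw [map_zero, map_sum] at h2
  simp only [map_sum, coordE_tmul, coord_pair] at h2
  simp only [sub_smul, ite_smul, one_smul, zero_smul, Finset.sum_sub_distrib] at h2
  have e1 : ∀ j : Fin n, (∑ i : Fin n, if i = a ∧ j = b then comp nabla ω i (comp nabla ω j m) else 0) =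
      if j = b then comp nabla ω a (comp nabla ω j m) else 0 := by
    intro j
    by_cases hj : j = b
    · simp [hj]
    · simp [hj]
  have e2 : ∀ j : Fin n, (∑ i : Fin n, if i = b ∧ j = a then comp nabla ω i (comp nabla ω j m) else 0) =
      if j = a then comp nabla ω b (comp nabla ω j m) else 0 := by
    intro j
    by_cases hj : j = a
    · simp [hj]
    · simp [hj]
  rw [Finset.sum_congr rfl (fun j _ => e1 j), Finset.sum_congr rfl (fun j _ => e2 j),
    Finset.sum_ite_eq' Finset.univ b, Finset.sum_ite_eq' Finset.univ a,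
    if_pos (Finset.mem_univ _), if_pos (Finset.mem_univ _), sub_eq_zero] at h2
  exact h2

include hd hint in
theorem comp_comm (a b : Fin n) (m : E) :
    comp nabla ω a (comp nabla ω b m) = comp nabla ω b (comp nabla ω a m) := by
  rcases lt_trichotomy a b with h | h | h
  · exact comp_comm_lt lam ω ι nabla d hd nablas hint a b h m
  · rw [h]
  · exact (comp_comm_lt lam ω ι nabla d hd nablas hint b a h m).symm

end Groth.Agent.Lib.helper22.LogLayer
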