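import Mathlib
import Groth.Agent.Lib.Helper22.LogLayerC
import Groth.Agent.Lib.Helper26.LogConn1

/-!
# helper22: `∇^p` maps the layer `⊕ E_K ⊗ ω_K` into the next layer
-/

set_option autoImplicit false
set_option linter.unusedSectionVars false
universe v u

open TensorProduct LogConn

namespace Groth.Agent.Lib.helper22.LogLayer

open Groth.Agent.Lib.helper26.LogConnL

variable {A : Type v} {B L E : Type u} [CommRing A] [CommRing B]
    [Algebra A B] [AddCommGroup L] [Module B L] [Module A L] [IsScalarTower A B L]
    [AddCommGroup E] [Module B E] [Module A E] [IsScalarTower A B E]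
    (lam : B) {n : ℕ} (t : Fin n → B) (bΩ : Module.Basis (Fin n) B (KaehlerDifferential A B))
    (hbΩ : ∀ i, bΩ i = KaehlerDifferential.D A B (t i))
    (ω : Module.Basis (Fin n) B L) (ι : KaehlerDifferential A B →ₗ[B] L)
    (hι : ∀ i, ι (KaehlerDifferential.D A B (t i)) = t i • ω i)
    (nabla : E →ₗ[A] E ⊗[B] L)
    (hc : Conn.IsLamConn (ι.compDer (KaehlerDifferential.D A B)) lam nabla)
    (d : ∀ p : ℕ, ↥(⋀[B]^p L) →ₗ[A] ↥(⋀[B]^(p + 1) L))
    (hd : LogDiff.IsLogRule (KaehlerDifferential.D A B) ι (⇑ω) d)
    (nablas : ∀ p : ℕ, E ⊗[B] ↥(⋀[B]^p L) →ₗ[A] E ⊗[B] ↥(⋀[B]^(p + 1) L))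
    (hint : Conn.IsIntegrable nabla (fun p => lam • d p) nablas)

/-- with commuting components, `∇_{K ∪ j} = ∇_j ∘ ∇_K` for any `j ∉ K` -/
theorem compProd_insert' (hcomm : ∀ a b m, comp nabla ω a (comp nabla ω b m) =
      comp nabla ω b (comp nabla ω a m)) (j : Fin n) (K : Finset (Fin n)) :
    j ∉ K → compProd nabla ω (insert j K) = comp nabla ω j ∘ₗ compProd nabla ω K := by
  classical
  induction K using Finset.induction_on_min with
  | empty =>
    intro _
    exact compProd_insert ω nabla j ∅ (fun k hk => absurd hk (Finset.notMem_empty k))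
  | insert k K' hk ih =>
    intro hj
    have hjk : j ≠ k := fun h => hj (h ▸ Finset.mem_insert_self _ _)
    have hjK' : j ∉ K' := fun h => hj (Finset.mem_insert_of_mem h)
    rcases lt_or_gt_of_ne hjk with h | h
    · apply compProd_insert ω nabla j (insert k K')
      intro x hx
      rw [Finset.mem_insert] at hx
      rcases hx with rfl | hx
      · exact h
      · exact h.trans (hk x hx)
    · have e1 : insert j (insert k K') = insert k (insert j K') := Finset.insert_comm j k K'
      rw [e1, compProd_insert ω nabla k (insert j K') (by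
          intro x hx
          rw [Finset.mem_insert] at hx
          rcases hx with rfl | hx
          · exact h
          · exact hk x hx), ih hjK', compProd_insert ω nabla k K' hk]
      apply LinearMap.ext
      intro m
      simp only [LinearMap.comp_apply]
      exact hcomm k j _

include hc hι in
/-- `∇_j E_K ⊆ E_{K ∪ j}` for `j ∉ K`, when the components commute -/
theorem comp_piece_le' (hcomm : ∀ a b m, comp nabla ω a (comp nabla ω b m) =
      comp nabla ω b (comp nabla ω a m)) (j : Fin n) (K : Finset (Fin n)) (hjK : j ∉ K) :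
    piece nabla ω t K ≤ (piece nabla ω t (insert j K)).comap (comp nabla ω j) := by
  classical
  rw [piece_le_iff]
  intro J' hJ' e
  rw [Submodule.mem_comap]
  unfold gen
  rw [comp_prod_smul lam t ω ι hι nabla hc j (K \ J') (fun h => hjK (Finset.mem_sdiff.1 h).1)]
  have h1 : comp nabla ω j (compProd nabla ω J' e) = compProd nabla ω (insert j J') e := by
    rw [compProd_insert' ω nabla hcomm j J' (fun h => hjK (hJ' h))]
    rfl
  have h2 : K \ J' = insert j K \ insert j J' := by
    ext x
    simp only [Finset.mem_sdiff, Finset.mem_insert]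
    constructor
    · rintro ⟨hxK, hxJ⟩
      refine ⟨Or.inr hxK, ?_⟩
      rintro (hxj | h)
      · exact hjK (hxj ▸ hxK)
      · exact hxJ h
    · rintro ⟨hxj | hxK, hx2⟩
      · exact absurd (Or.inl hxj) hx2
      · exact ⟨hxK, fun h => hx2 (Or.inr h)⟩
  rw [h1, h2]
  exact gen_mem_piece t ω nabla (Finset.insert_subset_insert j hJ') e

include hbΩ hι hc hd hint in
theorem main (p : ℕ) (x : E ⊗[B] ↥(⋀[B]^p L)) (hx : x ∈ LogConn.layer nabla ω t p) :
    nablas p x ∈ LogConn.layer nabla ω t (p + 1) := by
  classical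
  have hcomm := comp_comm lam ω ι nabla d hd nablas hint
  have hx' : ∀ K : Set.powersetCard (Fin n) p,
      coordE ω p K x ∈ piece nabla ω t (K : Finset (Fin n)) := by
    intro K
    have := (Submodule.mem_iInf _).mp hx K
    exact this
  unfold LogConn.layer
  rw [Submodule.mem_iInf]
  intro K'
  rw [Submodule.mem_comap]
  change coordE ω (p + 1) K' (nablas p x) ∈ _
  conv in nablas p x => rw [layer_expand ω p x]
  rw [map_sum, map_sum]
  refine Submodule.sum_mem _ fun K _ => ?_
  rw [nablas_basis lam ω ι nabla d hd nablas hint, map_sum]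
  refine Submodule.sum_mem _ fun i _ => ?_
  rw [coordE_tmul]
  by_cases h0 : (ω.exteriorPower (p + 1)).coord K'
      (Conn.wedge p ((exteriorPower.oneEquiv B L).symm (ω i)) (ω.exteriorPower p K)) = 0
  · rw [h0, zero_smul]
    exact Submodule.zero_mem _
  · obtain ⟨h1, h2⟩ := coord_wedge_basis_ne_zero ω p i K K' h0
    apply smul_mem_piece lam t bΩ hbΩ ω ι hι nabla hc
    rw [h1]
    exact comp_piece_le' lam t ω ι hι nabla hc hcomm i _ h2 (hx' K)

end Groth.Agent.Lib.helper22.LogLayer
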