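import Mathlib
import Groth.Agent.Lib.Helper22.LogLayerD

/-!
# helper22: pieces `E_I` of a logarithmic `λ`-connection with commuting components
-/

set_option autoImplicit false
set_option linter.unusedSectionVars false
universe v u

open TensorProduct LogConn

namespace Groth.Agent.Lib.helper22.LogLayer

open Groth.Agent.Lib.helper26.LogConnL

variable {A : Type v} {B L E : Type u} [CommRing A] [CommRing B]
    [Algebra A B] [AddCommGroup L] [Module B L] [Module A L] [IsScalarTower A B L]
    [AddCommGroup E] [Module B E] [Module A E] [IsScalarTower A B E]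
    (lam : B) {n : ℕ} (t : Fin n → B) (bΩ : Module.Basis (Fin n) B (KaehlerDifferential A B))
    (hbΩ : ∀ i, bΩ i = KaehlerDifferential.D A B (t i))
    (ω : Module.Basis (Fin n) B L) (ι : KaehlerDifferential A B →ₗ[B] L)
    (hι : ∀ i, ι (KaehlerDifferential.D A B (t i)) = t i • ω i)
    (nabla : E →ₗ[A] E ⊗[B] L)
    (hc : Conn.IsLamConn (ι.compDer (KaehlerDifferential.D A B)) lam nabla)
    (d : ∀ p : ℕ, ↥(⋀[B]^p L) →ₗ[A] ↥(⋀[B]^(p + 1) L))
    (nablas : ∀ p : ℕ, E ⊗[B] ↥(⋀[B]^p L) →ₗ[A] E ⊗[B] ↥(⋀[B]^(p + 1) L))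
    (hint : Conn.IsIntegrable nabla (fun p => lam • d p) nablas)

section comm
variable (hd1 : ∀ j, d 1 ((exteriorPower.oneEquiv B L).symm (ω j)) = 0)

include hd1 hint in
theorem nablas_one' (e : E) (j : Fin n) :
    nablas 1 (e ⊗ₜ[B] (exteriorPower.oneEquiv B L).symm (ω j)) =
      ∑ i, comp nabla ω i e ⊗ₜ[B] exteriorPower.ιMulti B 2 (ω ∘ ![i, j]) := by
  rw [hint.1 1 e _]
  have h0 : (lam • d 1) ((exteriorPower.oneEquiv B L).symm (ω j)) = 0 := by
    rw [LinearMap.smul_apply, hd1, smul_zero]
  rw [h0, TensorProduct.tmul_zero, add_zero, nabla_expand ω nabla e, map_sum, map_sum,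
    LinearMap.sum_apply]
  refine Finset.sum_congr rfl fun i _ => ?_
  rw [Conn.toOne_tmul, Conn.twedge_tmul, wedge_one_one]

include hd1 hint in
theorem comp_comm_lt' (a b : Fin n) (hab : a < b) (m : E) :
    comp nabla ω a (comp nabla ω b m) = comp nabla ω b (comp nabla ω a m) := by
  have h := hint.2 m
  rw [nabla_expand ω nabla m, map_sum, map_sum] at h
  have h1 : ∀ j, nablas 1 (Conn.toOne (comp nabla ω j m ⊗ₜ[B] ω j)) =
      ∑ i, comp nabla ω i (comp nabla ω j m) ⊗ₜ[B] exteriorPower.ιMulti B 2 (ω ∘ ![i, j]) := by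
    intro j
    rw [Conn.toOne_tmul, nablas_one' lam ω nabla d nablas hint hd1]
  rw [Finset.sum_congr rfl (fun j _ => h1 j)] at h
  have h2 := congrArg (coordE ω 2 (pairSet a b hab)) h
  rw [map_zero, map_sum] at h2
  simp only [map_sum, coordE_tmul, coord_pair] at h2
  simp only [sub_smul, ite_smul, one_smul, zero_smul, Finset.sum_sub_distrib] at h2
  have e1 : ∀ j : Fin n, (∑ i : Fin n, if i = a ∧ j = b then comp nabla ω i (comp nabla ω j m) else 0) =
      if j = b then comp nabla ω a (comp nabla ω j m) else 0 := by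
    intro j
    by_cases hj : j = b
    · simp [hj]
    · simp [hj]
  have e2 : ∀ j : Fin n, (∑ i : Fin n, if i = b ∧ j = a then comp nabla ω i (comp nabla ω j m) else 0) =
      if j = a then comp nabla ω b (comp nabla ω j m) else 0 := by
    intro j
    by_cases hj : j = a
    · simp [hj]
    · simp [hj]
  rw [Finset.sum_congr rfl (fun j _ => e1 j), Finset.sum_congr rfl (fun j _ => e2 j),
    Finset.sum_ite_eq' Finset.univ b, Finset.sum_ite_eq' Finset.univ a,
    if_pos (Finset.mem_univ _), if_pos (Finset.mem_univ _), sub_eq_zero] at h2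
  exact h2

include hd1 hint in
theorem comp_comm' (a b : Fin n) (m : E) :
    comp nabla ω a (comp nabla ω b m) = comp nabla ω b (comp nabla ω a m) := by
  rcases lt_trichotomy a b with h | h | h
  · exact comp_comm_lt' lam ω nabla d nablas hint hd1 a b h m
  · rw [h]
  · exact (comp_comm_lt' lam ω nabla d nablas hint hd1 b a h m).symm

end comm

section pieces
variable (hcomm : ∀ a b m, comp nabla ω a (comp nabla ω b m) = comp nabla ω b (comp nabla ω a m))

include hcomm in
/-- `∇_j` commutes with `∇_J` -/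
theorem comp_compProd_comm (j : Fin n) (J : Finset (Fin n)) (e : E) :
    comp nabla ω j (compProd nabla ω J e) = compProd nabla ω J (comp nabla ω j e) := by
  classical
  induction J using Finset.induction_on_min generalizing e with
  | empty => rw [compProd_empty]; rfl
  | insert k K hk ih =>
    rw [compProd_insert ω nabla k K hk, LinearMap.comp_apply, LinearMap.comp_apply, hcomm j k, ih]

include hcomm in
/-- `∇_{J₁ ∪ J₂} = ∇_{J₁} ∘ ∇_{J₂}` for disjoint `J₁`, `J₂` -/
theorem compProd_union (J₁ J₂ : Finset (Fin n)) (hdisj : Disjoint J₁ J₂) (e : E) :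
    compProd nabla ω (J₁ ∪ J₂) e = compProd nabla ω J₁ (compProd nabla ω J₂ e) := by
  classical
  induction J₁ using Finset.induction_on with
  | empty => rw [Finset.empty_union, compProd_empty]; rfl
  | insert k K hk ih =>
    rw [Finset.disjoint_insert_left] at hdisj
    have hk' : k ∉ K ∪ J₂ := by
      rw [Finset.mem_union]
      rintro (h | h)
      · exact hk h
      · exact hdisj.1 h
    rw [Finset.insert_union, compProd_insert' ω nabla hcomm k _ hk', LinearMap.comp_apply,
      ih hdisj.2, compProd_insert' ω nabla hcomm k K hk, LinearMap.comp_apply]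

include hι in
theorem del_prod_mem (j : Fin n) (S : Finset (Fin n)) (hj : j ∈ S) :
    del (A := A) ω ι j (∏ k ∈ S, t k) = ∏ k ∈ S, t k := by
  classical
  have hS : S = insert j (S.erase j) := (Finset.insert_erase hj).symm
  rw [hS, Finset.prod_insert (Finset.notMem_erase j S), del_mul,
    del_prod t ω ι hι j (S.erase j) (Finset.notMem_erase j S), del_t t ω ι hι, if_pos rfl,
    mul_zero, zero_add, mul_comm]

include hc hι hbΩ hcomm in
/-- Lemma A: `t_i ∇_j (E_K) ⊆ E_{K ∪ i}` for `i ∉ K` and any `j` -/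
theorem smul_comp_piece_le (i j : Fin n) (K : Finset (Fin n)) (hiK : i ∉ K) (x : E)
    (hx : x ∈ piece nabla ω t K) :
    t i • comp nabla ω j x ∈ piece nabla ω t (insert i K) := by
  classical
  have key : piece nabla ω t K ≤ (piece nabla ω t (insert i K)).comap
      (((LinearMap.lsmul B E (t i)).restrictScalars A) ∘ₗ comp nabla ω j) := by
    rw [piece_le_iff]
    intro J hJ e
    rw [Submodule.mem_comap]
    change t i • comp nabla ω j (gen t ω nabla K J e) ∈ _
    have hiJ : i ∉ J := fun h => hiK (hJ h)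
    have hprod : t i * ∏ k ∈ K \ J, t k = ∏ k ∈ insert i K \ J, t k := by
      rw [Finset.insert_sdiff_of_notMem _ hiJ, Finset.prod_insert]
      intro h
      exact hiK (Finset.mem_sdiff.1 h).1
    unfold gen
    by_cases hj : j ∈ K \ J
    · -- `j ∈ K ∖ J`
      rw [comp_smul lam ω ι nabla hc, del_prod_mem t ω ι hι j _ hj, smul_add]
      have hjJ : j ∉ J := (Finset.mem_sdiff.1 hj).2
      have hjK : j ∈ K := (Finset.mem_sdiff.1 hj).1
      refine Submodule.add_mem _ ?_ ?_
      · have h1 : comp nabla ω j (compProd nabla ω J e) = compProd nabla ω (insert j J) e := by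
          rw [compProd_insert' ω nabla hcomm j J hjJ]; rfl
        have h2 : t i * ∏ k ∈ K \ J, t k = t j * ∏ k ∈ insert i K \ insert j J, t k := by
          rw [hprod]
          have : insert i K \ J = insert j (insert i K \ insert j J) := by
            ext x
            simp only [Finset.mem_sdiff, Finset.mem_insert]
            constructor
            · rintro ⟨h1, h2⟩
              by_cases hxj : x = j
              · exact Or.inl hxj
              · exact Or.inr ⟨h1, fun h => h.elim hxj h2⟩
            · rintro (rfl | ⟨h1, h2⟩)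
              · exact ⟨Or.inr hjK, hjJ⟩
              · exact ⟨h1, fun h => h2 (Or.inr h)⟩
          rw [this, Finset.prod_insert]
          intro h
          exact (Finset.mem_sdiff.1 h).2 (Finset.mem_insert_self _ _)
        rw [h1, smul_smul, h2, ← smul_smul]
        apply smul_mem_piece lam t bΩ hbΩ ω ι hι nabla hc
        exact gen_mem_piece t ω nabla (by
          intro x hx
          rw [Finset.mem_insert] at hx ⊢
          rcases hx with rfl | hx
          · exact Or.inr hjK
          · exact Or.inr (hJ hx)) e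
      · have h3 : t i * (lam * ∏ k ∈ K \ J, t k) = lam * ∏ k ∈ insert i K \ J, t k := by
          rw [← hprod]; ring
        rw [smul_smul, h3, ← smul_smul]
        apply smul_mem_piece lam t bΩ hbΩ ω ι hι nabla hc
        exact gen_mem_piece t ω nabla (hJ.trans (Finset.subset_insert _ _)) e
    · -- `j ∉ K ∖ J`
      rw [comp_prod_smul lam t ω ι hι nabla hc j (K \ J) hj,
        comp_compProd_comm ω nabla hcomm, smul_smul, hprod]
      exact gen_mem_piece t ω nabla (hJ.trans (Finset.subset_insert _ _)) _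
  exact key hx

include hc hι hbΩ hcomm in
/-- the pieces decrease: `E_K ⊆ E_{K₀}` for `K₀ ⊆ K` -/
theorem piece_anti (K₀ K : Finset (Fin n)) (hK : K₀ ⊆ K) :
    piece nabla ω t K ≤ piece nabla ω t K₀ := by
  classical
  rw [piece_le_iff]
  intro J hJ e
  unfold gen
  have hJ' : J = (J ∩ K₀) ∪ (J \ K₀) := by
    ext x
    simp only [Finset.mem_union, Finset.mem_inter, Finset.mem_sdiff]
    tauto
  have hdisj : Disjoint (J ∩ K₀) (J \ K₀) := by
    rw [Finset.disjoint_left]
    intro x hx hx'
    exact (Finset.mem_sdiff.1 hx').2 (Finset.mem_inter.1 hx).2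
  have h1 : compProd nabla ω J e = compProd nabla ω (J ∩ K₀) (compProd nabla ω (J \ K₀) e) := by
    conv_lhs => rw [hJ']
    exact compProd_union ω nabla hcomm _ _ hdisj e
  have h2 : ∏ k ∈ K \ J, t k = (∏ k ∈ (K \ K₀) \ J, t k) * ∏ k ∈ K₀ \ (J ∩ K₀), t k := by
    rw [← Finset.prod_union]
    · congr 1
      ext x
      simp only [Finset.mem_union, Finset.mem_sdiff, Finset.mem_inter]
      constructor
      · rintro ⟨hxK, hxJ⟩
        by_cases hx0 : x ∈ K₀
        · exact Or.inr ⟨hx0, fun h => hxJ h.1⟩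
        · exact Or.inl ⟨⟨hxK, hx0⟩, hxJ⟩
      · rintro (⟨⟨hxK, _⟩, hxJ⟩ | ⟨hx0, hxJ⟩)
        · exact ⟨hxK, hxJ⟩
        · exact ⟨hK hx0, fun h => hxJ ⟨h, hx0⟩⟩
    · rw [Finset.disjoint_left]
      intro x hx hx'
      exact (Finset.mem_sdiff.1 (Finset.mem_sdiff.1 hx).1).2 (Finset.mem_sdiff.1 hx').1
  rw [h1, h2, ← smul_smul]
  apply smul_mem_piece lam t bΩ hbΩ ω ι hι nabla hc
  exact gen_mem_piece t ω nabla Finset.inter_subset_right _

include hc hι hbΩ hcomm in
/-- Lemma B: `t_{K' ∖ K} E_K ⊆ E_{K'}` -/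
theorem prod_sdiff_smul_piece (K K' : Finset (Fin n)) (x : E) (hx : x ∈ piece nabla ω t K) :
    (∏ k ∈ K' \ K, t k) • x ∈ piece nabla ω t K' := by
  classical
  have h1 : x ∈ piece nabla ω t (K ∩ K') :=
    piece_anti lam t bΩ hbΩ ω ι hι nabla hc hcomm _ _ Finset.inter_subset_left hx
  have h2 := smul_piece_le t ω nabla (I := K') (J := K ∩ K') Finset.inter_subset_right h1
  rw [Submodule.mem_comap] at h2
  have h3 : K' \ (K ∩ K') = K' \ K := by
    ext x
    simp only [Finset.mem_sdiff, Finset.mem_inter]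
    tauto
  rw [h3] at h2
  exact h2

end pieces

end Groth.Agent.Lib.helper22.LogLayer
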