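import Mathlib
import Groth.Agent.Lib.Helper22.LogCoordA

/-!
# helper22: comparison of the pieces and layers of a logarithmic `λ`-connection in two coordinate
systems `t`, `t' = u t`
-/

set_option autoImplicit false
set_option linter.unusedSectionVars false
universe v u

open TensorProduct LogConn

namespace Groth.Agent.Lib.helper22.LogLayer

open Groth.Agent.Lib.helper26.LogConnL

variable {A : Type v} {B L E : Type u} [CommRing A] [CommRing B]
    [Algebra A B] [AddCommGroup L] [Module B L] [Module A L] [IsScalarTower A B L]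
    [AddCommGroup E] [Module B E] [Module A E] [IsScalarTower A B E]
    (lam : B) {n : ℕ} (t t' : Fin n → B)
    (bΩ bΩ' : Module.Basis (Fin n) B (KaehlerDifferential A B))
    (hbΩ : ∀ i, bΩ i = KaehlerDifferential.D A B (t i))
    (hbΩ' : ∀ i, bΩ' i = KaehlerDifferential.D A B (t' i))
    (ω ω' : Module.Basis (Fin n) B L) (ι : KaehlerDifferential A B →ₗ[B] L)
    (hι : ∀ i, ι (KaehlerDifferential.D A B (t i)) = t i • ω i)
    (hι' : ∀ i, ι (KaehlerDifferential.D A B (t' i)) = t' i • ω' i)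
    (nabla : E →ₗ[A] E ⊗[B] L)
    (hc : Conn.IsLamConn (ι.compDer (KaehlerDifferential.D A B)) lam nabla)
    (u : Fin n → Bˣ) (ht' : ∀ i, t' i = (u i : B) * t i)
    (hω' : ∀ i, ω' i = ω i + ((u i)⁻¹ : Bˣ).val • ι (KaehlerDifferential.D A B (u i : B)))
    (hcomm' : ∀ a b m, comp nabla ω' a (comp nabla ω' b m) = comp nabla ω' b (comp nabla ω' a m))

include hbΩ hι ht' hω' in
/-- (F1) the coordinates of `ω'_i` in the basis `ω` -/
theorem coord_omega' (i j : Fin n) : ∃ β : B,
    ω.coord j (ω' i) = (if i = j then 1 else 0) + t' j * β := by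
  refine ⟨((u j)⁻¹ : Bˣ).val * ((u i)⁻¹ : Bˣ).val * bΩ.repr (KaehlerDifferential.D A B (u i : B)) j, ?_⟩
  rw [hω' i, map_add, map_smul, Module.Basis.coord_apply, Module.Basis.repr_self,
    Finsupp.single_apply, smul_eq_mul]
  have h1 : ω.coord j (ι (KaehlerDifferential.D A B (u i : B))) =
      t j * bΩ.repr (KaehlerDifferential.D A B (u i : B)) j :=
    del_eq t bΩ hbΩ ω ι hι j (u i : B)
  rw [h1, ht' j]
  have h2 : ((u j)⁻¹ : Bˣ).val * (u j : B) = 1 := by
    rw [← Units.val_mul, inv_mul_cancel, Units.val_one]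
  congr 1
  calc ((u i)⁻¹ : Bˣ).val * (t j * bΩ.repr (KaehlerDifferential.D A B (u i : B)) j)
      = (((u j)⁻¹ : Bˣ).val * (u j : B)) * (((u i)⁻¹ : Bˣ).val *
          (t j * bΩ.repr (KaehlerDifferential.D A B (u i : B)) j)) := by rw [h2, one_mul]
    _ = _ := by ring

/-- (F2) the components in the basis `ω` through those in the basis `ω'` -/
theorem comp_eq_sum (j : Fin n) (e : E) :
    comp nabla ω j e = ∑ i, ω.coord j (ω' i) • comp nabla ω' i e := by
  unfold comp
  rw [Conn.along_apply]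
  conv_lhs => rw [nabla_expand ω' nabla e]
  rw [map_sum, map_sum]
  refine Finset.sum_congr rfl fun i _ => ?_
  rw [TensorProduct.map_tmul, TensorProduct.rid_tmul, LinearMap.id_apply]
  rfl

include hbΩ hbΩ' hι hι' hc ht' hω' hcomm' in
/-- (F3) `∇_i E'_K ⊆ E'_{K ∪ i}` for `i ∉ K` -/
theorem comp_mem_piece' (i : Fin n) (K : Finset (Fin n)) (hiK : i ∉ K) (x : E)
    (hx : x ∈ piece nabla ω' t' K) :
    comp nabla ω i x ∈ piece nabla ω' t' (insert i K) := by
  rw [comp_eq_sum ω ω' nabla i x]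
  refine Submodule.sum_mem _ fun k _ => ?_
  obtain ⟨β, hβ⟩ := coord_omega' t t' bΩ hbΩ ω ω' ι hι u ht' hω' k i
  rw [hβ, add_smul]
  refine Submodule.add_mem _ ?_ ?_
  · by_cases hki : k = i
    · rw [if_pos hki, one_smul, hki]
      exact comp_piece_le' lam t' ω' ι hι' nabla hc hcomm' i K hiK hx
    · rw [if_neg hki, zero_smul]
      exact Submodule.zero_mem _
  · rw [mul_comm, ← smul_smul]
    apply smul_mem_piece lam t' bΩ' hbΩ' ω' ι hι' nabla hc
    exact smul_comp_piece_le lam t' bΩ' hbΩ' ω' ι hι' nabla hc hcomm' i k K hiK x hx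

include hbΩ hbΩ' hι hι' hc ht' hω' hcomm' in
/-- (F4) `∇_J (E) ⊆ E'_J` -/
theorem compProd_mem_piece' (J : Finset (Fin n)) (e : E) :
    compProd nabla ω J e ∈ piece nabla ω' t' J := by
  classical
  induction J using Finset.induction_on_min generalizing e with
  | empty =>
    rw [compProd_empty]
    have := gen_mem_piece t' ω' nabla (Finset.Subset.refl (∅ : Finset (Fin n))) e
    unfold gen at this
    rwa [Finset.sdiff_self, Finset.prod_empty, one_smul, compProd_empty] at this
  | insert k K hk ih =>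
    rw [compProd_insert ω nabla k K hk, LinearMap.comp_apply]
    have hkK : k ∉ K := fun h => lt_irrefl k (hk k h)
    exact comp_mem_piece' lam t t' bΩ bΩ' hbΩ hbΩ' ω ω' ι hι hι' nabla hc u ht' hω' hcomm' k K hkK _
      (ih _)

include hbΩ hbΩ' hι hι' hc ht' hω' hcomm' in
/-- (F5) `E_I ⊆ E'_I` -/
theorem piece_le_piece' (I : Finset (Fin n)) :
    piece nabla ω t I ≤ piece nabla ω' t' I := by
  classical
  rw [piece_le_iff]
  intro J hJ e
  unfold gen
  have h1 := compProd_mem_piece' lam t t' bΩ bΩ' hbΩ hbΩ' ω ω' ι hι hι' nabla hc u ht' hω' hcomm' J e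
  have h2 := smul_piece_le t' ω' nabla hJ h1
  rw [Submodule.mem_comap] at h2
  have h3 : ∏ k ∈ I \ J, t k = (∏ k ∈ I \ J, ((u k)⁻¹ : Bˣ).val) * ∏ k ∈ I \ J, t' k := by
    rw [← Finset.prod_mul_distrib]
    refine Finset.prod_congr rfl fun k _ => ?_
    rw [ht' k, ← mul_assoc, ← Units.val_mul, inv_mul_cancel, Units.val_one, one_mul]
  rw [h3, ← smul_smul]
  apply smul_mem_piece lam t' bΩ' hbΩ' ω' ι hι' nabla hc
  exact h2

include hbΩ' hι' hω' in
/-- (F6) the coordinates of `ω_k` in the basis `ω'` -/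
theorem coord'_omega (k j : Fin n) : ∃ γ : B,
    ω'.coord j (ω k) = (if k = j then 1 else 0) + t' j * γ := by
  refine ⟨-(((u k)⁻¹ : Bˣ).val * bΩ'.repr (KaehlerDifferential.D A B (u k : B)) j), ?_⟩
  have h0 : ω k = ω' k - ((u k)⁻¹ : Bˣ).val • ι (KaehlerDifferential.D A B (u k : B)) := by
    rw [hω' k]; abel
  rw [h0, map_sub, map_smul, Module.Basis.coord_apply, Module.Basis.repr_self,
    Finsupp.single_apply, smul_eq_mul]
  have h1 : ω'.coord j (ι (KaehlerDifferential.D A B (u k : B))) =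
      t' j * bΩ'.repr (KaehlerDifferential.D A B (u k : B)) j :=
    del_eq t' bΩ' hbΩ' ω' ι hι' j (u k : B)
  rw [h1]
  ring

end Groth.Agent.Lib.helper22.LogLayer
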