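import Mathlib
import Groth.Agent.Lib.Helper22.LogCoordB

/-!
# helper22: the layers of a logarithmic `λ`-connection in two coordinate systems
-/

set_option autoImplicit false
set_option linter.unusedSectionVars false
universe v u

open TensorProduct LogConn

namespace Groth.Agent.Lib.helper22.LogLayer

open Groth.Agent.Lib.helper26.LogConnL

variable {A : Type v} {B L E : Type u} [CommRing A] [CommRing B]
    [Algebra A B] [AddCommGroup L] [Module B L] [Module A L] [IsScalarTower A B L]
    [AddCommGroup E] [Module B E] [Module A E] [IsScalarTower A B E]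
    (lam : B) {n : ℕ} (t t' : Fin n → B)
    (bΩ bΩ' : Module.Basis (Fin n) B (KaehlerDifferential A B))
    (hbΩ : ∀ i, bΩ i = KaehlerDifferential.D A B (t i))
    (hbΩ' : ∀ i, bΩ' i = KaehlerDifferential.D A B (t' i))
    (ω ω' : Module.Basis (Fin n) B L) (ι : KaehlerDifferential A B →ₗ[B] L)
    (hι : ∀ i, ι (KaehlerDifferential.D A B (t i)) = t i • ω i)
    (hι' : ∀ i, ι (KaehlerDifferential.D A B (t' i)) = t' i • ω' i)
    (nabla : E →ₗ[A] E ⊗[B] L)
    (hc : Conn.IsLamConn (ι.compDer (KaehlerDifferential.D A B)) lam nabla)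
    (u : Fin n → Bˣ) (ht' : ∀ i, t' i = (u i : B) * t i)
    (hω' : ∀ i, ω' i = ω i + ((u i)⁻¹ : Bˣ).val • ι (KaehlerDifferential.D A B (u i : B)))
    (hcomm' : ∀ a b m, comp nabla ω' a (comp nabla ω' b m) = comp nabla ω' b (comp nabla ω' a m))

include hbΩ' hι' hω' in
/-- (F7) the coordinate of `ω_K` along `ω'_{K'}` is divisible by `t'_{K' ∖ K}` -/
theorem coord'_basis (p : ℕ) (K K' : Set.powersetCard (Fin n) p) : ∃ c : B,
    (ω'.exteriorPower p).coord K' (ω.exteriorPower p K) =
      (∏ j ∈ (K' : Finset (Fin n)) \ (K : Finset (Fin n)), t' j) * c := by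
  classical
  choose γ hγ using coord'_omega t' bΩ' hbΩ' ω ω' ι hι' u hω'
  rw [exteriorPower.basis_apply, exteriorPower.basis_coord, exteriorPower.ιMulti_family,
    exteriorPower.ιMultiDual_apply_ιMulti]
  set eK := Set.powersetCard.ofFinEmbEquiv.symm K with heK
  set eK' := Set.powersetCard.ofFinEmbEquiv.symm K' with heK'
  let v : Fin p → B := fun b => if eK' b ∈ (K : Finset (Fin n)) then 1 else t' (eK' b)
  let M : Matrix (Fin p) (Fin p) B := Matrix.of fun a b =>
    if eK' b ∈ (K : Finset (Fin n)) then ω'.coord (eK' b) (ω (eK a)) else γ (eK a) (eK' b)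
  have hM : (Matrix.of fun a b => ω'.coord (eK' b) ((ω ∘ eK) a)) =
      Matrix.of fun a b => v b * M a b := by
    ext a b
    simp only [Matrix.of_apply, Function.comp_apply, v, M]
    by_cases hb : eK' b ∈ (K : Finset (Fin n))
    · rw [if_pos hb, if_pos hb, one_mul]
    · rw [if_neg hb, if_neg hb, hγ, if_neg, zero_add]
      intro h
      apply hb
      rw [← h]
      exact (Set.powersetCard.mem_range_ofFinEmbEquiv_symm_iff_mem K _).mp ⟨a, rfl⟩
  rw [hM, Matrix.det_mul_row]
  refine ⟨M.det, ?_⟩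
  congr 1
  have h1 : ∏ b, v b = ∏ j ∈ (K' : Finset (Fin n)),
      (if j ∈ (K : Finset (Fin n)) then (1 : B) else t' j) := by
    have himg : Finset.image (fun b => eK' b) Finset.univ = (K' : Finset (Fin n)) := by
      rw [heK', Set.powersetCard.ofFinEmbEquiv_symm_apply]
      exact Finset.image_orderEmbOfFin_univ _ _
    rw [← himg, Finset.prod_image]
    intro a _ b _ hab
    exact eK'.injective hab
  rw [h1, Finset.prod_ite, Finset.prod_const_one, one_mul, Finset.filter_notMem_eq_sdiff]

include hbΩ hbΩ' hι hι' hc ht' hω' hcomm' in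
/-- (F8) the layer for `(t, ω)` is contained in the layer for `(t', ω')` -/
theorem layer_le_layer' (p : ℕ) :
    LogConn.layer nabla ω t p ≤ LogConn.layer nabla ω' t' p := by
  classical
  intro x hx
  have hx' : ∀ K : Set.powersetCard (Fin n) p,
      coordE ω p K x ∈ piece nabla ω t (K : Finset (Fin n)) := by
    intro K
    have := (Submodule.mem_iInf _).mp hx K
    exact this
  unfold LogConn.layer
  rw [Submodule.mem_iInf]
  intro K'
  rw [Submodule.mem_comap]
  change coordE ω' p K' x ∈ _
  conv in coordE ω' p K' x => rw [layer_expand ω p x]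
  rw [map_sum]
  refine Submodule.sum_mem _ fun K _ => ?_
  rw [coordE_tmul]
  obtain ⟨c, hc'⟩ := coord'_basis t' bΩ' hbΩ' ω ω' ι hι' u hω' p K K'
  rw [hc', mul_comm, ← smul_smul]
  apply smul_mem_piece lam t' bΩ' hbΩ' ω' ι hι' nabla hc
  apply prod_sdiff_smul_piece lam t' bΩ' hbΩ' ω' ι hι' nabla hc hcomm'
  exact piece_le_piece' lam t t' bΩ bΩ' hbΩ hbΩ' ω ω' ι hι hι' nabla hc u ht' hω' hcomm' _ (hx' K)

end Groth.Agent.Lib.helper22.LogLayer
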