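import Mathlib
import Groth.Agent.Lib.Helper22.LogCoordC

/-!
# helper22: invariance of the layers of an integrable logarithmic `λ`-connection under a unit change
of coordinates
-/

set_option autoImplicit false
set_option linter.unusedSectionVars false
universe v u

open TensorProduct LogConn

namespace Groth.Agent.Lib.helper22.LogLayer

open Groth.Agent.Lib.helper26.LogConnL

variable {A : Type v} {B L E : Type u} [CommRing A] [CommRing B]
    [Algebra A B] [AddCommGroup L] [Module B L] [Module A L] [IsScalarTower A B L]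
    [AddCommGroup E] [Module B E] [Module A E] [IsScalarTower A B E]
    (lam : B) {n : ℕ} (t : Fin n → B) (bΩ : Module.Basis (Fin n) B (KaehlerDifferential A B))
    (hbΩ : ∀ i, bΩ i = KaehlerDifferential.D A B (t i))
    (ω : Module.Basis (Fin n) B L) (ι : KaehlerDifferential A B →ₗ[B] L)
    (hι : ∀ i, ι (KaehlerDifferential.D A B (t i)) = t i • ω i)
    (nabla : E →ₗ[A] E ⊗[B] L)
    (hc : Conn.IsLamConn (ι.compDer (KaehlerDifferential.D A B)) lam nabla)
    (d : ∀ p : ℕ, ↥(⋀[B]^p L) →ₗ[A] ↥(⋀[B]^(p + 1) L))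
    (hd : LogDiff.IsLogRule (KaehlerDifferential.D A B) ι (⇑ω) d)
    (nablas : ∀ p : ℕ, E ⊗[B] ↥(⋀[B]^p L) →ₗ[A] E ⊗[B] ↥(⋀[B]^(p + 1) L))
    (hint : Conn.IsIntegrable nabla (fun p => lam • d p) nablas)
    (u : Fin n → Bˣ) (bΩ' : Module.Basis (Fin n) B (KaehlerDifferential A B))
    (hbΩ' : ∀ i, bΩ' i = KaehlerDifferential.D A B ((u i : B) * t i))
    (ω' : Module.Basis (Fin n) B L)
    (hω' : ∀ i, ω' i = ω i + ((u i)⁻¹ : Bˣ).val • ι (KaehlerDifferential.D A B (u i : B)))

theorem D_inv (w : Bˣ) : KaehlerDifferential.D A B ((w⁻¹ : Bˣ) : B) =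
    -((w⁻¹ : Bˣ) : B) ^ 2 • KaehlerDifferential.D A B (w : B) :=
  Derivation.leibniz_of_mul_eq_one _ (by rw [← Units.val_mul, inv_mul_cancel, Units.val_one])

include hd hω' in
theorem d_one' (j : Fin n) : d 1 ((exteriorPower.oneEquiv B L).symm (ω' j)) = 0 := by
  rw [hω' j, map_add, map_add, d_one ω ι d hd, zero_add, map_smul,
    exteriorPower.oneEquiv_symm_apply]
  have h := hd 1 ((u j)⁻¹ : Bˣ).val (fun _ => ι (KaehlerDifferential.D A B (u j : B)))
    (fun k => Or.inl ⟨_, rfl⟩)
  rw [h, D_inv, map_smul]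
  have h2 : (Fin.cons (-((u j)⁻¹ : Bˣ).val ^ 2 • ι (KaehlerDifferential.D A B (u j : B)))
      (fun _ => ι (KaehlerDifferential.D A B (u j : B))) : Fin 2 → L) =
      Function.update (fun _ => ι (KaehlerDifferential.D A B (u j : B))) 0
        (-((u j)⁻¹ : Bˣ).val ^ 2 • ι (KaehlerDifferential.D A B (u j : B))) := by
    ext k
    fin_cases k
    · simp
    · simp
  rw [h2, AlternatingMap.map_update_smul]
  have h3 : Function.update (fun _ : Fin 2 => ι (KaehlerDifferential.D A B (u j : B))) 0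
      (ι (KaehlerDifferential.D A B (u j : B))) = fun _ => ι (KaehlerDifferential.D A B (u j : B)) :=
    Function.update_eq_self 0 _
  rw [h3, AlternatingMap.map_eq_zero_of_eq _ _ (i := (0 : Fin 2)) (j := (1 : Fin 2)) rfl (by decide),
    smul_zero]

include hι hω' in
theorem hι'_of (i : Fin n) :
    ι (KaehlerDifferential.D A B ((u i : B) * t i)) = ((u i : B) * t i) • ω' i := by
  rw [Derivation.leibniz, map_add, map_smul, map_smul, hι, hω' i, smul_add, smul_smul, smul_smul]
  have : (u i : B) * t i * ((u i)⁻¹ : Bˣ).val = t i := by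
    rw [mul_comm (u i : B), mul_assoc, ← Units.val_mul, mul_inv_cancel, Units.val_one, mul_one]
  rw [this]

include hω' in
theorem hω_of (i : Fin n) :
    ω i = ω' i + (((u i)⁻¹)⁻¹ : Bˣ).val • ι (KaehlerDifferential.D A B (((u i)⁻¹ : Bˣ) : B)) := by
  rw [hω' i, D_inv, map_smul, inv_inv, smul_smul, add_assoc]
  have : (u i : B) * -((u i)⁻¹ : Bˣ).val ^ 2 = -((u i)⁻¹ : Bˣ).val := by
    rw [pow_two, mul_neg, ← mul_assoc, ← Units.val_mul, mul_inv_cancel, Units.val_one, one_mul]
  rw [this, neg_smul, add_neg_cancel, add_zero]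

include hbΩ hbΩ' hι hc hd hint hω' in
theorem layer_eq (p : ℕ) :
    LogConn.layer nabla ω t p = LogConn.layer nabla ω' (fun i => (u i : B) * t i) p := by
  have hι' := hι'_of t ω ι hι u ω' hω'
  have hcomm := comp_comm lam ω ι nabla d hd nablas hint
  have hcomm' := comp_comm' lam ω' nabla d nablas hint (d_one' ω ι d hd u ω' hω')
  apply le_antisymm
  · exact layer_le_layer' lam t (fun i => (u i : B) * t i) bΩ bΩ' hbΩ hbΩ' ω ω' ι hι hι' nabla hc u
      (fun _ => rfl) hω' hcomm' p
  · refine layer_le_layer' lam (fun i => (u i : B) * t i) t bΩ' bΩ hbΩ' hbΩ ω' ω ι hι' hι nabla hc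
      (fun i => (u i)⁻¹) ?_ (hω_of ω ι u ω' hω') hcomm p
    intro i
    rw [← mul_assoc, ← Units.val_mul, inv_mul_cancel, Units.val_one, one_mul]

end Groth.Agent.Lib.helper22.LogLayer
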