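import Mathlib
import Groth.Prelude.Def_W4swconnpcurvhiggsLogLam
import Groth.Agent.Lib.Helper22.LogLayerB
import Groth.Agent.Lib.Helper26.LogConn1

/-!
# helper22: the degree-`p` part of the graded submodule generated by `∇_I(e) ⊗ ω_I` is the layer
-/

set_option autoImplicit false
set_option linter.unusedSectionVars false
universe v u

open TensorProduct LogConn Module

namespace Groth.Agent.Lib.helper22.LogSpan

open Groth.Agent.Lib.helper22.LogLayer Groth.Agent.Lib.helper26.LogConnL

variable {A : Type v} {B L E : Type u} [CommRing A] [CommRing B]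
    [Algebra A B] [AddCommGroup L] [Module B L] [Module A L] [IsScalarTower A B L]
    [AddCommGroup E] [Module B E] [Module A E] [IsScalarTower A B E]
    (lam : B) {n : ℕ} (t : Fin n → B) (bΩ : Module.Basis (Fin n) B (KaehlerDifferential A B))
    (hbΩ : ∀ i, bΩ i = KaehlerDifferential.D A B (t i))
    (ω : Module.Basis (Fin n) B L) (ι : KaehlerDifferential A B →ₗ[B] L)
    (hι : ∀ i, ι (KaehlerDifferential.D A B (t i)) = t i • ω i)
    (nabla : E →ₗ[A] E ⊗[B] L)
    (hc : Conn.IsLamConn (ι.compDer (KaehlerDifferential.D A B)) lam nabla)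

include hbΩ hι in
theorem coord_ι (i : Fin n) (η : KaehlerDifferential A B) :
    ω.coord i (ι η) = t i * bΩ.repr η i := by
  conv_lhs => rw [← bΩ.sum_repr η]
  rw [map_sum, map_sum]
  have : ∀ k ∈ Finset.univ, ω.coord i (ι (bΩ.repr η k • bΩ k)) =
      if k = i then t i * bΩ.repr η i else 0 := by
    intro k _
    rw [map_smul, map_smul, hbΩ, hι, map_smul, Module.Basis.coord_apply, Module.Basis.repr_self,
      Finsupp.single_apply, smul_eq_mul, smul_eq_mul]
    split_ifs with h
    · rw [h, mul_one, mul_comm]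
    · rw [mul_zero, mul_zero]
  rw [Finset.sum_congr rfl this, Finset.sum_ite_eq' Finset.univ i, if_pos (Finset.mem_univ _)]

/-- reindexing the product of `t` over `K ∖ I` -/
theorem prod_emb (p : ℕ) (K : Set.powersetCard (Fin n) p) (I : Finset (Fin n)) :
    (∏ j, (if Set.powersetCard.ofFinEmbEquiv.symm K j ∈ I then 1
      else t (Set.powersetCard.ofFinEmbEquiv.symm K j))) = ∏ k ∈ (K : Finset (Fin n)) \ I, t k := by
  classical
  rw [Set.powersetCard.ofFinEmbEquiv_symm_apply]
  have h1 := Finset.prod_map Finset.univ ((K : Finset (Fin n)).orderEmbOfFin K.prop).toEmbedding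
    (fun k => if k ∈ I then 1 else t k)
  rw [Finset.map_orderEmbOfFin_univ] at h1
  have h2 : ∏ k ∈ (K : Finset (Fin n)), (if k ∈ I then 1 else t k) =
      ∏ k ∈ (K : Finset (Fin n)) \ I, t k := by
    rw [Finset.sdiff_eq_filter, Finset.prod_filter]
    refine Finset.prod_congr rfl fun k _ => ?_
    by_cases hk : k ∈ I
    · rw [if_pos hk, if_neg (not_not.mpr hk)]
    · rw [if_neg hk, if_pos hk]
  rw [← h2, h1]
  rfl

include hbΩ hι hc in
theorem coordE_gen_mem (p : ℕ) (K : Set.powersetCard (Fin n) p) (I : Finset (Fin n))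
    (hI : I.card ≤ p) (e : E) (v : Fin p → L)
    (hv1 : ∀ (k : Fin p) (hk : k.val < I.card), v k = ω (I.orderEmbOfFin rfl ⟨k.val, hk⟩))
    (hv2 : ∀ k : Fin p, I.card ≤ k.val → v k ∈ LinearMap.range ι) :
    coordE ω p K (compProd nabla ω I e ⊗ₜ[B] exteriorPower.ιMulti B p v) ∈
      piece nabla ω t (K : Finset (Fin n)) := by
  classical
  rw [coordE_tmul, exteriorPower.basis_coord, exteriorPower.ιMultiDual_apply_ιMulti]
  by_cases hIK : I ⊆ (K : Finset (Fin n))
  · have hη : ∀ k : Fin p, ∃ η, I.card ≤ k.val → ι η = v k := by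
      intro k
      by_cases hk : I.card ≤ k.val
      · obtain ⟨η, hη⟩ := hv2 k hk
        exact ⟨η, fun _ => hη⟩
      · exact ⟨0, fun h => absurd h hk⟩
    choose η hη using hη
    have hM : (Matrix.of fun i j => ω.coord (Set.powersetCard.ofFinEmbEquiv.symm K j) (v i)) =
        Matrix.of fun i j => (if Set.powersetCard.ofFinEmbEquiv.symm K j ∈ I then 1
            else t (Set.powersetCard.ofFinEmbEquiv.symm K j)) *
          (if Set.powersetCard.ofFinEmbEquiv.symm K j ∈ I then
            ω.coord (Set.powersetCard.ofFinEmbEquiv.symm K j) (v i)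
            else if i.val < I.card then 0
            else bΩ.repr (η i) (Set.powersetCard.ofFinEmbEquiv.symm K j)) := by
      ext i j
      simp only [Matrix.of_apply]
      by_cases hj : Set.powersetCard.ofFinEmbEquiv.symm K j ∈ I
      · rw [if_pos hj, if_pos hj, one_mul]
      · rw [if_neg hj, if_neg hj]
        by_cases hi : i.val < I.card
        · rw [if_pos hi, mul_zero, hv1 i hi, Module.Basis.coord_apply, Module.Basis.repr_self,
            Finsupp.single_apply, if_neg]
          intro h
          apply hj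
          rw [← h]
          exact Finset.orderEmbOfFin_mem _ _ _
        · rw [if_neg hi, ← hη i (not_lt.mp hi), coord_ι t bΩ hbΩ ω ι hι]
    rw [hM, Matrix.det_mul_row, prod_emb, mul_comm, mul_smul]
    exact smul_mem_piece lam t bΩ hbΩ ω ι hι nabla hc _ _ _ (gen_mem_piece t ω nabla hIK e)
  · obtain ⟨i0, hi0, hi0K⟩ := Finset.not_subset.mp hIK
    have hr : i0 ∈ Set.range (I.orderEmbOfFin rfl) := by
      rw [Finset.range_orderEmbOfFin]
      exact hi0
    obtain ⟨a, ha⟩ := hr
    rw [Matrix.det_eq_zero_of_row_eq_zero ⟨a.val, lt_of_lt_of_le a.2 hI⟩, zero_smul]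
    · exact zero_mem _
    · intro j
      rw [Matrix.of_apply, hv1 _ a.2, Module.Basis.coord_apply, Module.Basis.repr_self,
        Finsupp.single_apply, if_neg]
      intro h
      apply hi0K
      rw [← ha]
      have : (I.orderEmbOfFin rfl) ⟨a.val, a.2⟩ = I.orderEmbOfFin rfl a := rfl
      rw [← this, h]
      exact (Set.powersetCard.mem_range_ofFinEmbEquiv_symm_iff_mem K _).mp ⟨j, rfl⟩

end Groth.Agent.Lib.helper22.LogSpan
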