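import Mathlib
import Groth.Prelude.Def_W4swconnpcurvhiggsLogLam
import Groth.Agent.Lib.Helper22.LogSpanA

/-!
# helper22: the degree-`p` part of the graded submodule generated by `∇_I(e) ⊗ ω_I` is the layer, II
-/

set_option autoImplicit false
set_option linter.unusedSectionVars false
universe v u

open TensorProduct LogConn Module

namespace Groth.Agent.Lib.helper22.LogSpan

open Groth.Agent.Lib.helper22.LogLayer Groth.Agent.Lib.helper26.LogConnL

variable {A : Type v} {B L E : Type u} [CommRing A] [CommRing B]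
    [Algebra A B] [AddCommGroup L] [Module B L] [Module A L] [IsScalarTower A B L]
    [AddCommGroup E] [Module B E] [Module A E] [IsScalarTower A B E]
    (lam : B) {n : ℕ} (t : Fin n → B) (bΩ : Module.Basis (Fin n) B (KaehlerDifferential A B))
    (hbΩ : ∀ i, bΩ i = KaehlerDifferential.D A B (t i))
    (ω : Module.Basis (Fin n) B L) (ι : KaehlerDifferential A B →ₗ[B] L)
    (hι : ∀ i, ι (KaehlerDifferential.D A B (t i)) = t i • ω i)
    (nabla : E →ₗ[A] E ⊗[B] L)
    (hc : Conn.IsLamConn (ι.compDer (KaehlerDifferential.D A B)) lam nabla)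

/-- the enumeration of `K`: first `J` in increasing order, then `K ∖ J` in increasing order -/
noncomputable def enum (K J : Finset (Fin n)) (p : ℕ) (hJ : J ⊆ K) (hK : K.card = p) (k : Fin p) :
    Fin n :=
  if hk : k.val < J.card then J.orderEmbOfFin rfl ⟨k.val, hk⟩
  else (K \ J).orderEmbOfFin rfl ⟨k.val - J.card, by
    rw [Finset.card_sdiff_of_subset hJ, hK]; have := k.2; omega⟩

theorem enum_lt (K J : Finset (Fin n)) (p : ℕ) (hJ : J ⊆ K) (hK : K.card = p) (k : Fin p)
    (hk : k.val < J.card) :
    enum K J p hJ hK k = J.orderEmbOfFin rfl ⟨k.val, hk⟩ := by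
  unfold enum
  rw [dif_pos hk]

theorem enum_ge (K J : Finset (Fin n)) (p : ℕ) (hJ : J ⊆ K) (hK : K.card = p) (k : Fin p)
    (hk : ¬ k.val < J.card) : ∃ hk' : k.val - J.card < (K \ J).card,
    enum K J p hJ hK k = (K \ J).orderEmbOfFin rfl ⟨k.val - J.card, hk'⟩ := by
  have h1 : k.val - J.card < (K \ J).card := by
    rw [Finset.card_sdiff_of_subset hJ, hK]
    have := k.2
    omega
  refine ⟨h1, ?_⟩
  unfold enum
  rw [dif_neg hk]

theorem enum_mem_iff (K J : Finset (Fin n)) (p : ℕ) (hJ : J ⊆ K) (hK : K.card = p) (k : Fin p) :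
    enum K J p hJ hK k ∈ J ↔ k.val < J.card := by
  constructor
  · intro h
    by_contra hk
    obtain ⟨hk', he⟩ := enum_ge K J p hJ hK k hk
    rw [he] at h
    have := Finset.orderEmbOfFin_mem (K \ J) rfl ⟨k.val - J.card, hk'⟩
    exact (Finset.mem_sdiff.mp this).2 h
  · intro hk
    rw [enum_lt K J p hJ hK k hk]
    exact Finset.orderEmbOfFin_mem _ _ _

theorem enum_mem (K J : Finset (Fin n)) (p : ℕ) (hJ : J ⊆ K) (hK : K.card = p) (k : Fin p) :
    enum K J p hJ hK k ∈ K := by
  by_cases hk : k.val < J.card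
  · rw [enum_lt K J p hJ hK k hk]
    exact hJ (Finset.orderEmbOfFin_mem _ _ _)
  · obtain ⟨hk', he⟩ := enum_ge K J p hJ hK k hk
    rw [he]
    exact (Finset.mem_sdiff.mp (Finset.orderEmbOfFin_mem (K \ J) rfl ⟨k.val - J.card, hk'⟩)).1

theorem enum_injective (K J : Finset (Fin n)) (p : ℕ) (hJ : J ⊆ K) (hK : K.card = p) :
    Function.Injective (enum K J p hJ hK) := by
  intro k k' h
  by_cases hk : k.val < J.card
  · have hk' : k'.val < J.card := by
      rw [← enum_mem_iff K J p hJ hK, ← h, enum_mem_iff K J p hJ hK]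
      exact hk
    rw [enum_lt K J p hJ hK k hk, enum_lt K J p hJ hK k' hk'] at h
    have := (J.orderEmbOfFin rfl).injective h
    apply Fin.ext
    exact Fin.mk.inj_iff.mp this
  · have hk' : ¬ k'.val < J.card := by
      rw [← enum_mem_iff K J p hJ hK, ← h, enum_mem_iff K J p hJ hK]
      exact hk
    obtain ⟨h1, he⟩ := enum_ge K J p hJ hK k hk
    obtain ⟨h1', he'⟩ := enum_ge K J p hJ hK k' hk'
    rw [he, he'] at h
    have := (( K \ J).orderEmbOfFin rfl).injective h
    have h2 : k.val - J.card = k'.val - J.card := Fin.mk.inj_iff.mp this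
    apply Fin.ext
    omega

/-- the wedge of `ω ∘ f` for an injective enumeration `f` of `K` is `± ω_K` -/
theorem ιMulti_enum (p : ℕ) (K : Set.powersetCard (Fin n) p) (f : Fin p → Fin n)
    (hf : Function.Injective f) (hfK : ∀ k, f k ∈ (K : Finset (Fin n))) :
    ∃ (σ : Equiv.Perm (Fin p)), (∀ k, Set.powersetCard.ofFinEmbEquiv.symm K (σ k) = f k) ∧
      exteriorPower.ιMulti B p (ω ∘ f) = Equiv.Perm.sign σ • ω.exteriorPower p K := by
  have hex : ∀ k, ∃ a, Set.powersetCard.ofFinEmbEquiv.symm K a = f k := fun k =>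
    (Set.powersetCard.mem_range_ofFinEmbEquiv_symm_iff_mem K (f k)).mpr (hfK k)
  choose s hs using hex
  have hsinj : Function.Injective s := by
    intro k k' h
    apply hf
    rw [← hs k, ← hs k', h]
  have hsbij : Function.Bijective s := Finite.injective_iff_bijective.mp hsinj
  refine ⟨Equiv.ofBijective s hsbij, hs, ?_⟩
  have h1 : ω ∘ f = (ω ∘ Set.powersetCard.ofFinEmbEquiv.symm K) ∘ (Equiv.ofBijective s hsbij) := by
    funext k
    simp only [Function.comp_apply, Equiv.ofBijective_apply]
    rw [hs k]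
  rw [h1, AlternatingMap.map_perm, exteriorPower.basis_apply, exteriorPower.ιMulti_family]

include hι in
theorem gen_tmul_mem (p : ℕ) (K : Set.powersetCard (Fin n) p) (J : Finset (Fin n))
    (hJ : J ⊆ (K : Finset (Fin n))) (e : E) :
    gen t ω nabla (K : Finset (Fin n)) J e ⊗ₜ[B] (ω.exteriorPower p K) ∈
      Submodule.span B (gens nabla ω ι p) := by
  classical
  have hK : (K : Finset (Fin n)).card = p := K.prop
  have hJp : J.card ≤ p := hK ▸ Finset.card_le_card hJ
  set f := enum (K : Finset (Fin n)) J p hJ hK with hf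
  -- the vector of forms
  set v : Fin p → L := fun k => if k.val < J.card then ω (f k)
    else ι (KaehlerDifferential.D A B (t (f k))) with hv
  have hgen : compProd nabla ω J e ⊗ₜ[B] exteriorPower.ιMulti B p v ∈ gens nabla ω ι p := by
    refine ⟨J, hJp, e, v, ?_, ?_, rfl⟩
    · intro k hk
      simp only [hv, if_pos hk]
      rw [hf, enum_lt _ _ _ hJ hK _ hk]
    · intro k hk
      simp only [hv, if_neg (not_lt.mpr hk)]
      exact ⟨_, rfl⟩
  have hv' : v = fun k => (if f k ∈ J then 1 else t (f k)) • (ω ∘ f) k := by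
    funext k
    simp only [hv, Function.comp_apply]
    by_cases hk : k.val < J.card
    · rw [if_pos hk, if_pos ((enum_mem_iff _ J p hJ hK k).mpr hk), one_smul]
    · rw [if_neg hk, if_neg (fun h => hk ((enum_mem_iff _ J p hJ hK k).mp h)), hι]
  obtain ⟨σ, hσ, hσ2⟩ := ιMulti_enum ω p K f (enum_injective _ J p hJ hK)
    (enum_mem _ J p hJ hK)
  have hprod : (∏ k, (if f k ∈ J then 1 else t (f k))) = ∏ k ∈ (K : Finset (Fin n)) \ J, t k := by
    rw [← prod_emb t p K J]
    rw [← Equiv.prod_comp σ (fun j => if Set.powersetCard.ofFinEmbEquiv.symm K j ∈ J then 1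
      else t (Set.powersetCard.ofFinEmbEquiv.symm K j))]
    refine Finset.prod_congr rfl fun k _ => ?_
    rw [hσ k]
  have hw : exteriorPower.ιMulti B p v = Equiv.Perm.sign σ •
      ((∏ k ∈ (K : Finset (Fin n)) \ J, t k) • ω.exteriorPower p K) := by
    rw [hv', AlternatingMap.map_smul_univ, hprod, hσ2, smul_comm]
  have hfin : gen t ω nabla (K : Finset (Fin n)) J e ⊗ₜ[B] (ω.exteriorPower p K) =
      Equiv.Perm.sign σ • (compProd nabla ω J e ⊗ₜ[B] exteriorPower.ιMulti B p v) := by
    rw [hw]
    unfold gen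
    rcases Int.units_eq_one_or (Equiv.Perm.sign σ) with h | h
    · rw [h, one_smul, one_smul, TensorProduct.smul_tmul]
    · rw [h, Units.neg_smul, one_smul, Units.neg_smul, one_smul, TensorProduct.tmul_neg, neg_neg,
        TensorProduct.smul_tmul]
  rw [hfin]
  rcases Int.units_eq_one_or (Equiv.Perm.sign σ) with h | h
  · rw [h, one_smul]
    exact Submodule.subset_span hgen
  · rw [h, Units.neg_smul, one_smul]
    exact Submodule.neg_mem _ (Submodule.subset_span hgen)

include hbΩ hι hc in
theorem main (p : ℕ) :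
    (Submodule.span B (gens nabla ω ι p)).restrictScalars A = layer nabla ω t p := by
  apply le_antisymm
  · intro x hx
    rw [Submodule.restrictScalars_mem] at hx
    let pieceB : Finset (Fin n) → Submodule B E := fun K =>
      { piece nabla ω t K with
        smul_mem' := fun b x hx => smul_mem_piece lam t bΩ hbΩ ω ι hι nabla hc K b x hx }
    have hle : Submodule.span B (gens nabla ω ι p) ≤
        ⨅ K : Set.powersetCard (Fin n) p, (pieceB (K : Finset (Fin n))).comap (coordE ω p K) := by
      rw [Submodule.span_le]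
      rintro _ ⟨I, hI, e, v, hv1, hv2, rfl⟩
      rw [SetLike.mem_coe, Submodule.mem_iInf]
      intro K
      rw [Submodule.mem_comap]
      exact coordE_gen_mem lam t bΩ hbΩ ω ι hι nabla hc p K I hI e v hv1 hv2
    have h2 := hle hx
    rw [Submodule.mem_iInf] at h2
    unfold layer
    rw [Submodule.mem_iInf]
    intro K
    exact h2 K
  · intro x hx
    rw [layer_expand ω p x]
    refine Submodule.sum_mem _ fun K _ => ?_
    have hK : coordE ω p K x ∈ piece nabla ω t (K : Finset (Fin n)) := by
      unfold layer at hx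
      exact (Submodule.mem_iInf _).mp hx K
    have hle : piece nabla ω t (K : Finset (Fin n)) ≤
        ((Submodule.span B (gens nabla ω ι p)).restrictScalars A).comap
          (((TensorProduct.mk B E _).flip (ω.exteriorPower p K)).restrictScalars A) := by
      rw [piece_le_iff]
      intro J hJ e
      exact gen_tmul_mem t ω ι hι nabla p K J hJ e
    exact hle hK

end Groth.Agent.Lib.helper22.LogSpan
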