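import Mathlib

set_option autoImplicit false
universe u v

namespace Groth.Agent.Lib.helper22.MinorInv

open Polynomial

section abs
variable {R : Type u} [CommRing R] {A : Type v} [CommRing A] [IsDomain A] [Algebra R A]
  (p : ℕ) [CharP A p]

/-- a polynomial of degree `< p` over a subalgebra fixed by `σ`, evaluated at `w` with
`σ w = w + d`, `d ≠ 0`: if the value is `σ`-invariant then it lies in the subalgebra. -/
theorem aeval_mem_of_fixed (C0 : Subalgebra R A) (w : A) (d0 : R) (hd : algebraMap R A d0 ≠ 0)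
    (σ : A ≃ₐ[R] A) (hσw : σ w = w + algebraMap R A d0) (hσC : ∀ c ∈ C0, σ c = c)
    (r : Polynomial C0) (hr : r.natDegree < p) (hfix : σ (aeval w r) = aeval w r) :
    aeval w r ∈ C0 := by
  classical
  set d : A := algebraMap R A d0 with hd'
  set rA : Polynomial A := r.map (algebraMap C0 A) with hrA
  have hev : ∀ y : A, aeval y r = rA.eval y := by
    intro y; rw [hrA, eval_map_algebraMap]
  have hσev : ∀ y : A, σ (rA.eval y) = rA.eval (σ y) := by
    intro y
    rw [hrA, eval_map, eval_map, eval₂_eq_sum_range, eval₂_eq_sum_range, map_sum]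
    refine Finset.sum_congr rfl fun i _ => ?_
    rw [map_mul, map_pow]
    congr 1
    exact hσC _ (r.coeff i).2
  have hσd : σ d = d := by rw [hd', AlgEquiv.commutes]
  have hσm : ∀ m : ℕ, rA.eval (w + (m : A) * d) = rA.eval w := by
    intro m
    induction m with
    | zero => simp
    | succ m ih =>
      have h1 : σ (rA.eval (w + (m : A) * d)) = rA.eval (w + ((m + 1 : ℕ) : A) * d) := by
        rw [hσev, map_add, map_mul, hσw, map_natCast, hσd]
        congr 1
        push_cast
        ring
      rw [← h1, ih, ← hev, hfix]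
  set t : A := rA.eval w with ht
  set g : Polynomial A := rA - C t with hg
  have hgdeg : g.natDegree < p := by
    have h1 : g.natDegree ≤ max rA.natDegree (C t).natDegree := natDegree_sub_le _ _
    have h2 : rA.natDegree ≤ r.natDegree := natDegree_map_le
    rw [natDegree_C] at h1
    have : max rA.natDegree 0 = rA.natDegree := by simp
    rw [this] at h1
    omega
  let s : Finset A := (Finset.range p).image fun m : ℕ => w + (m : A) * d
  have hinj : Set.InjOn (fun m : ℕ => w + (m : A) * d) (Finset.range p : Set ℕ) := by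
    intro m hm m' hm' h
    simp only [Finset.coe_range, Set.mem_Iio] at hm hm'
    have h1 : ((m : A) - (m' : A)) * d = 0 := by
      have : (w + (m : A) * d) = (w + (m' : A) * d) := h
      linear_combination this
    have h2 : (m : A) - (m' : A) = 0 := (mul_eq_zero.mp h1).resolve_right hd
    have h3 : (m : A) = (m' : A) := by linear_combination h2
    have h4 := (CharP.natCast_eq_natCast A p).mp h3
    exact Nat.ModEq.eq_of_lt_of_lt h4 hm hm'
  have hcard : s.card = p := by
    rw [Finset.card_image_of_injOn hinj, Finset.card_range]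
  have hzero : g = 0 := by
    apply Polynomial.eq_zero_of_natDegree_lt_card_of_eval_eq_zero' g s
    · intro y hy
      obtain ⟨m, _, rfl⟩ := Finset.mem_image.mp hy
      rw [hg, eval_sub, eval_C, hσm m, sub_self]
    · rw [hcard]; exact hgdeg
  have hrAeq : rA = C t := by
    have : rA - C t = 0 := hzero
    linear_combination this
  have h0 : rA.coeff 0 = t := by rw [hrAeq, coeff_C_zero]
  rw [hev w, ← ht, ← h0, hrA, coeff_map]
  exact (r.coeff 0).2

end abs


section main
variable {R : Type u} [CommRing R] {A : Type v} [CommRing A] [IsDomain A] [Algebra R A]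
  (p : ℕ) [CharP A p]

theorem exists_pow_mul_mem_adjoin (hp2 : 2 ≤ p) {n : ℕ} (u : Fin n → A)
    (hu : ∀ t : A, ∃ P : MvPolynomial (Fin n) R, MvPolynomial.aeval u P = t)
    (a : Fin n → R) (i₀ : Fin n) (d0 x0 : R)
    (hw : u i₀ ^ p = algebraMap R A (d0 ^ (p - 1)) * u i₀ + algebraMap R A x0)
    (hd : algebraMap R A d0 ≠ 0)
    (σ : A ≃ₐ[R] A) (hσ0 : σ (u i₀) = u i₀ + algebraMap R A d0)
    (z : {j : Fin n // j ≠ i₀} → A)
    (hz : ∀ j, z j = algebraMap R A (a i₀) * u j.1 - algebraMap R A (a j.1) * u i₀)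
    (hσz : ∀ j, σ (z j) = z j) :
    ∀ t : A, σ t = t →
      ∃ N : ℕ, algebraMap R A (a i₀) ^ N * t ∈ Algebra.adjoin R (Set.range z) := by
  set C0 : Subalgebra R A := Algebra.adjoin R (Set.range z) with hC0
  have hσC : ∀ c ∈ C0, σ c = c := by
    intro c hc
    induction hc using Algebra.adjoin_induction with
    | mem x hx => obtain ⟨j, rfl⟩ := hx; exact hσz j
    | algebraMap r => exact AlgEquiv.commutes σ r
    | add x y _ _ hx hy => rw [map_add, hx, hy]
    | mul x y _ _ hx hy => rw [map_mul, hx, hy]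
  set w := u i₀ with hw'
  let S : Subalgebra C0 A := (Polynomial.aeval (R := C0) w).range
  have hwS : w ∈ S := ⟨Polynomial.X, Polynomial.aeval_X w⟩
  have hCS : ∀ c ∈ C0, c ∈ S := fun c hc => ⟨Polynomial.C ⟨c, hc⟩, by
    rw [AlgHom.toRingHom_eq_coe, RingHom.coe_coe, Polynomial.aeval_C]; rfl⟩
  have hRS : ∀ r : R, algebraMap R A r ∈ S := fun r => hCS _ (C0.algebraMap_mem r)
  have hauS : ∀ i : Fin n, algebraMap R A (a i₀) * u i ∈ S := by
    intro i
    by_cases hi : i = i₀
    · rw [hi]; exact S.mul_mem (hRS _) hwS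
    · have : algebraMap R A (a i₀) * u i = z ⟨i, hi⟩ + algebraMap R A (a i) * w := by
        rw [hz]; ring
      rw [this]
      exact S.add_mem (hCS _ (Algebra.subset_adjoin ⟨_, rfl⟩)) (S.mul_mem (hRS _) hwS)
  have hclaim : ∀ P : MvPolynomial (Fin n) R,
      ∃ M : ℕ, algebraMap R A (a i₀) ^ M * MvPolynomial.aeval u P ∈ S := by
    intro P
    induction P using MvPolynomial.induction_on with
    | C r =>
      refine ⟨0, ?_⟩
      rw [pow_zero, one_mul, MvPolynomial.aeval_C]
      exact hRS r
    | add P Q hP hQ =>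
      obtain ⟨M1, h1⟩ := hP
      obtain ⟨M2, h2⟩ := hQ
      refine ⟨M1 + M2, ?_⟩
      have : algebraMap R A (a i₀) ^ (M1 + M2) * MvPolynomial.aeval u (P + Q) =
          algebraMap R A (a i₀) ^ M2 * (algebraMap R A (a i₀) ^ M1 * MvPolynomial.aeval u P) +
          algebraMap R A (a i₀) ^ M1 * (algebraMap R A (a i₀) ^ M2 * MvPolynomial.aeval u Q) := by
        rw [map_add, pow_add]; ring
      rw [this]
      exact S.add_mem (S.mul_mem (S.pow_mem (hRS _) _) h1) (S.mul_mem (S.pow_mem (hRS _) _) h2)
    | mul_X P i hP =>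
      obtain ⟨M, h1⟩ := hP
      refine ⟨M + 1, ?_⟩
      have : algebraMap R A (a i₀) ^ (M + 1) * MvPolynomial.aeval u (P * MvPolynomial.X i) =
          (algebraMap R A (a i₀) ^ M * MvPolynomial.aeval u P) * (algebraMap R A (a i₀) * u i) := by
        rw [map_mul, MvPolynomial.aeval_X, pow_succ]; ring
      rw [this]
      exact S.mul_mem h1 (hauS i)
  intro t ht
  obtain ⟨P, rfl⟩ := hu t
  obtain ⟨M, hM⟩ := hclaim P
  refine ⟨M, ?_⟩
  obtain ⟨Q, hQ⟩ := hM
  rw [AlgHom.toRingHom_eq_coe, RingHom.coe_coe] at hQ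
  -- reduce modulo the monic polynomial
  set f : Polynomial C0 := Polynomial.X ^ p -
    (Polynomial.C (algebraMap R C0 (d0 ^ (p - 1))) * Polynomial.X + Polynomial.C (algebraMap R C0 x0))
    with hf
  have hdeg : (Polynomial.C (algebraMap R C0 (d0 ^ (p - 1))) * Polynomial.X +
      Polynomial.C (algebraMap R C0 x0) : Polynomial C0).degree < (p : WithBot ℕ) := by
    refine lt_of_le_of_lt (Polynomial.degree_add_le _ _) ?_
    rw [max_lt_iff]
    constructor
    · refine lt_of_le_of_lt (Polynomial.degree_C_mul_X_le _) ?_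
      exact_mod_cast (by omega : 1 < p)
    · refine lt_of_le_of_lt Polynomial.degree_C_le ?_
      exact_mod_cast (by omega : 0 < p)
  have hfmonic : f.Monic := Polynomial.monic_X_pow_sub hdeg
  have hfdeg : f.natDegree = p := by
    apply Polynomial.natDegree_eq_of_degree_eq_some
    have hdeg' : (Polynomial.C (algebraMap R C0 (d0 ^ (p - 1))) * Polynomial.X +
        Polynomial.C (algebraMap R C0 x0) : Polynomial C0).degree <
        (Polynomial.X ^ p : Polynomial C0).degree := by
      rw [Polynomial.degree_X_pow]; exact hdeg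
    rw [hf, Polynomial.degree_sub_eq_left_of_degree_lt hdeg', Polynomial.degree_X_pow]
  have hfw : Polynomial.aeval w f = 0 := by
    rw [hf, map_sub, map_pow, Polynomial.aeval_X, map_add, map_mul, Polynomial.aeval_C,
      Polynomial.aeval_X, Polynomial.aeval_C, hw]
    have e1 : algebraMap C0 A (algebraMap R C0 (d0 ^ (p - 1))) = algebraMap R A (d0 ^ (p - 1)) := rfl
    have e2 : algebraMap C0 A (algebraMap R C0 x0) = algebraMap R A x0 := rfl
    rw [e1, e2]; ring
  set r := Q %ₘ f with hr
  have hrdeg : r.natDegree < p := by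
    rw [← hfdeg]
    apply Polynomial.natDegree_modByMonic_lt _ hfmonic
    intro h1
    rw [h1, Polynomial.natDegree_one] at hfdeg
    omega
  have hrw : Polynomial.aeval w r = Polynomial.aeval w Q := by
    have h1 := Polynomial.modByMonic_add_div Q f
    have h2 := congrArg (Polynomial.aeval w) h1
    rw [map_add, map_mul, hfw, zero_mul, add_zero] at h2
    exact h2
  have hfix : σ (Polynomial.aeval w r) = Polynomial.aeval w r := by
    rw [hrw, hQ, map_mul, map_pow, AlgEquiv.commutes, ht]
  have := aeval_mem_of_fixed p C0 w d0 hd σ hσ0 hσC r hrdeg hfix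
  rw [hrw, hQ] at this
  exact this

end main

end Groth.Agent.Lib.helper22.MinorInv
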