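import Groth.Prelude.Def_DeRham
import Groth.Agent.Lib.Helper22.DeRhamGen
import Groth.Agent.Lib.Helper22.LieDer
import Mathlib

/-! De Rham complex of `k[x_1..x_n]` over a field of char zero: exactness in positive degrees. -/

set_option autoImplicit false
universe u

open exteriorPower MvPolynomial

namespace Groth.Agent.Lib.helper22.MvPolyDR

variable (k : Type u) [Field k] (σ : Type)

/-- Euler derivation `Σ x_i ∂/∂x_i`. -/
noncomputable def eulerDer : Derivation k (MvPolynomial σ k) (MvPolynomial σ k) :=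
  mkDerivation k (fun i => (X i : MvPolynomial σ k))

noncomputable def eulerForm : Ω[MvPolynomial σ k⁄k] →ₗ[MvPolynomial σ k] MvPolynomial σ k :=
  (eulerDer k σ).liftKaehlerDifferential

theorem eulerDer_monomial (s : σ →₀ ℕ) (a : k) :
    eulerDer k σ (monomial s a) = (Finsupp.degree s) • monomial s a := by
  unfold eulerDer
  rw [mkDerivation_monomial, Finsupp.sum, Finsupp.degree_apply, Finset.sum_smul, Finset.smul_sum]
  refine Finset.sum_congr rfl fun i hi => ?_
  have h1 : 1 ≤ s i := Nat.one_le_iff_ne_zero.mpr (Finsupp.mem_support_iff.mp hi)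
  have h2 : s - Finsupp.single i 1 + Finsupp.single i 1 = s := by
    ext j
    by_cases hj : j = i
    · subst hj; simp [Nat.sub_add_cancel h1]
    · simp [Finsupp.single_eq_of_ne hj]
  rw [smul_eq_mul, X, monomial_mul, h2, mul_one, smul_monomial, ← map_nsmul, smul_eq_mul,
    nsmul_eq_mul, mul_comm]

theorem eulerForm_D_monomial (s : σ →₀ ℕ) (a : k) :
    eulerForm k σ (KaehlerDifferential.D k (MvPolynomial σ k) (monomial s a)) =
      (Finsupp.degree s) • monomial s a := by
  unfold eulerForm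
  rw [Derivation.liftKaehlerDifferential_comp_D, eulerDer_monomial]

theorem mono_gen_induction (p : ℕ)
    {motive : ↥(⋀[MvPolynomial σ k]^p (Ω[MvPolynomial σ k⁄k])) → Prop} (zero : motive 0)
    (add : ∀ x y, motive x → motive y → motive (x + y))
    (gen : ∀ (n₀ : σ →₀ ℕ) (a₀ : k) (n : Fin p → σ →₀ ℕ) (a : Fin p → k),
      motive (DeRham.gen (KaehlerDifferential.D k (MvPolynomial σ k)) p (monomial n₀ a₀)
        (fun i => monomial (n i) (a i))))
    (x : ↥(⋀[MvPolynomial σ k]^p (Ω[MvPolynomial σ k⁄k]))) : motive x := by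
  classical
  have hsum : ∀ {ι : Type} (s : Finset ι)
      (f : ι → ↥(⋀[MvPolynomial σ k]^p (Ω[MvPolynomial σ k⁄k]))),
      (∀ i ∈ s, motive (f i)) → motive (∑ i ∈ s, f i) := fun s f h =>
    Finset.sum_induction f motive add zero h
  induction x using Groth.Agent.Lib.helper22.DeRhamGen.kaehler_gen_induction with
  | zero => exact zero
  | add x y hx hy => exact add x y hx hy
  | gen b₀ b =>
    unfold DeRham.gen
    have h1 : (fun i => KaehlerDifferential.D k (MvPolynomial σ k) (b i)) =
        fun i => ∑ j ∈ (b i).support,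
          KaehlerDifferential.D k (MvPolynomial σ k) (monomial j (coeff j (b i))) := by
      funext i
      conv_lhs => rw [as_sum (b i)]
      rw [map_sum]
    have h2 := (ιMulti (MvPolynomial σ k) p (M := Ω[MvPolynomial σ k⁄k])).toMultilinearMap.map_sum_finset
      (fun i j => KaehlerDifferential.D k (MvPolynomial σ k) (monomial j (coeff j (b i))))
      (fun i => (b i).support)
    rw [AlternatingMap.coe_multilinearMap] at h2
    rw [h1, h2]
    have hb₀ := as_sum b₀
    generalize b₀.support = s₀ at hb₀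
    generalize hc₀ : (fun v => coeff v b₀) = c₀ at hb₀
    have hb₀' : b₀ = ∑ v ∈ s₀, monomial v (c₀ v) := by
      rw [hb₀, ← hc₀]
    rw [hb₀', Finset.sum_smul]
    refine hsum _ _ fun m _ => ?_
    rw [Finset.smul_sum]
    refine hsum _ _ fun r _ => ?_
    exact gen m (c₀ m) r (fun i => coeff (r i) (b i))

theorem coeff_eulerDer (a : MvPolynomial σ k) (m : σ →₀ ℕ) :
    coeff m (eulerDer k σ a) = (Finsupp.degree m) • coeff m a := by
  classical
  induction a using MvPolynomial.induction_on' with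
  | monomial u c =>
    rw [eulerDer_monomial, coeff_smul, coeff_monomial]
    split_ifs with h
    · rw [h]
    · simp
  | add p q hp hq => rw [map_add, coeff_add, coeff_add, hp, hq, smul_add]

theorem const_of_D_eq_zero [CharZero k] (a : MvPolynomial σ k)
    (ha : KaehlerDifferential.D k (MvPolynomial σ k) a = 0) : ∃ c : k, a = C c := by
  classical
  refine ⟨coeff 0 a, ?_⟩
  have h1 : eulerDer k σ a = 0 := by
    have := congrArg (eulerForm k σ) ha
    rwa [eulerForm, Derivation.liftKaehlerDifferential_comp_D, map_zero] at this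
  ext m
  rw [coeff_C]
  split_ifs with h
  · rw [← h]
  · have h2 := coeff_eulerDer k σ a m
    rw [h1, coeff_zero, nsmul_eq_mul] at h2
    have h3 : ((Finsupp.degree m : ℕ) : k) ≠ 0 := by
      have : Finsupp.degree m ≠ 0 := fun h0 => h ((Finsupp.degree_eq_zero_iff _).mp h0).symm
      exact_mod_cast this
    exact (mul_eq_zero.mp h2.symm).resolve_left h3

open Groth.Agent.Lib.helper22.LieDer

variable {k σ}

/-- Closed forms of positive degree are exact. -/
theorem exact_of_closed [CharZero k]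
    (d : ∀ p : ℕ, ↥(⋀[MvPolynomial σ k]^p (Ω[MvPolynomial σ k⁄k])) →ₗ[k]
      ↥(⋀[MvPolynomial σ k]^(p + 1) (Ω[MvPolynomial σ k⁄k])))
    (hd : DeRham.IsRule (KaehlerDifferential.D k (MvPolynomial σ k)) d)
    (hdd : ∀ p : ℕ, d (p + 1) ∘ₗ d p = 0) (q : ℕ)
    (y : ↥(⋀[MvPolynomial σ k]^(q + 1) (Ω[MvPolynomial σ k⁄k]))) (hy : d (q + 1) y = 0) :
    ∃ z, d q z = y := by
  let c : ∀ q : ℕ, ↥(⋀[MvPolynomial σ k]^(q + 1) (Ω[MvPolynomial σ k⁄k])) →ₗ[k]
      ↥(⋀[MvPolynomial σ k]^q (Ω[MvPolynomial σ k⁄k])) := fun q =>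
    (contr (eulerForm k σ) q).restrictScalars k
  have hc : ∀ q x, c q x = contr (eulerForm k σ) q x := fun q x => rfl
  let L := d q ∘ₗ c q + c (q + 1) ∘ₗ d (q + 1)
  have hL : ∀ (n₀ : σ →₀ ℕ) (a₀ : k) (n : Fin (q + 1) → σ →₀ ℕ) (a : Fin (q + 1) → k),
      L (DeRham.gen (KaehlerDifferential.D k (MvPolynomial σ k)) (q + 1) (monomial n₀ a₀)
        (fun i => monomial (n i) (a i))) =
      (Finsupp.degree n₀ + ∑ j, Finsupp.degree (n j)) •
        DeRham.gen (KaehlerDifferential.D k (MvPolynomial σ k)) (q + 1) (monomial n₀ a₀)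
        (fun i => monomial (n i) (a i)) := by
    intro n₀ a₀ n a
    simp only [L]
    rw [LinearMap.add_apply, LinearMap.comp_apply, LinearMap.comp_apply, hc, hc]
    exact lie_gen_succ _ d hd (eulerForm k σ) q _ _ (Finsupp.degree n₀)
      (fun j => Finsupp.degree (n j)) (eulerForm_D_monomial k σ n₀ a₀)
      (fun j => eulerForm_D_monomial k σ (n j) (a j))
  have step1 : ∀ z : ↥(⋀[MvPolynomial σ k]^(q + 1) (Ω[MvPolynomial σ k⁄k])),
      ∃ M₀ : ℕ, ∀ M, M₀ ≤ M → Pop L M z = 0 := by
    intro z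
    induction z using mono_gen_induction with
    | zero => exact ⟨0, fun M _ => by rw [map_zero]⟩
    | add x y hx hy =>
      obtain ⟨M₁, h1⟩ := hx
      obtain ⟨M₂, h2⟩ := hy
      refine ⟨max M₁ M₂, fun M hM => ?_⟩
      rw [map_add, h1 M (le_trans (le_max_left _ _) hM), h2 M (le_trans (le_max_right _ _) hM),
        add_zero]
    | gen n₀ a₀ n a =>
      refine ⟨Finsupp.degree n₀ + ∑ j, Finsupp.degree (n j), fun M hM => ?_⟩
      obtain ⟨c', hc', hc0, hc1⟩ := Pop_eigen L _ _ (hL n₀ a₀ n a) M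
      rw [hc']
      by_cases hN : Finsupp.degree n₀ + ∑ j, Finsupp.degree (n j) = 0
      · have hn : Finsupp.degree (n 0) = 0 := by
          have : ∑ j, Finsupp.degree (n j) = 0 := by omega
          exact (Finset.sum_eq_zero_iff.mp this) 0 (Finset.mem_univ 0)
        have hn0 : n 0 = 0 := (Finsupp.degree_eq_zero_iff _).mp hn
        have : DeRham.gen (KaehlerDifferential.D k (MvPolynomial σ k)) (q + 1) (monomial n₀ a₀)
            (fun i => monomial (n i) (a i)) = 0 := by
          unfold DeRham.gen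
          rw [(ιMulti (MvPolynomial σ k) (q + 1)).map_coord_zero (i := 0), smul_zero]
          change KaehlerDifferential.D k (MvPolynomial σ k) (monomial (n 0) (a 0)) = 0
          rw [hn0]
          exact (KaehlerDifferential.D k (MvPolynomial σ k)).map_algebraMap (a 0)
        rw [this, smul_zero]
      · rw [hc1 (Nat.one_le_iff_ne_zero.mpr hN) hM, zero_smul]
  obtain ⟨M₀, hM₀⟩ := step1 y
  have hK : ∀ z ∈ LinearMap.ker (d (q + 1)), L z ∈ LinearMap.ker (d (q + 1)) := by
    intro z hz
    have hz' : d (q + 1) z = 0 := hz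
    simp only [L]
    rw [LinearMap.mem_ker, LinearMap.add_apply, LinearMap.comp_apply, LinearMap.comp_apply, hz',
      map_zero, add_zero]
    exact LinearMap.congr_fun (hdd q) (c q z)
  have hE : ∀ z ∈ LinearMap.ker (d (q + 1)), L z ∈ LinearMap.range (d q) := by
    intro z hz
    have hz' : d (q + 1) z = 0 := hz
    simp only [L]
    rw [LinearMap.add_apply, LinearMap.comp_apply, LinearMap.comp_apply, hz', map_zero, add_zero]
    exact ⟨_, rfl⟩
  obtain ⟨-, h2⟩ := Pop_mem L _ _ hK hE M₀ y hy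
  rw [hM₀ M₀ le_rfl, sub_zero] at h2
  exact h2

end Groth.Agent.Lib.helper22.MvPolyDR
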