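import Mathlib

set_option autoImplicit false
open TensorProduct

namespace Groth.Agent.Lib.helper22.Nodal

/-- An abstract criterion: two `A`-algebra maps `θ`, `s ∘ θ` agreeing modulo a square-zero part
detect elements of `I` killed by `kerToTensor`. -/
theorem eq_zero_of_kerToTensor_eq_zero
    {A B' C : Type*} [CommRing A] [CommRing B'] [CommRing C] [Algebra A B'] [Algebra A C]
    (I : Ideal B') (θ : B' →ₐ[A] C) (s : C →ₐ[A] C)
    (h1 : ∀ a b : B', (s (θ a) - θ a) * (s (θ b) - θ b) = 0)
    (h2 : ∀ x ∈ I, ∀ b : B', θ x * (s (θ b) - θ b) = 0)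
    (h3 : ∀ x ∈ I, s (θ x) = 0)
    (x : RingHom.ker (algebraMap B' (B' ⧸ I)))
    (hx : KaehlerDifferential.kerToTensor A B' (B' ⧸ I) x = 0) : θ x = 0 := by
  let _ : Algebra B' C := θ.toRingHom.toAlgebra
  have : IsScalarTower A B' C := IsScalarTower.of_algebraMap_eq (fun a => (θ.commutes a).symm)
  have hsmul : ∀ (b : B') (c : C), b • c = θ b * c := fun b c => rfl
  let lin : B' →ₗ[A] C := (s.comp θ).toLinearMap - θ.toLinearMap
  have hlin : ∀ b, lin b = s (θ b) - θ b := fun b => rfl
  let D : Derivation A B' C := Derivation.mk' lin (by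
    intro a b
    rw [hlin, hlin, hlin, hsmul, hsmul, map_mul, map_mul]
    have := h1 a b
    linear_combination this)
  have hD : ∀ b, D b = s (θ b) - θ b := fun b => rfl
  have hxI : (x : B') ∈ I := by
    have h := RingHom.mem_ker.mp x.2
    exact Ideal.Quotient.eq_zero_iff_mem.mp h
  -- `D x ∈ I • ⊤`
  have hmem : KaehlerDifferential.D A B' (x : B') ∈ (I • (⊤ : Submodule B' (Ω[B'⁄A]))) := by
    rw [KaehlerDifferential.kerToTensor_apply] at hx
    have h := congrArg (quotTensorEquivQuotSMul (Ω[B'⁄A]) I) hx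
    rw [quotTensorEquivQuotSMul_mk_one_tmul, map_zero, Submodule.Quotient.mk_eq_zero] at h
    exact h
  have hall : ∀ i ∈ I, ∀ ω : Ω[B'⁄A], θ i * D.liftKaehlerDifferential ω = 0 := by
    intro i hi ω
    have hω : ω ∈ Submodule.span B' (Set.range (KaehlerDifferential.D A B')) := by
      rw [KaehlerDifferential.span_range_derivation]
      trivial
    induction hω using Submodule.span_induction with
    | mem y hy =>
      obtain ⟨b, rfl⟩ := hy
      rw [Derivation.liftKaehlerDifferential_comp_D, hD]
      exact h2 i hi b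
    | zero => rw [map_zero, mul_zero]
    | add y z _ _ hy hz => rw [map_add, mul_add, hy, hz, add_zero]
    | smul b y _ hy =>
      rw [map_smul, hsmul, mul_left_comm, hy, mul_zero]
  have hkey : ∀ ω ∈ (I • (⊤ : Submodule B' (Ω[B'⁄A]))), D.liftKaehlerDifferential ω = 0 := by
    intro ω hω
    induction hω using Submodule.smul_induction_on' with
    | smul i hi y _ =>
      rw [map_smul, hsmul]
      exact hall i hi y
    | add y _ z _ hy hz => rw [map_add, hy, hz, add_zero]
  have h0 := hkey _ hmem
  rw [Derivation.liftKaehlerDifferential_comp_D, hD, h3 _ hxI, zero_sub, neg_eq_zero] at h0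
  exact h0

end Groth.Agent.Lib.helper22.Nodal
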