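import Mathlib

set_option autoImplicit false
open TrivSqZeroExt

namespace Groth.Agent.Lib.helper22.Nodal

universe u

variable {A : Type u} [CommRing A] {J : Type u} [AddCommGroup J] [Module A J] [Module Aᵐᵒᵖ J]
  [IsCentralScalar A J]

theorem inr_mul_eq (j : J) (a : TrivSqZeroExt A J) :
    (inr j : TrivSqZeroExt A J) * a = inr (a.fst • j) := by
  ext
  · simp
  · simp

theorem mul_inr_eq (j : J) (a : TrivSqZeroExt A J) :
    a * (inr j : TrivSqZeroExt A J) = inr (a.fst • j) := by
  rw [mul_comm, inr_mul_eq]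

variable {B' : Type u} [CommRing B'] [Algebra (TrivSqZeroExt A J) B']

/-- the monomial `x ^ n` for `n ≥ 0`, `y ^ (-n)` for `n ≤ 0` -/
def mon (x y : B') (n : ℤ) : B' := x ^ n.toNat * y ^ (-n).toNat

theorem mon_zero (x y : B') : mon x y 0 = 1 := by simp [mon]

theorem x_mul_mon {x y : B'} {τ : TrivSqZeroExt A J} (hxy : x * y = algebraMap _ B' τ) (n : ℤ) :
    x * mon x y n = if 0 ≤ n then mon x y (n + 1) else algebraMap _ B' τ * mon x y (n + 1) := by
  unfold mon
  split_ifs with h
  · have h1 : (n + 1).toNat = n.toNat + 1 := by omega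
    have h2 : (-(n + 1)).toNat = 0 := by omega
    have h3 : (-n).toNat = 0 := by omega
    rw [h1, h2, h3, pow_succ]
    ring
  · have h1 : (n + 1).toNat = 0 := by omega
    have h2 : n.toNat = 0 := by omega
    have h3 : (-n).toNat = (-(n + 1)).toNat + 1 := by omega
    rw [h1, h2, h3, pow_succ, ← hxy]
    ring

theorem y_mul_mon {x y : B'} {τ : TrivSqZeroExt A J} (hxy : x * y = algebraMap _ B' τ) (n : ℤ) :
    y * mon x y n = if n ≤ 0 then mon x y (n - 1) else algebraMap _ B' τ * mon x y (n - 1) := by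
  unfold mon
  split_ifs with h
  · have h1 : (-(n - 1)).toNat = (-n).toNat + 1 := by omega
    have h2 : (n - 1).toNat = 0 := by omega
    have h3 : n.toNat = 0 := by omega
    rw [h1, h2, h3, pow_succ]
    ring
  · have h1 : (-(n - 1)).toNat = 0 := by omega
    have h2 : (-n).toNat = 0 := by omega
    have h3 : n.toNat = (n - 1).toNat + 1 := by omega
    rw [h1, h2, h3, pow_succ, ← hxy]
    ring

variable (A) in
/-- the normal form map -/
noncomputable def Psi (x y : B') (f : ℤ →₀ J) : B' :=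
  f.sum fun n j => algebraMap (TrivSqZeroExt A J) B' (inr j) * mon x y n

theorem Psi_zero (x y : B') : Psi A x y (0 : ℤ →₀ J) = 0 := by
  simp [Psi]

theorem Psi_add (x y : B') (f g : ℤ →₀ J) : Psi A x y (f + g) = Psi A x y f + Psi A x y g := by
  unfold Psi
  apply Finsupp.sum_add_index'
  · intro n
    simp
  · intro n j j'
    rw [inr_add, map_add, add_mul]

theorem Psi_single (x y : B') (n : ℤ) (j : J) :
    Psi A x y (Finsupp.single n j) = algebraMap (TrivSqZeroExt A J) B' (inr j) * mon x y n := by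
  unfold Psi
  rw [Finsupp.sum_single_index]
  simp

/-- closure of the range of `Psi` under an additive operator given on generators -/
theorem exists_Psi_of_single {x y : B'} (F : B' →+ B')
    (hF : ∀ (n : ℤ) (j : J), ∃ f' : ℤ →₀ J, F (Psi A x y (Finsupp.single n j)) = Psi A x y f')
    (f : ℤ →₀ J) : ∃ f' : ℤ →₀ J, F (Psi A x y f) = Psi A x y f' := by
  induction f using Finsupp.induction_linear with
  | zero => exact ⟨0, by rw [Psi_zero, map_zero]⟩
  | add f g hf hg =>
    obtain ⟨f', hf'⟩ := hf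
    obtain ⟨g', hg'⟩ := hg
    exact ⟨f' + g', by rw [Psi_add, map_add, hf', hg', Psi_add]⟩
  | single n j => exact hF n j

theorem x_mul_Psi {x y : B'} {τ : TrivSqZeroExt A J} (hxy : x * y = algebraMap _ B' τ)
    (f : ℤ →₀ J) : ∃ f' : ℤ →₀ J, x * Psi A x y f = Psi A x y f' := by
  apply exists_Psi_of_single (AddMonoidHom.mulLeft x)
  intro n j
  rw [AddMonoidHom.coe_mulLeft, Psi_single, mul_left_comm, x_mul_mon hxy]
  split_ifs with h
  · exact ⟨Finsupp.single (n + 1) j, by rw [Psi_single]⟩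
  · refine ⟨Finsupp.single (n + 1) (τ.fst • j), ?_⟩
    rw [Psi_single, ← mul_assoc, ← map_mul, inr_mul_eq]

theorem y_mul_Psi {x y : B'} {τ : TrivSqZeroExt A J} (hxy : x * y = algebraMap _ B' τ)
    (f : ℤ →₀ J) : ∃ f' : ℤ →₀ J, y * Psi A x y f = Psi A x y f' := by
  apply exists_Psi_of_single (AddMonoidHom.mulLeft y)
  intro n j
  rw [AddMonoidHom.coe_mulLeft, Psi_single, mul_left_comm, y_mul_mon hxy]
  split_ifs with h
  · exact ⟨Finsupp.single (n - 1) j, by rw [Psi_single]⟩
  · refine ⟨Finsupp.single (n - 1) (τ.fst • j), ?_⟩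
    rw [Psi_single, ← mul_assoc, ← map_mul, inr_mul_eq]

theorem algebraMap_mul_Psi (x y : B') (a : TrivSqZeroExt A J) (f : ℤ →₀ J) :
    ∃ f' : ℤ →₀ J, algebraMap _ B' a * Psi A x y f = Psi A x y f' := by
  apply exists_Psi_of_single (AddMonoidHom.mulLeft (algebraMap _ B' a))
  intro n j
  refine ⟨Finsupp.single n (a.fst • j), ?_⟩
  rw [AddMonoidHom.coe_mulLeft, Psi_single, Psi_single, ← mul_assoc, ← map_mul, mul_inr_eq]

/-- the range of `Psi` is stable under multiplication by everything -/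
theorem mul_Psi {x y : B'} {τ : TrivSqZeroExt A J} (hxy : x * y = algebraMap _ B' τ)
    (hsurj : Function.Surjective
      (MvPolynomial.aeval ![x, y] : MvPolynomial (Fin 2) (TrivSqZeroExt A J) →ₐ[TrivSqZeroExt A J] B'))
    (b : B') (f : ℤ →₀ J) : ∃ f' : ℤ →₀ J, b * Psi A x y f = Psi A x y f' := by
  obtain ⟨p, rfl⟩ := hsurj b
  induction p using MvPolynomial.induction_on generalizing f with
  | C a =>
    rw [MvPolynomial.aeval_C]
    exact algebraMap_mul_Psi x y a f
  | add p q hp hq =>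
    obtain ⟨f₁, h₁⟩ := hp f
    obtain ⟨f₂, h₂⟩ := hq f
    exact ⟨f₁ + f₂, by rw [map_add, add_mul, h₁, h₂, Psi_add]⟩
  | mul_X p i hp =>
    rw [map_mul, MvPolynomial.aeval_X, mul_assoc]
    have hi : ∃ f' : ℤ →₀ J, (![x, y] i) * Psi A x y f = Psi A x y f' := by
      fin_cases i
      · exact x_mul_Psi hxy f
      · exact y_mul_Psi hxy f
    obtain ⟨f', hf'⟩ := hi
    rw [hf']
    exact hp f'

/-- every element of the ideal generated by `J` has a normal form -/
theorem exists_Psi_of_mem {x y : B'} {τ : TrivSqZeroExt A J} (hxy : x * y = algebraMap _ B' τ)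
    (hsurj : Function.Surjective
      (MvPolynomial.aeval ![x, y] : MvPolynomial (Fin 2) (TrivSqZeroExt A J) →ₐ[TrivSqZeroExt A J] B'))
    (b : B') (hb : b ∈ Ideal.map (algebraMap (TrivSqZeroExt A J) B') (TrivSqZeroExt.kerIdeal A J)) :
    ∃ f : ℤ →₀ J, b = Psi A x y f := by
  unfold Ideal.map at hb
  induction hb using Submodule.span_induction with
  | mem b hb =>
    obtain ⟨a, ha, rfl⟩ := hb
    rw [SetLike.mem_coe, TrivSqZeroExt.mem_kerIdeal_iff_inr] at ha
    refine ⟨Finsupp.single 0 a.snd, ?_⟩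
    rw [Psi_single, mon_zero, mul_one, ← ha]
  | zero => exact ⟨0, (Psi_zero x y).symm⟩
  | add b c _ _ hb hc =>
    obtain ⟨f, rfl⟩ := hb
    obtain ⟨g, rfl⟩ := hc
    exact ⟨f + g, (Psi_add x y f g).symm⟩
  | smul b c _ hc =>
    obtain ⟨f, rfl⟩ := hc
    obtain ⟨f', hf'⟩ := mul_Psi hxy hsurj b f
    exact ⟨f', by rw [smul_eq_mul, hf']⟩

end Groth.Agent.Lib.helper22.Nodal
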