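import Mathlib

set_option autoImplicit false
open TrivSqZeroExt LaurentPolynomial

namespace Groth.Agent.Lib.helper22.Nodal

universe u

variable (A : Type u) [CommRing A] (J : Type u) [AddCommGroup J] [Module A J] [Module Aᵐᵒᵖ J]
  [IsCentralScalar A J]

/-- kill the square-zero part -/
noncomputable def sigma0 : TrivSqZeroExt A J →ₐ[A] TrivSqZeroExt A J :=
  (inlAlgHom A A J).comp (fstHom A A J)

/-- kill the square-zero part coefficientwise -/
noncomputable def sMap : (TrivSqZeroExt A J)[T;T⁻¹] →ₐ[A] (TrivSqZeroExt A J)[T;T⁻¹] :=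
  AddMonoidAlgebra.mapAlgHom ℤ (sigma0 A J)

variable {A J}

/-- all coefficients lie in the square-zero ideal -/
def IsK (c : (TrivSqZeroExt A J)[T;T⁻¹]) : Prop := ∀ n : ℤ, (c.coeff n).fst = 0

theorem coeff_sMap (c : (TrivSqZeroExt A J)[T;T⁻¹]) (n : ℤ) :
    (sMap A J c).coeff n = inl (c.coeff n).fst := by
  simp [sMap, sigma0]

theorem IsK.sMap_eq_zero {c : (TrivSqZeroExt A J)[T;T⁻¹]} (h : IsK c) : sMap A J c = 0 := by
  ext n
  · simp [coeff_sMap, h n]
  · simp [coeff_sMap]

theorem isK_sMap_sub (c : (TrivSqZeroExt A J)[T;T⁻¹]) : IsK (sMap A J c - c) := by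
  intro n
  have : (sMap A J c - c).coeff n = (sMap A J c).coeff n - c.coeff n := by
    simp
  rw [this, coeff_sMap]
  simp

omit [IsCentralScalar A J] in
theorem mul_eq_zero_of_fst_eq_zero {r r' : TrivSqZeroExt A J} (h : r.fst = 0) (h' : r'.fst = 0) :
    r * r' = 0 := by
  ext
  · simp [h]
  · simp [h, h']

theorem IsK.mul_eq_zero {c c' : (TrivSqZeroExt A J)[T;T⁻¹]} (h : IsK c) (h' : IsK c') :
    c * c' = 0 := by
  rw [AddMonoidAlgebra.mul_def]
  unfold Finsupp.sum
  apply Finset.sum_eq_zero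
  intro m _
  apply Finset.sum_eq_zero
  intro m' _
  show AddMonoidAlgebra.single (m + m') (c.coeff m * c'.coeff m') = 0
  rw [mul_eq_zero_of_fst_eq_zero (h m) (h' m')]
  simp

theorem IsK.add {c c' : (TrivSqZeroExt A J)[T;T⁻¹]} (h : IsK c) (h' : IsK c') : IsK (c + c') := by
  intro n
  have : (c + c').coeff n = c.coeff n + c'.coeff n := by simp
  rw [this, fst_add, h n, h' n, add_zero]

theorem isK_zero : IsK (0 : (TrivSqZeroExt A J)[T;T⁻¹]) := by
  intro n
  simp

/-- `IsK` is the kernel of the coefficientwise projection, hence an ideal -/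
theorem isK_iff (c : (TrivSqZeroExt A J)[T;T⁻¹]) :
    IsK c ↔ AddMonoidAlgebra.mapAlgHom ℤ (fstHom A A J) c = 0 := by
  constructor
  · intro h
    ext n
    simp [h n]
  · intro h n
    have := congrArg (fun d => AddMonoidAlgebra.coeff d n) h
    simpa using this

theorem IsK.mul_left {c : (TrivSqZeroExt A J)[T;T⁻¹]} (h : IsK c) (c' : (TrivSqZeroExt A J)[T;T⁻¹]) :
    IsK (c' * c) := by
  rw [isK_iff] at h ⊢
  rw [map_mul, h, mul_zero]

theorem isK_C_inr (j : J) : IsK (C (inr j : TrivSqZeroExt A J)) := by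
  intro n
  rw [C_apply]
  split_ifs <;> simp

end Groth.Agent.Lib.helper22.Nodal
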