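import Groth.Agent.Lib.Helper22.Nodal1
import Groth.Agent.Lib.Helper22.Nodal2
import Groth.Agent.Lib.Helper22.Nodal3

set_option autoImplicit false
open TrivSqZeroExt LaurentPolynomial

namespace Groth.Agent.Lib.helper22.Nodal

universe u

variable {A : Type u} [CommRing A] {J : Type u} [AddCommGroup J] [Module A J] [Module Aᵐᵒᵖ J]
  [IsCentralScalar A J] {τ : TrivSqZeroExt A J}
  {B' : Type u} [CommRing B'] [Algebra (TrivSqZeroExt A J) B']
  {x y : B'}

theorem xy_eq
    (hker : RingHom.ker
      (MvPolynomial.aeval ![x, y] : MvPolynomial (Fin 2) (TrivSqZeroExt A J) →ₐ[TrivSqZeroExt A J] B') =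
      Ideal.span {MvPolynomial.X 0 * MvPolynomial.X 1 - MvPolynomial.C τ}) :
    x * y = algebraMap _ B' τ := by
  have hmem : (MvPolynomial.X 0 * MvPolynomial.X 1 - MvPolynomial.C τ :
      MvPolynomial (Fin 2) (TrivSqZeroExt A J)) ∈ RingHom.ker
      (MvPolynomial.aeval ![x, y] : MvPolynomial (Fin 2) (TrivSqZeroExt A J) →ₐ[TrivSqZeroExt A J] B') := by
    rw [hker]
    exact Ideal.subset_span rfl
  rw [RingHom.mem_ker, map_sub, map_mul, MvPolynomial.aeval_X, MvPolynomial.aeval_X,
    MvPolynomial.aeval_C, sub_eq_zero] at hmem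
  simpa using hmem

/-- the chart map determined by images `u`, `v` of `x`, `y` with `u * v = τ` -/
noncomputable def theta
    (hsurj : Function.Surjective
      (MvPolynomial.aeval ![x, y] : MvPolynomial (Fin 2) (TrivSqZeroExt A J) →ₐ[TrivSqZeroExt A J] B'))
    (hker : RingHom.ker
      (MvPolynomial.aeval ![x, y] : MvPolynomial (Fin 2) (TrivSqZeroExt A J) →ₐ[TrivSqZeroExt A J] B') =
      Ideal.span {MvPolynomial.X 0 * MvPolynomial.X 1 - MvPolynomial.C τ})
    (u v : (TrivSqZeroExt A J)[T;T⁻¹]) (huv : u * v = C τ) :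
    B' →ₐ[TrivSqZeroExt A J] (TrivSqZeroExt A J)[T;T⁻¹] :=
  AlgHom.liftOfSurjective _ hsurj (MvPolynomial.aeval ![u, v]) (by
    intro p hp
    have hp' : p ∈ RingHom.ker
      (MvPolynomial.aeval ![x, y] : MvPolynomial (Fin 2) (TrivSqZeroExt A J) →ₐ[TrivSqZeroExt A J] B') := hp
    rw [hker, Ideal.mem_span_singleton] at hp'
    obtain ⟨q, rfl⟩ := hp'
    rw [RingHom.mem_ker]
    show (MvPolynomial.aeval ![u, v]) ((MvPolynomial.X 0 * MvPolynomial.X 1 - MvPolynomial.C τ) * q) = 0
    rw [map_mul, map_sub, map_mul, MvPolynomial.aeval_X, MvPolynomial.aeval_X, MvPolynomial.aeval_C]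
    have : (![u, v] 0) * (![u, v] 1) - algebraMap _ (TrivSqZeroExt A J)[T;T⁻¹] τ = 0 := by
      simp only [Matrix.cons_val_zero, Matrix.cons_val_one]
      rw [huv, sub_eq_zero]
      rfl
    rw [this, zero_mul])

variable (hsurj : Function.Surjective
      (MvPolynomial.aeval ![x, y] : MvPolynomial (Fin 2) (TrivSqZeroExt A J) →ₐ[TrivSqZeroExt A J] B'))
    (hker : RingHom.ker
      (MvPolynomial.aeval ![x, y] : MvPolynomial (Fin 2) (TrivSqZeroExt A J) →ₐ[TrivSqZeroExt A J] B') =
      Ideal.span {MvPolynomial.X 0 * MvPolynomial.X 1 - MvPolynomial.C τ})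
    (u v : (TrivSqZeroExt A J)[T;T⁻¹]) (huv : u * v = C τ)

theorem theta_aeval (p : MvPolynomial (Fin 2) (TrivSqZeroExt A J)) :
    theta hsurj hker u v huv (MvPolynomial.aeval ![x, y] p) = MvPolynomial.aeval ![u, v] p := by
  unfold theta
  exact AlgHom.liftOfSurjective_apply _ _ _ _ p

theorem theta_x : theta hsurj hker u v huv x = u := by
  have := theta_aeval hsurj hker u v huv (MvPolynomial.X 0)
  rwa [MvPolynomial.aeval_X, MvPolynomial.aeval_X] at this

theorem theta_y : theta hsurj hker u v huv y = v := by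
  have := theta_aeval hsurj hker u v huv (MvPolynomial.X 1)
  rwa [MvPolynomial.aeval_X, MvPolynomial.aeval_X] at this

theorem theta_algebraMap (a : TrivSqZeroExt A J) :
    theta hsurj hker u v huv (algebraMap _ B' a) = C a := by
  rw [AlgHom.commutes]
  rfl

theorem theta_mon (n : ℤ) :
    theta hsurj hker u v huv (mon x y n) = u ^ n.toNat * v ^ (-n).toNat := by
  unfold mon
  rw [map_mul, map_pow, map_pow, theta_x, theta_y]

/-- elements of the ideal generated by `J` have all coefficients in the square-zero ideal -/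
theorem isK_theta_of_mem (b : B')
    (hb : b ∈ Ideal.map (algebraMap (TrivSqZeroExt A J) B') (TrivSqZeroExt.kerIdeal A J)) :
    IsK (theta hsurj hker u v huv b) := by
  unfold Ideal.map at hb
  induction hb using Submodule.span_induction with
  | mem b hb =>
    obtain ⟨a, ha, rfl⟩ := hb
    rw [SetLike.mem_coe, TrivSqZeroExt.mem_kerIdeal_iff_inr] at ha
    rw [theta_algebraMap, ha]
    exact isK_C_inr _
  | zero => rw [map_zero]; exact isK_zero
  | add b c _ _ hb hc => rw [map_add]; exact hb.add hc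
  | smul b c _ hc => rw [smul_eq_mul, map_mul]; exact hc.mul_left _

end Groth.Agent.Lib.helper22.Nodal
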