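import Groth.Agent.Lib.Helper22.Nodal4

set_option autoImplicit false
open TrivSqZeroExt LaurentPolynomial

namespace Groth.Agent.Lib.helper22.Nodal

universe u

variable {A : Type u} [CommRing A] {J : Type u} [AddCommGroup J] [Module A J] [Module Aᵐᵒᵖ J]
  [IsCentralScalar A J] {τ : TrivSqZeroExt A J}
  {B' : Type u} [CommRing B'] [Algebra (TrivSqZeroExt A J) B']
  {x y : B'}

theorem huv1 (τ : TrivSqZeroExt A J) :
    (T 1 : (TrivSqZeroExt A J)[T;T⁻¹]) * (C τ * T (-1)) = C τ := by
  rw [mul_left_comm, ← T_add]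
  simp

theorem huv2 (τ : TrivSqZeroExt A J) :
    (C τ * T (-1)) * (T 1 : (TrivSqZeroExt A J)[T;T⁻¹]) = C τ := by
  rw [mul_assoc, ← T_add]
  simp

theorem chart_pow (τ : TrivSqZeroExt A J) (k k' : ℕ) :
    (T 1 : (TrivSqZeroExt A J)[T;T⁻¹]) ^ k * (C τ * T (-1)) ^ k' =
      C (τ ^ k') * T ((k : ℤ) - k') := by
  rw [T_pow, mul_pow, T_pow, ← map_pow, mul_left_comm, ← T_add]
  congr 2
  ring

variable (hsurj : Function.Surjective
      (MvPolynomial.aeval ![x, y] : MvPolynomial (Fin 2) (TrivSqZeroExt A J) →ₐ[TrivSqZeroExt A J] B'))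
    (hker : RingHom.ker
      (MvPolynomial.aeval ![x, y] : MvPolynomial (Fin 2) (TrivSqZeroExt A J) →ₐ[TrivSqZeroExt A J] B') =
      Ideal.span {MvPolynomial.X 0 * MvPolynomial.X 1 - MvPolynomial.C τ})

theorem theta1_single (n : ℤ) (j : J) :
    theta hsurj hker _ _ (huv1 τ) (Psi A x y (Finsupp.single n j)) =
      AddMonoidAlgebra.single n (inr j * τ ^ (-n).toNat) := by
  rw [Psi_single, map_mul, theta_algebraMap, theta_mon, chart_pow, ← mul_assoc, ← map_mul,
    single_eq_C_mul_T]
  congr 2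
  omega

theorem theta2_single (n : ℤ) (j : J) :
    theta hsurj hker _ _ (huv2 τ) (Psi A x y (Finsupp.single n j)) =
      AddMonoidAlgebra.single (-n) (inr j * τ ^ n.toNat) := by
  rw [Psi_single, map_mul, theta_algebraMap, theta_mon, mul_comm ((C τ * T (-1)) ^ _), chart_pow,
    ← mul_assoc, ← map_mul, single_eq_C_mul_T]
  congr 2
  omega

theorem coeff_theta1 (f : ℤ →₀ J) (m : ℤ) (hm : 0 ≤ m) :
    (theta hsurj hker _ _ (huv1 τ) (Psi A x y f)).coeff m = inr (f m) := by
  induction f using Finsupp.induction_linear with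
  | zero => simp [Psi_zero]
  | add f g hf hg =>
    rw [Psi_add, map_add, AddMonoidAlgebra.coeff_add, Finsupp.add_apply, hf, hg, Finsupp.add_apply,
      inr_add]
  | single n j =>
    rw [theta1_single, AddMonoidAlgebra.coeff_single, Finsupp.single_apply, Finsupp.single_apply]
    split_ifs with h
    · subst h
      have : (-n).toNat = 0 := by omega
      rw [this, pow_zero, mul_one]
    · simp

theorem coeff_theta2 (f : ℤ →₀ J) (m : ℤ) (hm : m ≤ 0) :
    (theta hsurj hker _ _ (huv2 τ) (Psi A x y f)).coeff (-m) = inr (f m) := by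
  induction f using Finsupp.induction_linear with
  | zero => simp [Psi_zero]
  | add f g hf hg =>
    rw [Psi_add, map_add, AddMonoidAlgebra.coeff_add, Finsupp.add_apply, hf, hg, Finsupp.add_apply,
      inr_add]
  | single n j =>
    rw [theta2_single, AddMonoidAlgebra.coeff_single, Finsupp.single_apply, Finsupp.single_apply]
    by_cases h : n = m
    · subst h
      have : n.toNat = 0 := by omega
      rw [if_pos rfl, if_pos rfl, this, pow_zero, mul_one]
    · rw [if_neg (by omega), if_neg h]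
      simp

/-- the two charts detect the normal form -/
theorem Psi_eq_zero_of_theta (f : ℤ →₀ J)
    (h1 : theta hsurj hker _ _ (huv1 τ) (Psi A x y f) = 0)
    (h2 : theta hsurj hker _ _ (huv2 τ) (Psi A x y f) = 0) : f = 0 := by
  ext m
  rw [Finsupp.zero_apply]
  apply inr_injective (R := A)
  rw [inr_zero]
  by_cases hm : 0 ≤ m
  · rw [← coeff_theta1 hsurj hker f m hm, h1]
    simp
  · rw [← coeff_theta2 hsurj hker f m (by omega), h2]
    simp

variable [Algebra A B'] [IsScalarTower A (TrivSqZeroExt A J) B']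

theorem theta_eq_zero_of_kerToTensor (u v : (TrivSqZeroExt A J)[T;T⁻¹]) (huv : u * v = C τ)
    (b : RingHom.ker (algebraMap B'
      (B' ⧸ Ideal.map (algebraMap (TrivSqZeroExt A J) B') (TrivSqZeroExt.kerIdeal A J))))
    (hb : KaehlerDifferential.kerToTensor A B'
      (B' ⧸ Ideal.map (algebraMap (TrivSqZeroExt A J) B') (TrivSqZeroExt.kerIdeal A J)) b = 0) :
    theta hsurj hker u v huv b = 0 := by
  have := eq_zero_of_kerToTensor_eq_zero
    (Ideal.map (algebraMap (TrivSqZeroExt A J) B') (TrivSqZeroExt.kerIdeal A J))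
    ((theta hsurj hker u v huv).restrictScalars A) (sMap A J)
    (fun a b => (isK_sMap_sub _).mul_eq_zero (isK_sMap_sub _))
    (fun c hc b => (isK_theta_of_mem hsurj hker u v huv c hc).mul_eq_zero (isK_sMap_sub _))
    (fun c hc => (isK_theta_of_mem hsurj hker u v huv c hc).sMap_eq_zero) b hb
  exact this

include hsurj hker in
theorem main :
    Function.Injective (KaehlerDifferential.kerToTensor A B'
      (B' ⧸ Ideal.map (algebraMap (TrivSqZeroExt A J) B') (TrivSqZeroExt.kerIdeal A J))) := by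
  rw [injective_iff_map_eq_zero]
  intro b hb
  have h1 := theta_eq_zero_of_kerToTensor hsurj hker _ _ (huv1 τ) b hb
  have h2 := theta_eq_zero_of_kerToTensor hsurj hker _ _ (huv2 τ) b hb
  have hbI : (b : B') ∈ Ideal.map (algebraMap (TrivSqZeroExt A J) B') (TrivSqZeroExt.kerIdeal A J) := by
    have h := RingHom.mem_ker.mp b.2
    exact Ideal.Quotient.eq_zero_iff_mem.mp h
  obtain ⟨f, hf⟩ := exists_Psi_of_mem (xy_eq hker) hsurj (b : B') hbI
  rw [hf] at h1 h2
  have hf0 := Psi_eq_zero_of_theta hsurj hker f h1 h2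
  apply Subtype.ext
  rw [hf, hf0, Psi_zero]
  rfl

end Groth.Agent.Lib.helper22.Nodal
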