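import Mathlib
import Groth.Prelude.Def_Disc

/-!
# The Noether pairing `J × ω → B` for a finite free algebra (helper22)

`Ψ l ξ = Σ l(bᵢ) cᵢ` for `ξ = Σ bᵢ ⊗ cᵢ`.  For a basis `e` of `B` over `A`:
`reconstruct` (`ξ = Σ eᵢ ⊗ Ψ(eᵢ^*) ξ`), `xi` (the element attached to a `B`-linear `Φ : ω → B`),
`Ψ_xi`, `xi_mem`, `mem_annihilator_iff`, `lmul_xi` (`μ (xi Φ) = Φ τ`), `toHom` (the `B`-linear map
attached to `ξ ∈ J`).
-/

namespace Groth.Agent.Lib.helper22.NoetherPair

open TensorProduct

universe u v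

variable {A : Type u} {B : Type v} [CommRing A] [CommRing B] [Algebra A B]

/-- `b ⊗ c ↦ l b • c`. -/
noncomputable def Ψ (l : Disc.Omega A B) : B ⊗[A] B →ₗ[A] B :=
  TensorProduct.lift ((LinearMap.lsmul A B).comp l.toLinearMap)

@[simp] theorem Ψ_tmul (l : Disc.Omega A B) (b c : B) : Ψ l (b ⊗ₜ[A] c) = l.toLinearMap b • c := by
  simp [Ψ]

theorem Ψ_add (l l' : Disc.Omega A B) (ξ : B ⊗[A] B) : Ψ (l + l') ξ = Ψ l ξ + Ψ l' ξ := by
  induction ξ using TensorProduct.induction_on with
  | zero => simp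
  | tmul b c => simp [add_smul]
  | add x y hx hy => rw [map_add, map_add, map_add, hx, hy]; abel

theorem Ψ_mul_left (b : B) (l : Disc.Omega A B) (ξ : B ⊗[A] B) :
    Ψ l ((b ⊗ₜ[A] (1 : B)) * ξ) = Ψ (b • l) ξ := by
  induction ξ using TensorProduct.induction_on with
  | zero => simp
  | tmul x y => simp
  | add x y hx hy => rw [mul_add, map_add, map_add, hx, hy]

theorem Ψ_mul_right (b : B) (l : Disc.Omega A B) (ξ : B ⊗[A] B) :
    Ψ l (((1 : B) ⊗ₜ[A] b) * ξ) = b * Ψ l ξ := by
  induction ξ using TensorProduct.induction_on with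
  | zero => simp
  | tmul x y => simp
  | add x y hx hy => rw [mul_add, map_add, map_add, hx, hy, mul_add]

theorem mem_annihilator_iff (ξ : B ⊗[A] B) :
    ξ ∈ Submodule.annihilator (RingHom.ker (Algebra.TensorProduct.lmul' (S := B) A)) ↔
      ∀ s : B, ((1 : B) ⊗ₜ[A] s - s ⊗ₜ[A] (1 : B)) * ξ = 0 := by
  have hker : RingHom.ker (Algebra.TensorProduct.lmul' (S := B) A) =
      Ideal.span (Set.range fun s : B => (1 : B) ⊗ₜ[A] s - s ⊗ₜ[A] (1 : B)) :=
    (KaehlerDifferential.span_range_eq_ideal A B).symm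
  rw [hker]
  show ξ ∈ Submodule.annihilator (Submodule.span (B ⊗[A] B) _) ↔ _
  rw [Submodule.mem_annihilator_span]
  constructor
  · intro h s
    have := h ⟨_, ⟨s, rfl⟩⟩
    rw [smul_eq_mul, mul_comm] at this
    exact this
  · rintro h ⟨_, ⟨s, rfl⟩⟩
    rw [smul_eq_mul, mul_comm]
    exact h s

section Basis

variable {ι : Type*} [Fintype ι] [DecidableEq ι] (e : Module.Basis ι A B)

/-- the dual basis elements of `ω`. -/
noncomputable def estar (i : ι) : Disc.Omega A B := ⟨e.coord i⟩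

theorem expand (l : Disc.Omega A B) :
    l = ∑ i, (algebraMap A B (l.toLinearMap (e i))) • estar e i := by
  apply Disc.Omega.ext
  apply e.ext
  intro j
  have hsum : ∀ (s : Finset ι) (f : ι → Disc.Omega A B) (x : B),
      (∑ i ∈ s, f i).toLinearMap x = ∑ i ∈ s, (f i).toLinearMap x := by
    intro s f x
    induction s using Finset.induction_on with
    | empty => simp
    | insert a s ha ih => rw [Finset.sum_insert ha, Finset.sum_insert ha, Disc.Omega.add_toLinearMap,
        LinearMap.add_apply, ih]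
  rw [hsum]
  simp only [Disc.Omega.smul_toLinearMap_apply, estar]
  rw [Finset.sum_eq_single j]
  · rw [← Algebra.smul_def, map_smul, Module.Basis.coord_apply, Module.Basis.repr_self,
      Finsupp.single_eq_same, smul_eq_mul, mul_one]
  · intro i _ hij
    rw [← Algebra.smul_def, map_smul, Module.Basis.coord_apply, Module.Basis.repr_self,
      Finsupp.single_eq_of_ne hij, smul_zero]
  · intro h
    exact absurd (Finset.mem_univ j) h

theorem sum_smul_estar_eq_trace [Module.Free A B] [Module.Finite A B] :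
    ∑ i, e i • estar e i = Disc.Omega.trace A B := by
  apply Disc.Omega.ext
  apply LinearMap.ext
  intro x
  have hsum : ∀ (s : Finset ι) (f : ι → Disc.Omega A B) (x : B),
      (∑ i ∈ s, f i).toLinearMap x = ∑ i ∈ s, (f i).toLinearMap x := by
    intro s f x
    induction s using Finset.induction_on with
    | empty => simp
    | insert a s ha ih => rw [Finset.sum_insert ha, Finset.sum_insert ha, Disc.Omega.add_toLinearMap,
        LinearMap.add_apply, ih]
  rw [hsum]
  show _ = Algebra.trace A B x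
  rw [Algebra.trace_eq_matrix_trace e, Matrix.trace]
  refine Finset.sum_congr rfl fun i _ => ?_
  rw [Matrix.diag_apply, Algebra.leftMulMatrix_eq_repr_mul, Disc.Omega.smul_toLinearMap_apply,
    mul_comm]
  rfl

omit [DecidableEq ι] in
/-- reconstruction of `ξ` from its pairings with the dual basis. -/
theorem reconstruct (ξ : B ⊗[A] B) : ξ = ∑ i, e i ⊗ₜ[A] Ψ (estar e i) ξ := by
  induction ξ using TensorProduct.induction_on with
  | zero => simp
  | tmul b c =>
    simp only [Ψ_tmul, estar, Module.Basis.coord_apply]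
    simp_rw [← smul_tmul, ← sum_tmul]
    rw [e.sum_repr]
  | add x y hx hy =>
    conv_lhs => rw [hx, hy]
    rw [← Finset.sum_add_distrib]
    refine Finset.sum_congr rfl fun i _ => ?_
    rw [map_add, tmul_add]

omit [DecidableEq ι] in
include e in
theorem eq_zero_of_Ψ_eq_zero (ξ : B ⊗[A] B) (h : ∀ l : Disc.Omega A B, Ψ l ξ = 0) : ξ = 0 := by
  rw [reconstruct e ξ]
  simp [h]

/-- the element of `B ⊗ B` attached to a `B`-linear map `ω → B`. -/
noncomputable def xi (Φ : Disc.Omega A B →ₗ[B] B) : B ⊗[A] B := ∑ i, e i ⊗ₜ[A] Φ (estar e i)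

theorem Ψ_xi (Φ : Disc.Omega A B →ₗ[B] B) (l : Disc.Omega A B) : Ψ l (xi e Φ) = Φ l := by
  rw [xi, map_sum]
  simp only [Ψ_tmul]
  conv_rhs => rw [expand e l, map_sum]
  refine Finset.sum_congr rfl fun i _ => ?_
  rw [map_smul, smul_eq_mul, Algebra.smul_def]

theorem xi_mem (Φ : Disc.Omega A B →ₗ[B] B) :
    xi e Φ ∈ Submodule.annihilator (RingHom.ker (Algebra.TensorProduct.lmul' (S := B) A)) := by
  rw [mem_annihilator_iff]
  intro s
  apply eq_zero_of_Ψ_eq_zero e
  intro l
  rw [sub_mul, map_sub, Ψ_mul_right, Ψ_mul_left, Ψ_xi, Ψ_xi, map_smul, smul_eq_mul, sub_self]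

theorem lmul_xi [Module.Free A B] [Module.Finite A B] (Φ : Disc.Omega A B →ₗ[B] B) :
    Algebra.TensorProduct.lmul' (S := B) A (xi e Φ) = Φ (Disc.Omega.trace A B) := by
  rw [xi, map_sum, ← sum_smul_estar_eq_trace e, map_sum]
  refine Finset.sum_congr rfl fun i _ => ?_
  rw [Algebra.TensorProduct.lmul'_apply_tmul, map_smul, smul_eq_mul]

end Basis

/-- the `B`-linear map `ω → B` attached to an element of `J = Ann (ker μ)`. -/
noncomputable def toHom (ξ : B ⊗[A] B)
    (hξ : ξ ∈ Submodule.annihilator (RingHom.ker (Algebra.TensorProduct.lmul' (S := B) A))) :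
    Disc.Omega A B →ₗ[B] B where
  toFun l := Ψ l ξ
  map_add' l l' := Ψ_add l l' ξ
  map_smul' b l := by
    rw [RingHom.id_apply, smul_eq_mul, ← Ψ_mul_left, ← Ψ_mul_right]
    congr 1
    have := (mem_annihilator_iff ξ).mp hξ b
    rw [sub_mul, sub_eq_zero] at this
    exact this.symm

theorem toHom_apply (ξ : B ⊗[A] B)
    (hξ : ξ ∈ Submodule.annihilator (RingHom.ker (Algebra.TensorProduct.lmul' (S := B) A)))
    (l : Disc.Omega A B) : toHom ξ hξ l = Ψ l ξ := rfl

end Groth.Agent.Lib.helper22.NoetherPair
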