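import Mathlib

/-!
# Norms on finite products of algebras (helper22)

* `det_blockDiagonal''`: determinant of a dependent block diagonal matrix.
* `det_pi_dep`: determinant of a diagonal endomorphism of a dependent product of finite vector spaces.
* `norm_pi'`: the norm on a finite product of finite algebras over a field is the product of norms.
* `norm_local`: `N(x) = c ^ dim` when `x - c` is nilpotent.
-/

namespace Groth.Agent.Lib.helper22.NormPi

open Matrix Polynomial

theorem det_blockDiagonal'' {ι : Type*} [Fintype ι] [DecidableEq ι] {R : Type*} [CommRing R]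
    {n : ι → Type*} [∀ i, Fintype (n i)] [∀ i, DecidableEq (n i)] (M : ∀ i, Matrix (n i) (n i) R) :
    (Matrix.blockDiagonal' M).det = ∏ i, (M i).det := by
  classical
  let _ : LinearOrder ι := LinearOrder.lift' (Fintype.equivFin ι) (Fintype.equivFin ι).injective
  have hBT : (Matrix.blockDiagonal' M).BlockTriangular Sigma.fst := by
    rintro ⟨i, a⟩ ⟨j, b⟩ hij
    exact Matrix.blockDiagonal'_apply_ne M a b (ne_of_gt hij)
  rw [hBT.det_fintype]
  refine Finset.prod_congr rfl fun k _ => ?_
  have : (Matrix.blockDiagonal' M).toSquareBlock Sigma.fst k =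
      (M k).submatrix (Equiv.sigmaSubtype k) (Equiv.sigmaSubtype k) := by
    ext ⟨⟨i, a⟩, hi⟩ ⟨⟨j, b⟩, hj⟩
    simp only at hi hj
    subst hi
    subst hj
    simp [Matrix.toSquareBlock_def, Equiv.sigmaSubtype, Matrix.blockDiagonal'_apply_eq]
  rw [this, Matrix.det_submatrix_equiv_self]

theorem det_pi_dep {ι : Type*} [Fintype ι] [DecidableEq ι] {k : Type*} [Field k]
    {V : ι → Type*} [∀ i, AddCommGroup (V i)] [∀ i, Module k (V i)] [∀ i, Module.Finite k (V i)]
    (F : ∀ i, V i →ₗ[k] V i) :
    LinearMap.det (LinearMap.pi (fun i => (F i).comp (LinearMap.proj i)) :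
      (∀ i, V i) →ₗ[k] (∀ i, V i)) = ∏ i, LinearMap.det (F i) := by
  classical
  let s : ∀ i, Module.Basis (Module.Free.ChooseBasisIndex k (V i)) k (V i) :=
    fun i => Module.Free.chooseBasis k (V i)
  rw [← LinearMap.det_toMatrix (Pi.basis s)]
  have : LinearMap.toMatrix (Pi.basis s) (Pi.basis s)
      (LinearMap.pi (fun i => (F i).comp (LinearMap.proj i))) =
      Matrix.blockDiagonal' (fun i => LinearMap.toMatrix (s i) (s i) (F i)) := by
    ext ⟨i, a⟩ ⟨j, b⟩
    rw [LinearMap.toMatrix_apply, Pi.basis_repr, Pi.basis_apply]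
    simp only [LinearMap.pi_apply, LinearMap.comp_apply, LinearMap.proj_apply]
    by_cases hij : i = j
    · subst hij
      rw [Pi.single_eq_same, Matrix.blockDiagonal'_apply_eq, LinearMap.toMatrix_apply]
    · rw [Pi.single_eq_of_ne hij, map_zero, map_zero, Finsupp.zero_apply,
        Matrix.blockDiagonal'_apply_ne _ _ _ hij]
  rw [this, det_blockDiagonal'']
  simp only [LinearMap.det_toMatrix]

theorem norm_pi' {ι : Type*} [Fintype ι] [DecidableEq ι] {k : Type*} [Field k] {B : ι → Type*}
    [∀ i, CommRing (B i)] [∀ i, Algebra k (B i)] [∀ i, Module.Finite k (B i)] (g : ∀ i, B i) :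
    Algebra.norm k g = ∏ i, Algebra.norm k (g i) := by
  simp only [Algebra.norm_apply]
  rw [← det_pi_dep]
  congr 1

theorem norm_local {k : Type*} [Field k] {B : Type*} [CommRing B] [Algebra k B] [Module.Finite k B]
    (x : B) (c : k) (hnil : IsNilpotent (x - algebraMap k B c)) :
    Algebra.norm k x = c ^ Module.finrank k B := by
  rw [Algebra.norm_apply]
  set ν := x - algebraMap k B c with hν
  have h1 : IsNilpotent (Algebra.lmul k B (-ν)) := (hnil.neg).map (Algebra.lmul k B)
  have h2 := LinearMap.eval_charpoly (Algebra.lmul k B (-ν)) c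
  rw [h1.charpoly_eq_X_pow_finrank, eval_pow, eval_X] at h2
  rw [h2]
  congr 1
  ext y
  simp [ν, Algebra.smul_def]

end Groth.Agent.Lib.helper22.NormPi
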