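import Mathlib
import Groth.Agent.Lib.Helper22.WildFin
import Groth.Agent.Lib.Helper24.PSDim

/-!
# Maps from power series rings to complete local rings along a system of parameters (helper22)

Universe-polymorphic versions (coefficient field in an arbitrary universe).

* `hom_ext_of_isHausdorff'`: uniqueness of maps out of an adic completion.
* `ps_ringHom_ext`: ring homomorphisms from `k[[X₁..Xᵣ]]` to a Hausdorff ring are determined by
  their values on constants and variables.
* `ps_finite_of_primary`: `k[[X]] → A`, `Xᵢ ↦ cᵢ` is finite when `(c)` is primary to the maximal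
  ideal.
* `ps_injective_of_primary`: and injective when moreover `dim A = r`.
-/

set_option autoImplicit false

namespace Groth.Agent.Lib.helper22.PSNorm
universe u v w
open IsLocalRing

/-- uniqueness of maps out of a completion into a Hausdorff ring (universe-polymorphic) -/
theorem hom_ext_of_isHausdorff' {T : Type u} [CommRing T] (𝔫 : Ideal T) (fg : 𝔫.FG)
    {T' : Type v} [CommRing T'] (𝔪' : Ideal T')
    [IsHausdorff 𝔪' T'] (h h' : AdicCompletion 𝔫 T →+* T')
    (hh : (𝔫.map (algebraMap T (AdicCompletion 𝔫 T))).map h ≤ 𝔪')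
    (hh' : (𝔫.map (algebraMap T (AdicCompletion 𝔫 T))).map h' ≤ 𝔪')
    (heq : ∀ t, h (algebraMap T _ t) = h' (algebraMap T _ t)) : h = h' := by
  ext x
  rw [← sub_eq_zero]
  apply IsHausdorff.haus' (I := 𝔪')
  intro m
  rw [SModEq.zero, smul_eq_mul, Ideal.mul_top]
  obtain ⟨t, ht⟩ := Groth.Agent.LibCR29.exists_sub_mem 𝔫 fg m x
  have h1 : h (x - algebraMap T _ t) ∈ 𝔪' ^ m := by
    have := Ideal.mem_map_of_mem h ht
    rw [Ideal.map_pow] at this
    exact Ideal.pow_right_mono hh m this
  have h2 : h' (x - algebraMap T _ t) ∈ 𝔪' ^ m := by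
    have := Ideal.mem_map_of_mem h' ht
    rw [Ideal.map_pow] at this
    exact Ideal.pow_right_mono hh' m this
  have h3 : h x - h' x = h (x - algebraMap T _ t) - h' (x - algebraMap T _ t) := by
    rw [map_sub, map_sub, heq t]; ring
  rw [h3]
  exact Ideal.sub_mem _ h1 h2

/-- ring homomorphisms from a power series ring in finitely many variables to a Hausdorff ring are
determined by the values on the constants and the variables -/
theorem ps_ringHom_ext {k : Type v} [CommRing k] {A : Type u} [CommRing A] (m : Ideal A)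
    [IsHausdorff m A] {r : ℕ} (g₁ g₂ : MvPowerSeries (Fin r) k →+* A)
    (hC : ∀ c, g₁ (MvPowerSeries.C c) = g₂ (MvPowerSeries.C c))
    (hX : ∀ i, g₁ (MvPowerSeries.X i) = g₂ (MvPowerSeries.X i))
    (hm : ∀ i, g₁ (MvPowerSeries.X i) ∈ m) : g₁ = g₂ := by
  classical
  let e := MvPowerSeries.toAdicCompletionAlgEquiv (Fin r) k
  have hpoly : ∀ t : MvPolynomial (Fin r) k,
      g₁ (t : MvPowerSeries (Fin r) k) = g₂ (t : MvPowerSeries (Fin r) k) := by
    intro t
    have : g₁.comp (MvPolynomial.coeToMvPowerSeries.ringHom) =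
        g₂.comp (MvPolynomial.coeToMvPowerSeries.ringHom) := by
      apply MvPolynomial.ringHom_ext
      · intro c
        simp [hC]
      · intro i
        simp [hX]
    exact congrArg (fun φ => φ t) this
  have hesymm : ∀ t : MvPolynomial (Fin r) k,
      e.symm (algebraMap (MvPolynomial (Fin r) k) _ t) = (t : MvPowerSeries (Fin r) k) := by
    intro t
    rw [AlgEquiv.symm_apply_eq, MvPowerSeries.toAdicCompletionAlgEquiv_apply,
      MvPowerSeries.toAdicCompletion_coe]
    rfl
  let h : AdicCompletion (MvPolynomial.idealOfVars (Fin r) k) (MvPolynomial (Fin r) k) →+* A :=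
    g₁.comp e.symm.toRingEquiv.toRingHom
  let h' : AdicCompletion (MvPolynomial.idealOfVars (Fin r) k) (MvPolynomial (Fin r) k) →+* A :=
    g₂.comp e.symm.toRingEquiv.toRingHom
  have hh0 : ∀ t : MvPolynomial (Fin r) k, h (algebraMap _ _ t) =
      g₁ (t : MvPowerSeries (Fin r) k) := by
    intro t
    show g₁ (e.symm _) = _
    rw [hesymm]
  have hh0' : ∀ t : MvPolynomial (Fin r) k, h' (algebraMap _ _ t) =
      g₂ (t : MvPowerSeries (Fin r) k) := by
    intro t
    show g₂ (e.symm _) = _
    rw [hesymm]
  have hmem : ∀ t ∈ MvPolynomial.idealOfVars (Fin r) k,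
      g₁ (t : MvPowerSeries (Fin r) k) ∈ m := by
    intro t ht
    have h1 : (MvPolynomial.idealOfVars (Fin r) k).map
        (g₁.comp (MvPolynomial.coeToMvPowerSeries.ringHom)) ≤ m := by
      rw [MvPolynomial.idealOfVars, Ideal.map_span, Ideal.span_le]
      rintro _ ⟨_, ⟨i, rfl⟩, rfl⟩
      simp only [RingHom.coe_comp, Function.comp_apply, MvPolynomial.coeToMvPowerSeries.ringHom_apply,
        MvPolynomial.coe_X]
      exact hm i
    exact h1 (Ideal.mem_map_of_mem _ ht)
  have hh : ((MvPolynomial.idealOfVars (Fin r) k).map (algebraMap _ (AdicCompletion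
      (MvPolynomial.idealOfVars (Fin r) k) (MvPolynomial (Fin r) k)))).map h ≤ m := by
    rw [Ideal.map_map, Ideal.map_le_iff_le_comap]
    intro t ht
    rw [Ideal.mem_comap, RingHom.comp_apply, hh0]
    exact hmem t ht
  have hh' : ((MvPolynomial.idealOfVars (Fin r) k).map (algebraMap _ (AdicCompletion
      (MvPolynomial.idealOfVars (Fin r) k) (MvPolynomial (Fin r) k)))).map h' ≤ m := by
    rw [Ideal.map_map, Ideal.map_le_iff_le_comap]
    intro t ht
    rw [Ideal.mem_comap, RingHom.comp_apply, hh0', ← hpoly]
    exact hmem t ht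
  have key : h = h' := hom_ext_of_isHausdorff' _
    (MvPolynomial.idealOfVars_fg (Fin r) k) m h h' hh hh'
    (fun t => by rw [hh0, hh0', hpoly])
  ext g
  have h1 : h (e g) = h' (e g) := by rw [key]
  have h2 : h (e g) = g₁ g := by
    show g₁ (e.symm (e g)) = g₁ g
    rw [AlgEquiv.symm_apply_apply]
  have h3 : h' (e g) = g₂ g := by
    show g₂ (e.symm (e g)) = g₂ g
    rw [AlgEquiv.symm_apply_apply]
  rw [← h2, h1, h3]

section
variable (A : Type u) [CommRing A] [IsLocalRing A] [IsNoetherianRing A]
  [IsAdicComplete (maximalIdeal A) A] (k : Type v) [Field k] [Algebra k A]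
  (hk : Function.Surjective (residue A ∘ algebraMap k A))
  (r : ℕ) (c : Fin r → A) (hc : ∀ i, c i ∈ maximalIdeal A) (N : ℕ)
  (hN : maximalIdeal A ^ N ≤ Ideal.span (Set.range c))
  (f : MvPowerSeries (Fin r) k →ₐ[k] A) (hf : ∀ i, f (MvPowerSeries.X i) = c i)

include hk hc hN hf in
/-- a complete Noetherian local ring with coefficient field `k` is finite over `k[[X₁..Xᵣ]]` via
`Xᵢ ↦ cᵢ` when `(c₁..cᵣ)` is primary to the maximal ideal -/
theorem ps_finite_of_primary : f.toRingHom.Finite := by
  classical
  let K : Subring A := (algebraMap k A).range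
  have hinjk : Function.Injective (algebraMap k A) := (algebraMap k A).injective
  let eK : k ≃+* K := RingEquiv.ofBijective (algebraMap k A).rangeRestrict
    ⟨fun x y h => hinjk (congrArg Subtype.val h), (algebraMap k A).rangeRestrict_surjective⟩
  have hKf : IsField K := MulEquiv.isField (Field.toIsField k) eK.symm.toMulEquiv
  letI : Field K := hKf.toField
  have hK : Function.Surjective (residue A ∘ algebraMap K A) := by
    intro y
    obtain ⟨c, hc⟩ := hk y
    exact ⟨⟨algebraMap k A c, c, rfl⟩, hc⟩
  obtain ⟨f', hf'X, -, hfin⟩ := WildFin.exists_ps_finite A K hK r c hc N hN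
  let ι : MvPowerSeries (Fin r) k →+* MvPowerSeries (Fin r) K := MvPowerSeries.map eK.toRingHom
  have hι : Function.Surjective ι := by
    intro g
    refine ⟨MvPowerSeries.map eK.symm.toRingHom g, ?_⟩
    ext d
    simp [ι]
  have hcomp : f.toRingHom = f'.toRingHom.comp ι := by
    apply ps_ringHom_ext (maximalIdeal A)
    · intro a
      have h1 : f.toRingHom (MvPowerSeries.C a) = algebraMap k A a := f.commutes a
      have h2 : f'.toRingHom (MvPowerSeries.C (eK a)) = algebraMap K A (eK a) := f'.commutes (eK a)
      rw [h1, RingHom.comp_apply]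
      show _ = f'.toRingHom (MvPowerSeries.map eK.toRingHom (MvPowerSeries.C a))
      rw [MvPowerSeries.map_C]
      exact h2.symm
    · intro i
      rw [RingHom.comp_apply]
      show f (MvPowerSeries.X i) = f' (MvPowerSeries.map eK.toRingHom (MvPowerSeries.X i))
      rw [MvPowerSeries.map_X, hf, hf'X]
    · intro i
      show f (MvPowerSeries.X i) ∈ _
      rw [hf]
      exact hc i
  rw [hcomp]
  exact RingHom.Finite.comp hfin (RingHom.Finite.of_surjective ι hι)

include hk hc hN hf in
/-- … and injective when `dim A = r` -/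
theorem ps_injective_of_primary (hdim : ringKrullDim A = r) : Function.Injective f := by
  haveI : IsDomain (MvPowerSeries (Fin r) k) := NoZeroDivisors.to_isDomain _
  have hfin := ps_finite_of_primary A k hk r c hc N hN f hf
  apply Groth.Agent.Lib.Helper24.SopFinite.injective_of_isIntegral_of_dim_le f.toRingHom
    hfin.to_isIntegral
  rw [hdim]
  exact Groth.Agent.Lib.Helper24.PSDim.ringKrullDim_mvPowerSeries_field_le k r

end

end Groth.Agent.Lib.helper22.PSNorm
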