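import Mathlib
import Groth.Agent.Lib.Helper22.PSNorm

/-!
# The norm subring of an admissible system of parameters (helper22)

* `smul_norm`: norms are invariant.
* `norm_mem_maximalIdeal`, `exists_pow_le_span_norm`: the norms of an admissible system of
  parameters generate an ideal primary to the maximal ideal.
* `smul_ps_eq'`: a `k`-algebra map `k[[X]] → A` sending the variables to invariants in the maximal
  ideal has invariant image (universe-polymorphic).
-/

set_option autoImplicit false

namespace Groth.Agent.Lib.helper22.NormSub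
universe u v w
open IsLocalRing

section
variable {A : Type u} [CommRing A] {G : Type w} [Group G] [Fintype G] [MulSemiringAction G A]

theorem smul_norm (a : A) (σ : G) : σ • ∏ τ : G, τ • a = ∏ τ : G, τ • a := by
  rw [Finset.smul_prod']
  simp only [smul_smul]
  exact Fintype.prod_equiv (Equiv.mulLeft σ) _ _ (fun τ => rfl)

variable [IsLocalRing A]

theorem norm_mem_maximalIdeal {a : A} (ha : a ∈ maximalIdeal A) :
    ∏ τ : G, τ • a ∈ maximalIdeal A := by
  classical
  rw [← Finset.prod_erase_mul _ _ (Finset.mem_univ (1 : G)), one_smul]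
  exact Ideal.mul_mem_left _ _ ha

theorem exists_pow_le_span_norm [IsNoetherianRing A] {n : ℕ} (u : Fin n → A)
    (hu : ∀ τ : Fin n → G, Ideal.span (Set.range fun i => τ i • u i) = maximalIdeal A) :
    ∃ N : ℕ, maximalIdeal A ^ N ≤ Ideal.span (Set.range fun i => ∏ σ : G, σ • u i) := by
  classical
  apply Ideal.exists_pow_le_of_le_radical_of_fg _ (IsNoetherian.noetherian (maximalIdeal A))
  rw [Ideal.radical_eq_sInf]
  apply le_sInf
  rintro Q ⟨hQ, hQp⟩
  haveI := hQp
  have h1 : ∀ i, ∃ σ : G, σ • u i ∈ Q := by
    intro i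
    have : ∏ σ : G, σ • u i ∈ Q := hQ (Ideal.subset_span ⟨i, rfl⟩)
    obtain ⟨σ, -, hσ⟩ := (Ideal.IsPrime.prod_mem_iff).mp this
    exact ⟨σ, hσ⟩
  choose τ hτ using h1
  rw [← hu τ, Ideal.span_le]
  rintro _ ⟨i, rfl⟩
  exact hτ i

omit [Fintype G] in
theorem mem_maximalIdeal_of_admissible {n : ℕ} (u : Fin n → A)
    (hu : ∀ τ : Fin n → G, Ideal.span (Set.range fun i => τ i • u i) = maximalIdeal A) (i : Fin n) :
    u i ∈ maximalIdeal A := by
  rw [← hu (fun _ => 1)]
  exact Ideal.subset_span ⟨i, by simp⟩

end

section
variable {A : Type u} [CommRing A] [IsLocalRing A] [IsNoetherianRing A]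
  [IsAdicComplete (maximalIdeal A) A] {k : Type v} [Field k] [Algebra k A]
  {G : Type w} [Group G] [MulSemiringAction G A] [SMulCommClass G k A]

omit [IsAdicComplete (maximalIdeal A) A] in
/-- a `k`-algebra map from a power series ring to a complete local ring sending the variables to
invariants in the maximal ideal has invariant image -/
theorem smul_ps_eq' {r : ℕ} (f : MvPowerSeries (Fin r) k →ₐ[k] A)
    (hc : ∀ i, f (MvPowerSeries.X i) ∈ maximalIdeal A)
    (hcfix : ∀ i (σ : G), σ • f (MvPowerSeries.X i) = f (MvPowerSeries.X i))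
    (g : MvPowerSeries (Fin r) k) (σ : G) : σ • f g = f g := by
  have key : f.toRingHom = (MulSemiringAction.toRingHom G A σ).comp f.toRingHom := by
    apply PSNorm.ps_ringHom_ext (maximalIdeal A)
    · intro c
      have h1 : f.toRingHom (MvPowerSeries.C c) = algebraMap k A c := f.commutes c
      rw [RingHom.comp_apply, h1]
      show _ = σ • algebraMap k A c
      rw [Algebra.algebraMap_eq_smul_one, smul_comm, smul_one]
    · intro i
      rw [RingHom.comp_apply]
      exact (hcfix i σ).symm
    · intro i
      exact hc i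
  have := congrArg (fun h => h g) key
  exact this.symm

end

end Groth.Agent.Lib.helper22.NormSub
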