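import Mathlib
namespace Groth.Agent.Lib.helper22.NormalTrace
open Polynomial

lemma isIntegralElem_multiset_sum {A F : Type*} [CommRing A] [CommRing F] (ψ : A →+* F)
    (s : Multiset F) (h : ∀ x ∈ s, ψ.IsIntegralElem x) : ψ.IsIntegralElem s.sum := by
  induction s using Multiset.induction_on with
  | empty => simpa using ψ.isIntegralElem_zero
  | cons a s ih =>
    rw [Multiset.sum_cons]
    exact RingHom.IsIntegralElem.add ψ (h a (Multiset.mem_cons_self a s))
      (ih fun x hx => h x (Multiset.mem_cons_of_mem hx))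

lemma trace_isIntegralElem {A F : Type*} [CommRing A] [Field F] (ψ : A →+* F) {n : Type*}
    [Fintype n] [DecidableEq n]
    (N : Matrix n n F) (P : Polynomial A) (hP : P.Monic) (h : Polynomial.aeval N (P.map ψ) = 0) :
    ψ.IsIntegralElem N.trace := by
  rcases isEmpty_or_nonempty n with hn | hn
  · have : N.trace = 0 := by simp [Matrix.trace]
    rw [this]; exact ψ.isIntegralElem_zero
  let Fb := AlgebraicClosure F
  let ι : F →+* Fb := algebraMap F Fb
  set N' : Matrix n n Fb := N.map ι with hN'
  have htr : N'.trace = ι N.trace := by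
    simp [Matrix.trace, hN', map_sum]
  have hN'P : Polynomial.aeval N' ((P.map ψ).map ι) = 0 := by
    have h1 : N' = ι.mapMatrix N := rfl
    have := congrArg ι.mapMatrix h
    rw [map_zero] at this
    rw [← this, h1]
    rw [Polynomial.aeval_def, Polynomial.aeval_def, Polynomial.eval₂_map, Polynomial.hom_eval₂]
    congr 1
    ext x i j
    simp [Matrix.algebraMap_matrix_apply]
    split_ifs <;> simp
  have hroots : ∀ x ∈ N'.charpoly.roots, (ι.comp ψ).IsIntegralElem x := by
    intro x hx
    have hroot : N'.charpoly.IsRoot x := (Polynomial.mem_roots'.mp hx).2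
    have hspec : x ∈ spectrum Fb N' := Matrix.mem_spectrum_iff_isRoot_charpoly.mpr hroot
    have h2 := spectrum.subset_polynomial_aeval N' ((P.map ψ).map ι) ⟨x, hspec, rfl⟩
    rw [hN'P, spectrum.zero_eq, Set.mem_singleton_iff] at h2
    refine ⟨P, hP, ?_⟩
    have h2' : Polynomial.eval x ((P.map ψ).map ι) = 0 := h2
    rw [Polynomial.map_map, Polynomial.eval_map] at h2'
    exact h2'
  have h3 : (ι.comp ψ).IsIntegralElem (ι N.trace) := by
    rw [← htr, Matrix.trace_eq_sum_roots_charpoly]
    exact isIntegralElem_multiset_sum _ _ hroots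
  obtain ⟨q, hq, hq0⟩ := h3
  refine ⟨q, hq, ?_⟩
  apply ι.injective
  rw [map_zero, ← hq0, Polynomial.hom_eval₂]

end Groth.Agent.Lib.helper22.NormalTrace

namespace Groth.Agent.Lib.helper22.NormalTrace
universe u
open Polynomial

lemma trace_mem_range {A K L : Type u} [CommRing A] [CommRing K] [CommRing L] [Algebra A K]
    [Algebra K L] [Algebra A L] [IsScalarTower A K L] [IsFractionRing A K] [Module.Free K L]
    [Module.Finite K L]
    (hA : ∀ (p : Ideal A) [p.IsPrime],
      IsDomain (Localization.AtPrime p) ∧ IsIntegrallyClosed (Localization.AtPrime p))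
    (x : L) (hx : IsIntegral A x) : Algebra.trace K L x ∈ (algebraMap A K).range := by
  classical
  obtain ⟨P, hPm, hPx⟩ := hx
  let bs := Module.Free.chooseBasis K L
  set M := Algebra.leftMulMatrix bs x with hMdef
  have hM : Polynomial.aeval M (P.map (algebraMap A K)) = 0 := by
    have h1 : Polynomial.aeval x (P.map (algebraMap A K)) = 0 := by
      rw [Polynomial.aeval_map_algebraMap, Polynomial.aeval_def]; exact hPx
    rw [hMdef, Polynomial.aeval_algHom_apply, h1, map_zero]
  set t := Algebra.trace K L x with ht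
  have htM : t = M.trace := Algebra.trace_eq_matrix_trace bs x
  let I : Ideal A :=
    { carrier := {r | algebraMap A K r * t ∈ (algebraMap A K).range}
      zero_mem' := ⟨0, by simp⟩
      add_mem' := by
        rintro r r' ⟨c, hc⟩ ⟨c', hc'⟩
        exact ⟨c + c', by rw [map_add, map_add, add_mul, hc, hc']⟩
      smul_mem' := by
        rintro d r ⟨c, hc⟩
        exact ⟨d * c, by rw [smul_eq_mul, map_mul, map_mul, mul_assoc, hc]⟩ }
  suffices hI : I = ⊤ by
    have h1 : (1 : A) ∈ I := by rw [hI]; trivial
    obtain ⟨c, hc⟩ := h1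
    exact ⟨c, by rw [hc, map_one, one_mul]⟩
  by_contra hne
  obtain ⟨m, hm, hIm⟩ := Ideal.exists_le_maximal I hne
  have hmp : m.IsPrime := hm.isPrime
  obtain ⟨hdom, hic⟩ := hA m
  let Am := Localization.AtPrime m
  let Fm := FractionRing Am
  let ψ : A →+* Fm := (algebraMap Am Fm).comp (algebraMap A Am)
  have hψ : ∀ s : nonZeroDivisors A, IsUnit (ψ s) := by
    intro s
    apply IsUnit.mk0
    intro h0
    have h1 : algebraMap A Am (s : A) = 0 := by
      apply IsFractionRing.injective Am Fm
      rw [map_zero]; exact h0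
    rw [IsLocalization.map_eq_zero_iff m.primeCompl] at h1
    obtain ⟨u, hu⟩ := h1
    have : (u : A) = 0 := (mem_nonZeroDivisors_iff.mp s.2).2 _ hu
    exact u.2 (this ▸ m.zero_mem)
  let φ : K →+* Fm := IsLocalization.lift hψ
  have hφ : ∀ a, φ (algebraMap A K a) = ψ a := IsLocalization.lift_eq hψ
  set N := φ.mapMatrix M with hNdef
  have hN : Polynomial.aeval N (P.map ψ) = 0 := by
    have := congrArg φ.mapMatrix hM
    rw [map_zero] at this
    rw [← this, hNdef]
    rw [Polynomial.aeval_def, Polynomial.aeval_def, Polynomial.eval₂_map, Polynomial.eval₂_map,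
      Polynomial.hom_eval₂]
    congr 1
    ext a i j
    simp [Matrix.algebraMap_matrix_apply, hφ]
    split_ifs <;> simp [hφ]
  obtain ⟨Q, hQm, hQ⟩ := trace_isIntegralElem ψ N P hPm hN
  have htr : N.trace = φ t := by
    rw [htM]
    simp [hNdef, Matrix.trace, map_sum]
  have hint : IsIntegral Am (φ t) := by
    refine ⟨Q.map (algebraMap A Am), hQm.map _, ?_⟩
    rw [Polynomial.eval₂_map, ← htr]
    exact hQ
  obtain ⟨y, hy⟩ := IsIntegrallyClosed.isIntegral_iff.mp hint
  obtain ⟨a, s, hast⟩ := IsLocalization.exists_mk'_eq (nonZeroDivisors A) t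
  obtain ⟨c, v, hcv⟩ := IsLocalization.exists_mk'_eq m.primeCompl y
  have h1 : t * algebraMap A K s = algebraMap A K a := by rw [← hast, IsLocalization.mk'_spec]
  have h2 : φ t * ψ s = ψ a := by rw [← hφ, ← hφ, ← map_mul, h1]
  have h3 : y * algebraMap A Am v = algebraMap A Am c := by rw [← hcv, IsLocalization.mk'_spec]
  have h4 : algebraMap A Am (a * v) = algebraMap A Am (c * s) := by
    apply IsFractionRing.injective Am Fm
    simp only [map_mul]
    change ψ a * algebraMap Am Fm (algebraMap A Am v) = algebraMap Am Fm (algebraMap A Am c) * ψ s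
    rw [← h2, ← h3, map_mul, hy]; ring
  obtain ⟨u, hu⟩ := (IsLocalization.eq_iff_exists m.primeCompl Am).mp h4
  have huv : (u : A) * v ∈ I := by
    change algebraMap A K (u * v) * t ∈ (algebraMap A K).range
    refine ⟨u * c, ?_⟩
    have hs : IsUnit (algebraMap A K s) := IsLocalization.map_units K s
    apply hs.mul_right_cancel
    rw [mul_assoc, h1, ← map_mul, ← map_mul]
    congr 1
    linear_combination (-1 : A) * hu
  have hmem : (u : A) * v ∈ m := hIm huv
  exact (hmp.mem_or_mem hmem).elim u.2 v.2

end Groth.Agent.Lib.helper22.NormalTrace
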