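import Mathlib

/-!
# helper22: unit roots of a monic polynomial over an ultrametric field and the lowest unit coefficient
-/

set_option autoImplicit false

open Polynomial

namespace Groth.Agent.Lib.helper22.Ordinary

section ultra
variable {F : Type*} [NormedField F] [IsUltrametricDist F]

theorem norm_sub_le_one {a b : F} (ha : ‖a‖ ≤ 1) (hb : ‖b‖ ≤ 1) : ‖a - b‖ ≤ 1 := by
  rw [sub_eq_add_neg]
  refine (IsUltrametricDist.norm_add_le_max a (-b)).trans ?_
  rw [norm_neg]
  exact max_le ha hb

theorem norm_sub_lt_one {a b : F} (ha : ‖a‖ < 1) (hb : ‖b‖ < 1) : ‖a - b‖ < 1 := by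
  rw [sub_eq_add_neg]
  refine (IsUltrametricDist.norm_add_le_max a (-b)).trans_lt ?_
  rw [norm_neg]
  exact max_lt ha hb

theorem norm_sub_eq_one_left {a b : F} (ha : ‖a‖ = 1) (hb : ‖b‖ < 1) : ‖a - b‖ = 1 := by
  rw [sub_eq_add_neg, IsUltrametricDist.norm_add_eq_max_of_norm_ne_norm, norm_neg, ha,
    max_eq_left hb.le]
  rw [norm_neg, ha]
  exact hb.ne'

theorem norm_sub_eq_one_right {a b : F} (ha : ‖a‖ < 1) (hb : ‖b‖ = 1) : ‖a - b‖ = 1 := by
  rw [← norm_neg, neg_sub]
  exact norm_sub_eq_one_left hb ha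

/-- The polynomial with root multiset `s` -/
noncomputable def rootPoly (s : Multiset F) : F[X] := (s.map (fun z => X - C z)).prod

omit [IsUltrametricDist F] in
theorem rootPoly_cons (z : F) (s : Multiset F) :
    rootPoly (z ::ₘ s) = (X - C z) * rootPoly s := by
  simp [rootPoly]

omit [IsUltrametricDist F] in
theorem rootPoly_coeff_zero (z : F) (s : Multiset F) :
    (rootPoly (z ::ₘ s)).coeff 0 = - (z * (rootPoly s).coeff 0) := by
  rw [rootPoly_cons, mul_coeff_zero]
  simp

omit [IsUltrametricDist F] in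
theorem rootPoly_coeff_succ (z : F) (s : Multiset F) (k : ℕ) :
    (rootPoly (z ::ₘ s)).coeff (k + 1) = (rootPoly s).coeff k - z * (rootPoly s).coeff (k + 1) := by
  rw [rootPoly_cons, coeff_X_sub_C_mul]

theorem coeff_props (s : Multiset F) (hs : ∀ z ∈ s, ‖z‖ ≤ 1) :
    (∀ k, ‖(rootPoly s).coeff k‖ ≤ 1) ∧
    (∀ k, k + Multiset.card (s.filter (fun z => ‖z‖ = 1)) < Multiset.card s →
      ‖(rootPoly s).coeff k‖ < 1) ∧
    ‖(rootPoly s).coeff (Multiset.card s - Multiset.card (s.filter (fun z => ‖z‖ = 1)))‖ = 1 := by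
  induction s using Multiset.induction_on with
  | empty =>
    refine ⟨fun k => ?_, fun k hk => ?_, ?_⟩
    · simp only [rootPoly, Multiset.map_zero, Multiset.prod_zero, coeff_one]
      split_ifs <;> simp
    · simp at hk
    · simp [rootPoly]
  | cons z s ih =>
    have hz : ‖z‖ ≤ 1 := hs z (Multiset.mem_cons_self z s)
    obtain ⟨iha, ihb, ihc⟩ := ih (fun w hw => hs w (Multiset.mem_cons_of_mem hw))
    have hmn : Multiset.card (s.filter (fun z => ‖z‖ = 1)) ≤ Multiset.card s :=
      Multiset.card_le_card (Multiset.filter_le _ _)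
    have hzc : ∀ k, ‖z * (rootPoly s).coeff k‖ ≤ 1 := fun k => by
      rw [norm_mul]
      exact mul_le_one₀ hz (norm_nonneg _) (iha k)
    refine ⟨fun k => ?_, ?_, ?_⟩
    · cases k with
      | zero =>
        rw [rootPoly_coeff_zero, norm_neg]
        exact hzc 0
      | succ k =>
        rw [rootPoly_coeff_succ]
        exact norm_sub_le_one (iha k) (hzc (k + 1))
    · by_cases hz1 : ‖z‖ = 1
      · rw [Multiset.filter_cons_of_pos (p := fun z => ‖z‖ = 1) s hz1, Multiset.card_cons, Multiset.card_cons]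
        intro k hk
        cases k with
        | zero =>
          rw [rootPoly_coeff_zero, norm_neg, norm_mul, hz1, one_mul]
          exact ihb 0 (by omega)
        | succ k =>
          rw [rootPoly_coeff_succ]
          refine norm_sub_lt_one (ihb k (by omega)) ?_
          rw [norm_mul, hz1, one_mul]
          exact ihb (k + 1) (by omega)
      · have hz2 : ‖z‖ < 1 := lt_of_le_of_ne hz hz1
        have hzc' : ∀ k, ‖z * (rootPoly s).coeff k‖ < 1 := fun k => by
          rw [norm_mul]
          exact mul_lt_one_of_nonneg_of_lt_one_left (norm_nonneg _) hz2 (iha k)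
        rw [Multiset.filter_cons_of_neg (p := fun z => ‖z‖ = 1) s hz1, Multiset.card_cons]
        intro k hk
        cases k with
        | zero =>
          rw [rootPoly_coeff_zero, norm_neg]
          exact hzc' 0
        | succ k =>
          rw [rootPoly_coeff_succ]
          exact norm_sub_lt_one (ihb k (by omega)) (hzc' (k + 1))
    · by_cases hz1 : ‖z‖ = 1
      · rw [Multiset.filter_cons_of_pos (p := fun z => ‖z‖ = 1) s hz1, Multiset.card_cons, Multiset.card_cons,
          Nat.add_sub_add_right]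
        rcases Nat.eq_zero_or_pos
          (Multiset.card s - Multiset.card (s.filter (fun z => ‖z‖ = 1))) with h0 | hpos
        · rw [h0] at ihc ⊢
          rw [rootPoly_coeff_zero, norm_neg, norm_mul, hz1, one_mul]
          exact ihc
        · obtain ⟨j, hj⟩ := Nat.exists_eq_succ_of_ne_zero hpos.ne'
          rw [hj] at ihc ⊢
          rw [Nat.succ_eq_add_one, rootPoly_coeff_succ]
          refine norm_sub_eq_one_right (ihb j (by omega)) ?_
          rw [norm_mul, hz1, one_mul]
          exact ihc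
      · have hz2 : ‖z‖ < 1 := lt_of_le_of_ne hz hz1
        have hzc' : ∀ k, ‖z * (rootPoly s).coeff k‖ < 1 := fun k => by
          rw [norm_mul]
          exact mul_lt_one_of_nonneg_of_lt_one_left (norm_nonneg _) hz2 (iha k)
        rw [Multiset.filter_cons_of_neg (p := fun z => ‖z‖ = 1) s hz1, Multiset.card_cons, Nat.succ_sub hmn,
          Nat.succ_eq_add_one, rootPoly_coeff_succ]
        exact norm_sub_eq_one_left ihc (hzc' _)

/-- a root of a monic polynomial with coefficients of norm `≤ 1` has norm `≤ 1` -/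
theorem norm_root_le_one (P : F[X]) (hm : P.Monic) (hc : ∀ k, ‖P.coeff k‖ ≤ 1) (z : F)
    (hz : P.eval z = 0) : ‖z‖ ≤ 1 := by
  by_contra h
  rw [not_le] at h
  rw [eval_eq_sum_range, Finset.sum_range_succ, hm.coeff_natDegree, one_mul] at hz
  have h1 : z ^ P.natDegree = - ∑ k ∈ Finset.range P.natDegree, P.coeff k * z ^ k :=
    eq_neg_of_add_eq_zero_right hz
  have h2 : ‖∑ k ∈ Finset.range P.natDegree, P.coeff k * z ^ k‖ ≤ ‖z‖ ^ (P.natDegree - 1) := by
    apply IsUltrametricDist.norm_sum_le_of_forall_le_of_nonneg (by positivity)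
    intro k hk
    rw [Finset.mem_range] at hk
    rw [norm_mul, norm_pow]
    calc ‖P.coeff k‖ * ‖z‖ ^ k ≤ 1 * ‖z‖ ^ k := by gcongr; exact hc k
      _ = ‖z‖ ^ k := one_mul _
      _ ≤ ‖z‖ ^ (P.natDegree - 1) := pow_le_pow_right₀ h.le (by omega)
  have h3 : ‖z ^ P.natDegree‖ ≤ ‖z‖ ^ (P.natDegree - 1) := by
    rw [h1, norm_neg]
    exact h2
  rw [norm_pow] at h3
  by_cases hd : P.natDegree = 0
  · rw [hd] at hz
    simp at hz
  · have : ‖z‖ ^ (P.natDegree - 1) < ‖z‖ ^ P.natDegree :=
      pow_lt_pow_right₀ h (by omega)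
    linarith

end ultra

end Groth.Agent.Lib.helper22.Ordinary
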