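import Mathlib
import Groth.Agent.Lib.Helper22.OrdinaryA

/-!
# helper22: a monic integer polynomial of degree `2d` with `p ∣ a_k` for `k < d` has exactly `d`
unit roots in `PadicAlgCl p` iff `p ∤ a_d`
-/

set_option autoImplicit false

open Polynomial

namespace Groth.Agent.Lib.helper22.Ordinary

variable (p : ℕ) [Fact p.Prime]

theorem norm_intCast_le_one (a : ℤ) : ‖(a : PadicAlgCl p)‖ ≤ 1 := by
  have h : (a : PadicAlgCl p) = ((a : ℚ_[p]) : PadicAlgCl p) := by
    rw [map_intCast]
  rw [h, PadicAlgCl.norm_extends]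
  exact Padic.norm_int_le_one a

theorem norm_intCast_lt_one_iff (a : ℤ) : ‖(a : PadicAlgCl p)‖ < 1 ↔ (p : ℤ) ∣ a := by
  have h : (a : PadicAlgCl p) = ((a : ℚ_[p]) : PadicAlgCl p) := by
    rw [map_intCast]
  rw [h, PadicAlgCl.norm_extends]
  exact Padic.norm_intCast_lt_one_iff

theorem single (P : ℤ[X]) (hm : P.Monic) (d : ℕ) (hdeg : P.natDegree = 2 * d)
    (hlow : ∀ k < d, (p : ℤ) ∣ P.coeff k) :
    2 * Multiset.card ((P.aroots (PadicAlgCl p)).filter (fun z => ‖z‖ = 1)) = P.natDegree ↔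
      ¬ (p : ℤ) ∣ P.coeff d := by
  set Pp := P.map (algebraMap ℤ (PadicAlgCl p)) with hPp
  have hmp : Pp.Monic := hm.map _
  have hsplit : Pp.Splits := IsAlgClosed.splits Pp
  have hprod : Pp = rootPoly Pp.roots := hsplit.eq_prod_roots_of_monic hmp
  have hcard : Multiset.card Pp.roots = 2 * d := by
    rw [← hsplit.natDegree_eq_card_roots, hPp, hm.natDegree_map, hdeg]
  have hcoeff : ∀ k, Pp.coeff k = ((P.coeff k : ℤ) : PadicAlgCl p) := by
    intro k
    rw [hPp, coeff_map]
    rfl
  have hroots : ∀ z ∈ Pp.roots, ‖z‖ ≤ 1 := by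
    intro z hz
    refine norm_root_le_one Pp hmp (fun k => ?_) z ?_
    · rw [hcoeff]
      exact norm_intCast_le_one p _
    · exact (mem_roots'.mp hz).2
  obtain ⟨-, hb, hc⟩ := coeff_props Pp.roots hroots
  rw [← hprod, hcard] at hb hc
  rw [aroots_def, ← hPp, hdeg]
  set m := Multiset.card (Pp.roots.filter (fun z => ‖z‖ = 1)) with hmdef
  have hm2 : m ≤ 2 * d := by
    rw [← hcard]
    exact Multiset.card_le_card (Multiset.filter_le _ _)
  have hmd : m ≤ d := by
    by_contra h
    rw [not_le] at h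
    have h1 : (p : ℤ) ∣ P.coeff (2 * d - m) := hlow _ (by omega)
    rw [← norm_intCast_lt_one_iff, ← hcoeff, hc] at h1
    exact lt_irrefl _ h1
  constructor
  · intro h
    have hmeq : m = d := by omega
    rw [hmeq] at hc
    have h2 : 2 * d - d = d := by omega
    rw [h2, hcoeff] at hc
    intro hdvd
    rw [← norm_intCast_lt_one_iff, hc] at hdvd
    exact lt_irrefl _ hdvd
  · intro h
    have h3 : ¬ (d + m < 2 * d) := by
      intro hlt
      apply h
      rw [← norm_intCast_lt_one_iff, ← hcoeff]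
      exact hb d hlt
    omega

end Groth.Agent.Lib.helper22.Ordinary
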