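import Mathlib
import Groth.Agent.Lib.Helper22.PSNorm
import Groth.Agent.Lib.Helper22.Coprod

/-!
# A complete regular local ring is free over the power series ring of a system of parameters
(helper22)

* `length_quotient_smul_top`: for a finite free module `M` over a local ring `P`,
  `length_P (M ⧸ 𝔪 M) = rank M`.
* `ps_free_of_sop`: the package — `A` is finite, free of rank `length (A ⧸ (x))` over `k[[X]]`
  via `Xᵢ ↦ xᵢ`, injectively.
-/

set_option autoImplicit false

namespace Groth.Agent.Lib.helper22.PSFree
universe u v w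
open IsLocalRing TensorProduct

set_option backward.isDefEq.respectTransparency false in
theorem length_quotient_smul_top (P : Type*) [CommRing P] [IsLocalRing P] (M : Type*)
    [AddCommGroup M] [Module P M] [Module.Free P M] [Module.Finite P M] :
    Module.length P (M ⧸ (maximalIdeal P • ⊤ : Submodule P M)) = Module.finrank P M := by
  let : Module (ResidueField P) (M ⧸ maximalIdeal P • (⊤ : Submodule P M)) :=
    inferInstanceAs (Module (P ⧸ maximalIdeal P) _)
  let : IsScalarTower P (ResidueField P) (M ⧸ maximalIdeal P • (⊤ : Submodule P M)) :=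
    inferInstanceAs (IsScalarTower P (P ⧸ maximalIdeal P) _)
  have h1 : Module.length P (M ⧸ (maximalIdeal P • ⊤ : Submodule P M)) =
      Module.length (ResidueField P) (M ⧸ (maximalIdeal P • ⊤ : Submodule P M)) :=
    Module.length_eq_of_surjective residue_surjective
  let e : (ResidueField P) ⊗[P] M ≃ₗ[ResidueField P]
      M ⧸ (maximalIdeal P • ⊤ : Submodule P M) :=
    (quotTensorEquivQuotSMul M (maximalIdeal P)).extendScalarsOfSurjective residue_surjective
  rw [h1, ← e.length_eq, Module.length_eq_finrank, Module.finrank_baseChange]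

section
variable (A : Type u) [CommRing A] [IsRegularLocalRing A]
  [IsAdicComplete (maximalIdeal A) A] (n : ℕ) (hn : ringKrullDim A = n)
  (k : Type v) [Field k] [Algebra k A]
  (hk : Function.Surjective (residue A ∘ algebraMap k A))
  (x : Fin n → A) (hx : (Ideal.span (Set.range x)).radical = maximalIdeal A)
  (φ : MvPowerSeries (Fin n) k →ₐ[k] A) (hφ : ∀ i, φ (MvPowerSeries.X i) = x i)

include hn hk hx hφ in
theorem ps_free_of_sop :
    letI : Algebra (MvPowerSeries (Fin n) k) A := φ.toRingHom.toAlgebra
    Module.Finite (MvPowerSeries (Fin n) k) A ∧ Module.Free (MvPowerSeries (Fin n) k) A ∧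
      Function.Injective φ ∧
      (Module.finrank (MvPowerSeries (Fin n) k) A : ℕ∞) =
        Module.length A (A ⧸ Ideal.span (Set.range x)) := by
  classical
  haveI hreg := Groth.Agent.LibObs29.isRegularLocalRing_mvPowerSeries k n
  have hxm : ∀ i, x i ∈ maximalIdeal A := by
    intro i
    rw [← hx]
    exact Ideal.le_radical (Ideal.subset_span ⟨i, rfl⟩)
  obtain ⟨N, hN⟩ := Ideal.exists_pow_le_of_le_radical_of_fg (le_of_eq hx.symm)
    (IsNoetherian.noetherian (maximalIdeal A))
  have hfin := PSNorm.ps_finite_of_primary A k hk n x hxm N hN φ hφ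
  have hinj := PSNorm.ps_injective_of_primary A k hk n x hxm N hN φ hφ hn
  letI : Algebra (MvPowerSeries (Fin n) k) A := φ.toRingHom.toAlgebra
  haveI : Module.Finite (MvPowerSeries (Fin n) k) A := hfin
  haveI hfree : Module.Free (MvPowerSeries (Fin n) k) A := Coprod.free_of_regular_finite hinj
  refine ⟨hfin, hfree, hinj, ?_⟩
  haveI : Algebra.IsIntegral (MvPowerSeries (Fin n) k) A := Algebra.IsIntegral.of_finite _ A
  haveI : FaithfulSMul (MvPowerSeries (Fin n) k) A :=
    (faithfulSMul_iff_algebraMap_injective _ A).mpr hinj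
  haveI : IsLocalHom (algebraMap (MvPowerSeries (Fin n) k) A) := inferInstance
  -- the residue field extension is trivial
  have hreslen : Module.length (ResidueField (MvPowerSeries (Fin n) k)) (ResidueField A) = 1 := by
    have hbij : Function.Bijective (Algebra.linearMap (ResidueField (MvPowerSeries (Fin n) k))
        (ResidueField A)) := by
      refine ⟨(algebraMap (ResidueField (MvPowerSeries (Fin n) k)) (ResidueField A)).injective, ?_⟩
      intro z
      obtain ⟨c, hc⟩ := hk z
      refine ⟨residue _ (MvPowerSeries.C c), ?_⟩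
      rw [← hc]
      show algebraMap (ResidueField (MvPowerSeries (Fin n) k)) (ResidueField A)
        (residue _ (MvPowerSeries.C c)) = _
      rw [IsLocalRing.ResidueField.algebraMap_residue]
      show residue A (φ (MvPowerSeries.C c)) = _
      congr 1
      exact φ.commutes c
    rw [← (LinearEquiv.ofBijective _ hbij).length_eq, Module.length_eq_finrank,
      Module.finrank_self, Nat.cast_one]
  have h1 := IsLocalRing.length_restrictScalars (MvPowerSeries (Fin n) k) A
    (A ⧸ Ideal.span (Set.range x))
  rw [hreslen, mul_one] at h1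
  rw [← h1]
  -- the maximal ideal of the power series ring generates `(x)`
  have hmap : (maximalIdeal (MvPowerSeries (Fin n) k)).map
      (algebraMap (MvPowerSeries (Fin n) k) A) = Ideal.span (Set.range x) := by
    rw [Groth.Agent.LibCR29.maximalIdeal_ps, Ideal.map_sup, IsLocalRing.maximalIdeal_eq_bot,
      Ideal.map_bot, Ideal.map_bot, bot_sup_eq, Ideal.map_span]
    congr 1
    ext y
    constructor
    · rintro ⟨_, ⟨i, rfl⟩, rfl⟩
      exact ⟨i, (hφ i).symm⟩
    · rintro ⟨i, rfl⟩
      exact ⟨_, ⟨i, rfl⟩, hφ i⟩
  have hsub : (maximalIdeal (MvPowerSeries (Fin n) k) • ⊤ :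
      Submodule (MvPowerSeries (Fin n) k) A) =
      (Ideal.span (Set.range x)).restrictScalars (MvPowerSeries (Fin n) k) := by
    rw [Ideal.smul_top_eq_map, hmap]
  rw [← length_quotient_smul_top (MvPowerSeries (Fin n) k) A]
  have e1 : (A ⧸ (maximalIdeal (MvPowerSeries (Fin n) k) • ⊤ :
      Submodule (MvPowerSeries (Fin n) k) A)) ≃ₗ[MvPowerSeries (Fin n) k]
      (A ⧸ (Ideal.span (Set.range x)).restrictScalars (MvPowerSeries (Fin n) k)) :=
    Submodule.quotEquivOfEq _ _ hsub
  have e2 : (A ⧸ (Ideal.span (Set.range x)).restrictScalars (MvPowerSeries (Fin n) k))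
      ≃ₗ[MvPowerSeries (Fin n) k] (A ⧸ Ideal.span (Set.range x)) :=
    Submodule.Quotient.restrictScalarsEquiv (MvPowerSeries (Fin n) k) (Ideal.span (Set.range x))
  exact (e1.trans e2).length_eq

end

end Groth.Agent.Lib.helper22.PSFree
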