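import Mathlib

set_option autoImplicit false
universe u
open scoped TensorProduct

namespace Groth.Agent.Lib.helper22
namespace PiZero

section Inter

variable {k : Type*} [Field k] {V : Type*} [AddCommGroup V] [Module k V]

theorem mem_range_rTensor_iff (U : Submodule k V) (z : V ⊗[k] V) :
    z ∈ LinearMap.range (LinearMap.rTensor V U.subtype) ↔ LinearMap.rTensor V U.mkQ z = 0 := by
  have h := rTensor_exact V (LinearMap.exact_subtype_mkQ U) (Submodule.mkQ_surjective U)
  rw [h z]
  rfl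

theorem mem_range_lTensor_iff {W : Type*} [AddCommGroup W] [Module k W] (U : Submodule k V)
    (z : W ⊗[k] V) :
    z ∈ LinearMap.range (LinearMap.lTensor W U.subtype) ↔ LinearMap.lTensor W U.mkQ z = 0 := by
  have h := lTensor_exact W (LinearMap.exact_subtype_mkQ U) (Submodule.mkQ_surjective U)
  rw [h z]
  rfl

theorem range_map_le_rTensor (U : Submodule k V) :
    LinearMap.range (TensorProduct.map U.subtype U.subtype) ≤
      LinearMap.range (LinearMap.rTensor V U.subtype) := by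
  rintro _ ⟨w, rfl⟩
  refine ⟨LinearMap.lTensor U U.subtype w, ?_⟩
  rw [← LinearMap.comp_apply, LinearMap.rTensor_comp_lTensor]

theorem range_map_le_lTensor (U : Submodule k V) :
    LinearMap.range (TensorProduct.map U.subtype U.subtype) ≤
      LinearMap.range (LinearMap.lTensor V U.subtype) := by
  rintro _ ⟨w, rfl⟩
  refine ⟨LinearMap.rTensor U U.subtype w, ?_⟩
  rw [← LinearMap.comp_apply, LinearMap.lTensor_comp_rTensor]

/-- the canonical injection `V/(U₁ ⊓ U₂) → V/U₁ × V/U₂`. -/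
noncomputable def quotInfToProd (U₁ U₂ : Submodule k V) :
    (V ⧸ (U₁ ⊓ U₂)) →ₗ[k] (V ⧸ U₁) × (V ⧸ U₂) :=
  (U₁ ⊓ U₂).liftQ (U₁.mkQ.prod U₂.mkQ) (by
    intro x hx
    rw [LinearMap.mem_ker, LinearMap.prod_apply, Function.prod_apply, Prod.mk_eq_zero,
      Submodule.mkQ_apply, Submodule.mkQ_apply, Submodule.Quotient.mk_eq_zero,
      Submodule.Quotient.mk_eq_zero]
    exact ⟨hx.1, hx.2⟩)

theorem quotInfToProd_injective (U₁ U₂ : Submodule k V) :
    Function.Injective (quotInfToProd U₁ U₂) := by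
  rw [← LinearMap.ker_eq_bot, quotInfToProd, Submodule.ker_liftQ_eq_bot]
  intro x hx
  rw [LinearMap.mem_ker, LinearMap.prod_apply, Function.prod_apply, Prod.mk_eq_zero,
    Submodule.mkQ_apply, Submodule.mkQ_apply, Submodule.Quotient.mk_eq_zero,
    Submodule.Quotient.mk_eq_zero] at hx
  exact ⟨hx.1, hx.2⟩

theorem rTensor_mkQ_inf_eq_zero (U₁ U₂ : Submodule k V) (z : V ⊗[k] V)
    (h1 : LinearMap.rTensor V U₁.mkQ z = 0) (h2 : LinearMap.rTensor V U₂.mkQ z = 0) :
    LinearMap.rTensor V (U₁ ⊓ U₂).mkQ z = 0 := by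
  have hinj : Function.Injective (LinearMap.rTensor V (quotInfToProd U₁ U₂)) :=
    Module.Flat.rTensor_preserves_injective_linearMap _ (quotInfToProd_injective U₁ U₂)
  apply hinj
  rw [map_zero, ← LinearMap.comp_apply, ← LinearMap.rTensor_comp]
  have hcomp : quotInfToProd U₁ U₂ ∘ₗ (U₁ ⊓ U₂).mkQ =
      LinearMap.inl k _ _ ∘ₗ U₁.mkQ + LinearMap.inr k _ _ ∘ₗ U₂.mkQ := by
    apply LinearMap.ext
    intro x
    rw [LinearMap.comp_apply, quotInfToProd, Submodule.mkQ_apply, Submodule.liftQ_apply,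
      LinearMap.add_apply, LinearMap.comp_apply, LinearMap.comp_apply, LinearMap.prod_apply,
      Function.prod_apply, LinearMap.inl_apply, LinearMap.inr_apply, Prod.mk_add_mk, add_zero, zero_add]
  rw [hcomp, LinearMap.rTensor_add, LinearMap.add_apply, LinearMap.rTensor_comp,
    LinearMap.rTensor_comp, LinearMap.comp_apply, LinearMap.comp_apply, h1, h2, map_zero, map_zero,
    add_zero]

theorem lTensor_mkQ_inf_eq_zero (U₁ U₂ : Submodule k V) (z : V ⊗[k] V)
    (h1 : LinearMap.lTensor V U₁.mkQ z = 0) (h2 : LinearMap.lTensor V U₂.mkQ z = 0) :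
    LinearMap.lTensor V (U₁ ⊓ U₂).mkQ z = 0 := by
  have hinj : Function.Injective (LinearMap.lTensor V (quotInfToProd U₁ U₂)) :=
    Module.Flat.lTensor_preserves_injective_linearMap _ (quotInfToProd_injective U₁ U₂)
  apply hinj
  rw [map_zero, ← LinearMap.comp_apply, ← LinearMap.lTensor_comp]
  have hcomp : quotInfToProd U₁ U₂ ∘ₗ (U₁ ⊓ U₂).mkQ =
      LinearMap.inl k _ _ ∘ₗ U₁.mkQ + LinearMap.inr k _ _ ∘ₗ U₂.mkQ := by
    apply LinearMap.ext
    intro x
    rw [LinearMap.comp_apply, quotInfToProd, Submodule.mkQ_apply, Submodule.liftQ_apply,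
      LinearMap.add_apply, LinearMap.comp_apply, LinearMap.comp_apply, LinearMap.prod_apply,
      Function.prod_apply, LinearMap.inl_apply, LinearMap.inr_apply, Prod.mk_add_mk, add_zero, zero_add]
  rw [hcomp, LinearMap.lTensor_add, LinearMap.add_apply, LinearMap.lTensor_comp,
    LinearMap.lTensor_comp, LinearMap.comp_apply, LinearMap.comp_apply, h1, h2, map_zero, map_zero,
    add_zero]

theorem mem_range_map_of_mem_rTensor_lTensor (U : Submodule k V) (z : V ⊗[k] V)
    (h1 : z ∈ LinearMap.range (LinearMap.rTensor V U.subtype))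
    (h2 : z ∈ LinearMap.range (LinearMap.lTensor V U.subtype)) :
    z ∈ LinearMap.range (TensorProduct.map U.subtype U.subtype) := by
  obtain ⟨w, rfl⟩ := h1
  rw [mem_range_lTensor_iff] at h2
  have h3 : LinearMap.rTensor (V ⧸ U) U.subtype (LinearMap.lTensor U U.mkQ w) = 0 := by
    rw [← LinearMap.comp_apply, LinearMap.rTensor_comp_lTensor, ← LinearMap.lTensor_comp_rTensor,
      LinearMap.comp_apply]
    exact h2
  have hinj : Function.Injective (LinearMap.rTensor (V ⧸ U) U.subtype) :=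
    Module.Flat.rTensor_preserves_injective_linearMap _ U.injective_subtype
  have h4 : LinearMap.lTensor U U.mkQ w = 0 := hinj (by rw [h3, map_zero])
  rw [← mem_range_lTensor_iff] at h4
  obtain ⟨v, rfl⟩ := h4
  refine ⟨v, ?_⟩
  rw [← LinearMap.comp_apply, LinearMap.rTensor_comp_lTensor]

/-- over a field, `(U₁ ⊗ U₁) ∩ (U₂ ⊗ U₂) = (U₁ ∩ U₂) ⊗ (U₁ ∩ U₂)` inside `V ⊗ V`. -/
theorem mem_range_map_inf (U₁ U₂ : Submodule k V) (z : V ⊗[k] V)
    (h1 : z ∈ LinearMap.range (TensorProduct.map U₁.subtype U₁.subtype))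
    (h2 : z ∈ LinearMap.range (TensorProduct.map U₂.subtype U₂.subtype)) :
    z ∈ LinearMap.range (TensorProduct.map (U₁ ⊓ U₂).subtype (U₁ ⊓ U₂).subtype) := by
  apply mem_range_map_of_mem_rTensor_lTensor
  · rw [mem_range_rTensor_iff]
    apply rTensor_mkQ_inf_eq_zero
    · rw [← mem_range_rTensor_iff]; exact range_map_le_rTensor U₁ h1
    · rw [← mem_range_rTensor_iff]; exact range_map_le_rTensor U₂ h2
  · rw [mem_range_lTensor_iff]
    apply lTensor_mkQ_inf_eq_zero
    · rw [← mem_range_lTensor_iff]; exact range_map_le_lTensor U₁ h1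
    · rw [← mem_range_lTensor_iff]; exact range_map_le_lTensor U₂ h2

end Inter

end PiZero
end Groth.Agent.Lib.helper22
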