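import Mathlib

/-!
# Scalars acting on objects of a monoidal category (for Picard categories)
-/

open CategoryTheory MonoidalCategory

namespace Groth.Agent.Lib.helper22.PicCat

universe v u

variable {D : Type u} [Category.{v} D] [MonoidalCategory D]

/-- the endomorphism of `Z` induced by an endomorphism of the unit -/
def act (φ : 𝟙_ D ⟶ 𝟙_ D) (Z : D) : Z ⟶ Z := (λ_ Z).inv ≫ (φ ▷ Z) ≫ (λ_ Z).hom

@[simp] lemma act_id (Z : D) : act (𝟙 (𝟙_ D)) Z = 𝟙 Z := by simp [act]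

lemma act_comp (φ ψ : 𝟙_ D ⟶ 𝟙_ D) (Z : D) : act (φ ≫ ψ) Z = act φ Z ≫ act ψ Z := by
  simp [act]

lemma act_naturality (φ : 𝟙_ D ⟶ 𝟙_ D) {Z Z' : D} (f : Z ⟶ Z') :
    act φ Z ≫ f = f ≫ act φ Z' := by
  simp only [act, Category.assoc]
  rw [← leftUnitor_naturality, ← whisker_exchange_assoc, leftUnitor_inv_naturality_assoc]

lemma act_whiskerRight (φ : 𝟙_ D ⟶ 𝟙_ D) (Z Z' : D) : act φ Z ▷ Z' = act φ (Z ⊗ Z') := by
  unfold act
  monoidal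

lemma act_injective (Z : D) [(tensorRight Z).Faithful] {φ ψ : 𝟙_ D ⟶ 𝟙_ D}
    (h : act φ Z = act ψ Z) : φ = ψ := by
  have h1 : φ ▷ Z = ψ ▷ Z := by
    unfold act at h
    have := congrArg (fun t => (λ_ Z).hom ≫ t ≫ (λ_ Z).inv) h
    simpa using this
  exact (tensorRight Z).map_injective h1

lemma act_surjective (Z : D) [(tensorRight Z).Full] (u : Z ⟶ Z) :
    ∃ φ : 𝟙_ D ⟶ 𝟙_ D, act φ Z = u := by
  obtain ⟨φ, hφ⟩ := (tensorRight Z).map_surjective ((λ_ Z).hom ≫ u ≫ (λ_ Z).inv)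
  refine ⟨φ, ?_⟩
  have hφ' : φ ▷ Z = (λ_ Z).hom ≫ u ≫ (λ_ Z).inv := hφ
  simp [act, hφ']

section Braided

variable [BraidedCategory D]

lemma act_eq_right (φ : 𝟙_ D ⟶ 𝟙_ D) (Z : D) :
    act φ Z = (ρ_ Z).inv ≫ (Z ◁ φ) ≫ (ρ_ Z).hom := by
  unfold act
  rw [← braiding_rightUnitor, BraidedCategory.braiding_naturality_left_assoc,
    ← Category.assoc, leftUnitor_inv_braiding]

lemma whiskerLeft_act (φ : 𝟙_ D ⟶ 𝟙_ D) (Z Z' : D) : Z ◁ act φ Z' = act φ (Z ⊗ Z') := by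
  rw [← act_whiskerRight, act_eq_right φ Z]
  unfold act
  monoidal

lemma act_tensorHom (φ ψ : 𝟙_ D ⟶ 𝟙_ D) (Z Z' : D) :
    act φ Z ⊗ₘ act ψ Z' = act (φ ≫ ψ) (Z ⊗ Z') := by
  rw [MonoidalCategory.tensorHom_def, act_whiskerRight, whiskerLeft_act, act_comp]

lemma act_tensorHom' (φ ψ : 𝟙_ D ⟶ 𝟙_ D) (Z Z' : D) :
    act φ Z ⊗ₘ act ψ Z' = act (ψ ≫ φ) (Z ⊗ Z') := by
  rw [MonoidalCategory.tensorHom_def', act_whiskerRight, whiskerLeft_act, act_comp]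

end Braided

end Groth.Agent.Lib.helper22.PicCat
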