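import Mathlib
import Groth.Agent.Lib.Helper22.PicCat1

/-!
# Monoidal natural transformations between Picard categories form a torsor
-/

open CategoryTheory MonoidalCategory

namespace Groth.Agent.Lib.helper22.PicCat

universe v u v' u'

variable {C : Type u} [Category.{v} C] [MonoidalCategory C] [IsGroupoid C]
  {D : Type u'} [Category.{v'} D] [MonoidalCategory D] [BraidedCategory D] [IsGroupoid D]
  (F G : C ⥤ D) [F.LaxMonoidal] [G.LaxMonoidal] (θ₀ : F ⟶ G) [NatTrans.IsMonoidal θ₀]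

open Functor.LaxMonoidal

/-- twist of `θ₀` by a character of the monoid of isomorphism classes -/
noncomputable def twist (χ : Skeleton C →* End (𝟙_ D)) : F ⟶ G where
  app X := θ₀.app X ≫ act (χ (toSkeleton X) : 𝟙_ D ⟶ 𝟙_ D) (G.obj X)
  naturality X Y f := by
    have h : toSkeleton X = toSkeleton Y := congr_toSkeleton_of_iso (asIso f)
    rw [Category.assoc, act_naturality, ← Category.assoc, θ₀.naturality, h, Category.assoc]

@[simp] lemma twist_app (χ : Skeleton C →* End (𝟙_ D)) (X : C) :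
    (twist F G θ₀ χ).app X = θ₀.app X ≫ act (χ (toSkeleton X) : 𝟙_ D ⟶ 𝟙_ D) (G.obj X) := rfl

instance twist_isMonoidal (χ : Skeleton C →* End (𝟙_ D)) :
    NatTrans.IsMonoidal (twist F G θ₀ χ) where
  unit := by
    have h1 : (χ (toSkeleton (𝟙_ C)) : 𝟙_ D ⟶ 𝟙_ D) = 𝟙 (𝟙_ D) := by
      rw [← Skeleton.one_eq, map_one]
      rfl
    rw [twist_app, h1, act_id, Category.comp_id]
    exact NatTrans.IsMonoidal.unit
  tensor X Y := by
    have h1 : (χ (toSkeleton (X ⊗ Y)) : 𝟙_ D ⟶ 𝟙_ D) =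
        (χ (toSkeleton Y) : 𝟙_ D ⟶ 𝟙_ D) ≫ (χ (toSkeleton X) : 𝟙_ D ⟶ 𝟙_ D) := by
      rw [Skeleton.toSkeleton_tensorObj, map_mul]
      rfl
    rw [twist_app, twist_app, twist_app, h1]
    have h2 : (θ₀.app X ≫ act (χ (toSkeleton X) : 𝟙_ D ⟶ 𝟙_ D) (G.obj X)) ⊗ₘ
        (θ₀.app Y ≫ act (χ (toSkeleton Y) : 𝟙_ D ⟶ 𝟙_ D) (G.obj Y)) =
        (θ₀.app X ⊗ₘ θ₀.app Y) ≫ act ((χ (toSkeleton Y) : 𝟙_ D ⟶ 𝟙_ D) ≫
          (χ (toSkeleton X) : 𝟙_ D ⟶ 𝟙_ D)) (G.obj X ⊗ G.obj Y) := by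
      rw [← act_tensorHom', MonoidalCategory.tensorHom_comp_tensorHom]
    rw [h2, Category.assoc, act_naturality, ← Category.assoc, ← Category.assoc,
      NatTrans.IsMonoidal.tensor (τ := θ₀) X Y]


section Part1

variable (hD : ∀ X : D, (tensorLeft X).IsEquivalence ∧ (tensorRight X).IsEquivalence)
  (θ : F ⟶ G)

include hD in
omit [BraidedCategory D] [F.LaxMonoidal] [G.LaxMonoidal] [NatTrans.IsMonoidal θ₀] in
lemma exists_scalar (X : C) :
    ∃ φ : 𝟙_ D ⟶ 𝟙_ D, θ.app X = θ₀.app X ≫ act φ (G.obj X) := by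
  have : (tensorRight (G.obj X)).IsEquivalence := (hD (G.obj X)).2
  have : IsIso (θ₀.app X) := IsGroupoid.all_isIso _
  obtain ⟨φ, hφ⟩ := act_surjective (G.obj X) (inv (θ₀.app X) ≫ θ.app X)
  exact ⟨φ, by rw [hφ, IsIso.hom_inv_id_assoc]⟩

/-- the scalar by which `θ` differs from `θ₀` at `X` -/
noncomputable def scalar (X : C) : 𝟙_ D ⟶ 𝟙_ D := (exists_scalar F G θ₀ hD θ X).choose

omit [BraidedCategory D] [F.LaxMonoidal] [G.LaxMonoidal] [NatTrans.IsMonoidal θ₀] in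
lemma app_eq_scalar (X : C) :
    θ.app X = θ₀.app X ≫ act (scalar F G θ₀ hD θ X) (G.obj X) :=
  (exists_scalar F G θ₀ hD θ X).choose_spec

omit [BraidedCategory D] [F.LaxMonoidal] [G.LaxMonoidal] [NatTrans.IsMonoidal θ₀] in
lemma scalar_unique (X : C) (φ : 𝟙_ D ⟶ 𝟙_ D)
    (h : θ.app X = θ₀.app X ≫ act φ (G.obj X)) : φ = scalar F G θ₀ hD θ X := by
  have : (tensorRight (G.obj X)).IsEquivalence := (hD (G.obj X)).2
  have : IsIso (θ₀.app X) := IsGroupoid.all_isIso _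
  apply act_injective (G.obj X)
  rw [app_eq_scalar F G θ₀ hD θ X] at h
  exact ((cancel_epi _).1 h).symm

omit [BraidedCategory D] [F.LaxMonoidal] [G.LaxMonoidal] [NatTrans.IsMonoidal θ₀] in
lemma scalar_congr {X Y : C} (h : toSkeleton X = toSkeleton Y) :
    scalar F G θ₀ hD θ X = scalar F G θ₀ hD θ Y := by
  obtain ⟨e⟩ := toSkeleton_eq_toSkeleton_iff.1 h
  have h1 := θ.naturality e.inv
  have h2 := θ₀.naturality e.inv
  rw [app_eq_scalar F G θ₀ hD θ X, app_eq_scalar F G θ₀ hD θ Y, Category.assoc,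
    act_naturality, ← Category.assoc, ← Category.assoc, ← h2, Category.assoc, Category.assoc] at h1
  have : IsIso (F.map e.inv) := IsGroupoid.all_isIso _
  have : IsIso (θ₀.app X) := IsGroupoid.all_isIso _
  have h3 := (cancel_epi (F.map e.inv)).1 h1
  have h4 := (cancel_epi _).1 h3
  have : (tensorRight (G.obj X)).IsEquivalence := (hD (G.obj X)).2
  exact act_injective _ h4

omit [BraidedCategory D] in
lemma scalar_unit [NatTrans.IsMonoidal θ] : scalar F G θ₀ hD θ (𝟙_ C) = 𝟙 (𝟙_ D) := by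
  have h1 := NatTrans.IsMonoidal.unit (τ := θ)
  have h2 := NatTrans.IsMonoidal.unit (τ := θ₀)
  rw [app_eq_scalar F G θ₀ hD θ, ← Category.assoc, h2] at h1
  have : IsIso (ε G) := IsGroupoid.all_isIso _
  have h3 : ε G ≫ act (scalar F G θ₀ hD θ (𝟙_ C)) (G.obj (𝟙_ C)) =
      ε G ≫ act (𝟙 (𝟙_ D)) (G.obj (𝟙_ C)) := by
    rw [h1, act_id, Category.comp_id]
  have h4 := (cancel_epi _).1 h3
  have : (tensorRight (G.obj (𝟙_ C))).IsEquivalence := (hD (G.obj (𝟙_ C))).2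
  exact act_injective _ h4

lemma scalar_tensor [NatTrans.IsMonoidal θ] (X Y : C) :
    scalar F G θ₀ hD θ (X ⊗ Y) = scalar F G θ₀ hD θ Y ≫ scalar F G θ₀ hD θ X := by
  have h1 := NatTrans.IsMonoidal.tensor (τ := θ) X Y
  have h2 := NatTrans.IsMonoidal.tensor (τ := θ₀) X Y
  have h3 : (θ₀.app X ≫ act (scalar F G θ₀ hD θ X) (G.obj X)) ⊗ₘ
        (θ₀.app Y ≫ act (scalar F G θ₀ hD θ Y) (G.obj Y)) =
        (θ₀.app X ⊗ₘ θ₀.app Y) ≫ act (scalar F G θ₀ hD θ Y ≫ scalar F G θ₀ hD θ X)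
          (G.obj X ⊗ G.obj Y) := by
    rw [← act_tensorHom', MonoidalCategory.tensorHom_comp_tensorHom]
  rw [app_eq_scalar F G θ₀ hD θ X, app_eq_scalar F G θ₀ hD θ Y, app_eq_scalar F G θ₀ hD θ (X ⊗ Y),
    h3, Category.assoc, act_naturality, ← Category.assoc, ← Category.assoc, h2] at h1
  have : IsIso ((θ₀.app X ⊗ₘ θ₀.app Y) ≫ μ G X Y) := IsGroupoid.all_isIso _
  have h4 := (cancel_epi _).1 h1
  have : (tensorRight (G.obj (X ⊗ Y))).IsEquivalence := (hD (G.obj (X ⊗ Y))).2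
  exact act_injective _ h4

/-- the character attached to a monoidal natural transformation -/
noncomputable def character [NatTrans.IsMonoidal θ] : Skeleton C →* End (𝟙_ D) where
  toFun s := scalar F G θ₀ hD θ ((fromSkeleton C).obj s)
  map_one' := by
    have h : toSkeleton ((fromSkeleton C).obj (1 : Skeleton C)) = toSkeleton (𝟙_ C) := by
      rw [toSkeleton_fromSkeleton_obj, Skeleton.one_eq]
    rw [scalar_congr F G θ₀ hD θ h, scalar_unit]
    rfl
  map_mul' s t := by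
    have h : toSkeleton ((fromSkeleton C).obj (s * t)) =
        toSkeleton ((fromSkeleton C).obj s ⊗ (fromSkeleton C).obj t) := by
      rw [toSkeleton_fromSkeleton_obj, Skeleton.toSkeleton_tensorObj, toSkeleton_fromSkeleton_obj,
        toSkeleton_fromSkeleton_obj]
    rw [scalar_congr F G θ₀ hD θ h, scalar_tensor]
    rfl

lemma character_apply [NatTrans.IsMonoidal θ] (X : C) :
    (character F G θ₀ hD θ (toSkeleton X) : 𝟙_ D ⟶ 𝟙_ D) = scalar F G θ₀ hD θ X :=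
  scalar_congr F G θ₀ hD θ (toSkeleton_fromSkeleton_obj _)

end Part1

end Groth.Agent.Lib.helper22.PicCat
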