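import Mathlib

/-! Exterior-power part of the formal Poincaré lemma: coordinates, contraction, Cartan formula. -/

namespace Groth.Agent.Lib.helper22.Poincare

open exteriorPower

variable {k : Type*} [CommRing k] {A : Type*} [CommRing A] [Algebra k A]
  {σ : Type*} [Fintype σ] [LinearOrder σ]

/-- Standard basis vectors of `σ → A`. -/
def e (A : Type*) [CommRing A] {σ : Type*} [DecidableEq σ] (i : σ) : σ → A := Pi.single i 1

/-- The wedge of basis vectors along an index tuple. -/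
noncomputable def W (A : Type*) [CommRing A] {σ : Type*} [DecidableEq σ] (p : ℕ) (v : Fin p → σ) :
    ⋀[A]^p (σ → A) :=
  ιMulti A p (fun j => e A (v j))

/-- The standard basis of the exterior power. -/
noncomputable def B (A : Type*) [CommRing A] (σ : Type*) [Fintype σ] [LinearOrder σ] (p : ℕ) :
    Module.Basis (Set.powersetCard σ p) A (⋀[A]^p (σ → A)) :=
  (Pi.basisFun A σ).exteriorPower p

theorem B_apply (p : ℕ) (K : Set.powersetCard σ p) :
    B A σ p K = W A p (fun j => Set.powersetCard.ofFinEmbEquiv.symm K j) := by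
  rw [B, exteriorPower.basis_apply]
  unfold ιMulti_family W
  congr 1
  funext j
  simp [e, Pi.basisFun_apply]

theorem repr_W_mem (p : ℕ) (v : Fin p → σ) (K : Set.powersetCard σ p) :
    (B A σ p).repr (W A p v) K ∈ Set.range (algebraMap k A) := by
  rw [B, exteriorPower.basis_repr_apply, W, ιMultiDual_apply_ιMulti]
  have : (Matrix.of fun i j => (Pi.basisFun A σ).coord (Set.powersetCard.ofFinEmbEquiv.symm K j)
      (e A (v i))) = (algebraMap k A).mapMatrix
        (Matrix.of fun i j => if v i = Set.powersetCard.ofFinEmbEquiv.symm K j then 1 else 0) := by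
    ext i j
    simp [e, Pi.single_apply, eq_comm]
  rw [this, ← RingHom.map_det]
  exact ⟨_, rfl⟩


/-- Apply a `k`-linear operator of `A` to all coordinates. -/
noncomputable def T (Φ : A →ₗ[k] A) (p : ℕ) : ⋀[A]^p (σ → A) →ₗ[k] ⋀[A]^p (σ → A) :=
  ((B A σ p).equivFun.symm.restrictScalars k).toLinearMap ∘ₗ Φ.compLeft _ ∘ₗ
    ((B A σ p).equivFun.restrictScalars k).toLinearMap

theorem T_smul_W (Φ : A →ₗ[k] A) (p : ℕ) (g : A) (v : Fin p → σ) :
    T Φ p (g • W A p v) = Φ g • W A p v := by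
  unfold T
  simp only [LinearMap.coe_comp, Function.comp_apply, LinearEquiv.coe_coe,
    LinearEquiv.restrictScalars_apply]
  rw [LinearEquiv.symm_apply_eq, (B A σ p).equivFun.map_smul, (B A σ p).equivFun.map_smul]
  funext K
  rw [LinearMap.compLeft_apply, Function.comp_apply, Pi.smul_apply, Pi.smul_apply,
    Module.Basis.equivFun_apply]
  obtain ⟨a, ha⟩ := repr_W_mem (k := k) (A := A) p v K
  rw [← ha, smul_eq_mul, smul_eq_mul, mul_comm, ← Algebra.smul_def (A := A), map_smul,
    Algebra.smul_def (A := A), mul_comm]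

theorem induction_W {p : ℕ} {P : ⋀[A]^p (σ → A) → Prop} (h0 : P 0)
    (hadd : ∀ x y, P x → P y → P (x + y)) (h : ∀ (g : A) (v : Fin p → σ), P (g • W A p v)) (x : ⋀[A]^p (σ → A)) :
    P x := by
  rw [← (B A σ p).sum_repr x]
  refine Finset.sum_induction _ P hadd h0 ?_
  intro K _
  rw [B_apply]
  exact h _ _

theorem ext_W {p : ℕ} {N : Type*} [AddCommGroup N] {f f' : ⋀[A]^p (σ → A) →+ N}
    (h : ∀ (g : A) (v : Fin p → σ), f (g • W A p v) = f' (g • W A p v)) : f = f' := by
  ext x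
  induction x using induction_W with
  | h0 => simp
  | hadd x y hx hy => rw [map_add, map_add, hx, hy]
  | h g v => exact h g v

theorem W_cons (p : ℕ) (i : σ) (v : Fin p → σ) :
    W A (p + 1) (Fin.cons i v) = ιMulti A (p + 1) (Matrix.vecCons (e A i) (fun j => e A (v j))) := by
  unfold W
  congr 1
  funext j
  refine Fin.cases ?_ (fun j => ?_) j <;> simp [Matrix.vecCons]

/-- Contraction with a linear form. -/
noncomputable def contr (φ : (σ → A) →ₗ[A] A) (p : ℕ) :
    ⋀[A]^(p + 1) (σ → A) →ₗ[A] ⋀[A]^p (σ → A) :=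
  alternatingMapLinearEquiv (AlternatingMap.alternatizeUncurryFin (φ.smulRight (ιMulti A p)))

theorem contr_W (φ : (σ → A) →ₗ[A] A) (p : ℕ) (u : Fin (p + 1) → σ) :
    contr φ p (W A (p + 1) u) =
      ∑ j : Fin (p + 1), (-1) ^ (j : ℕ) • (φ (e A (u j)) • W A p (j.removeNth u)) := by
  unfold contr W
  rw [alternatingMapLinearEquiv_apply_ιMulti, AlternatingMap.alternatizeUncurryFin_apply]
  rfl

theorem euler_W (p : ℕ) (u : Fin (p + 1) → σ) :
    ∑ j : Fin (p + 1), (-1) ^ (j : ℕ) • W A (p + 1) (Fin.cons (u j) (j.removeNth u)) =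
      (p + 1) • W A (p + 1) u := by
  have := DFunLike.congr_fun
    (AlternatingMap.alternatizeUncurryFin_curryLeft (ιMulti A (p + 1) (M := σ → A)))
    (fun j => e A (u j))
  rw [AlternatingMap.alternatizeUncurryFin_apply] at this
  simp only [AlternatingMap.curryLeft_apply_apply] at this
  simp_rw [W_cons]
  exact this


section Cartan

variable (D : σ → A →ₗ[k] A) (t : σ → A)
  (hleib : ∀ (i j : σ) (g : A), D i (g * t j) = D i g * t j + if i = j then g else 0)
  (d : ∀ p : ℕ, ⋀[A]^p (σ → A) →ₗ[k] ⋀[A]^(p + 1) (σ → A))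
  (hd : ∀ (p : ℕ) (g : A) (v : Fin p → σ),
    d p (g • W A p v) = ∑ i, D i g • W A (p + 1) (Fin.cons i v))
  (φ : (σ → A) →ₗ[A] A) (hφ : ∀ i, φ (e A i) = t i)

include hφ in
theorem contr_smul_W (p : ℕ) (g : A) (u : Fin (p + 1) → σ) :
    contr φ p (g • W A (p + 1) u) =
      ∑ j : Fin (p + 1), (-1) ^ (j : ℕ) • ((g * t (u j)) • W A p (j.removeNth u)) := by
  rw [map_smul, contr_W, Finset.smul_sum]
  refine Finset.sum_congr rfl fun j _ => ?_
  rw [hφ, smul_comm g, smul_smul]

include hleib hd hφ in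
theorem d_contr (p : ℕ) (g : A) (u : Fin (p + 1) → σ) :
    d p (contr φ p (g • W A (p + 1) u)) =
      ∑ j : Fin (p + 1), (-1) ^ (j : ℕ) •
        ∑ i, (D i g * t (u j)) • W A (p + 1) (Fin.cons i (j.removeNth u)) +
      g • ∑ j : Fin (p + 1), (-1) ^ (j : ℕ) • W A (p + 1) (Fin.cons (u j) (j.removeNth u)) := by
  rw [contr_smul_W t φ hφ, map_sum, Finset.smul_sum, ← Finset.sum_add_distrib]
  refine Finset.sum_congr rfl fun j _ => ?_
  rw [map_zsmul, hd, smul_comm g, ← smul_add]
  congr 1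
  simp_rw [hleib, add_smul, ite_smul, zero_smul]
  rw [Finset.sum_add_distrib, Finset.sum_ite_eq' Finset.univ (u j)]
  simp

include hd hφ in
theorem contr_d (p : ℕ) (g : A) (u : Fin (p + 1) → σ) :
    contr φ (p + 1) (d (p + 1) (g • W A (p + 1) u)) =
      (∑ i, t i * D i g) • W A (p + 1) u -
      ∑ j : Fin (p + 1), (-1) ^ (j : ℕ) •
        ∑ i, (D i g * t (u j)) • W A (p + 1) (Fin.cons i (j.removeNth u)) := by
  rw [hd, map_sum]
  have key : ∀ i, contr φ (p + 1) (D i g • W A (p + 1 + 1) (Fin.cons i u)) =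
      (t i * D i g) • W A (p + 1) u -
      ∑ j : Fin (p + 1), (-1) ^ (j : ℕ) •
        ((D i g * t (u j)) • W A (p + 1) (Fin.cons i (j.removeNth u))) := by
    intro i
    rw [contr_smul_W t φ hφ, Fin.sum_univ_succ]
    have h0 : (0 : Fin (p + 1 + 1)).removeNth (Fin.cons i u : Fin (p + 1 + 1) → σ) = u := by
      rw [Fin.removeNth_zero, Fin.tail_cons]
    rw [h0]
    simp only [Fin.val_zero, pow_zero, one_smul, Fin.cons_zero, Fin.cons_succ, Fin.val_succ]
    rw [mul_comm, sub_eq_add_neg, ← Finset.sum_neg_distrib]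
    congr 1
    refine Finset.sum_congr rfl fun j _ => ?_
    have hj : (j.succ).removeNth (Fin.cons i u : Fin (p + 1 + 1) → σ) =
        Fin.cons i (j.removeNth u) := Fin.cons_comp_succ_succAbove i u j
    rw [hj, pow_succ, mul_neg, mul_one, neg_smul]
  simp_rw [key]
  rw [Finset.sum_sub_distrib, Finset.sum_smul, Finset.sum_comm]
  congr 1
  refine Finset.sum_congr rfl fun j _ => ?_
  rw [Finset.smul_sum]

include hleib hd hφ in
theorem cartan (p : ℕ) (g : A) (u : Fin (p + 1) → σ) :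
    d p (contr φ p (g • W A (p + 1) u)) + contr φ (p + 1) (d (p + 1) (g • W A (p + 1) u)) =
      (∑ i, t i * D i g + (p + 1) • g) • W A (p + 1) u := by
  rw [d_contr D t hleib d hd φ hφ, contr_d D t d hd φ hφ, euler_W]
  have h1 : g • ((p + 1) • W A (p + 1) u) = ((p + 1) • g) • W A (p + 1) u := by
    rw [smul_comm, smul_assoc]
  rw [h1, add_smul (∑ i, t i * D i g) ((p + 1) • g)]
  abel

include hd in
theorem d_T (Φ Φ' : A →ₗ[k] A) (h1 : ∀ i g, D i (Φ g) = Φ' (D i g)) (p : ℕ)
    (x : ⋀[A]^p (σ → A)) : d p (T Φ p x) = T Φ' (p + 1) (d p x) := by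
  induction x using induction_W with
  | h0 => simp
  | hadd x y hx hy => rw [map_add, map_add, map_add, map_add, hx, hy]
  | h g v =>
    rw [T_smul_W, hd, hd, map_sum]
    refine Finset.sum_congr rfl fun i _ => ?_
    rw [T_smul_W, h1]

include hleib hd hφ in
theorem cartan_T (Φ : A →ₗ[k] A) (p : ℕ)
    (h2 : ∀ g, ∑ i, t i * D i (Φ g) + (p + 1) • Φ g = g) (x : ⋀[A]^(p + 1) (σ → A)) :
    d p (contr φ p (T Φ (p + 1) x)) + contr φ (p + 1) (d (p + 1) (T Φ (p + 1) x)) = x := by
  induction x using induction_W with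
  | h0 => simp
  | hadd x y hx hy =>
    simp only [map_add]
    nth_rewrite 3 [← hx]
    nth_rewrite 3 [← hy]
    abel
  | h g v => rw [T_smul_W, cartan D t hleib d hd φ hφ, h2]

end Cartan

/-- The linear form with prescribed values on the standard basis. -/
noncomputable def formOf (t : σ → A) : (σ → A) →ₗ[A] A := ∑ i, t i • LinearMap.proj i

theorem formOf_e (t : σ → A) (i : σ) : formOf t (e A i) = t i := by
  unfold formOf e
  rw [LinearMap.sum_apply, Finset.sum_eq_single i]
  · simp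
  · intro j _ hj; simp [hj]
  · simp

theorem poincare_general (D : σ → A →ₗ[k] A) (t : σ → A)
    (hleib : ∀ (i j : σ) (g : A), D i (g * t j) = D i g * t j + if i = j then g else 0)
    (d : ∀ p : ℕ, ⋀[A]^p (σ → A) →ₗ[k] ⋀[A]^(p + 1) (σ → A))
    (hd : ∀ (p : ℕ) (g : A) (v : Fin p → σ),
      d p (g • W A p v) = ∑ i, D i g • W A (p + 1) (Fin.cons i v))
    (p : ℕ) (Φ Φ' : A →ₗ[k] A) (h1 : ∀ i g, D i (Φ g) = Φ' (D i g))
    (h2 : ∀ g, ∑ i, t i * D i (Φ g) + (p + 1) • Φ g = g) :
    LinearMap.ker (d (p + 1)) ≤ LinearMap.range (d p) := by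
  intro x hx
  rw [LinearMap.mem_ker] at hx
  have h := cartan_T D t hleib d hd (formOf t) (formOf_e t) Φ p h2 x
  rw [d_T D d hd Φ Φ' h1, hx, map_zero, map_zero, add_zero] at h
  exact ⟨_, h⟩

end Groth.Agent.Lib.helper22.Poincare
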