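import Mathlib

/-! Power-series operators for the formal Poincaré lemma. -/

namespace Groth.Agent.Lib.helper22.Poincare

open MvPowerSeries

variable {k : Type*} [Field k] {σ : Type*}

/-- Coefficientwise division by `|α| + c`. -/
noncomputable def Phi (c : ℕ) : MvPowerSeries σ k →ₗ[k] MvPowerSeries σ k where
  toFun g := fun α => coeff α g / ((Finsupp.degree α : ℕ) + c : k)
  map_add' g h := by
    funext α
    change coeff α (g + h) / _ = coeff α g / _ + coeff α h / _
    rw [map_add, add_div]
  map_smul' a g := by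
    funext α
    change coeff α (a • g) / _ = a • (coeff α g / _)
    rw [map_smul, smul_eq_mul, smul_eq_mul, mul_div_assoc]

theorem coeff_Phi (c : ℕ) (g : MvPowerSeries σ k) (α : σ →₀ ℕ) :
    coeff α (Phi c g) = coeff α g / ((Finsupp.degree α : ℕ) + c : k) := rfl

theorem pderiv_Phi (c : ℕ) (i : σ) (g : MvPowerSeries σ k) :
    pderiv k i (Phi c g) = Phi (c + 1) (pderiv k i g) := by
  ext α
  rw [coeff_pderiv, coeff_Phi, coeff_Phi, coeff_pderiv, map_add, Finsupp.degree_single]
  push_cast
  rw [div_mul_eq_mul_div, add_assoc, add_comm (1 : k) (c : k)]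

theorem coeff_X_mul_pderiv (i : σ) (g : MvPowerSeries σ k) (α : σ →₀ ℕ) :
    coeff α (X i * pderiv k i g) = (α i : k) * coeff α g := by
  classical
  rw [X_def, coeff_monomial_mul]
  split_ifs with h
  · rw [coeff_pderiv, tsub_add_cancel_of_le h, one_mul]
    have h1 : 1 ≤ α i := by simpa using h i
    have : ((((α - Finsupp.single i 1 : σ →₀ ℕ) i : ℕ)) : k) + 1 = (α i : k) := by
      rw [Finsupp.tsub_apply, Finsupp.single_eq_same]
      rw [Nat.cast_sub h1]; simp
    rw [this, mul_comm]
  · have : α i = 0 := by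
      by_contra h0
      apply h
      intro j
      by_cases hj : j = i
      · subst hj; simpa using Nat.one_le_iff_ne_zero.mpr h0
      · simp [Finsupp.single_eq_of_ne hj]
    rw [this]; simp

variable [Fintype σ]

theorem coeff_euler (g : MvPowerSeries σ k) (α : σ →₀ ℕ) :
    coeff α (∑ i, X i * pderiv k i g) = (Finsupp.degree α : ℕ) * coeff α g := by
  rw [map_sum]
  simp_rw [coeff_X_mul_pderiv]
  rw [← Finset.sum_mul, Finsupp.degree_eq_sum]
  push_cast
  rfl

theorem euler_Phi [CharZero k] (c : ℕ) (g : MvPowerSeries σ k) :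
    ∑ i, X i * pderiv k i (Phi (c + 1) g) + (c + 1) • Phi (c + 1) g = g := by
  ext α
  rw [map_add, coeff_euler, map_nsmul, coeff_Phi, nsmul_eq_mul, ← add_mul]
  have : ((Finsupp.degree α : ℕ) : k) + ((c + 1 : ℕ) : k) ≠ 0 := by
    norm_cast
  rw [mul_div_assoc', mul_comm, mul_div_assoc, div_self this, mul_one]

end Groth.Agent.Lib.helper22.Poincare
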