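import Groth.Agent.Lib.Helper22.KerBCUniv
import Mathlib

/-!
# The derivative of a polynomial law `F : B →ₚₗ[A] A` (helper22)

`E F R x y : R[T]` is the polynomial `T ↦ F_R[T](x + T y)` and `D F R x y` its `T`-coefficient.
We prove functoriality (`D_map`), additivity and homogeneity in `y` (`D_add`, `D_smul`) and the
Taylor formula `derivative (E F R x y) = D F R[T] (x + T y) y` (`derivative_E`).
-/

set_option autoImplicit false
universe u
open scoped TensorProduct Polynomial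

namespace Groth.Agent.Lib.helper22.PolLawDeriv
open Groth.Agent.Lib.helper22.KerBCUniv Polynomial

variable {A : Type u} [CommRing A] {B : Type u} [CommRing B] [Algebra A B]

/-- constants `R ⊗ B → R[T] ⊗ B` -/
noncomputable def iota (R : Type u) [CommRing R] [Algebra A R] : R ⊗[A] B →ₐ[A] R[X] ⊗[A] B :=
  Algebra.TensorProduct.map (Polynomial.CAlgHom : R →ₐ[A] R[X]) (AlgHom.id A B)

/-- the polynomial `T ↦ F(x + T y)` -/
noncomputable def E (F : B →ₚₗ[A] A) (R : Type u) [CommRing R] [Algebra A R] (x y : R ⊗[A] B) :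
    R[X] :=
  TensorProduct.rid A R[X]
    (F.toFun' R[X] (iota R x + ((X : R[X]) ⊗ₜ[A] (1 : B)) * iota R y))

/-- the derivative of `F` at `x` in the direction `y` -/
noncomputable def D (F : B →ₚₗ[A] A) (R : Type u) [CommRing R] [Algebra A R] (x y : R ⊗[A] B) : R :=
  (E F R x y).coeff 1

theorem map_E (F : B →ₚₗ[A] A) {R S : Type u} [CommRing R] [Algebra A R] [CommRing S]
    [Algebra A S] (ψ : R[X] →ₐ[A] S) (x y : R ⊗[A] B) :
    ψ (E F R x y) = TensorProduct.rid A S (F.toFun' S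
      (Algebra.TensorProduct.map (ψ.comp (Polynomial.CAlgHom : R →ₐ[A] R[X])) (AlgHom.id A B) x +
        (ψ X ⊗ₜ[A] (1 : B)) *
        Algebra.TensorProduct.map (ψ.comp (Polynomial.CAlgHom : R →ₐ[A] R[X])) (AlgHom.id A B) y)) := by
  rw [E, ← compat', map_add, map_mul, iota, map_map_apply, map_map_apply,
    Algebra.TensorProduct.map_tmul]
  simp

theorem D_map (F : B →ₚₗ[A] A) {R R' : Type u} [CommRing R] [Algebra A R] [CommRing R']
    [Algebra A R'] (φ : R →ₐ[A] R') (x y : R ⊗[A] B) :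
    D F R' (Algebra.TensorProduct.map φ (AlgHom.id A B) x)
      (Algebra.TensorProduct.map φ (AlgHom.id A B) y) = φ (D F R x y) := by
  have h := map_E F (Polynomial.mapAlgHom φ) x y
  have hc : (Polynomial.mapAlgHom φ).comp (Polynomial.CAlgHom : R →ₐ[A] R[X]) =
      (Polynomial.CAlgHom : R' →ₐ[A] R'[X]).comp φ := by
    ext a
    simp
  have hX : Polynomial.mapAlgHom φ (X : R[X]) = X := by simp
  rw [hc, hX, ← map_map_apply, ← map_map_apply] at h
  rw [D, D, E, iota, ← h, Polynomial.coe_mapAlgHom, Polynomial.coeff_map]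
  rfl

theorem iota_apply (R : Type u) [CommRing R] [Algebra A R] (x : R ⊗[A] B) :
    iota R x = Algebra.TensorProduct.map (Polynomial.CAlgHom : R →ₐ[A] R[X]) (AlgHom.id A B) x :=
  rfl

theorem E_def (F : B →ₚₗ[A] A) (R : Type u) [CommRing R] [Algebra A R] (x y : R ⊗[A] B) :
    E F R x y = TensorProduct.rid A R[X] (F.toFun' R[X]
      (Algebra.TensorProduct.map (Polynomial.CAlgHom : R →ₐ[A] R[X]) (AlgHom.id A B) x +
        ((X : R[X]) ⊗ₜ[A] (1 : B)) *
        Algebra.TensorProduct.map (Polynomial.CAlgHom : R →ₐ[A] R[X]) (AlgHom.id A B) y)) := rfl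

/-- homogeneity of the derivative in the direction -/
theorem D_smul (F : B →ₚₗ[A] A) (R : Type u) [CommRing R] [Algebra A R] (r : R)
    (x y : R ⊗[A] B) :
    D F R x ((r ⊗ₜ[A] (1 : B)) * y) = r * D F R x y := by
  let ψ : R[X] →ₐ[A] R[X] := (Polynomial.aeval (C r * X : R[X])).restrictScalars A
  have h := map_E F ψ x y
  have hc : ψ.comp (Polynomial.CAlgHom : R →ₐ[A] R[X]) = Polynomial.CAlgHom := by
    ext a
    simp [ψ]
  have hX : ψ X = C r * X := by simp [ψ]
  rw [hc, hX] at h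
  have h2 : E F R x ((r ⊗ₜ[A] (1 : B)) * y) = ψ (E F R x y) := by
    rw [h, E_def, map_mul, Algebra.TensorProduct.map_tmul, ← mul_assoc,
      Algebra.TensorProduct.tmul_mul_tmul]
    have e : (X * (Polynomial.CAlgHom : R →ₐ[A] R[X]) r : R[X]) = C r * X := by
      rw [mul_comm]; rfl
    rw [e, map_one, mul_one]
  rw [D, D, h2]
  have h3 : ψ (E F R x y) = (E F R x y).comp (C r * X) := by
    simp [ψ, Polynomial.comp_eq_aeval]
  rw [h3, Polynomial.comp_C_mul_X_coeff, pow_one, mul_comm]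

/-- coefficient identity used for additivity -/
theorem coeff_one_eval_X {R : Type u} [CommRing R] (G : R[X][X]) :
    (G.eval X).coeff 1 = (G.eval 0).coeff 1 + (G.map (Polynomial.evalRingHom (0 : R))).coeff 1 := by
  induction G using Polynomial.induction_on' with
  | add p q hp hq =>
    simp only [Polynomial.eval_add, Polynomial.coeff_add, Polynomial.map_add, hp, hq]
    ring
  | monomial k g =>
    rw [Polynomial.eval_monomial, Polynomial.eval_monomial, Polynomial.map_monomial,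
      Polynomial.coeff_monomial, Polynomial.coeff_mul_X_pow']
    rcases k with _ | _ | k
    · simp
    · simp [Polynomial.coeff_zero_eq_eval_zero]
    · simp

/-- additivity of the derivative in the direction -/
theorem D_add (F : B →ₚₗ[A] A) (R : Type u) [CommRing R] [Algebra A R] (x y₁ y₂ : R ⊗[A] B) :
    D F R x (y₁ + y₂) = D F R x y₁ + D F R x y₂ := by
  let CC : R →ₐ[A] R[X][X] := (Polynomial.CAlgHom : R[X] →ₐ[A] R[X][X]).comp Polynomial.CAlgHom
  let u : R[X][X] ⊗[A] B := Algebra.TensorProduct.map CC (AlgHom.id A B) x +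
    ((C X : R[X][X]) ⊗ₜ[A] (1 : B)) * Algebra.TensorProduct.map CC (AlgHom.id A B) y₁ +
    ((X : R[X][X]) ⊗ₜ[A] (1 : B)) * Algebra.TensorProduct.map CC (AlgHom.id A B) y₂
  let G : R[X][X] := TensorProduct.rid A _ (F.toFun' R[X][X] u)
  let εa : R[X][X] →ₐ[A] R[X] := (Polynomial.aeval (X : R[X])).restrictScalars A
  let εb : R[X][X] →ₐ[A] R[X] := (Polynomial.aeval (0 : R[X])).restrictScalars A
  let εc : R[X][X] →ₐ[A] R[X] :=
    Polynomial.mapAlgHom ((Polynomial.aeval (0 : R)).restrictScalars A : R[X] →ₐ[A] R)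
  have ha : εa.comp CC = Polynomial.CAlgHom := by
    ext a; simp [εa, CC]
  have hb : εb.comp CC = Polynomial.CAlgHom := by
    ext a; simp [εb, CC]
  have hc : εc.comp CC = Polynomial.CAlgHom := by
    ext a; simp [εc, CC]
  have ea : εa G = E F R x (y₁ + y₂) := by
    rw [← compat', E_def]
    congr 2
    simp only [u, map_add, map_mul, map_map_apply, ha, Algebra.TensorProduct.map_tmul]
    simp [εa, mul_add, add_assoc]
  have eb : εb G = E F R x y₁ := by
    rw [← compat', E_def]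
    congr 2
    simp only [u, map_add, map_mul, map_map_apply, hb, Algebra.TensorProduct.map_tmul]
    simp [εb]
  have ec : εc G = E F R x y₂ := by
    rw [← compat', E_def]
    congr 2
    simp only [u, map_add, map_mul, map_map_apply, hc, Algebra.TensorProduct.map_tmul]
    simp [εc]
  have key := coeff_one_eval_X G
  have ea' : εa G = G.eval X := by simp [εa, Polynomial.coe_aeval_eq_eval]
  have eb' : εb G = G.eval 0 := by simp [εb, Polynomial.coe_aeval_eq_eval]
  have ec' : εc G = G.map (Polynomial.evalRingHom (0 : R)) := by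
    simp only [εc, Polynomial.coe_mapAlgHom]
    congr 1
  rw [← ea', ← eb', ← ec', ea, eb, ec] at key
  exact key

theorem D_zero (F : B →ₚₗ[A] A) (R : Type u) [CommRing R] [Algebra A R] (x : R ⊗[A] B) :
    D F R x 0 = 0 := by
  have h := D_add F R x 0 0
  rw [add_zero] at h
  exact left_eq_add.mp h

/-- coefficient identity used for the Taylor formula -/
theorem coeff_one_aeval_add {R : Type u} [CommRing R] (p : R[X]) :
    (Polynomial.aeval (C X + X : R[X][X]) p).coeff 1 = Polynomial.derivative p := by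
  have h1 : Polynomial.aeval (C X + X : R[X][X]) p = Polynomial.taylor (X : R[X]) (p.map C) := by
    rw [Polynomial.taylor_apply, Polynomial.comp, Polynomial.eval₂_map, Polynomial.aeval_def,
      add_comm]
    rfl
  rw [h1, Polynomial.taylor_coeff_one, Polynomial.derivative_map, Polynomial.eval_map,
    Polynomial.eval₂_C_X]

/-- **Taylor formula**: the derivative of `T ↦ F(x + T y)` is `D F (x + T y) y`. -/
theorem derivative_E (F : B →ₚₗ[A] A) (R : Type u) [CommRing R] [Algebra A R] (x y : R ⊗[A] B) :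
    Polynomial.derivative (E F R x y) =
      D F R[X] (iota R x + ((X : R[X]) ⊗ₜ[A] (1 : B)) * iota R y) (iota R y) := by
  let ψ : R[X] →ₐ[A] R[X][X] := (Polynomial.aeval (C X + X : R[X][X])).restrictScalars A
  have h := map_E F ψ x y
  have hc : ψ.comp (Polynomial.CAlgHom : R →ₐ[A] R[X]) =
      (Polynomial.CAlgHom : R[X] →ₐ[A] R[X][X]).comp Polynomial.CAlgHom := by
    ext a
    simp [ψ]
  have hX : ψ X = C X + X := by simp [ψ]
  rw [hc, hX] at h
  have h2 : E F R[X] (iota R x + ((X : R[X]) ⊗ₜ[A] (1 : B)) * iota R y) (iota R y) =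
      ψ (E F R x y) := by
    rw [h, E_def]
    congr 2
    simp only [iota_apply, map_add, map_mul, map_map_apply, Algebra.TensorProduct.map_tmul,
      TensorProduct.add_tmul, add_mul]
    simp [add_assoc]
  rw [D, h2]
  exact (coeff_one_aeval_add (E F R x y)).symm

/-! ### The linear map cutting out the kernel (characteristic zero) -/

/-- universal test for `PolLaw.ker` (version with `KerBCUniv.x0 A g`) -/
theorem mem_ker_of_univ (F : B →ₚₗ[A] A) {m : ℕ} (g : Fin m → B)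
    (hg : Submodule.span A (Set.range g) = ⊤) (b : B)
    (h : F.toFun' (MvPolynomial (Fin m ⊕ Fin m) A) (x0 A g + w0 A g * (1 ⊗ₜ[A] b)) =
      F.toFun' (MvPolynomial (Fin m ⊕ Fin m) A) (x0 A g)) : b ∈ PolLaw.ker F := by
  show ∀ (S : Type u) [CommSemiring S] [Algebra A S] (x w : S ⊗[A] B),
    F.toFun' S (x + w * (1 ⊗ₜ[A] b)) = F.toFun' S x
  intro S _ _ x w
  obtain ⟨s, rfl⟩ := exists_rep g hg S x
  obtain ⟨v, rfl⟩ := exists_rep g hg S w
  let φ : MvPolynomial (Fin m ⊕ Fin m) A →ₐ[A] S := MvPolynomial.aeval (Sum.elim s v)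
  have e0 : Algebra.TensorProduct.map φ (AlgHom.id A B) (x0 A g) = ∑ i, s i ⊗ₜ[A] g i := by
    simp [x0, φ]
  have e1 : Algebra.TensorProduct.map φ (AlgHom.id A B) (x0 A g + w0 A g * (1 ⊗ₜ[A] b)) =
      ∑ i, s i ⊗ₜ[A] g i + (∑ i, v i ⊗ₜ[A] g i) * (1 ⊗ₜ[A] b) := by
    simp [x0, w0, φ]
  rw [← e1, ← e0, compat, compat, h]

/-- the derivative of `F` at the universal point in the direction `w0 * (1 ⊗ b)`, as a linear
map in `b` -/
noncomputable def lam (F : B →ₚₗ[A] A) {m : ℕ} (g : Fin m → B) :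
    B →ₗ[A] MvPolynomial (Fin m ⊕ Fin m) A where
  toFun b := D F (MvPolynomial (Fin m ⊕ Fin m) A) (x0 A g) (w0 A g * (1 ⊗ₜ[A] b))
  map_add' b b' := by
    rw [TensorProduct.tmul_add, mul_add, D_add]
  map_smul' a b := by
    have e : w0 A g * ((1 : MvPolynomial (Fin m ⊕ Fin m) A) ⊗ₜ[A] (a • b)) =
        ((MvPolynomial.C a : MvPolynomial (Fin m ⊕ Fin m) A) ⊗ₜ[A] (1 : B)) *
          (w0 A g * (1 ⊗ₜ[A] b)) := by
      rw [mul_left_comm, Algebra.TensorProduct.tmul_mul_tmul, mul_one, one_mul,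
        ← TensorProduct.smul_tmul, MvPolynomial.smul_eq_C_mul, mul_one]
    rw [e, D_smul, RingHom.id_apply, MvPolynomial.smul_eq_C_mul]

theorem lam_apply (F : B →ₚₗ[A] A) {m : ℕ} (g : Fin m → B) (b : B) :
    lam F g b = D F (MvPolynomial (Fin m ⊕ Fin m) A) (x0 A g) (w0 A g * (1 ⊗ₜ[A] b)) := rfl

/-- in characteristic zero, `ker (lam F g) ≤ PolLaw.ker F` -/
theorem mem_ker_of_lam_eq_zero [Algebra ℚ A] (F : B →ₚₗ[A] A) {m : ℕ} (g : Fin m → B)
    (hg : Submodule.span A (Set.range g) = ⊤) (b : B) (h : lam F g b = 0) :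
    b ∈ PolLaw.ker F := by
  have : IsAddTorsionFree (MvPolynomial (Fin m ⊕ Fin m) A) :=
    IsAddTorsionFree.of_module_rat (MvPolynomial (Fin m ⊕ Fin m) A)
  have hder : Polynomial.derivative (E F (MvPolynomial (Fin m ⊕ Fin m) A) (x0 A g)
      (w0 A g * (1 ⊗ₜ[A] b))) = 0 := by
    rw [derivative_E]
    obtain ⟨s, hs⟩ := exists_rep g hg (MvPolynomial (Fin m ⊕ Fin m) A)[X]
      (iota (MvPolynomial (Fin m ⊕ Fin m) A) (x0 A g) +
        ((X : (MvPolynomial (Fin m ⊕ Fin m) A)[X]) ⊗ₜ[A] (1 : B)) *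
          iota (MvPolynomial (Fin m ⊕ Fin m) A) (w0 A g * (1 ⊗ₜ[A] b)))
    let Φ : MvPolynomial (Fin m ⊕ Fin m) A →ₐ[A] (MvPolynomial (Fin m ⊕ Fin m) A)[X] :=
      MvPolynomial.aeval (Sum.elim s (fun i => C (MvPolynomial.X (Sum.inr i))))
    have e0 : Algebra.TensorProduct.map Φ (AlgHom.id A B) (x0 A g) = ∑ i, s i ⊗ₜ[A] g i := by
      simp [x0, Φ]
    have e1 : Algebra.TensorProduct.map Φ (AlgHom.id A B) (w0 A g * (1 ⊗ₜ[A] b)) =
        iota (MvPolynomial (Fin m ⊕ Fin m) A) (w0 A g * (1 ⊗ₜ[A] b)) := by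
      simp [w0, Φ, iota_apply]
    rw [hs, ← e0, ← e1, D_map, ← lam_apply, h, map_zero]
  have hE := Polynomial.eq_C_of_derivative_eq_zero hder
  apply mem_ker_of_univ F g hg
  apply (TensorProduct.rid A (MvPolynomial (Fin m ⊕ Fin m) A)).injective
  let ψ1 : (MvPolynomial (Fin m ⊕ Fin m) A)[X] →ₐ[A] MvPolynomial (Fin m ⊕ Fin m) A :=
    (Polynomial.aeval (1 : MvPolynomial (Fin m ⊕ Fin m) A)).restrictScalars A
  let ψ0 : (MvPolynomial (Fin m ⊕ Fin m) A)[X] →ₐ[A] MvPolynomial (Fin m ⊕ Fin m) A :=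
    (Polynomial.aeval (0 : MvPolynomial (Fin m ⊕ Fin m) A)).restrictScalars A
  have h1 := map_E F ψ1 (x0 A g) (w0 A g * (1 ⊗ₜ[A] b))
  have h0 := map_E F ψ0 (x0 A g) (w0 A g * (1 ⊗ₜ[A] b))
  have hc1 : ψ1.comp (Polynomial.CAlgHom :
      MvPolynomial (Fin m ⊕ Fin m) A →ₐ[A] (MvPolynomial (Fin m ⊕ Fin m) A)[X]) =
      AlgHom.id A _ := AlgHom.ext fun a => by simp [ψ1]
  have hc0 : ψ0.comp (Polynomial.CAlgHom :
      MvPolynomial (Fin m ⊕ Fin m) A →ₐ[A] (MvPolynomial (Fin m ⊕ Fin m) A)[X]) =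
      AlgHom.id A _ := AlgHom.ext fun a => by simp [ψ0]
  have hX1 : ψ1 X = 1 := by simp [ψ1]
  have hX0 : ψ0 X = 0 := by simp [ψ0]
  have hid : ∀ z : MvPolynomial (Fin m ⊕ Fin m) A ⊗[A] B,
      Algebra.TensorProduct.map (AlgHom.id A (MvPolynomial (Fin m ⊕ Fin m) A)) (AlgHom.id A B) z =
        z := by
    intro z
    simp
  rw [hc1, hX1, hid, hid, Algebra.TensorProduct.one_def.symm, one_mul] at h1
  rw [hc0, hX0, hid, hid, TensorProduct.zero_tmul, zero_mul, add_zero] at h0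
  rw [← h1, ← h0, hE]
  simp [ψ1, ψ0]

/-! ### Base change of `lam` -/

theorem D_eq_zero_of_mem_kerBC (F : B →ₚₗ[A] A) {m : ℕ} (g : Fin m → B) (A' : Type u) [CommRing A']
    [Algebra A A'] (z : A' ⊗[A] B) (hz : z ∈ PolLaw.kerBC F A') :
    D F (MvPolynomial (Fin m ⊕ Fin m) A') (x0 A' g)
      (w0 A' g * Algebra.TensorProduct.map (cHom (A := A) A' m) (AlgHom.id A B) z) = 0 := by
  have h := (Groth.Agent.S13699.mem_kerBC_iff F A' z).1 hz (MvPolynomial (Fin m ⊕ Fin m) A')[X]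
    ((Polynomial.CAlgHom : MvPolynomial (Fin m ⊕ Fin m) A' →ₐ[A] _).comp (cHom (A := A) A' m))
    (iota _ (x0 A' g)) (((X : (MvPolynomial (Fin m ⊕ Fin m) A')[X]) ⊗ₜ[A] (1 : B)) *
      iota _ (w0 A' g))
  have hE : E F (MvPolynomial (Fin m ⊕ Fin m) A') (x0 A' g)
      (w0 A' g * Algebra.TensorProduct.map (cHom (A := A) A' m) (AlgHom.id A B) z) =
      C (TensorProduct.rid A _ (F.toFun' (MvPolynomial (Fin m ⊕ Fin m) A') (x0 A' g))) := by
    have h2 : iota (MvPolynomial (Fin m ⊕ Fin m) A') (x0 A' g) +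
        ((X : (MvPolynomial (Fin m ⊕ Fin m) A')[X]) ⊗ₜ[A] (1 : B)) *
        iota (MvPolynomial (Fin m ⊕ Fin m) A')
          (w0 A' g * Algebra.TensorProduct.map (cHom (A := A) A' m) (AlgHom.id A B) z) =
        iota _ (x0 A' g) + (((X : (MvPolynomial (Fin m ⊕ Fin m) A')[X]) ⊗ₜ[A] (1 : B)) *
          iota _ (w0 A' g)) * Algebra.TensorProduct.map
            ((Polynomial.CAlgHom : MvPolynomial (Fin m ⊕ Fin m) A' →ₐ[A] _).comp
              (cHom (A := A) A' m)) (AlgHom.id A B) z := by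
      rw [map_mul, mul_assoc, ← map_map_apply]
      rfl
    rw [E, h2, h, iota_apply, compat']
    rfl
  rw [D, hE, Polynomial.coeff_C]
  simp

theorem lTensor_lam_eq (F : B →ₚₗ[A] A) {m : ℕ} (g : Fin m → B) (A' : Type u) [CommRing A']
    [Algebra A A'] (z : A' ⊗[A] B) :
    MvPolynomial.algebraTensorAlgEquiv A A' ((lam F g).lTensor A' z) =
      D F (MvPolynomial (Fin m ⊕ Fin m) A') (x0 A' g)
        (w0 A' g * Algebra.TensorProduct.map (cHom (A := A) A' m) (AlgHom.id A B) z) := by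
  induction z using TensorProduct.induction_on with
  | zero => simp [D_zero]
  | add x y hx hy => rw [map_add, map_add, map_add, mul_add, D_add, hx, hy]
  | tmul a b =>
    rw [LinearMap.lTensor_tmul, MvPolynomial.algebraTensorAlgEquiv_tmul, lam_apply]
    have h1 : MvPolynomial.map (algebraMap A A')
        (D F (MvPolynomial (Fin m ⊕ Fin m) A) (x0 A g) (w0 A g * (1 ⊗ₜ[A] b))) =
        D F (MvPolynomial (Fin m ⊕ Fin m) A') (x0 A' g) (w0 A' g * (1 ⊗ₜ[A] b)) := by
      have := D_map F (MvPolynomial.mapAlgHom (σ := Fin m ⊕ Fin m) (Algebra.ofId A A'))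
        (x0 A g) (w0 A g * (1 ⊗ₜ[A] b))
      rw [map_mul, map_x0, map_w0] at this
      simpa using this.symm
    have h2 : w0 A' g * Algebra.TensorProduct.map (cHom (A := A) A' m) (AlgHom.id A B)
        (a ⊗ₜ[A] b) = ((MvPolynomial.C a : MvPolynomial (Fin m ⊕ Fin m) A') ⊗ₜ[A] (1 : B)) *
          (w0 A' g * (1 ⊗ₜ[A] b)) := by
      rw [mul_left_comm, Algebra.TensorProduct.tmul_mul_tmul, mul_one, one_mul,
        Algebra.TensorProduct.map_tmul, cHom_apply, AlgHom.id_apply]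
    rw [h1, h2, D_smul, MvPolynomial.smul_eq_C_mul]

end Groth.Agent.Lib.helper22.PolLawDeriv
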