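import Groth.Agent.Lib.Helper22.KerBCUniv
import Mathlib

/-!
# Multiplicative polynomial laws and idempotents (helper22)

For a multiplicative law `F : B →ₚₗ[A] A` homogeneous of degree `d`, `Spec A` connected, and an
idempotent `ε : B`:
* `exists_deg` : there is `k` with `F_S ((1 - ε) + s • ε) = s ^ k` for all `S`, `s`;
* `cut F ε` : the law `x ↦ F (x ε + (1 - ε))`; it is multiplicative (`cut_mult`) and homogeneous
  of degree `d - k'`, where `k'` is the degree of `1 - ε` (`cut_homog`).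
-/

set_option autoImplicit false
universe u
open scoped TensorProduct Polynomial

namespace Groth.Agent.Lib.helper22.PolLawIdem

variable {A : Type u} [CommRing A] {B : Type u} [CommRing B] [Algebra A B]

theorem idem_zero_or_one [ConnectedSpace (PrimeSpectrum A)] (e : A) (he : IsIdempotentElem e) :
    e = 0 ∨ e = 1 := by
  have hcl : IsClopen (PrimeSpectrum.basicOpen e : Set (PrimeSpectrum A)) :=
    PrimeSpectrum.isClopen_iff.2 ⟨e, he, rfl⟩
  rcases _root_.isClopen_iff.1 hcl with h | h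
  · left
    have h' : PrimeSpectrum.basicOpen e = ⊥ := TopologicalSpace.Opens.ext h
    rw [PrimeSpectrum.basicOpen_eq_bot_iff] at h'
    obtain ⟨n, hn⟩ := h'
    rcases n with _ | n
    · have h1 : (1 : A) = 0 := by simpa using hn
      rw [← mul_one e, h1, mul_zero]
    · rw [he.pow_succ_eq] at hn
      exact hn
  · right
    have h' : PrimeSpectrum.basicOpen e = PrimeSpectrum.basicOpen (1 : A) := by
      apply TopologicalSpace.Opens.ext
      rw [h, PrimeSpectrum.basicOpen_one]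
      rfl
    exact PrimeSpectrum.basicOpen_injOn_isIdempotentElem he IsIdempotentElem.one h'

section idem
variable (S : Type u) [CommSemiring S] [Algebra A S] (ε : B)

theorem eh_mul_eh (hε : IsIdempotentElem ε) :
    ((1 : S) ⊗ₜ[A] ε) * ((1 : S) ⊗ₜ[A] ε) = (1 : S) ⊗ₜ[A] ε := by
  rw [Algebra.TensorProduct.tmul_mul_tmul, mul_one, hε.eq]

theorem eh_mul_eh' (hε : IsIdempotentElem ε) :
    ((1 : S) ⊗ₜ[A] ε) * ((1 : S) ⊗ₜ[A] (1 - ε)) = 0 := by
  rw [Algebra.TensorProduct.tmul_mul_tmul, mul_one, mul_sub, mul_one, hε.eq, sub_self,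
    TensorProduct.tmul_zero]

theorem eh'_mul_eh' (hε : IsIdempotentElem ε) :
    ((1 : S) ⊗ₜ[A] (1 - ε)) * ((1 : S) ⊗ₜ[A] (1 - ε)) = (1 : S) ⊗ₜ[A] (1 - ε) := by
  rw [Algebra.TensorProduct.tmul_mul_tmul, mul_one, hε.one_sub.eq]

theorem eh_add_eh' : ((1 : S) ⊗ₜ[A] ε) + ((1 : S) ⊗ₜ[A] (1 - ε)) = 1 := by
  rw [← TensorProduct.tmul_add, add_sub_cancel, Algebra.TensorProduct.one_def]

end idem

/-- the law `x ↦ F (x ε + (1 - ε))` -/
noncomputable def cut (F : B →ₚₗ[A] A) (ε : B) : B →ₚₗ[A] A where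
  toFun' S _ _ := fun x => F.toFun' S (x * ((1 : S) ⊗ₜ[A] ε) + (1 : S) ⊗ₜ[A] (1 - ε))
  isCompat' {S} _ _ {S'} _ _ φ := by
    funext x
    simp only [Function.comp_apply]
    have h := congrFun (F.isCompat' φ) (x * ((1 : S) ⊗ₜ[A] ε) + (1 : S) ⊗ₜ[A] (1 - ε))
    simp only [Function.comp_apply] at h
    rw [h]
    congr 1
    rw [Groth.Agent.S13699.rTensor_algHom_apply', Groth.Agent.S13699.rTensor_algHom_apply']
    simp

theorem cut_apply (F : B →ₚₗ[A] A) (ε : B) (S : Type u) [CommSemiring S] [Algebra A S]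
    (x : S ⊗[A] B) :
    (cut F ε).toFun' S x = F.toFun' S (x * ((1 : S) ⊗ₜ[A] ε) + (1 : S) ⊗ₜ[A] (1 - ε)) := rfl

theorem cut_mult (F : B →ₚₗ[A] A) (hF : PolLaw.IsMult F) (ε : B) (hε : IsIdempotentElem ε) :
    PolLaw.IsMult (cut F ε) := by
  intro S _ _
  refine ⟨?_, fun x y => ?_⟩
  · rw [cut_apply, one_mul, eh_add_eh', (hF S).1]
  · rw [cut_apply, cut_apply, cut_apply, ← (hF S).2]
    congr 1
    have : (x * ((1 : S) ⊗ₜ[A] ε) + (1 : S) ⊗ₜ[A] (1 - ε)) *
        (y * ((1 : S) ⊗ₜ[A] ε) + (1 : S) ⊗ₜ[A] (1 - ε)) =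
        x * y * (((1 : S) ⊗ₜ[A] ε) * ((1 : S) ⊗ₜ[A] ε)) +
        x * (((1 : S) ⊗ₜ[A] ε) * ((1 : S) ⊗ₜ[A] (1 - ε))) +
        y * (((1 : S) ⊗ₜ[A] ε) * ((1 : S) ⊗ₜ[A] (1 - ε))) +
        ((1 : S) ⊗ₜ[A] (1 - ε)) * ((1 : S) ⊗ₜ[A] (1 - ε)) := by ring
    rw [this, eh_mul_eh S ε hε, eh_mul_eh' S ε hε, eh'_mul_eh' S ε hε, mul_zero, mul_zero,
      add_zero, add_zero]

/-! ### The degree of a law on an idempotent -/

/-- the polynomial `F ((1 - ε) + T ε)` -/
noncomputable def Ppoly (F : B →ₚₗ[A] A) (ε : B) : A[X] :=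
  TensorProduct.rid A A[X]
    (F.toFun' A[X] ((1 : A[X]) ⊗ₜ[A] (1 - ε) + (Polynomial.X : A[X]) ⊗ₜ[A] ε))

theorem eval_P (F : B →ₚₗ[A] A) (ε : B) (S : Type u) [CommSemiring S] [Algebra A S]
    (ψ : A[X] →ₐ[A] S) :
    F.toFun' S ((1 : S) ⊗ₜ[A] (1 - ε) + ψ Polynomial.X ⊗ₜ[A] ε) = ψ (Ppoly F ε) ⊗ₜ[A] (1 : A) := by
  have h := Groth.Agent.Lib.helper22.KerBCUniv.compat F ψ
    ((1 : A[X]) ⊗ₜ[A] (1 - ε) + (Polynomial.X : A[X]) ⊗ₜ[A] ε)
  rw [map_add, Algebra.TensorProduct.map_tmul, Algebra.TensorProduct.map_tmul, map_one,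
    AlgHom.id_apply, AlgHom.id_apply] at h
  rw [h]
  have h2 : F.toFun' A[X] ((1 : A[X]) ⊗ₜ[A] (1 - ε) + (Polynomial.X : A[X]) ⊗ₜ[A] ε) =
      Ppoly F ε ⊗ₜ[A] (1 : A) := by
    rw [← TensorProduct.rid_symm_apply, Ppoly, LinearEquiv.symm_apply_apply]
  rw [h2, LinearMap.rTensor_tmul]
  rfl

theorem tmul_one_injective (S : Type u) [CommSemiring S] [Algebra A S] :
    Function.Injective (fun a : S => a ⊗ₜ[A] (1 : A)) := by
  intro a b h
  have := congrArg (TensorProduct.rid A S) h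
  simpa using this

theorem mul_id (S : Type u) [CommSemiring S] [Algebra A S] (ε : B) (hε : IsIdempotentElem ε)
    (s t : S) :
    ((1 : S) ⊗ₜ[A] (1 - ε) + s ⊗ₜ[A] ε) * ((1 : S) ⊗ₜ[A] (1 - ε) + t ⊗ₜ[A] ε) =
      (1 : S) ⊗ₜ[A] (1 - ε) + (s * t) ⊗ₜ[A] ε := by
  have h0 : (1 - ε) * ε = 0 := by rw [sub_mul, one_mul, hε.eq, sub_self]
  have h0' : ε * (1 - ε) = 0 := by rw [mul_comm, h0]
  rw [add_mul, mul_add, mul_add, Algebra.TensorProduct.tmul_mul_tmul,
    Algebra.TensorProduct.tmul_mul_tmul, Algebra.TensorProduct.tmul_mul_tmul,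
    Algebra.TensorProduct.tmul_mul_tmul, hε.one_sub.eq, hε.eq, h0, h0', TensorProduct.tmul_zero,
    TensorProduct.tmul_zero, add_zero, zero_add, one_mul]

theorem coeff_mul_coeff (F : B →ₚₗ[A] A) (hF : PolLaw.IsMult F) (ε : B) (hε : IsIdempotentElem ε)
    (k l : ℕ) :
    (Ppoly F ε).coeff k * (Ppoly F ε).coeff l = if k = l then (Ppoly F ε).coeff l else 0 := by
  set P := Ppoly F ε with hP
  let ψT : A[X] →ₐ[A] A[X][X] := Polynomial.CAlgHom
  let ψU : A[X] →ₐ[A] A[X][X] := Polynomial.mapAlgHom (Algebra.ofId A A[X])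
  let ψTU : A[X] →ₐ[A] A[X][X] := Polynomial.aeval (Polynomial.C Polynomial.X * Polynomial.X)
  have hT := eval_P F ε A[X][X] ψT
  have hU := eval_P F ε A[X][X] ψU
  have hTU := eval_P F ε A[X][X] ψTU
  have hXT : ψT Polynomial.X = Polynomial.C Polynomial.X := rfl
  have hXU : ψU Polynomial.X = Polynomial.X := by simp [ψU]
  have hXTU : ψTU Polynomial.X = Polynomial.C Polynomial.X * Polynomial.X := by simp [ψTU]
  rw [hXT] at hT
  rw [hXU] at hU
  rw [hXTU, ← mul_id A[X][X] ε hε, (hF A[X][X]).2, hT, hU, Algebra.TensorProduct.tmul_mul_tmul,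
    mul_one] at hTU
  have key : ψT P * ψU P = ψTU P := tmul_one_injective A[X][X] hTU
  have e1 : ψT P = Polynomial.C P := rfl
  have e2 : ψU P = P.map (Polynomial.C) := by
    simp only [ψU, Polynomial.coe_mapAlgHom]
    rfl
  have e3 : ψTU P = (P.map Polynomial.C).comp (Polynomial.C Polynomial.X * Polynomial.X) := by
    simp only [ψTU]
    rw [Polynomial.comp, Polynomial.eval₂_map, Polynomial.aeval_def]
    rfl
  rw [e1, e2, e3] at key
  have key2 := congrArg (fun q : A[X][X] => (q.coeff l).coeff k) key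
  simp only [Polynomial.coeff_C_mul, Polynomial.coeff_map, Polynomial.comp_C_mul_X_coeff,
    Polynomial.coeff_mul_C] at key2
  rw [key2, Polynomial.coeff_X_pow]
  split_ifs <;> simp


theorem eval_one_P (F : B →ₚₗ[A] A) (hF : PolLaw.IsMult F) (ε : B) :
    (Ppoly F ε).eval 1 = 1 := by
  have h := eval_P F ε A (Polynomial.aeval (1 : A))
  rw [Polynomial.aeval_X, ← TensorProduct.tmul_add, sub_add_cancel,
    ← Algebra.TensorProduct.one_def, (hF A).1, Algebra.TensorProduct.one_def] at h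
  have := tmul_one_injective A h
  rw [Polynomial.coe_aeval_eq_eval] at this
  exact this.symm

theorem exists_Ppoly_eq (F : B →ₚₗ[A] A) (hF : PolLaw.IsMult F) (ε : B) (hε : IsIdempotentElem ε)
    [ConnectedSpace (PrimeSpectrum A)] : ∃ k : ℕ, Ppoly F ε = Polynomial.X ^ k := by
  have hnt : Nontrivial A := by
    by_contra h
    rw [not_nontrivial_iff_subsingleton] at h
    exact (PrimeSpectrum.instIsEmptyOfSubsingleton (R := A)).false
      (Classical.arbitrary (PrimeSpectrum A))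
  set P := Ppoly F ε with hP
  have hidem : ∀ k, P.coeff k = 0 ∨ P.coeff k = 1 := by
    intro k
    apply idem_zero_or_one
    have := coeff_mul_coeff F hF ε hε k k
    rw [if_pos rfl] at this
    exact this
  have hex : ∃ k, P.coeff k = 1 := by
    by_contra hne
    push Not at hne
    have h0 : ∀ k, P.coeff k = 0 := fun k => (hidem k).resolve_right (hne k)
    have hP0 : P = 0 := Polynomial.ext (fun k => by rw [h0 k, Polynomial.coeff_zero])
    have h1 := eval_one_P F hF ε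
    rw [← hP, hP0, Polynomial.eval_zero] at h1
    exact zero_ne_one h1
  obtain ⟨k, hk⟩ := hex
  refine ⟨k, Polynomial.ext (fun l => ?_)⟩
  rw [Polynomial.coeff_X_pow]
  by_cases hlk : l = k
  · rw [if_pos hlk, hlk, hk]
  · rw [if_neg hlk]
    have := coeff_mul_coeff F hF ε hε k l
    rw [if_neg (Ne.symm hlk), hk, one_mul] at this
    exact this

/-- **Degree on an idempotent.** -/
theorem exists_deg (F : B →ₚₗ[A] A) (hF : PolLaw.IsMult F) (ε : B) (hε : IsIdempotentElem ε)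
    [ConnectedSpace (PrimeSpectrum A)] :
    ∃ k : ℕ, ∀ (S : Type u) [CommSemiring S] [Algebra A S] (s : S),
      F.toFun' S ((1 : S) ⊗ₜ[A] (1 - ε) + s ⊗ₜ[A] ε) = (s ^ k) ⊗ₜ[A] (1 : A) := by
  obtain ⟨k, hk⟩ := exists_Ppoly_eq F hF ε hε
  refine ⟨k, fun S _ _ s => ?_⟩
  have h := eval_P F ε S (Polynomial.aeval s)
  rw [Polynomial.aeval_X, hk, map_pow, Polynomial.aeval_X] at h
  exact h

/-! ### Homogeneity of `cut` -/

theorem map_smul' {M : Type u} [CommRing M] [Algebra A M] {S S' : Type u} [CommSemiring S]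
    [Algebra A S] [CommSemiring S'] [Algebra A S'] (φ : S →ₐ[A] S') (p : S) (z : S ⊗[A] M) :
    Algebra.TensorProduct.map φ (AlgHom.id A M) (p • z) =
      φ p • Algebra.TensorProduct.map φ (AlgHom.id A M) z := by
  rw [Algebra.smul_def, Algebra.smul_def, map_mul]
  simp

theorem smul_eq_tmul_mul {M : Type u} [CommRing M] [Algebra A M] {S : Type u} [CommSemiring S]
    [Algebra A S] (p : S) (z : S ⊗[A] M) : p • z = (p ⊗ₜ[A] (1 : M)) * z := by
  rw [Algebra.smul_def]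
  simp

/-- Fact 1: `s ^ k' • cut (s • y) = s ^ d • cut y`. -/
theorem cut_smul_aux (F : B →ₚₗ[A] A) (hF : PolLaw.IsMult F) {d : ℕ} (hd : PolLaw.IsHomog F d)
    (ε : B) (hε : IsIdempotentElem ε) (k' : ℕ)
    (hk' : ∀ (S : Type u) [CommSemiring S] [Algebra A S] (s : S),
      F.toFun' S ((1 : S) ⊗ₜ[A] ε + s ⊗ₜ[A] (1 - ε)) = (s ^ k') ⊗ₜ[A] (1 : A))
    (S : Type u) [CommSemiring S] [Algebra A S] (s : S) (y : S ⊗[A] B) :
    s ^ k' • (cut F ε).toFun' S (s • y) = s ^ d • (cut F ε).toFun' S y := by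
  have h0 : ε * (1 - ε) = 0 := by rw [mul_sub, mul_one, hε.eq, sub_self]
  have h0' : (1 - ε) * ε = 0 := by rw [mul_comm, h0]
  have e : s • (y * ((1 : S) ⊗ₜ[A] ε) + (1 : S) ⊗ₜ[A] (1 - ε)) =
      ((s • y) * ((1 : S) ⊗ₜ[A] ε) + (1 : S) ⊗ₜ[A] (1 - ε)) *
        ((1 : S) ⊗ₜ[A] ε + s ⊗ₜ[A] (1 - ε)) := by
    rw [add_mul, mul_add, mul_add, mul_assoc, mul_assoc, Algebra.TensorProduct.tmul_mul_tmul,
      Algebra.TensorProduct.tmul_mul_tmul, Algebra.TensorProduct.tmul_mul_tmul,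
      Algebra.TensorProduct.tmul_mul_tmul, hε.eq, h0, h0', hε.one_sub.eq,
      TensorProduct.tmul_zero, TensorProduct.tmul_zero, mul_zero, add_zero, zero_add, one_mul,
      one_mul, smul_add, smul_mul_assoc, TensorProduct.smul_tmul', smul_eq_mul, mul_one]
  rw [cut_apply, cut_apply, ← hd S s, e, (hF S).2, hk' S s, smul_eq_tmul_mul (M := A) (s ^ k'),
    mul_comm]

theorem X_pow_smul_cancel {S : Type u} [CommSemiring S] [Algebra A S] (k : ℕ)
    (a b : S[X] ⊗[A] A) (h : (Polynomial.X : S[X]) ^ k • a = (Polynomial.X : S[X]) ^ k • b) :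
    a = b := by
  apply (TensorProduct.AlgebraTensorModule.rid A S[X] S[X]).injective
  have h2 := congrArg (TensorProduct.AlgebraTensorModule.rid A S[X] S[X]) h
  rw [map_smul, map_smul, smul_eq_mul, smul_eq_mul] at h2
  exact (Polynomial.isRegular_X_pow k).left h2

theorem cut_homog (F : B →ₚₗ[A] A) (hF : PolLaw.IsMult F) {d : ℕ} (hd : PolLaw.IsHomog F d)
    (ε : B) (hε : IsIdempotentElem ε) (k' : ℕ) (hkd : k' ≤ d)
    (hk' : ∀ (S : Type u) [CommSemiring S] [Algebra A S] (s : S),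
      F.toFun' S ((1 : S) ⊗ₜ[A] ε + s ⊗ₜ[A] (1 - ε)) = (s ^ k') ⊗ₜ[A] (1 : A)) :
    PolLaw.IsHomog (cut F ε) (d - k') := by
  intro S _ _ s x
  let ι : S ⊗[A] B →ₐ[A] S[X] ⊗[A] B :=
    Algebra.TensorProduct.map (Polynomial.CAlgHom : S →ₐ[A] S[X]) (AlgHom.id A B)
  let ψ : S[X] →ₐ[A] S := (Polynomial.aeval s : S[X] →ₐ[S] S).restrictScalars A
  have hψι : ∀ z : S ⊗[A] B, Algebra.TensorProduct.map ψ (AlgHom.id A B) (ι z) = z := by
    intro z
    simp only [ι]
    rw [Groth.Agent.Lib.helper22.KerBCUniv.map_map_apply]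
    have : ψ.comp (Polynomial.CAlgHom : S →ₐ[A] S[X]) = AlgHom.id A S := by
      ext a; simp [ψ]
    rw [this]
    simp
  have hψX : ψ Polynomial.X = s := by simp [ψ]
  -- the universal identity
  have huniv : (cut F ε).toFun' S[X] ((Polynomial.X : S[X]) • ι x) =
      (Polynomial.X : S[X]) ^ (d - k') • (cut F ε).toFun' S[X] (ι x) := by
    apply X_pow_smul_cancel k'
    rw [cut_smul_aux F hF hd ε hε k' hk' S[X] Polynomial.X (ι x), smul_smul, ← pow_add,
      Nat.add_sub_cancel' hkd]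
  have h1 := Groth.Agent.Lib.helper22.KerBCUniv.compat (cut F ε) ψ ((Polynomial.X : S[X]) • ι x)
  have h2 := Groth.Agent.Lib.helper22.KerBCUniv.compat (cut F ε) ψ (ι x)
  rw [map_smul', hψι, hψX] at h1
  rw [hψι] at h2
  rw [h1, huniv, h2, Groth.Agent.S13699.rTensor_algHom_apply',
    Groth.Agent.S13699.rTensor_algHom_apply', map_smul', map_pow, hψX]

end Groth.Agent.Lib.helper22.PolLawIdem
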