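import Mathlib

/-!
# Polarization identity for multilinear maps with all factors equal

`∑_σ μ(f ∘ σ) = ∑_I (-1)^n (-1)^|I| μ(∑_{i∈I} f i, …, ∑_{i∈I} f i)`.
-/

namespace Groth.Agent.Lib.Helper22.Polar
open Finset

variable {n : ℕ}

lemma count_supersets (J : Finset (Fin n)) :
    ∑ I ∈ (univ : Finset (Finset (Fin n))).filter (fun I => J ⊆ I),
      ((-1 : ℤ) ^ n * (-1) ^ I.card) = if J = univ then 1 else 0 := by
  classical
  have h1 : ∑ I ∈ (univ : Finset (Finset (Fin n))).filter (fun I => J ⊆ I),
      ((-1 : ℤ) ^ n * (-1) ^ I.card) =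
      ∑ K ∈ Jᶜ.powerset, ((-1 : ℤ) ^ n * (-1) ^ J.card * (-1) ^ K.card) := by
    refine Finset.sum_nbij' (fun I => I \ J) (fun K => J ∪ K) ?_ ?_ ?_ ?_ ?_
    · intro I _
      simp only [mem_powerset]
      intro x hx
      simp only [mem_sdiff] at hx
      simp [hx.2]
    · intro K _
      simp
    · intro I hI
      simp only [mem_filter, mem_univ, true_and] at hI
      exact Finset.union_sdiff_of_subset hI
    · intro K hK
      simp only [mem_powerset] at hK
      apply Finset.union_sdiff_cancel_left
      refine Finset.disjoint_left.2 fun x hxJ hxK => ?_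
      have := hK hxK
      simp only [mem_compl] at this
      exact this hxJ
    · intro I hI
      simp only [mem_filter, mem_univ, true_and] at hI
      have := Finset.card_sdiff_add_card_eq_card hI
      rw [← this, pow_add]; ring
  rw [h1, ← Finset.mul_sum, Finset.sum_powerset_neg_one_pow_card]
  by_cases hJ : J = univ
  · subst hJ
    have h2 : ((-1 : ℤ) ^ n * (-1) ^ n) = 1 := by rw [← mul_pow]; simp
    simp [h2]
  · have : Jᶜ ≠ ∅ := by rwa [Ne, Finset.compl_eq_empty_iff]
    simp [hJ, this]

theorem polarization {A M N : Type*} [CommRing A] [AddCommGroup M] [Module A M] [AddCommGroup N]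
    [Module A N] (μ : MultilinearMap A (fun _ : Fin n => M) N) (f : Fin n → M) :
    ∑ σ : Equiv.Perm (Fin n), μ (fun j => f (σ j)) =
      ∑ I : Finset (Fin n), ((-1 : ℤ) ^ n * (-1) ^ I.card) • μ (fun _ => ∑ i ∈ I, f i) := by
  classical
  have hexp : ∀ I : Finset (Fin n), μ (fun _ => ∑ i ∈ I, f i) =
      ∑ r ∈ Fintype.piFinset (fun _ : Fin n => I), μ (fun j => f (r j)) := by
    intro I
    exact μ.map_sum_finset (fun _ i => f i) (fun _ => I)
  have hR : ∑ I : Finset (Fin n), ((-1 : ℤ) ^ n * (-1) ^ I.card) • μ (fun _ => ∑ i ∈ I, f i) =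
      ∑ r : Fin n → Fin n, (if univ.image r = univ then (1 : ℤ) else 0) • μ (fun j => f (r j)) := by
    calc ∑ I : Finset (Fin n), ((-1 : ℤ) ^ n * (-1) ^ I.card) • μ (fun _ => ∑ i ∈ I, f i)
        = ∑ I ∈ (univ : Finset (Finset (Fin n))), ∑ r ∈ Fintype.piFinset (fun _ : Fin n => I),
            ((-1 : ℤ) ^ n * (-1) ^ I.card) • μ (fun j => f (r j)) := by
          refine Finset.sum_congr rfl fun I _ => ?_
          rw [hexp, Finset.smul_sum]
      _ = ∑ r ∈ (univ : Finset (Fin n → Fin n)),
            ∑ I ∈ (univ : Finset (Finset (Fin n))).filter (fun I => univ.image r ⊆ I),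
            ((-1 : ℤ) ^ n * (-1) ^ I.card) • μ (fun j => f (r j)) := by
          refine Finset.sum_comm' ?_
          intro I r
          simp only [mem_univ, true_and, and_true, Fintype.mem_piFinset, mem_filter,
            Finset.image_subset_iff, forall_true_left]
      _ = ∑ r : Fin n → Fin n,
            (if univ.image r = univ then (1 : ℤ) else 0) • μ (fun j => f (r j)) := by
          refine Finset.sum_congr rfl fun r _ => ?_
          rw [← Finset.sum_smul, count_supersets]
  rw [hR]
  have hL : ∑ r : Fin n → Fin n,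
      (if univ.image r = univ then (1 : ℤ) else 0) • μ (fun j => f (r j)) =
      ∑ r ∈ (univ : Finset (Fin n → Fin n)).filter (fun r => univ.image r = univ),
        μ (fun j => f (r j)) := by
    rw [Finset.sum_filter]
    refine Finset.sum_congr rfl fun r _ => ?_
    split_ifs <;> simp
  rw [hL]
  refine Finset.sum_bij (fun σ _ => (σ : Fin n → Fin n)) ?_ ?_ ?_ ?_
  · intro σ _
    simp only [mem_filter, mem_univ, true_and]
    exact Finset.image_univ_of_surjective σ.surjective
  · intro σ _ τ _ h
    exact Equiv.coe_fn_injective h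
  · intro r hr
    simp only [mem_filter, mem_univ, true_and] at hr
    have hsurj : Function.Surjective r := by
      intro y
      have : y ∈ univ.image r := by rw [hr]; exact mem_univ y
      obtain ⟨x, _, hx⟩ := Finset.mem_image.1 this
      exact ⟨x, hx⟩
    have hbij : Function.Bijective r := ⟨Finite.injective_iff_surjective.2 hsurj, hsurj⟩
    exact ⟨Equiv.ofBijective r hbij, mem_univ _, rfl⟩
  · intro σ _
    rfl

end Groth.Agent.Lib.Helper22.Polar
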