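import Groth.Prelude.Def_DeRham
import Groth.Agent.Lib.Helper22.DeRhamGen
import Groth.Agent.Lib.Helper22.LieDer
import Groth.Agent.S15293
import Groth.Agent.S15294
import Mathlib

/-! De Rham complex of a polynomial ring `A[X]` over `R`: Euler field and monomial generators. -/

set_option autoImplicit false
universe u

open exteriorPower Polynomial

namespace Groth.Agent.Lib.helper22.PolyDR

variable (R A : Type u) [CommRing R] [CommRing A] [Algebra R A]

/-- Euler derivation `X d/dX` on `A[X]` over `R`. -/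
noncomputable def eulerDer : Derivation R A[X] A[X] :=
  (X : A[X]) • (Polynomial.derivative' (R := A)).restrictScalars R

/-- The linear form on Kähler differentials of `A[X]` over `R` given by the Euler derivation. -/
noncomputable def eulerForm : Ω[A[X]⁄R] →ₗ[A[X]] A[X] := (eulerDer R A).liftKaehlerDifferential

theorem eulerForm_D_monomial (n : ℕ) (a : A) :
    eulerForm R A (KaehlerDifferential.D R A[X] (monomial n a)) = n • monomial n a := by
  unfold eulerForm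
  rw [Derivation.liftKaehlerDifferential_comp_D]
  change (X : A[X]) • Polynomial.derivative (monomial n a) = _
  rw [derivative_monomial, smul_eq_mul]
  rcases Nat.eq_zero_or_pos n with h | h
  · subst h; simp
  · rw [X_mul_monomial, Nat.sub_add_cancel h, ← map_nsmul, nsmul_eq_mul, mul_comm]

theorem mono_gen_induction (p : ℕ) {motive : ↥(⋀[A[X]]^p (Ω[A[X]⁄R])) → Prop} (zero : motive 0)
    (add : ∀ x y, motive x → motive y → motive (x + y))
    (gen : ∀ (n₀ : ℕ) (a₀ : A) (n : Fin p → ℕ) (a : Fin p → A),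
      motive (DeRham.gen (KaehlerDifferential.D R A[X]) p (monomial n₀ a₀)
        (fun i => monomial (n i) (a i))))
    (x : ↥(⋀[A[X]]^p (Ω[A[X]⁄R]))) : motive x := by
  classical
  have hsum : ∀ {ι : Type} (s : Finset ι) (f : ι → ↥(⋀[A[X]]^p (Ω[A[X]⁄R]))),
      (∀ i ∈ s, motive (f i)) → motive (∑ i ∈ s, f i) := fun s f h =>
    Finset.sum_induction f motive add zero h
  induction x using Groth.Agent.Lib.helper22.DeRhamGen.kaehler_gen_induction with
  | zero => exact zero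
  | add x y hx hy => exact add x y hx hy
  | gen b₀ b =>
    unfold DeRham.gen
    have h1 : (fun i => KaehlerDifferential.D R A[X] (b i)) =
        fun i => ∑ j ∈ (b i).support, KaehlerDifferential.D R A[X] (monomial j ((b i).coeff j)) := by
      funext i
      conv_lhs => rw [as_sum_support (b i)]
      rw [map_sum]
    have h2 := (ιMulti A[X] p (M := Ω[A[X]⁄R])).toMultilinearMap.map_sum_finset
      (fun i j => KaehlerDifferential.D R A[X] (monomial j ((b i).coeff j)))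
      (fun i => (b i).support)
    rw [AlternatingMap.coe_multilinearMap] at h2
    rw [h1, h2]
    have hb₀ := as_sum_support b₀
    generalize b₀.support = s₀ at hb₀
    generalize b₀.coeff = c₀ at hb₀
    rw [hb₀, Finset.sum_smul]
    refine hsum _ _ fun m _ => ?_
    rw [Finset.smul_sum]
    refine hsum _ _ fun r _ => ?_
    exact gen m (c₀ m) r (fun i => (b i).coeff (r i))

variable {R A}

open Groth.Agent.Lib.helper22.LieDer

theorem split_of_eigen [Algebra ℚ R] {q : ℕ}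
    (L : ↥(⋀[A[X]]^q (Ω[A[X]⁄R])) →ₗ[R] ↥(⋀[A[X]]^q (Ω[A[X]⁄R])))
    (hL : ∀ (n₀ : ℕ) (a₀ : A) (n : Fin q → ℕ) (a : Fin q → A),
      L (DeRham.gen (KaehlerDifferential.D R A[X]) q (monomial n₀ a₀)
        (fun i => monomial (n i) (a i))) =
      (n₀ + ∑ j, n j) • DeRham.gen (KaehlerDifferential.D R A[X]) q (monomial n₀ a₀)
        (fun i => monomial (n i) (a i)))
    (K E : Submodule R ↥(⋀[A[X]]^q (Ω[A[X]⁄R]))) (hK : ∀ y ∈ K, L y ∈ K)
    (hE : ∀ y ∈ K, L y ∈ E)
    (ψq : ↥(⋀[A]^q (Ω[A⁄R])) →+ ↥(⋀[A[X]]^q (Ω[A[X]⁄R])))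
    (hψq : ∀ (a₀ : A) (a : Fin q → A), ψq (DeRham.gen (KaehlerDifferential.D R A) q a₀ a) =
      DeRham.gen (KaehlerDifferential.D R A[X]) q (algebraMap A A[X] a₀)
        (fun i => algebraMap A A[X] (a i)))
    (y : ↥(⋀[A[X]]^q (Ω[A[X]⁄R]))) (hy : y ∈ K) :
    ∃ x, y - ψq x ∈ E ∧ ψq x ∈ K := by
  have step1 : ∀ z : ↥(⋀[A[X]]^q (Ω[A[X]⁄R])), ∃ M₀ : ℕ, ∀ M, M₀ ≤ M → Pop L M z ∈ ψq.range := by
    intro z
    induction z using mono_gen_induction with
    | zero => exact ⟨0, fun M _ => by rw [map_zero]; exact zero_mem _⟩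
    | add x y hx hy =>
      obtain ⟨M₁, h1⟩ := hx
      obtain ⟨M₂, h2⟩ := hy
      refine ⟨max M₁ M₂, fun M hM => ?_⟩
      rw [map_add]
      exact add_mem (h1 M (le_trans (le_max_left _ _) hM)) (h2 M (le_trans (le_max_right _ _) hM))
    | gen n₀ a₀ n a =>
      refine ⟨n₀ + ∑ j, n j, fun M hM => ?_⟩
      obtain ⟨c, hc, hc0, hc1⟩ := Pop_eigen L _ (n₀ + ∑ j, n j) (hL n₀ a₀ n a) M
      rw [hc]
      by_cases hN : n₀ + ∑ j, n j = 0
      · rw [hc0 hN, one_smul]
        have h0 : n₀ = 0 := by omega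
        have hn : ∀ j, n j = 0 := by
          intro j
          have : ∑ j, n j = 0 := by omega
          exact (Finset.sum_eq_zero_iff.mp this) j (Finset.mem_univ j)
        refine ⟨DeRham.gen (KaehlerDifferential.D R A) q a₀ a, ?_⟩
        rw [hψq, h0]
        simp only [hn, monomial_zero_left, Polynomial.algebraMap_apply, Algebra.algebraMap_self,
          RingHom.id_apply]
      · rw [hc1 (Nat.one_le_iff_ne_zero.mpr hN) hM, zero_smul]
        exact zero_mem _
  obtain ⟨M₀, hM₀⟩ := step1 y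
  obtain ⟨x, hx⟩ := hM₀ M₀ le_rfl
  obtain ⟨h1, h2⟩ := Pop_mem L K E hK hE M₀ y hy
  exact ⟨x, by rw [hx]; exact h2, by rw [hx]; exact h1⟩

theorem exists_retraction
    (d : ∀ p : ℕ, ↥(⋀[A]^p (Ω[A⁄R])) →ₗ[R] ↥(⋀[A]^(p + 1) (Ω[A⁄R])))
    (hd : DeRham.IsDiff (KaehlerDifferential.D R A) d)
    (d' : ∀ p : ℕ, ↥(⋀[A[X]]^p (Ω[A[X]⁄R])) →ₗ[R] ↥(⋀[A[X]]^(p + 1) (Ω[A[X]⁄R])))
    (hd' : DeRham.IsDiff (KaehlerDifferential.D R A[X]) d') :
    ∃ ψ₀ : ∀ p : ℕ, ↥(⋀[A[X]]^p (Ω[A[X]⁄R])) →+ ↥(⋀[A]^p (Ω[A⁄R])),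
      (∀ (p : ℕ) (b₀ : A[X]) (b : Fin p → A[X]),
        ψ₀ p (DeRham.gen (KaehlerDifferential.D R A[X]) p b₀ b) =
          DeRham.gen (KaehlerDifferential.D R A) p (b₀.eval 0) (fun i => (b i).eval 0)) ∧
      (∀ (p : ℕ) (x : ↥(⋀[A[X]]^p (Ω[A[X]⁄R]))), ψ₀ (p + 1) (d' p x) = d p (ψ₀ p x)) := by
  let _ : Algebra A[X] A := (Polynomial.evalRingHom (0 : A)).toAlgebra
  have : IsScalarTower R A[X] A := IsScalarTower.of_algebraMap_eq fun r => by
    rw [RingHom.algebraMap_toAlgebra]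
    simp [Polynomial.algebraMap_apply]
  obtain ⟨ψ₀, hψ₀⟩ := Groth.Agent.S15293.result R R A[X] A
  refine ⟨ψ₀, fun p b₀ b => hψ₀ p b₀ b, fun p x => ?_⟩
  exact Groth.Agent.S15294.result R R A[X] A d' hd' d hd ψ₀ hψ₀ p x

theorem main [Algebra ℚ R]
    (d : ∀ p : ℕ, ↥(⋀[A]^p (Ω[A⁄R])) →ₗ[R] ↥(⋀[A]^(p + 1) (Ω[A⁄R])))
    (hd : DeRham.IsDiff (KaehlerDifferential.D R A) d)
    (d' : ∀ p : ℕ, ↥(⋀[A[X]]^p (Ω[A[X]⁄R])) →ₗ[R] ↥(⋀[A[X]]^(p + 1) (Ω[A[X]⁄R])))
    (hd' : DeRham.IsDiff (KaehlerDifferential.D R A[X]) d')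
    (ψ : ∀ p : ℕ, ↥(⋀[A]^p (Ω[A⁄R])) →+ ↥(⋀[A[X]]^p (Ω[A[X]⁄R])))
    (hψ : DeRham.IsCxMap (KaehlerDifferential.D R A) (KaehlerDifferential.D R A[X])
      (algebraMap A A[X]) ψ)
    (hcomm : ∀ (p : ℕ) (x : ↥(⋀[A]^p (Ω[A⁄R]))), ψ (p + 1) (d p x) = d' p (ψ p x)) (i : ℕ) :
    (∀ y ∈ DeRham.cocycles d' i, ∃ x ∈ DeRham.cocycles d i,
        y - ψ i x ∈ DeRham.coboundaries d' i) ∧
      (∀ x ∈ DeRham.cocycles d i, ψ i x ∈ DeRham.coboundaries d' i →
        x ∈ DeRham.coboundaries d i) := by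
  obtain ⟨ψ₀, hψ₀, hψ₀d⟩ := exists_retraction d hd d' hd'
  -- retraction identity
  have hret : ∀ (p : ℕ) (x : ↥(⋀[A]^p (Ω[A⁄R]))), ψ₀ p (ψ p x) = x := by
    intro p x
    induction x using Groth.Agent.Lib.helper22.DeRhamGen.kaehler_gen_induction with
    | zero => simp
    | add x y hx hy => rw [map_add, map_add, hx, hy]
    | gen b₀ b =>
      rw [hψ p b₀ b, hψ₀]
      simp
  have hinj : ∀ p : ℕ, Function.Injective (ψ p) := fun p =>
    Function.LeftInverse.injective (hret p)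
  -- the contraction
  let c : ∀ q : ℕ, ↥(⋀[A[X]]^(q + 1) (Ω[A[X]⁄R])) →ₗ[R] ↥(⋀[A[X]]^q (Ω[A[X]⁄R])) := fun q =>
    (contr (eulerForm R A) q).restrictScalars R
  have hc : ∀ q x, c q x = contr (eulerForm R A) q x := fun q x => rfl
  -- first claim
  have claim1 : ∀ y ∈ DeRham.cocycles d' i, ∃ x, y - ψ i x ∈ DeRham.coboundaries d' i ∧
      ψ i x ∈ DeRham.cocycles d' i := by
    intro y hy
    cases i with
    | zero =>
      refine split_of_eigen (c 0 ∘ₗ d' 0) ?_ (DeRham.cocycles d' 0) (DeRham.coboundaries d' 0)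
        ?_ ?_ (ψ 0) (hψ 0) y hy
      · intro n₀ a₀ n a
        rw [LinearMap.comp_apply, hc, lie_gen_zero _ d' hd'.1 (eulerForm R A) _ _ n₀
          (eulerForm_D_monomial R A n₀ a₀)]
        simp
      · intro z hz
        have hz' : d' 0 z = 0 := hz
        rw [LinearMap.comp_apply, hz', map_zero]
        exact zero_mem _
      · intro z hz
        have hz' : d' 0 z = 0 := hz
        rw [LinearMap.comp_apply, hz', map_zero]
        exact zero_mem _
    | succ q =>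
      refine split_of_eigen (d' q ∘ₗ c q + c (q + 1) ∘ₗ d' (q + 1)) ?_ (DeRham.cocycles d' (q + 1))
        (DeRham.coboundaries d' (q + 1)) ?_ ?_ (ψ (q + 1)) (hψ (q + 1)) y hy
      · intro n₀ a₀ n a
        rw [LinearMap.add_apply, LinearMap.comp_apply, LinearMap.comp_apply, hc, hc]
        exact lie_gen_succ _ d' hd'.1 (eulerForm R A) q _ _ n₀ n (eulerForm_D_monomial R A n₀ a₀)
          (fun j => eulerForm_D_monomial R A (n j) (a j))
      · intro z hz
        have hz' : d' (q + 1) z = 0 := hz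
        rw [LinearMap.add_apply, LinearMap.comp_apply, LinearMap.comp_apply, hz', map_zero,
          add_zero]
        change d' (q + 1) (d' q (c q z)) = 0
        exact LinearMap.congr_fun (hd'.2 q) (c q z)
      · intro z hz
        have hz' : d' (q + 1) z = 0 := hz
        rw [LinearMap.add_apply, LinearMap.comp_apply, LinearMap.comp_apply, hz', map_zero,
          add_zero]
        exact ⟨_, rfl⟩
  refine ⟨fun y hy => ?_, fun x hx hex => ?_⟩
  · obtain ⟨x, hx1, hx2⟩ := claim1 y hy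
    refine ⟨x, ?_, hx1⟩
    change d i x = 0
    apply hinj (i + 1)
    rw [hcomm, map_zero]
    exact hx2
  · cases i with
    | zero =>
      have h0 : ψ 0 x = 0 := hex
      have : x = 0 := hinj 0 (by rw [h0, map_zero])
      rw [this]
      exact zero_mem _
    | succ q =>
      obtain ⟨z, hz⟩ := hex
      refine ⟨ψ₀ q z, ?_⟩
      rw [← hψ₀d, hz, hret]

end Groth.Agent.Lib.helper22.PolyDR
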