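import Groth.Agent.Lib.Helper22.PopA

set_option autoImplicit false
universe u

namespace Groth.Agent.Lib.Helper22.Pop

open MvPolynomial

section construction

variable {R : Type u} [CommRing R] (π : R) {n m c : ℕ} (hcm : c ≤ m)
  (f : Fin m → MvPolynomial (Fin n) R) (r : Fin n → R) (S : Matrix (Fin n) (Fin c) R) (u : R)

/-- the polynomial ring in the variables `v_k` (`k < c`) and `w_i` (`i < n`). -/
abbrev QQ (R : Type u) [CommRing R] (c n : ℕ) := MvPolynomial (Fin (c + n)) R

/-- the variable `v_k` -/
noncomputable def vv (R : Type u) [CommRing R] {c : ℕ} (n : ℕ) (k : Fin c) : QQ R c n :=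
  X (Fin.castAdd n k)
/-- the variable `w_i` -/
noncomputable def ww (R : Type u) [CommRing R] (c : ℕ) {n : ℕ} (i : Fin n) : QQ R c n :=
  X (Fin.natAdd c i)

/-- `y_i = ∑_k S_{ik} v_k + π w_i` -/
noncomputable def yy (i : Fin n) : QQ R c n :=
  ∑ k, C (S i k) * vv R n k + C π * ww R c i

/-- the substitution `x_i ↦ r_i + π² y_i` -/
noncomputable def sub (i : Fin n) : QQ R c n := C (r i) + C (π ^ 2) * yy π S i

/-- the substitution homomorphism `σ` -/
noncomputable def sig : MvPolynomial (Fin n) R →ₐ[R] QQ R c n := aeval (sub π r S)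

/-- the partial derivatives of the relations at the point `r` -/
noncomputable def rr (j : Fin m) (i : Fin n) : R := eval r (pderiv i (f j))

omit [CommRing R] in
theorem aeval_C_comp {R : Type u} [CommRing R] {n : ℕ} {Q : Type*} [CommRing Q] [Algebra R Q]
    (r : Fin n → R) (p : MvPolynomial (Fin n) R) :
    aeval (fun i => algebraMap R Q (r i)) p = algebraMap R Q (eval r p) := by
  have : (aeval (fun i => algebraMap R Q (r i)) : MvPolynomial (Fin n) R →ₐ[R] Q) =
      (Algebra.ofId R Q).comp (aeval r) := by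
    apply MvPolynomial.algHom_ext
    intro i
    simp [Algebra.ofId_apply]
  rw [this, AlgHom.comp_apply, Algebra.ofId_apply]
  congr 1

theorem exists_taylor (j : Fin m) : ∃ z : QQ R c n,
    sig π r S (f j) = C (eval r (f j)) +
      C (π ^ 2) * ∑ i, C (rr f r j i) * yy π S i + C (π ^ 4) * z := by
  obtain ⟨z, hz⟩ := taylor2 (fun i => (C (r i) : QQ R c n)) (yy π S) (C (π ^ 2)) (f j)
  refine ⟨z, ?_⟩
  have h1 : ∀ p : MvPolynomial (Fin n) R,
      aeval (fun i => (C (r i) : QQ R c n)) p = C (eval r p) := fun p =>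
    aeval_C_comp (Q := QQ R c n) r p
  have h0 : sig π r S (f j) =
      aeval (fun i => (fun i => (C (r i) : QQ R c n)) i + C (π ^ 2) * yy π S i) (f j) := rfl
  rw [h0, hz, h1]
  simp only [h1, rr]
  rw [← map_pow, ← pow_mul]

/-- a choice of Taylor remainder -/
noncomputable def zz (j : Fin m) : QQ R c n := (exists_taylor π f r S j).choose

theorem sig_eq (j : Fin m) : sig π r S (f j) = C (eval r (f j)) +
      C (π ^ 2) * ∑ i, C (rr f r j i) * yy π S i + C (π ^ 4) * zz π f r S j :=
  (exists_taylor π f r S j).choose_spec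

variable (ρ' : Fin m → R)

/-- the new relations `g_j` -/
noncomputable def gg (j : Fin c) : QQ R c n :=
  C u * vv R n j + ∑ i, C (rr f r (Fin.castLE hcm j) i) * ww R c i +
    C π * (C (ρ' (Fin.castLE hcm j)) + zz π f r S (Fin.castLE hcm j))

theorem sig_eq_mul_gg (hρ' : ∀ j, eval r (f j) = π ^ 4 * ρ' j)
    (hS : ∀ j k : Fin c, ∑ i, rr f r (Fin.castLE hcm j) i * S i k = if j = k then u * π else 0)
    (j : Fin c) :
    sig π r S (f (Fin.castLE hcm j)) = C (π ^ 3) * gg π hcm f r S u ρ' j := by
  rw [sig_eq, hρ', gg]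
  have h1 : ∑ i, C (rr f r (Fin.castLE hcm j) i) * yy π S i =
      C (u * π) * vv R n j + C π * ∑ i, C (rr f r (Fin.castLE hcm j) i) * ww R c i := by
    simp only [yy, mul_add, Finset.sum_add_distrib, Finset.mul_sum]
    congr 1
    · rw [Finset.sum_comm]
      have : ∀ k : Fin c, ∑ i, C (rr f r (Fin.castLE hcm j) i) * (C (S i k) * vv R n k) =
          C (if j = k then u * π else 0) * vv R n k := by
        intro k
        rw [← hS j k, map_sum, Finset.sum_mul]
        exact Finset.sum_congr rfl fun i _ => by rw [map_mul]; ring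
      simp_rw [this]
      rw [Finset.sum_eq_single j]
      · simp
      · intro k _ hk; simp [Ne.symm hk]
      · intro h; exact absurd (Finset.mem_univ j) h
    · exact Finset.sum_congr rfl fun i _ => by ring
  rw [h1]
  simp only [map_mul, map_pow]
  ring

end construction

end Groth.Agent.Lib.Helper22.Pop
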