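import Groth.Agent.Lib.Helper22.PopB
import Groth.Agent.S2030

set_option autoImplicit false
universe u

namespace Groth.Agent.Lib.Helper22.Pop

open MvPolynomial

section

variable {R : Type u} [CommRing R] (π : R) {n m c : ℕ} (hcm : c ≤ m)
  (f : Fin m → MvPolynomial (Fin n) R) (r : Fin n → R) (S : Matrix (Fin n) (Fin c) R)

theorem pderiv_natAdd_sub (i i' : Fin n) :
    pderiv (Fin.natAdd c i) (sub π r S i') = if i = i' then C (π ^ 3) else 0 := by
  classical
  have h1 : ∀ k : Fin c, pderiv (Fin.natAdd c i) (vv R n k) = 0 := by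
    intro k
    rw [vv, pderiv_X, Pi.single_eq_of_ne]
    intro h
    have := congrArg Fin.val h
    simp at this
    omega
  have h2 : pderiv (Fin.natAdd c i) (ww R c i') = if i = i' then 1 else 0 := by
    rw [ww, pderiv_X]
    by_cases h : i = i'
    · subst h; simp
    · rw [if_neg h, Pi.single_eq_of_ne]
      intro h'
      exact h (Fin.natAdd_injective _ _ h').symm
  simp only [sub, yy, map_add, pderiv_C, zero_add, pderiv_C_mul, map_sum, h1, mul_zero,
    Finset.sum_const_zero, h2]
  by_cases h : i = i'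
  · simp [h]; ring_nf
  · simp [h]

theorem pderiv_natAdd_sig (i : Fin n) (p : MvPolynomial (Fin n) R) :
    pderiv (Fin.natAdd c i) (sig π r S p) = C (π ^ 3) * sig π r S (pderiv i p) := by
  classical
  rw [sig, pderiv_aeval]
  simp_rw [pderiv_natAdd_sub]
  simp [Finset.sum_ite_eq, mul_comm]

theorem jacobianMinor_sig (rows : Fin c → Fin m) (cols : Fin c → Fin n) :
    Smoothing.jacobianMinor (fun j => sig π r S (f j)) rows (fun k => Fin.natAdd c (cols k)) =
      C (π ^ (3 * c)) * sig π r S (Smoothing.jacobianMinor f rows cols) := by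
  classical
  unfold Smoothing.jacobianMinor
  have h1 : (Matrix.of fun j k : Fin c =>
      pderiv (Fin.natAdd c (cols k)) (sig π r S (f (rows j)))) =
      (C (π ^ 3) : QQ R c n) • ((sig π r S).toRingHom.mapMatrix
        (Matrix.of fun j k : Fin c => pderiv (cols k) (f (rows j)))) := by
    ext j k
    simp [pderiv_natAdd_sig]
  rw [h1, Matrix.det_smul, ← RingHom.map_det, Fintype.card_fin, ← map_pow, ← pow_mul]
  rfl

theorem sig_mem_span {p : MvPolynomial (Fin n) R} (hp : p ∈ Ideal.span (Set.range f)) :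
    sig π r S p ∈ Ideal.span (Set.range fun j => sig π r S (f j)) := by
  have h := Ideal.mem_map_of_mem (sig π r S).toRingHom hp
  rw [Ideal.map_span, ← Set.range_comp] at h
  exact h

theorem sig_mem_span_sq {p : MvPolynomial (Fin n) R} (hp : p ∈ Ideal.span (Set.range f) ^ 2) :
    sig π r S p ∈ Ideal.span (Set.range fun j => sig π r S (f j)) ^ 2 := by
  have h := Ideal.mem_map_of_mem (sig π r S).toRingHom hp
  rw [Ideal.map_pow, Ideal.map_span, ← Set.range_comp] at h
  exact h

theorem sig_mem_span_image {p : MvPolynomial (Fin n) R}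
    (hp : p ∈ Ideal.span (f '' {j' : Fin m | (j' : ℕ) < c})) :
    sig π r S p ∈ Ideal.span ((fun j => sig π r S (f j)) '' {j' : Fin m | (j' : ℕ) < c}) := by
  have h := Ideal.mem_map_of_mem (sig π r S).toRingHom hp
  rw [Ideal.map_span, ← Set.image_comp] at h
  exact h

/-- the ideal `J''` generated by the substituted relations. -/
noncomputable def Jpp : Ideal (QQ R c n) := Ideal.span (Set.range fun j => sig π r S (f j))

/-- the marked presentation of `B'' = Q ⧸ J''`. -/
noncomputable def markedPP (hcm : c ≤ m) : Smoothing.MarkedPresentation R (QQ R c n ⧸ Jpp π f r S) where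
  n := c + n
  m := m
  c := c
  hcn := Nat.le_add_right c n
  hcm := hcm
  rel := fun j => sig π r S (f j)
  hom := Ideal.Quotient.mkₐ R (Jpp π f r S)
  surj := Ideal.Quotient.mkₐ_surjective R _
  ker_eq := by
    ext x
    rw [RingHom.mem_ker]
    exact Ideal.Quotient.eq_zero_iff_mem

theorem isStrictlyStandard_pp
    (a : (Fin c → Fin n) → MvPolynomial (Fin n) R)
    (H1 : C π - ∑ cols, a cols * Smoothing.jacobianMinor f (Fin.castLE hcm) cols ∈
      Ideal.span (Set.range f))
    (H2 : ∀ j : Fin m, c ≤ (j : ℕ) → C π * f j ∈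
      Ideal.span (f '' {j' : Fin m | (j' : ℕ) < c}) ⊔ Ideal.span (Set.range f) ^ 2) :
    Smoothing.IsStrictlyStandard R (QQ R c n ⧸ Jpp π f r S)
      (algebraMap R (QQ R c n ⧸ Jpp π f r S) (π ^ (3 * c + 1))) := by
  classical
  refine ⟨markedPP π f r S hcm, ?_, ?_⟩
  · -- membership in the span of the minors
    have h1 := sig_mem_span π f r S H1
    have h2 : Ideal.Quotient.mk (Jpp π f r S) (sig π r S
        (C π - ∑ cols, a cols * Smoothing.jacobianMinor f (Fin.castLE hcm) cols)) = 0 :=
      Ideal.Quotient.eq_zero_iff_mem.mpr h1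
    rw [map_sub, map_sub, map_sum, map_sum, sub_eq_zero] at h2
    have h3 : sig π r S (C π) = C π := by
      rw [sig, aeval_C]; rfl
    rw [h3] at h2
    have h4 : algebraMap R (QQ R c n ⧸ Jpp π f r S) (π ^ (3 * c + 1)) =
        ∑ cols : Fin c → Fin n, Ideal.Quotient.mk (Jpp π f r S) (sig π r S (a cols)) *
          Ideal.Quotient.mk (Jpp π f r S) (Smoothing.jacobianMinor (fun j => sig π r S (f j))
            (Fin.castLE hcm) (fun k => Fin.natAdd c (cols k))) := by
      have h5 : algebraMap R (QQ R c n ⧸ Jpp π f r S) (π ^ (3 * c + 1)) =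
          Ideal.Quotient.mk (Jpp π f r S) (C (π ^ (3 * c))) *
            Ideal.Quotient.mk (Jpp π f r S) (C π) := by
        rw [← map_mul, ← map_mul, ← pow_succ]; rfl
      rw [h5, h2, Finset.mul_sum]
      refine Finset.sum_congr rfl fun cols _ => ?_
      rw [jacobianMinor_sig, map_mul, map_mul, map_mul]
      ring
    rw [h4]
    refine Ideal.sum_mem _ fun cols _ => Ideal.mul_mem_left _ _ (Ideal.subset_span ?_)
    exact ⟨fun k => Fin.natAdd c (cols k), rfl⟩
  · -- kills tail
    intro (a' : QQ R c n) (ha' : Ideal.Quotient.mk (Jpp π f r S) a' = _) (j : Fin m)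
      (hj : c ≤ (j : ℕ))
    change a' * sig π r S (f j) ∈ _
    have hmk : Ideal.Quotient.mk (Jpp π f r S) (a' - C (π ^ (3 * c + 1))) = 0 := by
      rw [map_sub, sub_eq_zero]
      exact ha'
    have hmem : a' - C (π ^ (3 * c + 1)) ∈ Jpp π f r S := Ideal.Quotient.eq_zero_iff_mem.mp hmk
    have hdecomp : a' * sig π r S (f j) = (a' - C (π ^ (3 * c + 1))) * sig π r S (f j) +
        C (π ^ (3 * c)) * sig π r S (C π * f j) := by
      rw [map_mul, show sig π r S (C π) = C π from by rw [sig, aeval_C]; rfl, pow_succ, map_mul]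
      ring
    rw [hdecomp]
    refine Ideal.add_mem _ (Ideal.mem_sup_right ?_) (Ideal.mul_mem_left _ _ ?_)
    · rw [sq]
      exact Ideal.mul_mem_mul hmem (Ideal.subset_span ⟨j, rfl⟩)
    · obtain ⟨y, hy, z, hz, hyz⟩ := Submodule.mem_sup.mp (H2 j hj)
      rw [← hyz, map_add]
      exact Ideal.add_mem _ (Ideal.mem_sup_left (sig_mem_span_image π f r S hy))
        (Ideal.mem_sup_right (sig_mem_span_sq π f r S hz))

theorem isSmoothAt_pp
    (a : (Fin c → Fin n) → MvPolynomial (Fin n) R)
    (H1 : C π - ∑ cols, a cols * Smoothing.jacobianMinor f (Fin.castLE hcm) cols ∈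
      Ideal.span (Set.range f))
    (H2 : ∀ j : Fin m, c ≤ (j : ℕ) → C π * f j ∈
      Ideal.span (f '' {j' : Fin m | (j' : ℕ) < c}) ⊔ Ideal.span (Set.range f) ^ 2)
    (q : Ideal (QQ R c n ⧸ Jpp π f r S)) [q.IsPrime]
    (hq : algebraMap R (QQ R c n ⧸ Jpp π f r S) π ∉ q) : Algebra.IsSmoothAt R q := by
  have hfp : Algebra.FinitePresentation R (QQ R c n ⧸ Jpp π f r S) :=
    Algebra.FinitePresentation.quotient ((Submodule.fg_span (Set.finite_range _)))
  have hsm := (Groth.Agent.S2030.main _ (isStrictlyStandard_pp π hcm f r S a H1 H2)).1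
  have hsub := Algebra.basicOpen_subset_smoothLocus_iff_smooth.mpr hsm
  have hmem : (⟨q, inferInstance⟩ : PrimeSpectrum (QQ R c n ⧸ Jpp π f r S)) ∈
      (PrimeSpectrum.basicOpen (algebraMap R (QQ R c n ⧸ Jpp π f r S) (π ^ (3 * c + 1))) :
        Set (PrimeSpectrum _)) := by
    rw [SetLike.mem_coe, PrimeSpectrum.mem_basicOpen, map_pow]
    exact fun h => hq (Ideal.IsPrime.mem_of_pow_mem inferInstance _ h)
  exact hsub hmem

end

end Groth.Agent.Lib.Helper22.Pop
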