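import Groth.Agent.Lib.Helper22.PopC

set_option autoImplicit false
universe u

namespace Groth.Agent.Lib.Helper22.Pop

open MvPolynomial

section

variable {R : Type u} [CommRing R] (π : R) {n m c : ℕ} (hcm : c ≤ m)
  (f : Fin m → MvPolynomial (Fin n) R) (r : Fin n → R) (S : Matrix (Fin n) (Fin c) R) (u : R)
  (ρ' : Fin m → R)

/-- the ideal `J'` generated by the `g_j`. -/
noncomputable abbrev Jp : Ideal (QQ R c n) := Ideal.span (Set.range (gg π hcm f r S u ρ'))

/-- the Jacobian determinant of the `g_j` with respect to the `v_k`. -/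
noncomputable def DeltaV : QQ R c n :=
  Matrix.det (Matrix.of fun j k : Fin c => pderiv (Fin.castAdd n k) (gg π hcm f r S u ρ' j))

theorem pderiv_castAdd_gg (j k : Fin c) :
    ∃ y : QQ R c n, pderiv (Fin.castAdd n k) (gg π hcm f r S u ρ' j) =
      (if j = k then C u else 0) + C π * y := by
  classical
  have h1 : pderiv (Fin.castAdd n k) (vv R n j) = if j = k then 1 else 0 := by
    rw [vv, pderiv_X]
    by_cases h : j = k
    · subst h; simp
    · rw [if_neg h, Pi.single_eq_of_ne]
      intro h'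
      exact h (Fin.castAdd_injective _ _ h')
  have h2 : ∀ i : Fin n, pderiv (Fin.castAdd n k) (ww R c i) = 0 := by
    intro i
    rw [ww, pderiv_X, Pi.single_eq_of_ne]
    intro h
    have := congrArg Fin.val h
    simp at this
    omega
  refine ⟨pderiv (Fin.castAdd n k) (C (ρ' (Fin.castLE hcm j)) + zz π f r S (Fin.castLE hcm j)), ?_⟩
  simp only [gg, map_add, pderiv_C_mul, map_sum, h1, h2, mul_zero, Finset.sum_const_zero,
    add_zero]
  by_cases h : j = k <;> simp [h]

theorem DeltaV_sub_mem : DeltaV π hcm f r S u ρ' - C (u ^ c) ∈ Ideal.span {(C π : QQ R c n)} := by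
  classical
  rw [← Ideal.Quotient.eq]
  unfold DeltaV
  rw [RingHom.map_det]
  have h1 : (Ideal.Quotient.mk (Ideal.span {(C π : QQ R c n)})).mapMatrix
      (Matrix.of fun j k : Fin c => pderiv (Fin.castAdd n k) (gg π hcm f r S u ρ' j)) =
      (Ideal.Quotient.mk (Ideal.span {(C π : QQ R c n)}) (C u)) •
        (1 : Matrix (Fin c) (Fin c) _) := by
    ext j k
    obtain ⟨y, hy⟩ := pderiv_castAdd_gg π hcm f r S u ρ' j k
    rw [RingHom.mapMatrix_apply, Matrix.map_apply, Matrix.of_apply, hy, map_add]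
    have : Ideal.Quotient.mk (Ideal.span {(C π : QQ R c n)}) (C π * y) = 0 :=
      Ideal.Quotient.eq_zero_iff_mem.mpr (Ideal.mul_mem_right _ _ (Ideal.mem_span_singleton_self _))
    rw [this, add_zero, Matrix.smul_apply, Matrix.one_apply, smul_eq_mul]
    by_cases h : j = k <;> simp [h]
  rw [h1, Matrix.det_smul, Matrix.det_one, mul_one, Fintype.card_fin, ← map_pow, ← map_pow]

theorem finitePresentation_p :
    Algebra.FinitePresentation R (QQ R c n ⧸ Jp π hcm f r S u ρ') :=
  Algebra.FinitePresentation.quotient (Submodule.fg_span (Set.finite_range _))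

/-- `B' = Q ⧸ J'` is smooth over `R` at all primes containing `π`, if `u ≡ 1` mod `π`. -/
theorem isSmoothAt_p (hu : ∃ t₀, u = 1 + π * t₀)
    (q : Ideal (QQ R c n ⧸ Jp π hcm f r S u ρ')) [q.IsPrime]
    (hq : algebraMap R (QQ R c n ⧸ Jp π hcm f r S u ρ') π ∈ q) : Algebra.IsSmoothAt R q := by
  classical
  have hfp := finitePresentation_p π hcm f r S u ρ'
  set t : QQ R c n ⧸ Jp π hcm f r S u ρ' :=
    Ideal.Quotient.mk _ (DeltaV π hcm f r S u ρ') with ht
  -- `t ∉ q`
  have htq : t ∉ q := by
    intro htq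
    obtain ⟨y, hy⟩ := Ideal.mem_span_singleton'.mp (DeltaV_sub_mem π hcm f r S u ρ')
    have h1 : t - Ideal.Quotient.mk _ (C (u ^ c)) =
        Ideal.Quotient.mk (Jp π hcm f r S u ρ') y *
          algebraMap R (QQ R c n ⧸ Jp π hcm f r S u ρ') π := by
      rw [ht, ← map_sub, ← hy, map_mul]; rfl
    have h2 : Ideal.Quotient.mk (Jp π hcm f r S u ρ') (C (u ^ c)) ∈ q := by
      have : Ideal.Quotient.mk (Jp π hcm f r S u ρ') (C (u ^ c)) =
          t - Ideal.Quotient.mk (Jp π hcm f r S u ρ') y *
            algebraMap R (QQ R c n ⧸ Jp π hcm f r S u ρ') π := by rw [← h1]; ring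
      rw [this]
      exact Ideal.sub_mem _ htq (Ideal.mul_mem_left _ _ hq)
    have h3 : algebraMap R (QQ R c n ⧸ Jp π hcm f r S u ρ') u ∈ q := by
      have : Ideal.Quotient.mk (Jp π hcm f r S u ρ') (C (u ^ c)) =
          algebraMap R (QQ R c n ⧸ Jp π hcm f r S u ρ') u ^ c := by
        rw [← map_pow]; rfl
      rw [this] at h2
      exact Ideal.IsPrime.mem_of_pow_mem inferInstance _ h2
    obtain ⟨t₀, ht₀⟩ := hu
    have h4 : (1 : QQ R c n ⧸ Jp π hcm f r S u ρ') ∈ q := by
      have : (1 : QQ R c n ⧸ Jp π hcm f r S u ρ') =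
          algebraMap R _ u - algebraMap R _ π * algebraMap R _ t₀ := by
        rw [ht₀, map_add, map_one, map_mul]; ring
      rw [this]
      exact Ideal.sub_mem _ h3 (Ideal.mul_mem_right _ _ hq)
    exact (Ideal.ne_top_iff_one q).mp (Ideal.IsPrime.ne_top inferInstance) h4
  -- smoothness of the localization away from `t`
  have hunit : Ideal.span (Set.range fun cols : Fin c → Fin (c + n) =>
        algebraMap (QQ R c n ⧸ Ideal.span (Set.range (gg π hcm f r S u ρ'))) (Localization.Away t)
          (Ideal.Quotient.mk _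
            (Matrix.det (Matrix.of fun j k : Fin c =>
              pderiv (cols k) (gg π hcm f r S u ρ' j))))) = ⊤ := by
    refine Ideal.eq_top_of_isUnit_mem _
      (Ideal.subset_span (Set.mem_range_self (fun k : Fin c => Fin.castAdd n k))) ?_
    exact IsLocalization.Away.algebraMap_isUnit t
  have hsm := (Groth.Agent.S2030.smooth_stablyFree_of_minors_unit (gg π hcm f r S u ρ')
    (S := Localization.Away t) t hunit).1
  have hsub := Algebra.basicOpen_subset_smoothLocus_iff_smooth.mpr hsm
  have hmem : (⟨q, inferInstance⟩ : PrimeSpectrum (QQ R c n ⧸ Jp π hcm f r S u ρ')) ∈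
      (PrimeSpectrum.basicOpen t : Set (PrimeSpectrum _)) := by
    rw [SetLike.mem_coe, PrimeSpectrum.mem_basicOpen]
    exact htq
  exact hsub hmem

end

end Groth.Agent.Lib.Helper22.Pop
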