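import Groth.Agent.Lib.Helper22.PopD

set_option autoImplicit false
universe u

namespace Groth.Agent.Lib.Helper22.Pop

open MvPolynomial

theorem flat_atPrime_of_isSmoothAt {R B : Type u} [CommRing R] [CommRing B] [Algebra R B]
    [Algebra.FinitePresentation R B] (q : Ideal B) [q.IsPrime] (h : Algebra.IsSmoothAt R q) :
    Module.Flat R (Localization.AtPrime q) := by
  have := h
  obtain ⟨f, hf, hsm⟩ := Algebra.IsSmoothAt.exists_notMem_smooth R q
  have hfu : IsUnit (algebraMap B (Localization.AtPrime q) f) :=
    IsLocalization.map_units (Localization.AtPrime q) (⟨f, hf⟩ : q.primeCompl)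
  let g : Localization.Away f →+* Localization.AtPrime q := IsLocalization.Away.lift f hfu
  let : Algebra (Localization.Away f) (Localization.AtPrime q) := g.toAlgebra
  have : IsScalarTower B (Localization.Away f) (Localization.AtPrime q) :=
    IsScalarTower.of_algebraMap_eq (fun x => (IsLocalization.Away.lift_eq f hfu x).symm)
  have : IsScalarTower R (Localization.Away f) (Localization.AtPrime q) :=
    IsScalarTower.of_algebraMap_eq (fun x => by
      rw [IsScalarTower.algebraMap_apply R B (Localization.AtPrime q),
        IsScalarTower.algebraMap_apply R B (Localization.Away f),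
        ← IsScalarTower.algebraMap_apply B (Localization.Away f) (Localization.AtPrime q)])
  have : IsLocalization (q.primeCompl.map (algebraMap B (Localization.Away f)))
      (Localization.AtPrime q) :=
    IsLocalization.isLocalization_of_submonoid_le (Localization.Away f) (Localization.AtPrime q)
      (Submonoid.powers f) q.primeCompl (by rw [Submonoid.powers_le]; exact hf)
  have : Module.Flat (Localization.Away f) (Localization.AtPrime q) :=
    IsLocalization.flat (Localization.AtPrime q)
      (q.primeCompl.map (algebraMap B (Localization.Away f)))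
  exact Module.Flat.trans R (Localization.Away f) (Localization.AtPrime q)

/-- Abstract vanishing lemma: an ideal `K = (κ_j)` of `B'` contained in `π² B'` with
`π κ_j ∈ K²` vanishes at every prime `q'` containing `π` at which `B'` is smooth and `r₀` is
invertible. -/
theorem exists_notMem_mul_eq_zero {R B' : Type u} [CommRing R] [CommRing B'] [Algebra R B']
    [Algebra.FinitePresentation R B'] (π r₀ : R)
    (hr₀ : ∀ x : R, π ^ 2 * x = 0 → π * (r₀ * x) = 0) {m : ℕ} (κ : Fin m → B')
    (hκ2 : ∀ j, ∃ τ : B', κ j = algebraMap R B' (π ^ 2) * τ)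
    (hκK : ∀ j, algebraMap R B' π * κ j ∈ Ideal.span (Set.range κ) ^ 2)
    (q' : Ideal B') [q'.IsPrime] (hπq : algebraMap R B' π ∈ q') (hr₀q : algebraMap R B' r₀ ∉ q')
    (hsm : Algebra.IsSmoothAt R q') (j : Fin m) : ∃ s : B', s ∉ q' ∧ s * κ j = 0 := by
  classical
  have hflat : Module.Flat R (Localization.AtPrime q') := flat_atPrime_of_isSmoothAt q' hsm
  set L := Localization.AtPrime q' with hL
  have hu : IsUnit (algebraMap R L r₀) := by
    rw [IsScalarTower.algebraMap_apply R B' L]
    exact IsLocalization.map_units L (⟨_, hr₀q⟩ : q'.primeCompl)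
  have hann : ∀ y : L, algebraMap R L π ^ 2 * y = 0 → algebraMap R L π * y = 0 :=
    ann_sq_of_flat π r₀ hr₀ hu
  set K : Ideal B' := Ideal.span (Set.range κ) with hK
  have hKle : K ≤ Ideal.span {algebraMap R B' (π ^ 2)} := by
    rw [hK, Ideal.span_le]
    rintro _ ⟨j, rfl⟩
    obtain ⟨τ, hτ⟩ := hκ2 j
    rw [SetLike.mem_coe, hτ]
    exact Ideal.mul_mem_right _ _ (Ideal.mem_span_singleton_self _)
  set KL : Ideal L := Ideal.span (Set.range fun j => algebraMap B' L (κ j)) with hKL
  have hKmap : ∀ w ∈ K, algebraMap B' L w ∈ KL := by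
    intro w hw
    have := Ideal.mem_map_of_mem (algebraMap B' L) hw
    rwa [hK, Ideal.map_span, ← Set.range_comp] at this
  have hπL : algebraMap R L π ∈ IsLocalRing.maximalIdeal L := by
    rw [IsScalarTower.algebraMap_apply R B' L]
    exact (IsLocalization.AtPrime.to_map_mem_maximal_iff L q' _).mpr hπq
  have hgen : ∀ j, algebraMap B' L (κ j) ∈ Ideal.span {algebraMap R L π} * KL := by
    intro j
    have h1 : algebraMap R B' π * κ j ∈ Ideal.span {algebraMap R B' (π ^ 2)} * K := by
      have := hκK j
      rw [sq] at this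
      exact Ideal.mul_mono_left hKle this
    obtain ⟨w, hw, hw2⟩ := Ideal.mem_span_singleton_mul.mp h1
    obtain ⟨τj, hτj⟩ := hκ2 j
    obtain ⟨τw, hτw⟩ := Ideal.mem_span_singleton'.mp (hKle hw)
    -- ζ = κ j - π w = π² τ'
    set τ' : B' := τj - algebraMap R B' π * τw with hτ'
    have hζ : κ j - algebraMap R B' π * w = algebraMap R B' (π ^ 2) * τ' := by
      rw [hτ', hτj, ← hτw]; ring
    have hπζ : algebraMap R B' π * (κ j - algebraMap R B' π * w) = 0 := by
      rw [mul_sub, ← hw2, map_pow]; ring
    -- in L
    have h2 : algebraMap R L π ^ 2 * (algebraMap R L π * algebraMap B' L τ') = 0 := by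
      have := congrArg (algebraMap B' L) hπζ
      rw [hζ, map_mul, map_mul, map_zero, ← IsScalarTower.algebraMap_apply R B' L,
        ← IsScalarTower.algebraMap_apply R B' L, map_pow] at this
      rw [← this]; ring
    have h3 := hann _ h2
    have h4 : algebraMap B' L (κ j) = algebraMap R L π * algebraMap B' L w := by
      have := congrArg (algebraMap B' L) hζ
      rw [map_sub, map_mul, map_mul, ← IsScalarTower.algebraMap_apply R B' L,
        ← IsScalarTower.algebraMap_apply R B' L, map_pow] at this
      have h5 : algebraMap R L π ^ 2 * algebraMap B' L τ' = 0 := by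
        rw [← h3]; ring
      rw [h5, sub_eq_zero] at this
      exact this
    rw [h4]
    exact Ideal.mul_mem_mul (Ideal.mem_span_singleton_self _) (hKmap w hw)
  have hKL0 : KL = ⊥ := by
    have hfg : (KL : Submodule L L).FG := Submodule.fg_span (Set.finite_range _)
    refine Submodule.eq_bot_of_le_smul_of_le_jacobson_bot (Ideal.span {algebraMap R L π}) KL hfg
      ?_ ?_
    · rw [hKL, Ideal.span_le]
      rintro _ ⟨j, rfl⟩
      exact hgen j
    · rw [IsLocalRing.jacobson_eq_maximalIdeal ⊥ bot_ne_top, Ideal.span_le,
        Set.singleton_subset_iff]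
      exact hπL
  have h0 : algebraMap B' L (κ j) = 0 := by
    have : algebraMap B' L (κ j) ∈ KL := Ideal.subset_span ⟨j, rfl⟩
    rw [hKL0] at this
    exact (Submodule.mem_bot L).mp this
  obtain ⟨s, hs⟩ := (IsLocalization.map_eq_zero_iff q'.primeCompl L (κ j)).mp h0
  exact ⟨s.1, s.2, hs⟩

end Groth.Agent.Lib.Helper22.Pop
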