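import Groth.Agent.Lib.Helper22.PopE

set_option autoImplicit false
universe u

namespace Groth.Agent.Lib.Helper22.Pop

open MvPolynomial

section

variable {R : Type u} [CommRing R] (π : R) {n m c : ℕ} (hcm : c ≤ m)
  (f : Fin m → MvPolynomial (Fin n) R) (r : Fin n → R) (S : Matrix (Fin n) (Fin c) R) (u : R)
  (ρ' : Fin m → R)

/-- the ideal `J = J'' + J'` -/
noncomputable abbrev JJ : Ideal (QQ R c n) := Jpp π f r S ⊔ Jp π hcm f r S u ρ'

theorem finitePresentation_JJ :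
    Algebra.FinitePresentation R (QQ R c n ⧸ JJ π hcm f r S u ρ') :=
  Algebra.FinitePresentation.quotient
    (Submodule.FG.sup (Submodule.fg_span (Set.finite_range _))
      (Submodule.fg_span (Set.finite_range _)))

theorem C_mul_mem_Jpp
    (hmul : ∀ j : Fin c, sig π r S (f (Fin.castLE hcm j)) = C (π ^ 3) * gg π hcm f r S u ρ' j)
    {y : QQ R c n} (hy : y ∈ Jp π hcm f r S u ρ') : C (π ^ 3) * y ∈ Jpp π f r S := by
  induction hy using Submodule.span_induction with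
  | mem x hx =>
    obtain ⟨j, rfl⟩ := hx
    rw [← hmul]
    exact Ideal.subset_span ⟨_, rfl⟩
  | zero => simp
  | add x y _ _ hx hy => rw [mul_add]; exact Ideal.add_mem _ hx hy
  | smul a x _ hx =>
    rw [smul_eq_mul, mul_left_comm]
    exact Ideal.mul_mem_left _ _ hx

/-- Case `π ∉ q`. -/
theorem smooth_case1
    (a : (Fin c → Fin n) → MvPolynomial (Fin n) R)
    (H1 : C π - ∑ cols, a cols * Smoothing.jacobianMinor f (Fin.castLE hcm) cols ∈
      Ideal.span (Set.range f))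
    (H2 : ∀ j : Fin m, c ≤ (j : ℕ) → C π * f j ∈
      Ideal.span (f '' {j' : Fin m | (j' : ℕ) < c}) ⊔ Ideal.span (Set.range f) ^ 2)
    (hmul : ∀ j : Fin c, sig π r S (f (Fin.castLE hcm j)) = C (π ^ 3) * gg π hcm f r S u ρ' j)
    (q : Ideal (QQ R c n ⧸ JJ π hcm f r S u ρ')) [q.IsPrime]
    (hq : algebraMap R (QQ R c n ⧸ JJ π hcm f r S u ρ') π ∉ q) : Algebra.IsSmoothAt R q := by
  let ψ : (QQ R c n ⧸ Jpp π f r S) →ₐ[R] (QQ R c n ⧸ JJ π hcm f r S u ρ') :=
    Ideal.Quotient.factorₐ R (le_sup_left : Jpp π f r S ≤ JJ π hcm f r S u ρ')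
  have hψmk : ∀ y : QQ R c n, ψ (Ideal.Quotient.mk _ y) = Ideal.Quotient.mk _ y := fun y => rfl
  have hψsurj : Function.Surjective ψ := by
    intro x
    obtain ⟨y, rfl⟩ := Ideal.Quotient.mk_surjective x
    exact ⟨Ideal.Quotient.mk _ y, hψmk y⟩
  refine isSmoothAt_of_surjective ψ hψsurj q ?_ ?_
  · intro x hx
    obtain ⟨y, rfl⟩ := Ideal.Quotient.mk_surjective x
    rw [hψmk, Ideal.Quotient.eq_zero_iff_mem] at hx
    obtain ⟨y1, hy1, y2, hy2, rfl⟩ := Submodule.mem_sup.mp hx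
    refine ⟨algebraMap R _ (π ^ 3), ?_, ?_⟩
    · rw [AlgHom.commutes, map_pow]
      exact fun h => hq (Ideal.IsPrime.mem_of_pow_mem inferInstance _ h)
    · have : algebraMap R (QQ R c n ⧸ Jpp π f r S) (π ^ 3) * Ideal.Quotient.mk _ (y1 + y2) =
          Ideal.Quotient.mk (Jpp π f r S) (C (π ^ 3) * (y1 + y2)) := by
        rw [map_mul]; rfl
      rw [this, Ideal.Quotient.eq_zero_iff_mem, mul_add]
      exact Ideal.add_mem _ (Ideal.mul_mem_left _ _ hy1)
        (C_mul_mem_Jpp π hcm f r S u ρ' hmul hy2)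
  · have : (q.comap ψ).IsPrime := Ideal.comap_isPrime ψ q
    refine isSmoothAt_pp π hcm f r S a H1 H2 (q.comap ψ) ?_
    rw [Ideal.mem_comap, AlgHom.commutes]
    exact hq

end

end Groth.Agent.Lib.Helper22.Pop
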