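import Groth.Agent.Lib.Helper22.PopF

set_option autoImplicit false
universe u

namespace Groth.Agent.Lib.Helper22.Pop

open MvPolynomial

section

variable {R : Type u} [CommRing R] (π : R) {n m c : ℕ} (hcm : c ≤ m)
  (f : Fin m → MvPolynomial (Fin n) R) (r : Fin n → R) (S : Matrix (Fin n) (Fin c) R) (u : R)
  (ρ' : Fin m → R)

/-- the classes `κ_j` of the substituted relations in `B' = Q ⧸ J'`. -/
noncomputable def kap (j : Fin m) : QQ R c n ⧸ Jp π hcm f r S u ρ' :=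
  Ideal.Quotient.mk _ (sig π r S (f j))

theorem kap_eq_zero
    (hmul : ∀ j : Fin c, sig π r S (f (Fin.castLE hcm j)) = C (π ^ 3) * gg π hcm f r S u ρ' j)
    (j : Fin m) (hj : (j : ℕ) < c) : kap π hcm f r S u ρ' j = 0 := by
  have : j = Fin.castLE hcm ⟨j, hj⟩ := by ext; simp
  rw [kap, this, hmul, Ideal.Quotient.eq_zero_iff_mem]
  exact Ideal.mul_mem_left _ _ (Ideal.subset_span ⟨_, rfl⟩)

theorem kap_eq_sq_mul (hρ' : ∀ j, eval r (f j) = π ^ 4 * ρ' j) (j : Fin m) :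
    ∃ τ, kap π hcm f r S u ρ' j = algebraMap R (QQ R c n ⧸ Jp π hcm f r S u ρ') (π ^ 2) * τ := by
  refine ⟨Ideal.Quotient.mk _ (C (π ^ 2 * ρ' j) + (∑ i, C (rr f r j i) * yy π S i +
    C (π ^ 2) * zz π f r S j)), ?_⟩
  have h : algebraMap R (QQ R c n ⧸ Jp π hcm f r S u ρ') (π ^ 2) =
      Ideal.Quotient.mk _ (C (π ^ 2)) := rfl
  rw [kap, h, ← map_mul, sig_eq, hρ']
  congr 1
  simp only [map_mul, map_pow]
  ring

theorem kap_mem_sq
    (H2 : ∀ j : Fin m, c ≤ (j : ℕ) → C π * f j ∈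
      Ideal.span (f '' {j' : Fin m | (j' : ℕ) < c}) ⊔ Ideal.span (Set.range f) ^ 2)
    (hmul : ∀ j : Fin c, sig π r S (f (Fin.castLE hcm j)) = C (π ^ 3) * gg π hcm f r S u ρ' j)
    (j : Fin m) :
    algebraMap R (QQ R c n ⧸ Jp π hcm f r S u ρ') π * kap π hcm f r S u ρ' j ∈
      Ideal.span (Set.range (kap π hcm f r S u ρ')) ^ 2 := by
  by_cases hj : (j : ℕ) < c
  · rw [kap_eq_zero π hcm f r S u ρ' hmul j hj, mul_zero]
    exact Ideal.zero_mem _
  · have hj' : c ≤ (j : ℕ) := not_lt.mp hj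
    obtain ⟨y, hy, z, hz, hyz⟩ := Submodule.mem_sup.mp (H2 j hj')
    have h1 : algebraMap R (QQ R c n ⧸ Jp π hcm f r S u ρ') π * kap π hcm f r S u ρ' j =
        Ideal.Quotient.mk _ (sig π r S (C π * f j)) := by
      rw [map_mul, show sig π r S (C π) = C π from by rw [sig, aeval_C]; rfl, map_mul]
      rfl
    rw [h1, ← hyz, map_add, map_add]
    have hy0 : Ideal.Quotient.mk (Jp π hcm f r S u ρ') (sig π r S y) = 0 := by
      rw [Ideal.Quotient.eq_zero_iff_mem]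
      have h2 := sig_mem_span_image π f r S hy
      have hle : Ideal.span ((fun j => sig π r S (f j)) '' {j' : Fin m | (j' : ℕ) < c}) ≤
          Jp π hcm f r S u ρ' := by
        rw [Ideal.span_le]
        rintro _ ⟨j', hj', rfl⟩
        have := kap_eq_zero π hcm f r S u ρ' hmul j' hj'
        rw [kap, Ideal.Quotient.eq_zero_iff_mem] at this
        exact this
      exact hle h2
    rw [hy0, zero_add]
    have h3 := sig_mem_span_sq π f r S hz
    have h4 := Ideal.mem_map_of_mem (Ideal.Quotient.mk (Jp π hcm f r S u ρ')) h3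
    rw [Ideal.map_pow, Ideal.map_span, ← Set.range_comp] at h4
    exact h4

/-- Case `π ∈ q`, `r₀ ∉ q`. -/
theorem smooth_case2 [Algebra.FinitePresentation R (QQ R c n ⧸ Jp π hcm f r S u ρ')]
    (H2 : ∀ j : Fin m, c ≤ (j : ℕ) → C π * f j ∈
      Ideal.span (f '' {j' : Fin m | (j' : ℕ) < c}) ⊔ Ideal.span (Set.range f) ^ 2)
    (hmul : ∀ j : Fin c, sig π r S (f (Fin.castLE hcm j)) = C (π ^ 3) * gg π hcm f r S u ρ' j)
    (hρ' : ∀ j, eval r (f j) = π ^ 4 * ρ' j) (hu : ∃ t₀, u = 1 + π * t₀)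
    (r₀ : R) (hr₀ : ∀ x : R, π ^ 2 * x = 0 → π * (r₀ * x) = 0)
    (q : Ideal (QQ R c n ⧸ JJ π hcm f r S u ρ')) [q.IsPrime]
    (hq : algebraMap R (QQ R c n ⧸ JJ π hcm f r S u ρ') π ∈ q)
    (hr₀q : algebraMap R (QQ R c n ⧸ JJ π hcm f r S u ρ') r₀ ∉ q) : Algebra.IsSmoothAt R q := by
  classical
  let ψ : (QQ R c n ⧸ Jp π hcm f r S u ρ') →ₐ[R] (QQ R c n ⧸ JJ π hcm f r S u ρ') :=
    Ideal.Quotient.factorₐ R (le_sup_right : Jp π hcm f r S u ρ' ≤ JJ π hcm f r S u ρ')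
  have hψmk : ∀ y : QQ R c n, ψ (Ideal.Quotient.mk _ y) = Ideal.Quotient.mk _ y := fun y => rfl
  have hψsurj : Function.Surjective ψ := by
    intro x
    obtain ⟨y, rfl⟩ := Ideal.Quotient.mk_surjective x
    exact ⟨Ideal.Quotient.mk _ y, hψmk y⟩
  have hprime : (q.comap ψ).IsPrime := Ideal.comap_isPrime ψ q
  have hπq' : algebraMap R (QQ R c n ⧸ Jp π hcm f r S u ρ') π ∈ q.comap ψ := by
    rw [Ideal.mem_comap, AlgHom.commutes]; exact hq
  have hr₀q' : algebraMap R (QQ R c n ⧸ Jp π hcm f r S u ρ') r₀ ∉ q.comap ψ := by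
    rw [Ideal.mem_comap, AlgHom.commutes]; exact hr₀q
  have hsm : Algebra.IsSmoothAt R (q.comap ψ) :=
    isSmoothAt_p π hcm f r S u ρ' hu (q.comap ψ) hπq'
  refine isSmoothAt_of_surjective ψ hψsurj q ?_ hsm
  -- every generator is killed by some element outside `q'`
  have hkill := exists_notMem_mul_eq_zero π r₀ hr₀ (kap π hcm f r S u ρ')
    (kap_eq_sq_mul π hcm f r S u ρ' hρ') (kap_mem_sq π hcm f r S u ρ' H2 hmul)
    (q.comap ψ) hπq' hr₀q' hsm
  choose s hs hs0 using hkill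
  have hsprod : ∏ j, s j ∉ q.comap ψ := by
    intro h
    obtain ⟨j, _, hj⟩ := (Ideal.IsPrime.prod_mem_iff (hp := hprime)).mp h
    exact hs j hj
  have hkillK : ∀ x ∈ Ideal.span (Set.range (kap π hcm f r S u ρ')), (∏ j, s j) * x = 0 := by
    intro x hx
    induction hx using Submodule.span_induction with
    | mem x hx =>
      obtain ⟨j, rfl⟩ := hx
      rw [← Finset.mul_prod_erase Finset.univ s (Finset.mem_univ j), mul_right_comm, hs0 j,
        zero_mul]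
    | zero => simp
    | add x y _ _ hx hy => rw [mul_add, hx, hy, add_zero]
    | smul a x _ hx => rw [smul_eq_mul, mul_left_comm, hx, mul_zero]
  intro x hx
  obtain ⟨y, rfl⟩ := Ideal.Quotient.mk_surjective x
  rw [hψmk, Ideal.Quotient.eq_zero_iff_mem] at hx
  obtain ⟨y1, hy1, y2, hy2, rfl⟩ := Submodule.mem_sup.mp hx
  refine ⟨∏ j, s j, hsprod, ?_⟩
  have hy2' : Ideal.Quotient.mk (Jp π hcm f r S u ρ') y2 = 0 :=
    Ideal.Quotient.eq_zero_iff_mem.mpr hy2
  have hy1' : Ideal.Quotient.mk (Jp π hcm f r S u ρ') y1 ∈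
      Ideal.span (Set.range (kap π hcm f r S u ρ')) := by
    have := Ideal.mem_map_of_mem (Ideal.Quotient.mk (Jp π hcm f r S u ρ')) hy1
    rw [Jpp, Ideal.map_span, ← Set.range_comp] at this
    exact this
  rw [map_add, hy2', add_zero]
  exact hkillK _ hy1'

end

end Groth.Agent.Lib.Helper22.Pop
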