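import Groth.Agent.Lib.Helper22.PopG

set_option autoImplicit false
universe u

namespace Groth.Agent.Lib.Helper22.Pop

open MvPolynomial

section

variable {R : Type u} [CommRing R] (π : R) {n m c : ℕ} (hcm : c ≤ m)
  (f : Fin m → MvPolynomial (Fin n) R) (r : Fin n → R) (S : Matrix (Fin n) (Fin c) R) (u : R)
  (ρ' : Fin m → R)

variable {Λ : Type u} [CommRing Λ] [Algebra R Λ] (lam : Fin n → Λ)

/-- the map `β₀ : Q → Λ`, `v_k ↦ 0`, `w_i ↦ π λ_i`. -/
noncomputable def beta0 : QQ R c n →ₐ[R] Λ :=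
  aeval (Fin.addCases (fun _ : Fin c => (0 : Λ)) (fun i : Fin n => algebraMap R Λ π * lam i))

theorem beta0_vv (k : Fin c) : beta0 (c := c) π lam (vv R n k) = 0 := by
  rw [beta0, vv, aeval_X, Fin.addCases_left]

theorem beta0_ww (i : Fin n) : beta0 (c := c) π lam (ww R c i) = algebraMap R Λ π * lam i := by
  rw [beta0, ww, aeval_X, Fin.addCases_right]

theorem beta0_C (x : R) : beta0 (c := c) π lam (C x) = algebraMap R Λ x := by
  rw [beta0, aeval_C]

theorem beta0_yy (i : Fin n) :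
    beta0 (c := c) π lam (yy π S i) = algebraMap R Λ (π ^ 2) * lam i := by
  rw [yy, map_add, map_sum]
  simp only [map_mul, beta0_vv, beta0_ww, beta0_C, mul_zero, Finset.sum_const_zero, zero_add,
    map_pow]
  ring

theorem beta0_sub (i : Fin n) :
    beta0 (c := c) π lam (sub π r S i) =
      algebraMap R Λ (r i) + algebraMap R Λ (π ^ 4) * lam i := by
  rw [sub, map_add, map_mul, beta0_yy, beta0_C, beta0_C]
  simp only [map_pow]
  ring

theorem beta0_comp_sig {A : Type u} [CommRing A] [Algebra R A] (φ : A →ₐ[R] Λ)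
    (hom : MvPolynomial (Fin n) R →ₐ[R] A)
    (hlam : ∀ i, φ (hom (X i)) = algebraMap R Λ (r i) + algebraMap R Λ (π ^ 4) * lam i) :
    (beta0 (c := c) π lam).comp (sig π r S) = φ.comp hom := by
  apply MvPolynomial.algHom_ext
  intro i
  rw [AlgHom.comp_apply, AlgHom.comp_apply, sig, aeval_X, beta0_sub, hlam]

theorem beta0_gg (j : Fin c) :
    ∃ t : Λ, beta0 (c := c) π lam (gg π hcm f r S u ρ' j) = algebraMap R Λ π * t := by
  refine ⟨∑ i, algebraMap R Λ (rr f r (Fin.castLE hcm j) i) * lam i +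
    beta0 (c := c) π lam (C (ρ' (Fin.castLE hcm j)) + zz π f r S (Fin.castLE hcm j)), ?_⟩
  rw [gg, map_add, map_add, map_mul, map_mul, beta0_vv, map_sum, beta0_C, beta0_C]
  simp only [map_mul, beta0_ww, beta0_C]
  rw [mul_zero, zero_add, mul_add, Finset.mul_sum]
  congr 1
  exact Finset.sum_congr rfl fun i _ => by ring

end

end Groth.Agent.Lib.Helper22.Pop
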