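import Groth.Agent.Lib.Helper22.PopH

set_option autoImplicit false
universe u

namespace Groth.Agent.Lib.Helper22.Pop

open MvPolynomial

theorem pi_mul_eq_zero_of_pow {R Λ : Type u} [CommRing R] [CommRing Λ] [Algebra R Λ] (π : R)
    (hΛ : ∀ x : Λ, π ^ 2 • x = 0 → π • x = 0) (t : Λ)
    (h : algebraMap R Λ (π ^ 3) * (algebraMap R Λ π * t) = 0) : algebraMap R Λ π * t = 0 := by
  have hΛ' : ∀ x : Λ, algebraMap R Λ π ^ 2 * x = 0 → algebraMap R Λ π * x = 0 := by
    intro x hx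
    have := hΛ x (by rw [Algebra.smul_def, map_pow]; exact hx)
    rwa [Algebra.smul_def] at this
  set p := algebraMap R Λ π with hp
  rw [map_pow] at h
  -- p^4 t = 0
  have h1 : p * (p ^ 2 * t) = 0 := hΛ' (p ^ 2 * t) (by rw [← h]; ring)
  have h2 : p * (p * t) = 0 := hΛ' (p * t) (by rw [← h1]; ring)
  exact hΛ' t (by rw [← h2]; ring)

theorem desingularize_aux {R Λ A : Type u} [CommRing R] [CommRing Λ] [Algebra R Λ] (π : R)
    (hΛ : ∀ x : Λ, π ^ 2 • x = 0 → π • x = 0) [CommRing A] [Algebra R A]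
    (φ : A →ₐ[R] Λ)
    {n m c : ℕ} (hcm : c ≤ m) (f : Fin m → MvPolynomial (Fin n) R)
    (hom : MvPolynomial (Fin n) R →ₐ[R] A) (surj : Function.Surjective hom)
    (ker_eq : RingHom.ker hom.toRingHom = Ideal.span (Set.range f))
    (a : (Fin c → Fin n) → MvPolynomial (Fin n) R)
    (H1 : C π - ∑ cols, a cols * Smoothing.jacobianMinor f (Fin.castLE hcm) cols ∈
      Ideal.span (Set.range f))
    (H2 : ∀ j : Fin m, c ≤ (j : ℕ) → C π * f j ∈
      Ideal.span (f '' {j' : Fin m | (j' : ℕ) < c}) ⊔ Ideal.span (Set.range f) ^ 2)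
    (r : Fin n → R) (lam : Fin n → Λ)
    (hlam : ∀ i, φ (hom (X i)) = algebraMap R Λ (r i) + algebraMap R Λ (π ^ 4) * lam i)
    (ρ' : Fin m → R) (hρ' : ∀ j, eval r (f j) = π ^ 4 * ρ' j)
    (S : Matrix (Fin n) (Fin c) R) (u : R) (hu : ∃ t₀, u = 1 + π * t₀)
    (hS : ∀ j k : Fin c,
      ∑ i, rr f r (Fin.castLE hcm j) i * S i k = if j = k then u * π else 0) :
    ∃ (B : Type u) (_ : CommRing B) (_ : Algebra R B), Algebra.FinitePresentation R B ∧
      ∃ (α : A →ₐ[R] B) (β : B →ₐ[R] Λ), β.comp α = φ ∧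
        ∀ r₀ : R, (∀ x : R, π ^ 2 * x = 0 → π * (r₀ * x) = 0) →
          algebraMap R B r₀ ∈ Smoothing.singularIdeal R B := by
  classical
  have hmul := sig_eq_mul_gg π hcm f r S u ρ' hρ' hS
  have hfpB := finitePresentation_JJ π hcm f r S u ρ'
  have hfpB' := finitePresentation_p π hcm f r S u ρ'
  refine ⟨QQ R c n ⧸ JJ π hcm f r S u ρ', inferInstance, inferInstance, hfpB, ?_⟩
  -- the map α
  have hker : RingHom.ker hom.toRingHom ≤
      RingHom.ker ((Ideal.Quotient.mkₐ R (JJ π hcm f r S u ρ')).comp (sig π r S)).toRingHom := by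
    intro p hp
    rw [ker_eq] at hp
    rw [RingHom.mem_ker]
    change Ideal.Quotient.mk _ (sig π r S p) = 0
    rw [Ideal.Quotient.eq_zero_iff_mem]
    exact (le_sup_left : Jpp π f r S ≤ JJ π hcm f r S u ρ') (sig_mem_span π f r S hp)
  let α : A →ₐ[R] (QQ R c n ⧸ JJ π hcm f r S u ρ') :=
    AlgHom.liftOfSurjective hom surj
      ((Ideal.Quotient.mkₐ R (JJ π hcm f r S u ρ')).comp (sig π r S)) hker
  have hα : ∀ p, α (hom p) = Ideal.Quotient.mk _ (sig π r S p) := fun p =>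
    AlgHom.liftOfSurjective_apply hom surj _ hker p
  -- the map β
  have hβσ := beta0_comp_sig (c := c) π r S lam φ hom hlam
  have hβσ' : ∀ p, beta0 (c := c) π lam (sig π r S p) = φ (hom p) := fun p =>
    DFunLike.congr_fun hβσ p
  have hhomf : ∀ j, hom (f j) = 0 := by
    intro j
    have : f j ∈ RingHom.ker hom.toRingHom := by
      rw [ker_eq]; exact Ideal.subset_span ⟨j, rfl⟩
    exact this
  have hβJpp : ∀ y ∈ Jpp π f r S, beta0 (c := c) π lam y = 0 := by
    intro y hy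
    induction hy using Submodule.span_induction with
    | mem x hx =>
      obtain ⟨j, rfl⟩ := hx
      change beta0 (c := c) π lam (sig π r S (f j)) = 0
      rw [hβσ', hhomf, map_zero]
    | zero => simp
    | add x y _ _ hx hy => rw [map_add, hx, hy, add_zero]
    | smul a x _ hx => rw [smul_eq_mul, map_mul, hx, mul_zero]
  have hβgg : ∀ j : Fin c, beta0 (c := c) π lam (gg π hcm f r S u ρ' j) = 0 := by
    intro j
    obtain ⟨t, ht⟩ := beta0_gg π hcm f r S u ρ' lam j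
    rw [ht]
    apply pi_mul_eq_zero_of_pow π hΛ
    rw [← ht, ← beta0_C (c := c) π lam, ← map_mul, ← hmul, hβσ', hhomf, map_zero]
  have hβJp : ∀ y ∈ Jp π hcm f r S u ρ', beta0 (c := c) π lam y = 0 := by
    intro y hy
    induction hy using Submodule.span_induction with
    | mem x hx =>
      obtain ⟨j, rfl⟩ := hx
      exact hβgg j
    | zero => simp
    | add x y _ _ hx hy => rw [map_add, hx, hy, add_zero]
    | smul a x _ hx => rw [smul_eq_mul, map_mul, hx, mul_zero]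
  have hβJJ : ∀ y ∈ JJ π hcm f r S u ρ', beta0 (c := c) π lam y = 0 := by
    intro y hy
    obtain ⟨y1, hy1, y2, hy2, rfl⟩ := Submodule.mem_sup.mp hy
    rw [map_add, hβJpp y1 hy1, hβJp y2 hy2, add_zero]
  let β : (QQ R c n ⧸ JJ π hcm f r S u ρ') →ₐ[R] Λ :=
    Ideal.Quotient.liftₐ (JJ π hcm f r S u ρ') (beta0 (c := c) π lam) hβJJ
  have hβ : ∀ y, β (Ideal.Quotient.mk _ y) = beta0 (c := c) π lam y := fun y => rfl
  refine ⟨α, β, ?_, ?_⟩
  · apply AlgHom.ext
    intro x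
    obtain ⟨p, rfl⟩ := surj x
    rw [AlgHom.comp_apply, hα, hβ, hβσ']
  · intro r₀ hr₀
    rw [Smoothing.singularIdeal, PrimeSpectrum.mem_vanishingIdeal]
    intro x hx
    by_contra hr₀x
    apply hx
    change Algebra.IsSmoothAt R x.asIdeal
    by_cases hπx : algebraMap R (QQ R c n ⧸ JJ π hcm f r S u ρ') π ∈ x.asIdeal
    · exact smooth_case2 π hcm f r S u ρ' H2 hmul hρ' hu r₀ hr₀ x.asIdeal hπx hr₀x
    · exact smooth_case1 π hcm f r S u ρ' a H1 H2 hmul x.asIdeal hπx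

end Groth.Agent.Lib.Helper22.Pop
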