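import Groth.Agent.Lib.Helper22.PopI

set_option autoImplicit false
universe u

namespace Groth.Agent.Lib.Helper22.Pop

open MvPolynomial

theorem desingularize {R Λ A : Type u} [CommRing R] [CommRing Λ]
    [Algebra R Λ] (π : R) (hΛ : ∀ x : Λ, π ^ 2 • x = 0 → π • x = 0) [CommRing A] [Algebra R A]
    (φ : A →ₐ[R] Λ)
    (hπ : Smoothing.IsStrictlyStandard R A (algebraMap R A π))
    (ρ : A →ₐ[R] R ⧸ Ideal.span {π ^ 4})
    (hρ : ∀ (a : A) (r : R), Ideal.Quotient.mk (Ideal.span {π ^ 4}) r = ρ a →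
      algebraMap R Λ r - φ a ∈ Ideal.span {algebraMap R Λ (π ^ 4)}) :
    ∃ (B : Type u) (_ : CommRing B) (_ : Algebra R B), Algebra.FinitePresentation R B ∧
      ∃ (α : A →ₐ[R] B) (β : B →ₐ[R] Λ), β.comp α = φ ∧
        ∀ r : R, (∀ x : R, π ^ 2 * x = 0 → π * (r * x) = 0) →
          algebraMap R B r ∈ Smoothing.singularIdeal R B := by
  classical
  obtain ⟨P, hmem, hkt⟩ := hπ
  -- H2
  have hCπ : P.hom (C π) = algebraMap R A π := by
    rw [← MvPolynomial.algebraMap_eq, AlgHom.commutes]
  have H2 := hkt (C π) hCπ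
  -- H1
  obtain ⟨a0, ha0⟩ := Ideal.mem_span_range_iff_exists_fun.mp hmem
  choose a ha using fun cols => P.surj (a0 cols)
  have hker : ∀ p, P.hom p = 0 → p ∈ Ideal.span (Set.range P.rel) := by
    intro p hp
    rw [← P.ker_eq]
    exact hp
  have hker' : ∀ p, p ∈ Ideal.span (Set.range P.rel) → P.hom p = 0 := by
    intro p hp
    rw [← P.ker_eq] at hp
    exact hp
  have H1 : C π - ∑ cols, a cols * Smoothing.jacobianMinor P.rel (Fin.castLE P.hcm) cols ∈
      Ideal.span (Set.range P.rel) := by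
    apply hker
    rw [map_sub, hCπ, map_sum, ← ha0, sub_eq_zero]
    exact Finset.sum_congr rfl fun cols _ => by rw [map_mul, ha]
  -- the point `r`
  choose r hr using fun i => Ideal.Quotient.mk_surjective (ρ (P.hom (X i)))
  have hρhom : ∀ p, ρ (P.hom p) = Ideal.Quotient.mk _ (eval r p) := by
    have : ρ.comp P.hom = (Ideal.Quotient.mkₐ R (Ideal.span {π ^ 4})).comp (aeval r) := by
      apply MvPolynomial.algHom_ext
      intro i
      rw [AlgHom.comp_apply, AlgHom.comp_apply, aeval_X, ← hr]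
      rfl
    intro p
    have h := DFunLike.congr_fun this p
    rw [AlgHom.comp_apply, AlgHom.comp_apply] at h
    rw [h, MvPolynomial.aeval_eq_eval]
    rfl
  have hevalmem : ∀ p, p ∈ Ideal.span (Set.range P.rel) → ∃ t, eval r p = π ^ 4 * t := by
    intro p hp
    have h1 := hρhom p
    rw [hker' p hp, map_zero] at h1
    have h2 := Ideal.Quotient.eq_zero_iff_mem.mp h1.symm
    obtain ⟨t, ht⟩ := Ideal.mem_span_singleton'.mp h2
    exact ⟨t, by rw [← ht, mul_comm]⟩
  choose ρ' hρ' using fun j => hevalmem (P.rel j) (Ideal.subset_span ⟨j, rfl⟩)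
  -- lam
  have hlam0 : ∀ i, ∃ l, φ (P.hom (X i)) = algebraMap R Λ (r i) + algebraMap R Λ (π ^ 4) * l := by
    intro i
    obtain ⟨l, hl⟩ := Ideal.mem_span_singleton'.mp (hρ (P.hom (X i)) (r i) (hr i))
    refine ⟨-l, ?_⟩
    have : φ (P.hom (X i)) = algebraMap R Λ (r i) - l * algebraMap R Λ (π ^ 4) := by
      rw [hl]; ring
    rw [this]; ring
  choose lam hlam using hlam0
  -- the matrix
  obtain ⟨t', ht'⟩ := hevalmem _ H1
  let M : Matrix (Fin P.c) (Fin P.n) R := Matrix.of fun j i => rr P.rel r (Fin.castLE P.hcm j) i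
  obtain ⟨S, hS0⟩ := exists_section_of_minors M (fun cols => eval r (a cols))
  have hminor : ∀ cols : Fin P.c → Fin P.n,
      eval r (Smoothing.jacobianMinor P.rel (Fin.castLE P.hcm) cols) =
        (Matrix.of fun j k => M j (cols k)).det := by
    intro cols
    unfold Smoothing.jacobianMinor
    rw [RingHom.map_det]
    congr 1
  have hsum : ∑ cols : Fin P.c → Fin P.n, eval r (a cols) *
      (Matrix.of fun j k => M j (cols k)).det = (1 - π ^ 3 * t') * π := by
    have : eval r (C π - ∑ cols, a cols *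
        Smoothing.jacobianMinor P.rel (Fin.castLE P.hcm) cols) =
        π - ∑ cols : Fin P.c → Fin P.n, eval r (a cols) *
          (Matrix.of fun j k => M j (cols k)).det := by
      rw [map_sub, eval_C, map_sum]
      congr 1
      exact Finset.sum_congr rfl fun cols _ => by rw [map_mul, hminor]
    rw [this] at ht'
    linear_combination (-1 : R) * ht'
  have hS : ∀ j k : Fin P.c,
      ∑ i, rr P.rel r (Fin.castLE P.hcm j) i * S i k =
        if j = k then (1 - π ^ 3 * t') * π else 0 := by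
    intro j k
    have h := congrFun (congrFun hS0 j) k
    rw [hsum, Matrix.mul_apply, Matrix.smul_apply, Matrix.one_apply, smul_eq_mul] at h
    rw [mul_ite, mul_one, mul_zero] at h
    exact h
  exact desingularize_aux π hΛ φ P.hcm P.rel P.hom P.surj P.ker_eq a H1 H2 r lam hlam ρ' hρ' S
    (1 - π ^ 3 * t') ⟨-(π ^ 2 * t'), by ring⟩ hS

end Groth.Agent.Lib.Helper22.Pop
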