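import Groth.Agent.Lib.Helper22.PopK
import Groth.Agent.S6829

set_option autoImplicit false
universe u

namespace Groth.Agent.Lib.Helper22.Pop

open MvPolynomial TensorProduct

/-- the relative version of the desingularization lemma, with `Λ` a `D`-algebra. -/
theorem desingularize_rel {R Λ A D : Type u} [CommRing R]
    [CommRing Λ] [Algebra R Λ] (π : R)
    (hΛ : ∀ x : Λ, π ^ 2 • x = 0 → π • x = 0) [CommRing A] [Algebra R A]
    [Algebra.FinitePresentation R A] [CommRing D] [Algebra R D]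
    [Algebra D Λ] [IsScalarTower R D Λ]
    (φ : A →ₐ[R] Λ) (hπ : Smoothing.IsStrictlyStandard R A (algebraMap R A π))
    (ψ : A →ₐ[R] D ⧸ Ideal.span {algebraMap R D (π ^ 4)})
    (hψ : ∀ (a : A) (d : D), Ideal.Quotient.mk (Ideal.span {algebraMap R D (π ^ 4)}) d = ψ a →
      algebraMap D Λ d - φ a ∈ Ideal.span {algebraMap R Λ (π ^ 4)}) :
    ∃ (B : Type u) (_ : CommRing B) (_ : Algebra D B), Algebra.FinitePresentation D B ∧
      ∃ (α : D ⊗[R] A →ₐ[D] B) (β : B →ₐ[D] Λ),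
        (∀ a : A, β (α ((1 : D) ⊗ₜ[R] a)) = φ a) ∧
        ∀ d : D, (∀ x : D, algebraMap R D π ^ 2 * x = 0 → algebraMap R D π * (d * x) = 0) →
          algebraMap D B d ∈ Smoothing.singularIdeal D B := by
  classical
  set πD : D := algebraMap R D π with hπD
  -- hΛ for D
  have hΛ' : ∀ x : Λ, πD ^ 2 • x = 0 → πD • x = 0 := by
    intro x hx
    rw [hπD, algebraMap_smul]
    apply hΛ
    rw [hπD, ← map_pow, algebraMap_smul] at hx
    exact hx
  -- strict standardness
  have hπ' : Smoothing.IsStrictlyStandard D (D ⊗[R] A) (algebraMap D (D ⊗[R] A) πD) := by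
    have h := (Groth.Agent.S6829.result (R := R) (A := A) (R' := D) (algebraMap R A π)).2 hπ
    have e : algebraMap D (D ⊗[R] A) πD = (1 : D) ⊗ₜ[R] algebraMap R A π := by
      rw [Algebra.TensorProduct.algebraMap_apply, hπD, Algebra.algebraMap_self, RingHom.id_apply,
        Algebra.algebraMap_eq_smul_one π, Algebra.algebraMap_eq_smul_one π]
      exact TensorProduct.smul_tmul π (1 : D) (1 : A)
    rw [e]
    exact h
  -- the maps
  have hspan : Ideal.span {algebraMap R D (π ^ 4)} = Ideal.span {πD ^ 4} := by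
    rw [map_pow]
  let ψ' : A →ₐ[R] D ⧸ Ideal.span {πD ^ 4} :=
    (Ideal.quotientEquivAlgOfEq R hspan).toAlgHom.comp ψ
  let ρ : D ⊗[R] A →ₐ[D] D ⧸ Ideal.span {πD ^ 4} :=
    Algebra.TensorProduct.lift (Algebra.ofId D _) ψ' (fun _ _ => Commute.all _ _)
  let φ' : D ⊗[R] A →ₐ[D] Λ :=
    Algebra.TensorProduct.lift (Algebra.ofId D Λ) φ (fun _ _ => Commute.all _ _)
  have hφ' : ∀ (d : D) (a : A), φ' (d ⊗ₜ[R] a) = algebraMap D Λ d * φ a := fun d a =>
    Algebra.TensorProduct.lift_tmul _ _ _ d a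
  have hρt : ∀ (d : D) (a : A), ρ (d ⊗ₜ[R] a) = Ideal.Quotient.mk _ d * ψ' a := fun d a =>
    Algebra.TensorProduct.lift_tmul _ _ _ d a
  have hspanΛ : Ideal.span {algebraMap D Λ (πD ^ 4)} = Ideal.span {algebraMap R Λ (π ^ 4)} := by
    rw [hπD, ← map_pow, ← IsScalarTower.algebraMap_apply]
  have hexists : ∀ a : D ⊗[R] A, ∃ d₀ : D, Ideal.Quotient.mk (Ideal.span {πD ^ 4}) d₀ = ρ a ∧
      algebraMap D Λ d₀ - φ' a ∈ Ideal.span {algebraMap R Λ (π ^ 4)} := by
    intro a
    induction a using TensorProduct.induction_on with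
    | zero => exact ⟨0, by simp, by simp⟩
    | tmul d a =>
      obtain ⟨d₁, hd₁⟩ := Ideal.Quotient.mk_surjective (ψ a)
      refine ⟨d * d₁, ?_, ?_⟩
      · rw [hρt, map_mul]
        congr 1
        change _ = (Ideal.quotientEquivAlgOfEq R hspan) (ψ a)
        rw [← hd₁, Ideal.quotientEquivAlgOfEq_mk]
      · rw [hφ', map_mul, ← mul_sub]
        exact Ideal.mul_mem_left _ _ (hψ a d₁ hd₁)
    | add x y hx hy =>
      obtain ⟨d₁, h1, h1'⟩ := hx
      obtain ⟨d₂, h2, h2'⟩ := hy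
      refine ⟨d₁ + d₂, by rw [map_add, map_add, h1, h2], ?_⟩
      rw [map_add, map_add]
      have : algebraMap D Λ d₁ + algebraMap D Λ d₂ - (φ' x + φ' y) =
        (algebraMap D Λ d₁ - φ' x) + (algebraMap D Λ d₂ - φ' y) := by ring
      rw [this]
      exact Ideal.add_mem _ h1' h2'
  have hρ : ∀ (a : D ⊗[R] A) (d : D), Ideal.Quotient.mk (Ideal.span {πD ^ 4}) d = ρ a →
      algebraMap D Λ d - φ' a ∈ Ideal.span {algebraMap D Λ (πD ^ 4)} := by
    intro a d hd
    obtain ⟨d₀, h0, h0'⟩ := hexists a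
    rw [hspanΛ]
    have h1 : d - d₀ ∈ Ideal.span {πD ^ 4} := by
      rw [← Ideal.Quotient.eq, hd, h0]
    obtain ⟨e, he⟩ := Ideal.mem_span_singleton'.mp h1
    have : algebraMap D Λ d - φ' a =
        (algebraMap D Λ d₀ - φ' a) + algebraMap D Λ e * algebraMap D Λ (πD ^ 4) := by
      rw [← map_mul, he, map_sub]; ring
    rw [this]
    refine Ideal.add_mem _ h0' (Ideal.mul_mem_left _ _ ?_)
    rw [← hspanΛ]
    exact Ideal.subset_span rfl
  obtain ⟨B, instB, instDB, hfp, α, β, hβα, hsing⟩ :=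
    desingularize (R := D) (Λ := Λ) (A := D ⊗[R] A) πD hΛ' φ' hπ' ρ hρ
  refine ⟨B, instB, instDB, hfp, α, β, ?_, ?_⟩
  · intro a
    have := DFunLike.congr_fun hβα ((1 : D) ⊗ₜ[R] a)
    rw [AlgHom.comp_apply] at this
    rw [this, hφ', map_one, one_mul]
  · exact hsing

end Groth.Agent.Lib.Helper22.Pop
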