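import Groth.Agent.Lib.Helper22.PopN

set_option autoImplicit false
universe u

namespace Groth.Agent.Lib.Helper22.Pop

open MvPolynomial

section lifting

variable {R : Type u} [CommRing R] (π : R) {n m : ℕ} (f : Fin m → MvPolynomial (Fin n) R)
  {K : Type u} (a : K → MvPolynomial (Fin n) R)
  (h : K → Fin m → Fin m → MvPolynomial (Fin n) R) (g : K → Fin m → MvPolynomial (Fin n) R)

/-- the polynomial ring in the `x_i` and `z_j`. -/
abbrev PP (R : Type u) [CommRing R] (n m : ℕ) := MvPolynomial (Fin (n + m)) R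

/-- inclusion of `R[x]` into `R[x, z]`. -/
noncomputable def iota (R : Type u) [CommRing R] (n m : ℕ) :
    MvPolynomial (Fin n) R →ₐ[R] PP R n m := rename (Fin.castAdd m)

/-- the variable `z_j`. -/
noncomputable def zv (R : Type u) [CommRing R] (n : ℕ) {m : ℕ} (j : Fin m) : PP R n m :=
  X (Fin.natAdd n j)

/-- the relation `f_ℓ - π z_ℓ`. -/
noncomputable def ee (ℓ : Fin m) : PP R n m := iota R n m (f ℓ) - C π * zv R n ℓ

/-- the relation `p_{k,ℓ}`. -/
noncomputable def pp (k : K) (ℓ : Fin m) : PP R n m :=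
  iota R n m (a k) * zv R n ℓ - ∑ j, iota R n m (h k ℓ j) * zv R n j - C π * iota R n m (g k ℓ)

theorem C_mul_pp (h4 : ∀ k ℓ, a k * f ℓ = ∑ j, h k ℓ j * f j + C (π ^ 2) * g k ℓ) (k : K)
    (ℓ : Fin m) :
    C π * pp π a h g k ℓ =
      ∑ j, iota R n m (h k ℓ j) * ee π f j - iota R n m (a k) * ee π f ℓ := by
  have h1 := congrArg (iota R n m) (h4 k ℓ)
  rw [map_mul, map_add, map_sum, map_mul] at h1
  simp only [map_mul] at h1
  have hC : iota R n m (C (π ^ 2)) = C π * C π := by
    rw [iota, rename_C, ← C_mul, pow_two]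
  rw [hC] at h1
  simp only [pp, ee, mul_sub, Finset.sum_sub_distrib, Finset.mul_sum]
  have h2 : ∑ j, iota R n m (h k ℓ j) * iota R n m (f j) =
      iota R n m (a k) * iota R n m (f ℓ) - C π * C π * iota R n m (g k ℓ) := by
    rw [h1]; ring
  rw [h2]
  have h3 : ∑ j, iota R n m (h k ℓ j) * (C π * zv R n j) =
      ∑ j, C π * (iota R n m (h k ℓ j) * zv R n j) :=
    Finset.sum_congr rfl fun j _ => by ring
  rw [h3]
  ring

/-- the ideal of `D₀`. -/
noncomputable abbrev J0 : Ideal (PP R n m) := Ideal.span (Set.range (ee π f))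

/-- the ideal of `D`. -/
noncomputable abbrev JD : Ideal (PP R n m) :=
  Ideal.span (Set.range (ee π f)) ⊔
    Ideal.span (Set.range fun kl : K × Fin m => pp π a h g kl.1 kl.2)

theorem finitePresentation_JD [Finite K] :
    Algebra.FinitePresentation R (PP R n m ⧸ JD π f a h g) :=
  Algebra.FinitePresentation.quotient
    (Submodule.FG.sup (Submodule.fg_span (Set.finite_range _))
      (Submodule.fg_span (Set.finite_range _)))

theorem C_mul_mem_J0 (h4 : ∀ k ℓ, a k * f ℓ = ∑ j, h k ℓ j * f j + C (π ^ 2) * g k ℓ)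
    {y : PP R n m} (hy : y ∈ JD π f a h g) : C π * y ∈ J0 π f := by
  obtain ⟨y1, hy1, y2, hy2, rfl⟩ := Submodule.mem_sup.mp hy
  clear hy
  rw [mul_add]
  refine Ideal.add_mem _ (Ideal.mul_mem_left _ _ hy1) ?_
  induction hy2 using Submodule.span_induction with
  | mem x hx =>
    obtain ⟨⟨k, ℓ⟩, rfl⟩ := hx
    change C π * pp π a h g k ℓ ∈ J0 π f
    rw [C_mul_pp π f a h g h4]
    exact Ideal.sub_mem _
      (Ideal.sum_mem _ fun j _ => Ideal.mul_mem_left _ _ (Ideal.subset_span ⟨j, rfl⟩))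
      (Ideal.mul_mem_left _ _ (Ideal.subset_span ⟨ℓ, rfl⟩))
  | zero => simp
  | add x y _ _ hx hy => rw [mul_add]; exact Ideal.add_mem _ hx hy
  | smul c x _ hx => rw [smul_eq_mul, mul_left_comm]; exact Ideal.mul_mem_left _ _ hx

/-! ### derivatives -/

theorem pderiv_natAdd_iota (k : Fin m) (F : MvPolynomial (Fin n) R) :
    pderiv (Fin.natAdd n k) (iota R n m F) = 0 := by
  classical
  refine pderiv_rename_of_notMem_range _ _ ?_ F
  intro i hi
  have := congrArg Fin.val hi
  simp at this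
  omega

theorem pderiv_castAdd_iota (i : Fin n) (F : MvPolynomial (Fin n) R) :
    pderiv (Fin.castAdd m i) (iota R n m F) = iota R n m (pderiv i F) := by
  classical
  exact pderiv_rename_of_injective _ (Fin.castAdd_injective n m) i F

theorem pderiv_natAdd_zv (k j : Fin m) :
    pderiv (Fin.natAdd n k) (zv R n j) = if j = k then 1 else 0 := by
  classical
  rw [zv, pderiv_X]
  by_cases hjk : j = k
  · subst hjk; simp
  · rw [if_neg hjk, Pi.single_eq_of_ne]
    intro h'
    exact hjk (Fin.natAdd_injective _ _ h')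

theorem pderiv_castAdd_zv (i : Fin n) (j : Fin m) :
    pderiv (Fin.castAdd m i) (zv R n j) = 0 := by
  classical
  rw [zv, pderiv_X, Pi.single_eq_of_ne]
  intro h'
  have := congrArg Fin.val h'
  simp at this
  omega

theorem pderiv_natAdd_ee (k ℓ : Fin m) :
    pderiv (Fin.natAdd n k) (ee π f ℓ) = if ℓ = k then -C π else 0 := by
  rw [ee, map_sub, pderiv_natAdd_iota, Derivation.leibniz, pderiv_natAdd_zv, pderiv_C]
  split_ifs <;> simp

theorem pderiv_castAdd_ee (i : Fin n) (ℓ : Fin m) :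
    pderiv (Fin.castAdd m i) (ee π f ℓ) = iota R n m (pderiv i (f ℓ)) := by
  rw [ee, map_sub, pderiv_castAdd_iota, Derivation.leibniz, pderiv_castAdd_zv, pderiv_C]
  simp

theorem pderiv_natAdd_pp (k₀ : K) (k ℓ : Fin m) :
    pderiv (Fin.natAdd n k) (pp π a h g k₀ ℓ) =
      (if ℓ = k then iota R n m (a k₀) else 0) - iota R n m (h k₀ ℓ k) := by
  classical
  rw [pp, map_sub, map_sub, map_sum]
  simp only [Derivation.leibniz, pderiv_natAdd_iota, pderiv_natAdd_zv, pderiv_C, smul_eq_mul,
    mul_zero, add_zero, sub_zero]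
  rw [Finset.sum_eq_single k]
  · rw [if_pos rfl, mul_one]
    split_ifs <;> simp
  · intro j _ hj; simp [hj]
  · intro hk; exact absurd (Finset.mem_univ k) hk

end lifting

end Groth.Agent.Lib.Helper22.Pop
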