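import Groth.Agent.Lib.Helper22.PopO

set_option autoImplicit false
universe u

namespace Groth.Agent.Lib.Helper22.Pop

open MvPolynomial

section lifting

variable {R : Type u} [CommRing R] (π : R) {n m : ℕ} (f : Fin m → MvPolynomial (Fin n) R)
  {K : Type u} (a : K → MvPolynomial (Fin n) R)
  (h : K → Fin m → Fin m → MvPolynomial (Fin n) R) (g : K → Fin m → MvPolynomial (Fin n) R)

theorem det_ee :
    Matrix.det (Matrix.of fun j k : Fin m => pderiv (Fin.natAdd n k) (ee π f j)) =
      (-(C π : PP R n m)) ^ m := by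
  classical
  have : (Matrix.of fun j k : Fin m => pderiv (Fin.natAdd n k) (ee π f j)) =
      Matrix.diagonal fun _ : Fin m => -(C π : PP R n m) := by
    ext j k
    rw [Matrix.of_apply, pderiv_natAdd_ee, Matrix.diagonal_apply]
  rw [this, Matrix.det_diagonal, Finset.prod_const, Finset.card_univ, Fintype.card_fin]

/-- `D₀ = R[x,z]/(f_j - π z_j)` is smooth at primes not containing `π`. -/
theorem isSmoothAt_D0 (q : Ideal (PP R n m ⧸ J0 π f)) [q.IsPrime]
    (hq : algebraMap R (PP R n m ⧸ J0 π f) π ∉ q) : Algebra.IsSmoothAt R q := by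
  refine isSmoothAt_of_minor_notMem (ee π f) (fun k => Fin.natAdd n k) q ?_
  rw [det_ee, map_pow, map_neg]
  intro hmem
  have h1 := Ideal.IsPrime.mem_of_pow_mem inferInstance _ hmem
  rw [Ideal.neg_mem_iff] at h1
  exact hq h1

/-- (b): `D` is smooth at primes not containing `π`. -/
theorem isSmoothAt_D_of_notMem
    (h4 : ∀ k ℓ, a k * f ℓ = ∑ j, h k ℓ j * f j + C (π ^ 2) * g k ℓ)
    (q : Ideal (PP R n m ⧸ JD π f a h g)) [q.IsPrime]
    (hq : algebraMap R (PP R n m ⧸ JD π f a h g) π ∉ q) : Algebra.IsSmoothAt R q := by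
  let ψ : (PP R n m ⧸ J0 π f) →ₐ[R] (PP R n m ⧸ JD π f a h g) :=
    Ideal.Quotient.factorₐ R (le_sup_left : J0 π f ≤ JD π f a h g)
  have hψmk : ∀ y : PP R n m, ψ (Ideal.Quotient.mk _ y) = Ideal.Quotient.mk _ y := fun y => rfl
  have hψsurj : Function.Surjective ψ := by
    intro x
    obtain ⟨y, rfl⟩ := Ideal.Quotient.mk_surjective x
    exact ⟨Ideal.Quotient.mk _ y, hψmk y⟩
  refine isSmoothAt_of_surjective ψ hψsurj q ?_ ?_
  · intro x hx
    obtain ⟨y, rfl⟩ := Ideal.Quotient.mk_surjective x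
    rw [hψmk, Ideal.Quotient.eq_zero_iff_mem] at hx
    refine ⟨algebraMap R _ π, ?_, ?_⟩
    · rw [AlgHom.commutes]; exact hq
    · have : algebraMap R (PP R n m ⧸ J0 π f) π * Ideal.Quotient.mk _ y =
          Ideal.Quotient.mk (J0 π f) (C π * y) := by
        rw [map_mul]; rfl
      rw [this, Ideal.Quotient.eq_zero_iff_mem]
      exact C_mul_mem_J0 π f a h g h4 hx
  · have : (q.comap ψ).IsPrime := Ideal.comap_isPrime ψ q
    refine isSmoothAt_D0 π f (q.comap ψ) ?_
    rw [Ideal.mem_comap, AlgHom.commutes]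
    exact hq

end lifting

end Groth.Agent.Lib.Helper22.Pop
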