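import Groth.Agent.Lib.Helper22.PopP

set_option autoImplicit false
universe u

namespace Groth.Agent.Lib.Helper22.Pop

open MvPolynomial

section lifting

variable {R : Type u} [CommRing R] (π : R) {n m : ℕ} (f : Fin m → MvPolynomial (Fin n) R)
  {K : Type u} (a : K → MvPolynomial (Fin n) R)
  (h : K → Fin m → Fin m → MvPolynomial (Fin n) R) (g : K → Fin m → MvPolynomial (Fin n) R)
  (k₀ : K) {c : ℕ} (rows : Fin c → Fin m) (cols : Fin c → Fin n)

open Classical in
/-- the relations of `D_k`. -/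
noncomputable def vk (ℓ : Fin m) : PP R n m :=
  if ∃ i, rows i = ℓ then ee π f ℓ else pp π a h g k₀ ℓ

open Classical in
/-- the columns for the Jacobian of `D_k`. -/
noncomputable def colsk (ℓ : Fin m) : Fin (n + m) :=
  if hℓ : ∃ i, rows i = ℓ then Fin.castAdd m (cols hℓ.choose) else Fin.natAdd n ℓ

/-- the ideal of `D_k`. -/
noncomputable abbrev Jk : Ideal (PP R n m) := Ideal.span (Set.range (vk π f a h g k₀ rows))

theorem vk_rows (i : Fin c) : vk π f a h g k₀ rows (rows i) = ee π f (rows i) := by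
  rw [vk, if_pos ⟨i, rfl⟩]

theorem vk_of_not (ℓ : Fin m) (hℓ : ¬ ∃ i, rows i = ℓ) :
    vk π f a h g k₀ rows ℓ = pp π a h g k₀ ℓ := by
  rw [vk, if_neg hℓ]

theorem colsk_rows (hrows : Function.Injective rows) (i : Fin c) :
    colsk (n := n) rows cols (rows i) = Fin.castAdd m (cols i) := by
  have hex : ∃ i', rows i' = rows i := ⟨i, rfl⟩
  rw [colsk, dif_pos hex]
  congr 2
  exact hrows hex.choose_spec

theorem colsk_of_not (ℓ : Fin m) (hℓ : ¬ ∃ i, rows i = ℓ) :
    colsk (n := n) rows cols ℓ = Fin.natAdd n ℓ := by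
  rw [colsk, dif_neg hℓ]

theorem det_vk (hrows : Function.Injective rows)
    (hsupp : ∀ ℓ j, (¬ ∃ i, rows i = j) → h k₀ ℓ j = 0) :
    ∃ N : ℕ, Matrix.det (Matrix.of fun j k : Fin m =>
      pderiv (colsk (n := n) rows cols k) (vk π f a h g k₀ rows j)) =
      iota R n m (Smoothing.jacobianMinor f rows cols) * iota R n m (a k₀) ^ N := by
  classical
  set M : Matrix (Fin m) (Fin m) (PP R n m) := Matrix.of fun j k : Fin m =>
      pderiv (colsk (n := n) rows cols k) (vk π f a h g k₀ rows j) with hM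
  refine ⟨Fintype.card {ℓ : Fin m // ¬ ∃ i, rows i = ℓ}, ?_⟩
  rw [Matrix.twoBlockTriangular_det' M (fun ℓ => ∃ i, rows i = ℓ)]
  · congr 1
    · -- the block of the chosen relations
      let e : Fin c ≃ {ℓ : Fin m // ∃ i, rows i = ℓ} :=
        Equiv.ofBijective (fun i => ⟨rows i, i, rfl⟩)
          ⟨fun i i' hii' => hrows (congrArg Subtype.val hii'), fun ⟨ℓ, i, hi⟩ => ⟨i, Subtype.ext hi⟩⟩
      rw [← Matrix.det_submatrix_equiv_self e]
      have : (Matrix.toSquareBlockProp M fun ℓ => ∃ i, rows i = ℓ).submatrix e e =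
          (iota R n m).toRingHom.mapMatrix
            (Matrix.of fun j k : Fin c => pderiv (cols k) (f (rows j))) := by
        refine Matrix.ext fun i i' => ?_
        change M (rows i) (rows i') = iota R n m (pderiv (cols i') (f (rows i)))
        rw [hM, Matrix.of_apply, colsk_rows rows cols hrows, vk_rows, pderiv_castAdd_ee]
      rw [this, ← RingHom.map_det]
      rfl
    · have : (Matrix.toSquareBlockProp M fun ℓ => ¬ ∃ i, rows i = ℓ) =
          Matrix.diagonal fun _ => iota R n m (a k₀) := by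
        refine Matrix.ext fun ⟨ℓ, hℓ⟩ ⟨ℓ', hℓ'⟩ => ?_
        change M ℓ ℓ' = _
        rw [hM, Matrix.of_apply, colsk_of_not rows cols ℓ' hℓ', vk_of_not π f a h g k₀ rows ℓ hℓ,
          pderiv_natAdd_pp, hsupp ℓ ℓ' hℓ', map_zero, sub_zero, Matrix.diagonal_apply]
        simp only [Subtype.mk.injEq]
      rw [this, Matrix.det_diagonal, Finset.prod_const, Finset.card_univ]
  · intro ℓ hℓ ℓ' hℓ'
    obtain ⟨i, rfl⟩ := hℓ
    rw [hM, Matrix.of_apply, colsk_of_not rows cols ℓ' hℓ', vk_rows, pderiv_natAdd_ee, if_neg]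
    rintro rfl
    exact hℓ' ⟨i, rfl⟩

/-- `D_k` is smooth at primes not containing the minor and `a_{k₀}`. -/
theorem isSmoothAt_Dk (hrows : Function.Injective rows)
    (hsupp : ∀ ℓ j, (¬ ∃ i, rows i = j) → h k₀ ℓ j = 0)
    (q : Ideal (PP R n m ⧸ Jk π f a h g k₀ rows)) [q.IsPrime]
    (hq1 : Ideal.Quotient.mk (Jk π f a h g k₀ rows)
      (iota R n m (Smoothing.jacobianMinor f rows cols)) ∉ q)
    (hq2 : Ideal.Quotient.mk (Jk π f a h g k₀ rows) (iota R n m (a k₀)) ∉ q) :
    Algebra.IsSmoothAt R q := by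
  refine isSmoothAt_of_minor_notMem (vk π f a h g k₀ rows) (colsk (n := n) rows cols) q ?_
  obtain ⟨N, hN⟩ := det_vk π f a h g k₀ rows cols hrows hsupp
  rw [hN, map_mul, map_pow]
  intro hmem
  rcases Ideal.IsPrime.mem_or_mem inferInstance hmem with h1 | h1
  · exact hq1 h1
  · exact hq2 (Ideal.IsPrime.mem_of_pow_mem inferInstance _ h1)

end lifting

end Groth.Agent.Lib.Helper22.Pop
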