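import Groth.Agent.Lib.Helper22.PopQ

set_option autoImplicit false
universe u

namespace Groth.Agent.Lib.Helper22.Pop

open MvPolynomial

section lifting

variable {R : Type u} [CommRing R] (π : R) {n m : ℕ} (f : Fin m → MvPolynomial (Fin n) R)
  {K : Type u} (a : K → MvPolynomial (Fin n) R)
  (h : K → Fin m → Fin m → MvPolynomial (Fin n) R) (g : K → Fin m → MvPolynomial (Fin n) R)
  (k₀ : K) {c : ℕ} (rows : Fin c → Fin m) (cols : Fin c → Fin n)

theorem pp_mem_Jk (hnorm : ∀ i, pp π a h g k₀ (rows i) = 0) (ℓ : Fin m) :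
    pp π a h g k₀ ℓ ∈ Jk π f a h g k₀ rows := by
  by_cases hℓ : ∃ i, rows i = ℓ
  · obtain ⟨i, rfl⟩ := hℓ
    rw [hnorm]; exact Ideal.zero_mem _
  · rw [← vk_of_not π f a h g k₀ rows ℓ hℓ]
    exact Ideal.subset_span ⟨ℓ, rfl⟩

theorem ee_mem_Jk (i : Fin c) : ee π f (rows i) ∈ Jk π f a h g k₀ rows := by
  rw [← vk_rows π f a h g k₀ rows i]
  exact Ideal.subset_span ⟨rows i, rfl⟩

/-- (K1) -/
theorem iota_mul_ee_mem_Jk
    (h4 : ∀ k ℓ, a k * f ℓ = ∑ j, h k ℓ j * f j + C (π ^ 2) * g k ℓ)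
    (hsupp : ∀ ℓ j, (¬ ∃ i, rows i = j) → h k₀ ℓ j = 0)
    (hnorm : ∀ i, pp π a h g k₀ (rows i) = 0) (ℓ : Fin m) :
    iota R n m (a k₀) * ee π f ℓ ∈ Jk π f a h g k₀ rows := by
  have h1 := C_mul_pp π f a h g h4 k₀ ℓ
  have h2 : iota R n m (a k₀) * ee π f ℓ =
      ∑ j, iota R n m (h k₀ ℓ j) * ee π f j - C π * pp π a h g k₀ ℓ := by
    rw [h1]; ring
  rw [h2]
  refine Ideal.sub_mem _ (Ideal.sum_mem _ fun j _ => ?_)
    (Ideal.mul_mem_left _ _ (pp_mem_Jk π f a h g k₀ rows hnorm ℓ))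
  by_cases hj : ∃ i, rows i = j
  · obtain ⟨i, rfl⟩ := hj
    exact Ideal.mul_mem_left _ _ (ee_mem_Jk π f a h g k₀ rows i)
  · rw [hsupp ℓ j hj, map_zero, zero_mul]; exact Ideal.zero_mem _

/-- (K2) -/
theorem C_mul_iota_mul_pp_mem_Jk
    (h4 : ∀ k ℓ, a k * f ℓ = ∑ j, h k ℓ j * f j + C (π ^ 2) * g k ℓ)
    (hsupp : ∀ ℓ j, (¬ ∃ i, rows i = j) → h k₀ ℓ j = 0)
    (hnorm : ∀ i, pp π a h g k₀ (rows i) = 0) (k : K) (ℓ : Fin m) :
    C π * (iota R n m (a k₀) * pp π a h g k ℓ) ∈ Jk π f a h g k₀ rows := by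
  have h1 := C_mul_pp π f a h g h4 k ℓ
  have h2 : C π * (iota R n m (a k₀) * pp π a h g k ℓ) =
      ∑ j, iota R n m (h k ℓ j) * (iota R n m (a k₀) * ee π f j) -
        iota R n m (a k) * (iota R n m (a k₀) * ee π f ℓ) := by
    rw [mul_left_comm, h1, mul_sub, Finset.mul_sum]
    congr 1
    · exact Finset.sum_congr rfl fun j _ => by ring
    · ring
  rw [h2]
  exact Ideal.sub_mem _
    (Ideal.sum_mem _ fun j _ => Ideal.mul_mem_left _ _
      (iota_mul_ee_mem_Jk π f a h g k₀ rows h4 hsupp hnorm j))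
    (Ideal.mul_mem_left _ _ (iota_mul_ee_mem_Jk π f a h g k₀ rows h4 hsupp hnorm ℓ))

/-- the ideal `T = J_k + (π)`. -/
noncomputable abbrev Tk : Ideal (PP R n m) :=
  Jk π f a h g k₀ rows ⊔ Ideal.span {(C π : PP R n m)}

theorem C_mul_mem_Tk (y : PP R n m) : C π * y ∈ Tk π f a h g k₀ rows :=
  Ideal.mem_sup_right (Ideal.mul_mem_right _ _ (Ideal.subset_span rfl))

/-- (T3) -/
theorem iota_mul_iota_mem_Tk
    (h4 : ∀ k ℓ, a k * f ℓ = ∑ j, h k ℓ j * f j + C (π ^ 2) * g k ℓ)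
    (hsupp : ∀ ℓ j, (¬ ∃ i, rows i = j) → h k₀ ℓ j = 0)
    (hnorm : ∀ i, pp π a h g k₀ (rows i) = 0) {F : MvPolynomial (Fin n) R}
    (hF : F ∈ Ideal.span (Set.range f) ⊔ Ideal.span {(C (π ^ 2) : MvPolynomial (Fin n) R)}) :
    iota R n m (a k₀) * iota R n m F ∈ Tk π f a h g k₀ rows := by
  obtain ⟨F1, hF1, F2, hF2, rfl⟩ := Submodule.mem_sup.mp hF
  clear hF
  rw [map_add, mul_add]
  refine Ideal.add_mem _ ?_ ?_
  · induction hF1 using Submodule.span_induction with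
    | mem x hx =>
      obtain ⟨j, rfl⟩ := hx
      have : iota R n m (a k₀) * iota R n m (f j) =
          iota R n m (a k₀) * ee π f j + C π * (iota R n m (a k₀) * zv R n j) := by
        rw [ee]; ring
      rw [this]
      exact Ideal.add_mem _
        (Ideal.mem_sup_left (iota_mul_ee_mem_Jk π f a h g k₀ rows h4 hsupp hnorm j))
        (C_mul_mem_Tk π f a h g k₀ rows _)
    | zero => simp
    | add x y _ _ hx hy => rw [map_add, mul_add]; exact Ideal.add_mem _ hx hy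
    | smul c x _ hx =>
      rw [smul_eq_mul, map_mul, mul_left_comm]; exact Ideal.mul_mem_left _ _ hx
  · obtain ⟨w, rfl⟩ := Ideal.mem_span_singleton'.mp hF2
    have : iota R n m (a k₀) * iota R n m (w * C (π ^ 2)) =
        C π * (iota R n m (a k₀) * iota R n m w * C π) := by
      rw [map_mul, iota, rename_C, pow_two, C_mul]; ring
    rw [this]
    exact C_mul_mem_Tk π f a h g k₀ rows _

/-- the coefficients `c̃`. -/
noncomputable def ctil (k : K) (ℓ : Fin m) (j'' : Fin m) : MvPolynomial (Fin n) R :=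
  a k * h k₀ ℓ j'' - ∑ j, h k ℓ j * h k₀ j j''

theorem ctil_eq_zero (hsupp : ∀ ℓ j, (¬ ∃ i, rows i = j) → h k₀ ℓ j = 0) (k : K) (ℓ j'' : Fin m)
    (hj : ¬ ∃ i, rows i = j'') : ctil a h k₀ k ℓ j'' = 0 := by
  rw [ctil, hsupp ℓ j'' hj, mul_zero, zero_sub, neg_eq_zero]
  exact Finset.sum_eq_zero fun j _ => by rw [hsupp j j'' hj, mul_zero]

theorem sum_ctil_mul (h4 : ∀ k ℓ, a k * f ℓ = ∑ j, h k ℓ j * f j + C (π ^ 2) * g k ℓ) (k : K)
    (ℓ : Fin m) :
    ∑ j'', ctil a h k₀ k ℓ j'' * f j'' =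
      C (π ^ 2) * (a k₀ * g k ℓ - a k * g k₀ ℓ + ∑ j, h k ℓ j * g k₀ j) := by
  have hL : ∀ ℓ', ∑ j'', h k₀ ℓ' j'' * f j'' = a k₀ * f ℓ' - C (π ^ 2) * g k₀ ℓ' := by
    intro ℓ'; rw [h4 k₀ ℓ']; ring
  have h1 : ∑ j'', ctil a h k₀ k ℓ j'' * f j'' =
      a k * ∑ j'', h k₀ ℓ j'' * f j'' - ∑ j, h k ℓ j * ∑ j'', h k₀ j j'' * f j'' := by
    simp only [ctil, sub_mul, Finset.sum_sub_distrib, Finset.mul_sum, Finset.sum_mul]
    congr 1
    · exact Finset.sum_congr rfl fun j _ => by ring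
    · rw [Finset.sum_comm]
      exact Finset.sum_congr rfl fun j _ => Finset.sum_congr rfl fun j'' _ => by ring
  rw [h1, hL]
  simp only [hL, mul_sub, Finset.sum_sub_distrib]
  have h2 : ∑ j, h k ℓ j * (a k₀ * f j) = a k₀ * (a k * f ℓ - C (π ^ 2) * g k ℓ) := by
    rw [h4 k ℓ, add_sub_cancel_right, Finset.mul_sum]
    exact Finset.sum_congr rfl fun j _ => by ring
  rw [h2, mul_add, mul_sub, Finset.mul_sum]
  have h3 : ∑ j, h k ℓ j * (C (π ^ 2) * g k₀ j) = ∑ j, C (π ^ 2) * (h k ℓ j * g k₀ j) :=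
    Finset.sum_congr rfl fun j _ => by ring
  rw [h3]
  ring

/-- identity (E) -/
theorem iota_mul_pp_eq (k : K) (ℓ : Fin m) :
    iota R n m (a k₀) * pp π a h g k ℓ =
      iota R n m (a k) * pp π a h g k₀ ℓ - ∑ j, iota R n m (h k ℓ j) * pp π a h g k₀ j +
        ∑ j'', iota R n m (ctil a h k₀ k ℓ j'') * zv R n j'' +
        C π * (iota R n m (a k * g k₀ ℓ) - ∑ j, iota R n m (h k ℓ j * g k₀ j) -
          iota R n m (a k₀ * g k ℓ)) := by
  have h1 : ∑ j, iota R n m (h k ℓ j) * pp π a h g k₀ j =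
      iota R n m (a k₀) * ∑ j, iota R n m (h k ℓ j) * zv R n j -
        ∑ j, iota R n m (h k ℓ j) * ∑ j'', iota R n m (h k₀ j j'') * zv R n j'' -
        C π * ∑ j, iota R n m (h k ℓ j * g k₀ j) := by
    simp only [pp, mul_sub, Finset.sum_sub_distrib, Finset.mul_sum, map_mul]
    congr 1
    · congr 1
      exact Finset.sum_congr rfl fun j _ => by ring
    · exact Finset.sum_congr rfl fun j _ => by ring
  have h2 : ∑ j'', iota R n m (ctil a h k₀ k ℓ j'') * zv R n j'' =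
      iota R n m (a k) * ∑ j'', iota R n m (h k₀ ℓ j'') * zv R n j'' -
        ∑ j, iota R n m (h k ℓ j) * ∑ j'', iota R n m (h k₀ j j'') * zv R n j'' := by
    simp only [ctil, map_sub, map_mul, map_sum, sub_mul, Finset.sum_sub_distrib, Finset.mul_sum,
      Finset.sum_mul]
    congr 1
    · exact Finset.sum_congr rfl fun j _ => by ring
    · rw [Finset.sum_comm]
      exact Finset.sum_congr rfl fun j _ => Finset.sum_congr rfl fun j'' _ => by ring
  rw [h1, h2]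
  simp only [pp, map_mul]
  ring

end lifting

end Groth.Agent.Lib.Helper22.Pop
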