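import Groth.Agent.Lib.Helper22.PopR

set_option autoImplicit false
universe u

namespace Groth.Agent.Lib.Helper22.Pop

open MvPolynomial

section lifting

variable {R : Type u} [CommRing R] (π : R) {n m : ℕ} (f : Fin m → MvPolynomial (Fin n) R)
  {K : Type u} (a : K → MvPolynomial (Fin n) R)
  (h : K → Fin m → Fin m → MvPolynomial (Fin n) R) (g : K → Fin m → MvPolynomial (Fin n) R)
  (k₀ : K) {c : ℕ} (rows : Fin c → Fin m) (cols : Fin c → Fin n)

theorem sum_eq_sum_rows {M : Type*} [AddCommMonoid M] (hrows : Function.Injective rows)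
    (F : Fin m → M) (hF : ∀ j, (¬ ∃ i, rows i = j) → F j = 0) :
    ∑ j, F j = ∑ i, F (rows i) := by
  classical
  rw [← Finset.sum_image (s := Finset.univ) (g := rows) (f := F) (fun x _ y _ hxy => hrows hxy)]
  symm
  apply Finset.sum_subset (Finset.subset_univ _)
  intro j _ hj
  apply hF
  rintro ⟨i, rfl⟩
  exact hj (Finset.mem_image_of_mem _ (Finset.mem_univ i))

/-- (T4) -/
theorem minor_mul_pp_mem_Tk
    (h4 : ∀ k ℓ, a k * f ℓ = ∑ j, h k ℓ j * f j + C (π ^ 2) * g k ℓ)
    (hrows : Function.Injective rows)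
    (hsupp : ∀ ℓ j, (¬ ∃ i, rows i = j) → h k₀ ℓ j = 0)
    (hnorm : ∀ i, pp π a h g k₀ (rows i) = 0) (k : K) (ℓ : Fin m) :
    iota R n m (Smoothing.jacobianMinor f rows cols) *
      (iota R n m (a k₀) * (iota R n m (a k₀) * pp π a h g k ℓ)) ∈ Tk π f a h g k₀ rows := by
  rw [iota_mul_pp_eq π a h g k₀ k ℓ]
  set mn := iota R n m (Smoothing.jacobianMinor f rows cols) with hmn
  set A0 := iota R n m (a k₀) with hA0
  simp only [mul_add]
  refine Ideal.add_mem _ (Ideal.add_mem _ ?_ ?_) ?_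
  · refine Ideal.mem_sup_left (Ideal.mul_mem_left _ _ (Ideal.mul_mem_left _ _ ?_))
    exact Ideal.sub_mem _ (Ideal.mul_mem_left _ _ (pp_mem_Jk π f a h g k₀ rows hnorm ℓ))
      (Ideal.sum_mem _ fun j _ => Ideal.mul_mem_left _ _ (pp_mem_Jk π f a h g k₀ rows hnorm j))
  · rw [Finset.mul_sum, Finset.mul_sum]
    refine Ideal.sum_mem _ fun j'' _ => ?_
    by_cases hj : ∃ i, rows i = j''
    · obtain ⟨i, rfl⟩ := hj
      have hsum : ∑ i, ctil a h k₀ k ℓ (rows i) * f (rows i) =
          C (π ^ 2) * (a k₀ * g k ℓ - a k * g k₀ ℓ + ∑ j, h k ℓ j * g k₀ j) := by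
        rw [← sum_ctil_mul π f a h g k₀ h4 k ℓ]
        symm
        apply sum_eq_sum_rows rows hrows
        intro j hj
        rw [ctil_eq_zero a h k₀ rows hsupp k ℓ j hj, zero_mul]
      have hmem := minor_mul_mem π f rows cols (fun i => ctil a h k₀ k ℓ (rows i)) _ hsum i
      have h1 := iota_mul_iota_mem_Tk π f a h g k₀ rows h4 hsupp hnorm hmem
      have h2 : mn * (A0 * (iota R n m (ctil a h k₀ k ℓ (rows i)) * zv R n (rows i))) =
          (A0 * iota R n m (Smoothing.jacobianMinor f rows cols * ctil a h k₀ k ℓ (rows i))) *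
            zv R n (rows i) := by
        rw [map_mul]; ring
      rw [h2]
      exact Ideal.mul_mem_right _ _ h1
    · rw [ctil_eq_zero a h k₀ rows hsupp k ℓ j'' hj, map_zero, zero_mul, mul_zero, mul_zero]
      exact Ideal.zero_mem _
  · have : mn * (A0 * (C π * (iota R n m (a k * g k₀ ℓ) - ∑ j, iota R n m (h k ℓ j * g k₀ j) -
        iota R n m (a k₀ * g k ℓ)))) = C π * (mn * (A0 * (iota R n m (a k * g k₀ ℓ) -
          ∑ j, iota R n m (h k ℓ j * g k₀ j) - iota R n m (a k₀ * g k ℓ)))) := by ring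
    rw [this]
    exact C_mul_mem_Tk π f a h g k₀ rows _

theorem Jk_le_JD : Jk π f a h g k₀ rows ≤ JD π f a h g := by
  rw [Ideal.span_le]
  rintro _ ⟨ℓ, rfl⟩
  by_cases hℓ : ∃ i, rows i = ℓ
  · obtain ⟨i, rfl⟩ := hℓ
    rw [vk_rows]
    exact Ideal.mem_sup_left (Ideal.subset_span ⟨rows i, rfl⟩)
  · rw [vk_of_not π f a h g k₀ rows ℓ hℓ]
    exact Ideal.mem_sup_right (Ideal.subset_span ⟨(k₀, ℓ), rfl⟩)

/-- (c), local form: `D` is smooth at primes containing `π` but not `a_{k₀}`. -/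
theorem isSmoothAt_D_of_mem (hR : ∀ x : R, π ^ 2 * x = 0 → π * x = 0)
    (h4 : ∀ k ℓ, a k * f ℓ = ∑ j, h k ℓ j * f j + C (π ^ 2) * g k ℓ)
    (hrows : Function.Injective rows)
    (hsupp : ∀ ℓ j, (¬ ∃ i, rows i = j) → h k₀ ℓ j = 0)
    (hnorm : ∀ i, pp π a h g k₀ (rows i) = 0)
    (a' : MvPolynomial (Fin n) R)
    (hM : a k₀ - a' * Smoothing.jacobianMinor f rows cols ∈
      Ideal.span (Set.range f) ⊔ Ideal.span {(C π : MvPolynomial (Fin n) R)})
    (q : Ideal (PP R n m ⧸ JD π f a h g)) [q.IsPrime]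
    (hπq : algebraMap R (PP R n m ⧸ JD π f a h g) π ∈ q)
    (haq : Ideal.Quotient.mk (JD π f a h g) (iota R n m (a k₀)) ∉ q) :
    Algebra.IsSmoothAt R q := by
  classical
  have hle := Jk_le_JD π f a h g k₀ rows
  let ψ : (PP R n m ⧸ Jk π f a h g k₀ rows) →ₐ[R] (PP R n m ⧸ JD π f a h g) :=
    Ideal.Quotient.factorₐ R hle
  have hψmk : ∀ y : PP R n m, ψ (Ideal.Quotient.mk _ y) = Ideal.Quotient.mk _ y := fun y => rfl
  have hψsurj : Function.Surjective ψ := by
    intro x
    obtain ⟨y, rfl⟩ := Ideal.Quotient.mk_surjective x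
    exact ⟨Ideal.Quotient.mk _ y, hψmk y⟩
  have hprime : (q.comap ψ).IsPrime := Ideal.comap_isPrime ψ q
  have hπq' : algebraMap R (PP R n m ⧸ Jk π f a h g k₀ rows) π ∈ q.comap ψ := by
    rw [Ideal.mem_comap, AlgHom.commutes]; exact hπq
  have haq' : Ideal.Quotient.mk (Jk π f a h g k₀ rows) (iota R n m (a k₀)) ∉ q.comap ψ := by
    rw [Ideal.mem_comap, hψmk]; exact haq
  -- the minor is not in `q`
  have hCπ : Ideal.Quotient.mk (JD π f a h g) (C π) ∈ q := hπq
  have hiotaF : ∀ F ∈ Ideal.span (Set.range f) ⊔ Ideal.span {(C π : MvPolynomial (Fin n) R)},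
      Ideal.Quotient.mk (JD π f a h g) (iota R n m F) ∈ q := by
    intro F hF
    obtain ⟨F1, hF1, F2, hF2, rfl⟩ := Submodule.mem_sup.mp hF
    clear hF
    rw [map_add, map_add]
    refine Ideal.add_mem _ ?_ ?_
    · induction hF1 using Submodule.span_induction with
      | mem x hx =>
        obtain ⟨j, rfl⟩ := hx
        have h1 : iota R n m (f j) = ee π f j + C π * zv R n j := by rw [ee]; ring
        have h2 : Ideal.Quotient.mk (JD π f a h g) (ee π f j) = 0 :=
          Ideal.Quotient.eq_zero_iff_mem.mpr (Ideal.mem_sup_left (Ideal.subset_span ⟨j, rfl⟩))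
        rw [h1, map_add, h2, zero_add, map_mul]
        exact Ideal.mul_mem_right _ _ hCπ
      | zero => simp
      | add x y _ _ hx hy => rw [map_add, map_add]; exact Ideal.add_mem _ hx hy
      | smul c x _ hx => rw [smul_eq_mul, map_mul, map_mul]; exact Ideal.mul_mem_left _ _ hx
    · obtain ⟨w, rfl⟩ := Ideal.mem_span_singleton'.mp hF2
      have : iota R n m (w * C π) = iota R n m w * C π := by
        rw [map_mul, iota, rename_C]
      rw [this, map_mul]
      exact Ideal.mul_mem_left _ _ hCπ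
  have hminor : Ideal.Quotient.mk (Jk π f a h g k₀ rows)
      (iota R n m (Smoothing.jacobianMinor f rows cols)) ∉ q.comap ψ := by
    rw [Ideal.mem_comap, hψmk]
    intro hmem
    apply haq
    have h1 := hiotaF _ hM
    have h2 : iota R n m (a k₀) = iota R n m (a k₀ - a' * Smoothing.jacobianMinor f rows cols) +
        iota R n m a' * iota R n m (Smoothing.jacobianMinor f rows cols) := by
      rw [← map_mul, ← map_add]; congr 1; ring
    rw [h2, map_add, map_mul]
    exact Ideal.add_mem _ h1 (Ideal.mul_mem_left _ _ hmem)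
  have hsm : Algebra.IsSmoothAt R (q.comap ψ) :=
    isSmoothAt_Dk π f a h g k₀ rows cols hrows hsupp (q.comap ψ) hminor haq'
  have hfp : Algebra.FinitePresentation R (PP R n m ⧸ Jk π f a h g k₀ rows) :=
    Algebra.FinitePresentation.quotient (Submodule.fg_span (Set.finite_range _))
  refine isSmoothAt_of_surjective ψ hψsurj q ?_ hsm
  -- the kernel is locally zero
  have Pee : ∀ ℓ, ∃ s : PP R n m ⧸ Jk π f a h g k₀ rows, s ∉ q.comap ψ ∧
      s * Ideal.Quotient.mk _ (ee π f ℓ) = 0 := by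
    intro ℓ
    refine ⟨_, haq', ?_⟩
    rw [← map_mul, Ideal.Quotient.eq_zero_iff_mem]
    exact iota_mul_ee_mem_Jk π f a h g k₀ rows h4 hsupp hnorm ℓ
  have Ppp : ∀ k ℓ, ∃ s : PP R n m ⧸ Jk π f a h g k₀ rows, s ∉ q.comap ψ ∧
      s * Ideal.Quotient.mk _ (pp π a h g k ℓ) = 0 := by
    intro k ℓ
    set y := iota R n m (Smoothing.jacobianMinor f rows cols) *
      (iota R n m (a k₀) * (iota R n m (a k₀) * pp π a h g k ℓ)) with hy
    have hT := minor_mul_pp_mem_Tk π f a h g k₀ rows cols h4 hrows hsupp hnorm k ℓ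
    rw [← hy] at hT
    obtain ⟨y1, hy1, y2, hy2, hyy⟩ := Submodule.mem_sup.mp hT
    obtain ⟨w, rfl⟩ := Ideal.mem_span_singleton'.mp hy2
    have h1 : Ideal.Quotient.mk (Jk π f a h g k₀ rows) y =
        algebraMap R _ π * Ideal.Quotient.mk (Jk π f a h g k₀ rows) w := by
      rw [← hyy, map_add, Ideal.Quotient.eq_zero_iff_mem.mpr hy1, zero_add, map_mul, mul_comm]
      rfl
    have h2 : algebraMap R _ π * Ideal.Quotient.mk (Jk π f a h g k₀ rows) y = 0 := by
      have : algebraMap R (PP R n m ⧸ Jk π f a h g k₀ rows) π =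
          Ideal.Quotient.mk (Jk π f a h g k₀ rows) (C π) := rfl
      rw [this, ← map_mul, Ideal.Quotient.eq_zero_iff_mem]
      have : C π * y = (iota R n m (Smoothing.jacobianMinor f rows cols) * iota R n m (a k₀)) *
          (C π * (iota R n m (a k₀) * pp π a h g k ℓ)) := by rw [hy]; ring
      rw [this]
      exact Ideal.mul_mem_left _ _
        (C_mul_iota_mul_pp_mem_Jk π f a h g k₀ rows h4 hsupp hnorm k ℓ)
    obtain ⟨s, hs, hs0⟩ := exists_notMem_mul_eq_zero_of_dvd π hR (q.comap ψ) hsm _ _ h1 h2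
    refine ⟨s * (Ideal.Quotient.mk _ (iota R n m (Smoothing.jacobianMinor f rows cols)) *
      (Ideal.Quotient.mk _ (iota R n m (a k₀)) * Ideal.Quotient.mk _ (iota R n m (a k₀)))), ?_, ?_⟩
    · intro hmem
      rcases Ideal.IsPrime.mem_or_mem hprime hmem with h' | h'
      · exact hs h'
      · rcases Ideal.IsPrime.mem_or_mem hprime h' with h'' | h''
        · exact hminor h''
        · rcases Ideal.IsPrime.mem_or_mem hprime h'' with h''' | h'''
          · exact haq' h'''
          · exact haq' h'''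
    · have : s * (Ideal.Quotient.mk _ (iota R n m (Smoothing.jacobianMinor f rows cols)) *
          (Ideal.Quotient.mk _ (iota R n m (a k₀)) * Ideal.Quotient.mk _ (iota R n m (a k₀)))) *
          Ideal.Quotient.mk _ (pp π a h g k ℓ) =
          s * Ideal.Quotient.mk (Jk π f a h g k₀ rows) y := by
        rw [hy]; simp only [map_mul]; ring
      rw [this, hs0]
  have Pspan : ∀ (gen : Set (PP R n m)),
      (∀ y ∈ gen, ∃ s : PP R n m ⧸ Jk π f a h g k₀ rows, s ∉ q.comap ψ ∧
        s * Ideal.Quotient.mk _ y = 0) →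
      ∀ y ∈ Ideal.span gen, ∃ s : PP R n m ⧸ Jk π f a h g k₀ rows, s ∉ q.comap ψ ∧
        s * Ideal.Quotient.mk _ y = 0 := by
    intro gen hgen y hy
    induction hy using Submodule.span_induction with
    | mem x hx => exact hgen x hx
    | zero => exact ⟨1, fun h1 => hprime.ne_top ((Ideal.eq_top_iff_one _).mpr h1), by simp⟩
    | add x y _ _ hx hy =>
      obtain ⟨s1, hs1, hs1'⟩ := hx
      obtain ⟨s2, hs2, hs2'⟩ := hy
      refine ⟨s1 * s2, fun hmem => ?_, ?_⟩
      · rcases Ideal.IsPrime.mem_or_mem hprime hmem with h' | h'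
        · exact hs1 h'
        · exact hs2 h'
      · rw [map_add, mul_add, mul_right_comm, hs1', zero_mul, mul_assoc, hs2', mul_zero, add_zero]
    | smul c x _ hx =>
      obtain ⟨s1, hs1, hs1'⟩ := hx
      refine ⟨s1, hs1, ?_⟩
      rw [smul_eq_mul, map_mul, mul_left_comm, hs1', mul_zero]
  intro x hx
  obtain ⟨y, rfl⟩ := Ideal.Quotient.mk_surjective x
  rw [hψmk, Ideal.Quotient.eq_zero_iff_mem] at hx
  obtain ⟨y1, hy1, y2, hy2, rfl⟩ := Submodule.mem_sup.mp hx
  obtain ⟨s1, hs1, hs1'⟩ := Pspan _ (by rintro _ ⟨ℓ, rfl⟩; exact Pee ℓ) y1 hy1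
  obtain ⟨s2, hs2, hs2'⟩ := Pspan _ (by rintro _ ⟨⟨k, ℓ⟩, rfl⟩; exact Ppp k ℓ) y2 hy2
  refine ⟨s1 * s2, fun hmem => ?_, ?_⟩
  · rcases Ideal.IsPrime.mem_or_mem hprime hmem with h' | h'
    · exact hs1 h'
    · exact hs2 h'
  · rw [map_add, mul_add, mul_right_comm, hs1', zero_mul, mul_assoc, hs2', mul_zero, add_zero]

end lifting

end Groth.Agent.Lib.Helper22.Pop
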