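import Groth.Agent.Lib.Helper22.PopS

set_option autoImplicit false
universe u

namespace Groth.Agent.Lib.Helper22.Pop

open MvPolynomial

section lifting

variable {R : Type u} [CommRing R] (π : R) {n m : ℕ} (f : Fin m → MvPolynomial (Fin n) R)
  {K : Type u} (a : K → MvPolynomial (Fin n) R)
  (h : K → Fin m → Fin m → MvPolynomial (Fin n) R) (g : K → Fin m → MvPolynomial (Fin n) R)

variable {Λ : Type u} [CommRing Λ] [Algebra R Λ] (lam : Fin n → Λ) (mu : Fin m → Λ)

/-- the map `δ₀ : R[x,z] → Λ`. -/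
noncomputable def delta0 : PP R n m →ₐ[R] Λ :=
  aeval (Fin.addCases lam (fun j => algebraMap R Λ π * mu j))

theorem delta0_iota (F : MvPolynomial (Fin n) R) :
    delta0 π lam mu (iota R n m F) = aeval lam F := by
  rw [delta0, iota, aeval_rename]
  congr 2
  funext i
  simp [Function.comp]

theorem delta0_zv (j : Fin m) : delta0 π lam mu (zv R n j) = algebraMap R Λ π * mu j := by
  rw [delta0, zv, aeval_X, Fin.addCases_right]

theorem delta0_C (x : R) : delta0 (m := m) π lam mu (C x) = algebraMap R Λ x := by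
  rw [delta0, aeval_C]

theorem delta0_ee (hmu : ∀ j, aeval lam (f j) = algebraMap R Λ (π ^ 2) * mu j) (ℓ : Fin m) :
    delta0 π lam mu (ee π f ℓ) = 0 := by
  rw [ee, map_sub, delta0_iota, map_mul, delta0_zv, delta0_C, hmu, map_pow]
  ring

theorem delta0_pp (hΛ : ∀ x : Λ, π ^ 2 • x = 0 → π • x = 0)
    (h4 : ∀ k ℓ, a k * f ℓ = ∑ j, h k ℓ j * f j + C (π ^ 2) * g k ℓ)
    (hmu : ∀ j, aeval lam (f j) = algebraMap R Λ (π ^ 2) * mu j) (k : K) (ℓ : Fin m) :
    delta0 π lam mu (pp π a h g k ℓ) = 0 := by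
  have hΛ' : ∀ x : Λ, algebraMap R Λ π ^ 2 * x = 0 → algebraMap R Λ π * x = 0 := by
    intro x hx
    have := hΛ x (by rw [Algebra.smul_def, map_pow]; exact hx)
    rwa [Algebra.smul_def] at this
  have h1 : algebraMap R Λ π * delta0 π lam mu (pp π a h g k ℓ) = 0 := by
    rw [← delta0_C (m := m) π lam mu, ← map_mul, C_mul_pp π f a h g h4, map_sub, map_sum]
    simp only [map_mul, delta0_ee π f lam mu hmu, mul_zero, Finset.sum_const_zero, sub_zero]
  have h2 : delta0 π lam mu (pp π a h g k ℓ) = algebraMap R Λ π *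
      (aeval lam (a k) * mu ℓ - ∑ j, aeval lam (h k ℓ j) * mu j - aeval lam (g k ℓ)) := by
    rw [pp, map_sub, map_sub, map_mul, map_sum, map_mul, delta0_iota, delta0_zv, delta0_C,
      delta0_iota, mul_sub, mul_sub, Finset.mul_sum]
    congr 1
    · congr 1
      · ring
      · refine Finset.sum_congr rfl fun j _ => ?_
        rw [map_mul, delta0_iota, delta0_zv]; ring
  rw [h2] at h1 ⊢
  exact hΛ' _ (by rw [← h1]; ring)

variable {C' : Type u} [CommRing C'] [Algebra R C']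

theorem exists_algHom_lift {R A C E : Type*} [CommRing R] [CommRing A] [CommRing C] [CommRing E]
    [Algebra R A] [Algebra R C] [Algebra R E] (φ : A →ₐ[R] C) (hφ : Function.Surjective φ)
    (χ : A →ₐ[R] E) (hker : ∀ x, φ x = 0 → χ x = 0) :
    ∃ ψ : C →ₐ[R] E, ∀ x, ψ (φ x) = χ x :=
  ⟨AlgHom.liftOfSurjective φ hφ χ (fun x hx => hker x hx),
    fun x => AlgHom.liftOfSurjective_apply φ hφ χ _ x⟩

theorem iota_f_mem (j : Fin m) :
    Ideal.Quotient.mk (JD π f a h g) (iota R n m (f j)) ∈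
      Ideal.span {algebraMap R (PP R n m ⧸ JD π f a h g) π} := by
  have h1 : iota R n m (f j) = ee π f j + C π * zv R n j := by rw [ee]; ring
  have h2 : Ideal.Quotient.mk (JD π f a h g) (ee π f j) = 0 :=
    Ideal.Quotient.eq_zero_iff_mem.mpr (Ideal.mem_sup_left (Ideal.subset_span ⟨j, rfl⟩))
  have h3 : Ideal.Quotient.mk (JD π f a h g) (iota R n m (f j)) =
      algebraMap R (PP R n m ⧸ JD π f a h g) π * Ideal.Quotient.mk (JD π f a h g) (zv R n j) := by
    rw [h1, map_add, h2, zero_add, map_mul]; rfl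
  rw [h3]
  exact Ideal.mul_mem_right _ _ (Ideal.subset_span rfl)

theorem exists_delta (hΛ : ∀ x : Λ, π ^ 2 • x = 0 → π • x = 0)
    (h4 : ∀ k ℓ, a k * f ℓ = ∑ j, h k ℓ j * f j + C (π ^ 2) * g k ℓ)
    (φ : MvPolynomial (Fin n) R →ₐ[R] C')
    (hkerφ : RingHom.ker φ.toRingHom =
      Ideal.span (Set.range f) ⊔ Ideal.span {(C (π ^ 2) : MvPolynomial (Fin n) R)})
    (IΛ : Ideal Λ) (hIΛ : IΛ = Ideal.span {algebraMap R Λ (π ^ 2)})
    (gΛ : C' →ₐ[R] Λ ⧸ IΛ) :
    ∃ δ : (PP R n m ⧸ JD π f a h g) →ₐ[R] Λ,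
      ∀ F, gΛ (φ F) = Ideal.Quotient.mk IΛ (δ (Ideal.Quotient.mk _ (iota R n m F))) := by
  classical
  -- the point `lam`
  choose lam hlam using fun i => Ideal.Quotient.mk_surjective (gΛ (φ (X i)))
  have hgφ : ∀ F, gΛ (φ F) = Ideal.Quotient.mk IΛ (aeval lam F) := by
    have : gΛ.comp φ = (Ideal.Quotient.mkₐ R IΛ).comp (aeval lam) := by
      apply MvPolynomial.algHom_ext
      intro i
      rw [AlgHom.comp_apply, AlgHom.comp_apply, aeval_X, ← hlam]
      rfl
    intro F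
    exact DFunLike.congr_fun this F
  have hφf : ∀ j, φ (f j) = 0 := by
    intro j
    have : f j ∈ RingHom.ker φ.toRingHom := by
      rw [hkerφ]; exact Ideal.mem_sup_left (Ideal.subset_span ⟨j, rfl⟩)
    exact this
  have hmu0 : ∀ j, ∃ μ, aeval lam (f j) = algebraMap R Λ (π ^ 2) * μ := by
    intro j
    have h1 := hgφ (f j)
    rw [hφf, map_zero] at h1
    have h2 := Ideal.Quotient.eq_zero_iff_mem.mp h1.symm
    rw [hIΛ] at h2
    obtain ⟨μ, hμ⟩ := Ideal.mem_span_singleton'.mp h2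
    exact ⟨μ, by rw [← hμ, mul_comm]⟩
  choose mu hmu using hmu0
  -- δ
  have hδJD : ∀ y ∈ JD π f a h g, delta0 π lam mu y = 0 := by
    intro y hy
    obtain ⟨y1, hy1, y2, hy2, rfl⟩ := Submodule.mem_sup.mp hy
    clear hy
    have e1 : delta0 π lam mu y1 = 0 := by
      induction hy1 using Submodule.span_induction with
      | mem x hx => obtain ⟨ℓ, rfl⟩ := hx; exact delta0_ee π f lam mu hmu ℓ
      | zero => simp
      | add x y _ _ hx hy => rw [map_add, hx, hy, add_zero]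
      | smul c x _ hx => rw [smul_eq_mul, map_mul, hx, mul_zero]
    have e2 : delta0 π lam mu y2 = 0 := by
      induction hy2 using Submodule.span_induction with
      | mem x hx => obtain ⟨⟨k, ℓ⟩, rfl⟩ := hx; exact delta0_pp π f a h g lam mu hΛ h4 hmu k ℓ
      | zero => simp
      | add x y _ _ hx hy => rw [map_add, hx, hy, add_zero]
      | smul c x _ hx => rw [smul_eq_mul, map_mul, hx, mul_zero]
    rw [map_add, e1, e2, add_zero]
  refine ⟨Ideal.Quotient.liftₐ (JD π f a h g) (delta0 π lam mu) hδJD, fun F => ?_⟩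
  rw [hgφ]
  congr 1
  exact (delta0_iota π lam mu F).symm

end lifting

section abstract

variable {R : Type u} [CommRing R] (π : R) {n m : ℕ} (f : Fin m → MvPolynomial (Fin n) R)
  {K : Type u} (a : K → MvPolynomial (Fin n) R)
  {Λ : Type u} [CommRing Λ] [Algebra R Λ] {C' : Type u} [CommRing C'] [Algebra R C']
  {D : Type u} [CommRing D] [Algebra R D]

theorem lifting_abstract (ιD : MvPolynomial (Fin n) R →ₐ[R] D)
    (hιf : ∀ j, ιD (f j) ∈ Ideal.span {algebraMap R D π})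
    (φ : MvPolynomial (Fin n) R →ₐ[R] C') (hφ : Function.Surjective φ)
    (hkerφ : RingHom.ker φ.toRingHom =
      Ideal.span (Set.range f) ⊔ Ideal.span {(C (π ^ 2) : MvPolynomial (Fin n) R)})
    (IΛ : Ideal Λ) (hIΛ : IΛ = Ideal.span {algebraMap R Λ (π ^ 2)})
    (gΛ : C' →ₐ[R] Λ ⧸ IΛ) (δ : D →ₐ[R] Λ)
    (hδ : ∀ F, gΛ (φ F) = Ideal.Quotient.mk IΛ (δ (ιD F)))
    {Rb : Type u} [CommRing Rb] [Algebra Rb C']
    (hcover : ∀ (𝔭 : Ideal C') [𝔭.IsPrime], Algebra.IsSmoothAt Rb 𝔭 → ∃ k, φ (a k) ∉ 𝔭)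
    (hb : ∀ (q : Ideal D) [q.IsPrime], algebraMap R D π ∉ q → Algebra.IsSmoothAt R q)
    (hc : ∀ (q : Ideal D) [q.IsPrime] (k : K), algebraMap R D π ∈ q → ιD (a k) ∉ q →
      Algebra.IsSmoothAt R q) :
    ∃ (δ : D →ₐ[R] Λ) (ψ : C' →ₐ[R] D ⧸ Ideal.span {algebraMap R D π}),
        (∀ (c : C') (d : D) (l : Λ), Ideal.Quotient.mk (Ideal.span {algebraMap R D π}) d = ψ c →
          Ideal.Quotient.mk IΛ l = gΛ c →
            δ d - l ∈ Ideal.span {algebraMap R Λ π}) ∧
        (∀ (Q : Ideal D) [Q.IsPrime], algebraMap R D π ∉ Q → Algebra.IsSmoothAt R Q) ∧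
        (∀ (Q : Ideal (D ⧸ Ideal.span {algebraMap R D π})) [Q.IsPrime],
          Algebra.IsSmoothAt Rb (Q.comap ψ) →
            Algebra.IsSmoothAt R (Q.comap (Ideal.Quotient.mk (Ideal.span {algebraMap R D π})))) := by
  classical
  let χ : MvPolynomial (Fin n) R →ₐ[R] D ⧸ Ideal.span {algebraMap R D π} :=
    (Ideal.Quotient.mkₐ R _).comp ιD
  have hχ : ∀ F, χ F = Ideal.Quotient.mk _ (ιD F) := fun F => rfl
  have hkerχ : ∀ x, φ x = 0 → χ x = 0 := by
    intro x hx
    have hx' : x ∈ RingHom.ker φ.toRingHom := hx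
    rw [hkerφ] at hx'
    obtain ⟨x1, hx1, x2, hx2, rfl⟩ := Submodule.mem_sup.mp hx'
    clear hx hx'
    rw [map_add]
    have e1 : χ x1 = 0 := by
      induction hx1 using Submodule.span_induction with
      | mem x hx =>
        obtain ⟨j, rfl⟩ := hx
        rw [hχ, Ideal.Quotient.eq_zero_iff_mem]; exact hιf j
      | zero => simp
      | add x y _ _ hx hy => rw [map_add, hx, hy, add_zero]
      | smul c x _ hx => rw [smul_eq_mul, map_mul, hx, mul_zero]
    have e2 : χ x2 = 0 := by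
      obtain ⟨w, rfl⟩ := Ideal.mem_span_singleton'.mp hx2
      rw [hχ, Ideal.Quotient.eq_zero_iff_mem, map_mul, ← MvPolynomial.algebraMap_eq,
        AlgHom.commutes, pow_two, map_mul, ← mul_assoc]
      exact Ideal.mul_mem_left _ _ (Ideal.subset_span rfl)
    rw [e1, e2, add_zero]
  obtain ⟨ψ, hψ⟩ := exists_algHom_lift φ hφ χ hkerχ
  refine ⟨δ, ψ, ?_, hb, ?_⟩
  · intro c d l hd hl
    obtain ⟨F, rfl⟩ := hφ c
    rw [hψ, hχ, Ideal.Quotient.eq] at hd
    obtain ⟨w, hw⟩ := Ideal.mem_span_singleton'.mp hd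
    rw [hδ, Ideal.Quotient.eq, hIΛ] at hl
    obtain ⟨w', hw'⟩ := Ideal.mem_span_singleton'.mp hl
    have h1 : δ d = δ (ιD F) + δ w * algebraMap R Λ π := by
      have : d = ιD F + w * algebraMap R D π := by rw [hw]; ring
      rw [this, map_add, map_mul, AlgHom.commutes]
    have h2 : δ d - l = (δ w - w' * algebraMap R Λ π) * algebraMap R Λ π := by
      have : l = δ (ιD F) + w' * algebraMap R Λ (π ^ 2) := by rw [hw']; ring
      rw [h1, this, map_pow]; ring
    rw [h2]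
    exact Ideal.mul_mem_left _ _ (Ideal.subset_span rfl)
  · intro Q _ hsm
    obtain ⟨k, hk⟩ := hcover (Q.comap ψ) hsm
    rw [Ideal.mem_comap, hψ, hχ] at hk
    refine hc (Q.comap (Ideal.Quotient.mk (Ideal.span {algebraMap R D π}))) k ?_ ?_
    · rw [Ideal.mem_comap]
      have : Ideal.Quotient.mk (Ideal.span {algebraMap R D π}) (algebraMap R D π) = 0 :=
        Ideal.Quotient.eq_zero_iff_mem.mpr (Ideal.subset_span rfl)
      rw [this]
      exact Ideal.zero_mem _
    · rw [Ideal.mem_comap]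
      exact hk

end abstract

end Groth.Agent.Lib.Helper22.Pop
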