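import Groth.Agent.Lib.Helper22.PopT

set_option autoImplicit false
universe u

namespace Groth.Agent.Lib.Helper22.Pop

open MvPolynomial

/-- Nakayama: if locally at a prime `P` an ideal `I` is generated by `E` modulo `I²`,
then some element outside `P` multiplies the generators of `I` into `E`. -/
theorem exists_notMem_mul_mem_of_le_sup_sq {P : Type*} [CommRing P] {m : ℕ} (fb : Fin m → P)
    (E : Ideal P) (p : Ideal P) [p.IsPrime] (hIp : Ideal.span (Set.range fb) ≤ p)
    (a₁ : P) (ha₁ : a₁ ∉ p)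
    (hrel : ∀ ℓ, a₁ * fb ℓ ∈ E ⊔ Ideal.span (Set.range fb) ^ 2) :
    ∃ b : P, b ∉ p ∧ ∀ ℓ, b * fb ℓ ∈ E := by
  classical
  set I : Ideal P := Ideal.span (Set.range fb) with hI
  let L := Localization.AtPrime p
  let IL : Ideal L := I.map (algebraMap P L)
  let EL : Ideal L := E.map (algebraMap P L)
  have hunit : IsUnit (algebraMap P L a₁) :=
    IsLocalization.map_units L (⟨a₁, ha₁⟩ : p.primeCompl)
  have hILfg : (IL : Submodule L L).FG := by
    change (I.map (algebraMap P L)).FG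
    rw [hI, Ideal.map_span]
    exact Submodule.fg_span ((Set.finite_range fb).image _)
  have hILjac : IL ≤ Ideal.jacobson ⊥ := by
    rw [IsLocalRing.jacobson_eq_maximalIdeal ⊥ bot_ne_top,
      ← Localization.AtPrime.map_eq_maximalIdeal]
    exact Ideal.map_mono hIp
  have hle : (IL : Submodule L L) ≤ (EL : Submodule L L) ⊔ IL • (IL : Submodule L L) := by
    change I.map (algebraMap P L) ≤ _
    rw [hI, Ideal.map_span, Ideal.span_le]
    rintro _ ⟨_, ⟨ℓ, rfl⟩, rfl⟩
    obtain ⟨e, he, i2, hi2, hsum⟩ := Submodule.mem_sup.mp (hrel ℓ)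
    obtain ⟨u, hu⟩ := hunit
    have h1 : algebraMap P L (fb ℓ) =
        (↑u⁻¹ : L) * algebraMap P L e + (↑u⁻¹ : L) * algebraMap P L i2 := by
      rw [← mul_add, ← map_add, hsum, map_mul, ← hu, ← mul_assoc, Units.inv_mul, one_mul]
    rw [SetLike.mem_coe, h1]
    refine Submodule.add_mem_sup ?_ ?_
    · exact Ideal.mul_mem_left _ _ (Ideal.mem_map_of_mem _ he)
    · rw [smul_eq_mul]
      refine Ideal.mul_mem_left _ _ ?_
      have := Ideal.mem_map_of_mem (algebraMap P L) hi2
      rw [Ideal.map_pow, pow_two] at this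
      exact this
  have hILEL : IL ≤ EL := Submodule.le_of_le_smul_of_le_jacobson_bot hILfg hILjac hle
  have key : ∀ ℓ, ∃ b : P, b ∉ p ∧ b * fb ℓ ∈ E := by
    intro ℓ
    have h1 : algebraMap P L (fb ℓ) ∈ EL :=
      hILEL (Ideal.mem_map_of_mem _ (Ideal.subset_span ⟨ℓ, rfl⟩))
    obtain ⟨⟨⟨e, he⟩, s⟩, hes⟩ := (IsLocalization.mem_map_algebraMap_iff p.primeCompl L).mp h1
    simp only at hes
    rw [← map_mul, IsLocalization.eq_iff_exists p.primeCompl] at hes
    obtain ⟨t, ht⟩ := hes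
    refine ⟨(t : P) * (s : P), (t * s).2, ?_⟩
    have : (t : P) * (s : P) * fb ℓ = t * e := by
      rw [← ht]; ring
    rw [this]
    exact Ideal.mul_mem_left _ _ he
  choose b hb hbE using key
  refine ⟨∏ ℓ, b ℓ, ?_, ?_⟩
  · intro hmem
    obtain ⟨ℓ, _, hℓ⟩ := (Ideal.IsPrime.prod_mem_iff (hp := inferInstance)).mp hmem
    exact hb ℓ hℓ
  · intro ℓ
    rw [← Finset.mul_prod_erase Finset.univ b (Finset.mem_univ ℓ), mul_right_comm]
    exact Ideal.mul_mem_right _ _ (hbE ℓ)

theorem map_jacobianMinor {R S : Type u} [CommRing R] [CommRing S] (φ : R →+* S) {n m c : ℕ}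
    (f : Fin m → MvPolynomial (Fin n) R) (rows : Fin c → Fin m) (cols : Fin c → Fin n) :
    MvPolynomial.map φ (Smoothing.jacobianMinor f rows cols) =
      Smoothing.jacobianMinor (fun j => MvPolynomial.map φ (f j)) rows cols := by
  unfold Smoothing.jacobianMinor
  rw [RingHom.map_det]
  congr 1
  ext j k : 2
  simp [pderiv_map]

end Groth.Agent.Lib.Helper22.Pop
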