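import Groth.Agent.Lib.Helper22.PopU
import Groth.Agent.S2108

set_option autoImplicit false
universe u

namespace Groth.Agent.Lib.Helper22.Pop

open MvPolynomial

section good

variable {R : Type u} [CommRing R] (π : R) {n m : ℕ} (f : Fin m → MvPolynomial (Fin n) R)

/-- the local data attached to a good element `a₀`. -/
def GoodElt (a₀ : MvPolynomial (Fin n) R) (h₀ : Fin m → Fin m → MvPolynomial (Fin n) R)
    (g₀ : Fin m → MvPolynomial (Fin n) R) : Prop :=
  (∀ ℓ, a₀ * f ℓ = ∑ j, h₀ ℓ j * f j + C (π ^ 2) * g₀ ℓ) ∧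
  ∃ (c : ℕ) (rows : Fin c → Fin m) (cols : Fin c → Fin n) (a' : MvPolynomial (Fin n) R),
    Function.Injective rows ∧ (∀ ℓ j, (¬ ∃ i, rows i = j) → h₀ ℓ j = 0) ∧
    (∀ i, (∀ j, h₀ (rows i) j = if j = rows i then a₀ else 0) ∧ g₀ (rows i) = 0) ∧
    a₀ - a' * Smoothing.jacobianMinor f rows cols ∈
      Ideal.span (Set.range f) ⊔ Ideal.span {(C π : MvPolynomial (Fin n) R)}

variable {Rb : Type u} [CommRing Rb] [Algebra R Rb]

/-- lifting the local data from `R̄[x]` to `R[x]`. -/
theorem exists_goodElt_of_bar (hsurj : Function.Surjective (algebraMap R Rb))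
    (hker : RingHom.ker (algebraMap R Rb) = Ideal.span {π ^ 2})
    {C' : Type u} [CommRing C'] [Algebra R C']
    (φ : MvPolynomial (Fin n) R →ₐ[R] C')
    (hkerφ : RingHom.ker φ.toRingHom =
      Ideal.span (Set.range f) ⊔ Ideal.span {(C (π ^ 2) : MvPolynomial (Fin n) R)})
    (φb : MvPolynomial (Fin n) Rb →+* C')
    (hφφb : ∀ F, φ F = φb (MvPolynomial.map (algebraMap R Rb) F))
    {c : ℕ} (rows : Fin c → Fin m) (cols : Fin c → Fin n) (hrows : Function.Injective rows)
    (bb : MvPolynomial (Fin n) Rb)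
    (hbb : ∀ ℓ, bb * MvPolynomial.map (algebraMap R Rb) (f ℓ) ∈
      Ideal.span (Set.range fun i => MvPolynomial.map (algebraMap R Rb) (f (rows i))))
    (ab : MvPolynomial (Fin n) Rb)
    (hab : φb bb = φb ab * φb (Smoothing.jacobianMinor
      (fun j => MvPolynomial.map (algebraMap R Rb) (f j)) rows cols)) :
    ∃ a₀ h₀ g₀, GoodElt π f a₀ h₀ g₀ ∧ MvPolynomial.map (algebraMap R Rb) a₀ = bb := by
  classical
  have hmapsurj : Function.Surjective (MvPolynomial.map (σ := Fin n) (algebraMap R Rb)) :=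
    MvPolynomial.map_surjective _ hsurj
  have hkermap : ∀ F : MvPolynomial (Fin n) R, MvPolynomial.map (algebraMap R Rb) F = 0 →
      ∃ G, F = C (π ^ 2) * G := by
    intro F hF
    have h1 : F ∈ RingHom.ker (MvPolynomial.map (σ := Fin n) (algebraMap R Rb)) := hF
    rw [MvPolynomial.ker_map, hker, Ideal.map_span, Set.image_singleton] at h1
    obtain ⟨G, hG⟩ := Ideal.mem_span_singleton'.mp h1
    exact ⟨G, by rw [← hG, mul_comm]⟩
  obtain ⟨a₀, ha₀⟩ := hmapsurj bb
  have hH : ∀ ℓ, ∃ Hb : Fin c → MvPolynomial (Fin n) Rb,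
      ∑ i, Hb i * MvPolynomial.map (algebraMap R Rb) (f (rows i)) =
        bb * MvPolynomial.map (algebraMap R Rb) (f ℓ) := fun ℓ =>
    Ideal.mem_span_range_iff_exists_fun.mp (hbb ℓ)
  choose Hb hHb using hH
  choose H' hH' using fun ℓ i => hmapsurj (Hb ℓ i)
  have hG : ∀ ℓ, ∃ G, a₀ * f ℓ - ∑ i, H' ℓ i * f (rows i) = C (π ^ 2) * G := by
    intro ℓ
    apply hkermap
    rw [map_sub, map_mul, ha₀, map_sum, ← hHb ℓ, sub_eq_zero]
    exact (Finset.sum_congr rfl fun i _ => by rw [map_mul, hH']).symm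
  choose G' hG' using hG
  obtain ⟨a', ha'⟩ := hmapsurj ab
  let h₀ : Fin m → Fin m → MvPolynomial (Fin n) R := fun ℓ j =>
    if (∃ i, rows i = ℓ) then (if j = ℓ then a₀ else 0)
    else ∑ i, if rows i = j then H' ℓ i else 0
  let g₀ : Fin m → MvPolynomial (Fin n) R := fun ℓ => if (∃ i, rows i = ℓ) then 0 else G' ℓ
  refine ⟨a₀, h₀, g₀, ⟨?_, c, rows, cols, a', hrows, ?_, ?_, ?_⟩, ha₀⟩
  · intro ℓ
    by_cases hℓ : ∃ i, rows i = ℓ
    · simp only [h₀, g₀, if_pos hℓ, mul_zero, add_zero]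
      rw [Finset.sum_eq_single ℓ]
      · rw [if_pos rfl]
      · intro j _ hj; rw [if_neg hj, zero_mul]
      · intro hn; exact absurd (Finset.mem_univ ℓ) hn
    · simp only [h₀, g₀, if_neg hℓ]
      have h1 : ∑ j, (∑ i, if rows i = j then H' ℓ i else 0) * f j =
          ∑ i, H' ℓ i * f (rows i) := by
        simp only [Finset.sum_mul]
        rw [Finset.sum_comm]
        refine Finset.sum_congr rfl fun i _ => ?_
        rw [Finset.sum_eq_single (rows i)]
        · rw [if_pos rfl]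
        · intro j _ hj; rw [if_neg (Ne.symm hj), zero_mul]
        · intro hn; exact absurd (Finset.mem_univ _) hn
      rw [h1, ← hG' ℓ]; ring
  · intro ℓ j hj
    by_cases hℓ : ∃ i, rows i = ℓ
    · simp only [h₀, if_pos hℓ]
      rw [if_neg]
      rintro rfl
      exact hj hℓ
    · simp only [h₀, if_neg hℓ]
      refine Finset.sum_eq_zero fun i _ => ?_
      rw [if_neg]
      intro hi
      exact hj ⟨i, hi⟩
  · intro i
    have hℓ : ∃ i', rows i' = rows i := ⟨i, rfl⟩
    exact ⟨fun j => by simp only [h₀, if_pos hℓ], by simp only [g₀, if_pos hℓ]⟩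
  · have h1 : a₀ - a' * Smoothing.jacobianMinor f rows cols ∈ RingHom.ker φ.toRingHom := by
      change φ _ = 0
      rw [hφφb, map_sub, map_mul, ha₀, ha', map_jacobianMinor, map_sub, map_mul, hab, sub_self]
    rw [hkerφ] at h1
    have hle : Ideal.span {(C (π ^ 2) : MvPolynomial (Fin n) R)} ≤
        Ideal.span {(C π : MvPolynomial (Fin n) R)} := by
      rw [Ideal.span_le]
      rintro _ rfl
      rw [pow_two, C_mul]
      exact Ideal.mul_mem_left _ _ (Ideal.subset_span rfl)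
    exact (sup_le_sup_left hle _) h1

end good

end Groth.Agent.Lib.Helper22.Pop
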