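import Groth.Agent.Lib.Helper22.PopV

set_option autoImplicit false
universe u

namespace Groth.Agent.Lib.Helper22.Pop

open MvPolynomial

theorem pp_rows_eq_zero {R : Type u} [CommRing R] (π : R) {n m : ℕ}
    {K : Type u} (a : K → MvPolynomial (Fin n) R)
    (h : K → Fin m → Fin m → MvPolynomial (Fin n) R) (g : K → Fin m → MvPolynomial (Fin n) R)
    (k : K) (ℓ : Fin m) (h1 : ∀ j, h k ℓ j = if j = ℓ then a k else 0) (h2 : g k ℓ = 0) :
    pp π a h g k ℓ = 0 := by
  classical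
  rw [pp, h2, map_zero, mul_zero, sub_zero, Finset.sum_eq_single ℓ]
  · rw [h1, if_pos rfl, sub_self]
  · intro j _ hj; rw [h1, if_neg hj, map_zero, zero_mul]
  · intro hn; exact absurd (Finset.mem_univ ℓ) hn

/-- existence of a good element at each smooth prime. -/
theorem exists_goodElt_of_isSmoothAt {R Rb C' : Type u} [CommRing R] (π : R) [CommRing Rb]
    [Algebra R Rb] (hsurj : Function.Surjective (algebraMap R Rb))
    (hker : RingHom.ker (algebraMap R Rb) = Ideal.span {π ^ 2})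
    [CommRing C'] [Algebra R C'] [Algebra Rb C'] {n m : ℕ}
    (f : Fin m → MvPolynomial (Fin n) R)
    (φ : MvPolynomial (Fin n) R →ₐ[R] C')
    (hkerφ : RingHom.ker φ.toRingHom =
      Ideal.span (Set.range f) ⊔ Ideal.span {(C (π ^ 2) : MvPolynomial (Fin n) R)})
    (φb : MvPolynomial (Fin n) Rb →ₐ[Rb] C') (hφb : Function.Surjective φb)
    (hkerb : RingHom.ker φb.toRingHom =
      Ideal.span (Set.range fun j => MvPolynomial.map (algebraMap R Rb) (f j)))
    (hφφb : ∀ F, φ F = φb (MvPolynomial.map (algebraMap R Rb) F))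
    (𝔭 : Ideal C') [𝔭.IsPrime] (hsm : Algebra.IsSmoothAt Rb 𝔭) :
    ∃ a₀ h₀ g₀, GoodElt π f a₀ h₀ g₀ ∧ φ a₀ ∉ 𝔭 := by
  classical
  have : Algebra.IsSmoothAt Rb 𝔭 := hsm
  obtain ⟨ab0, hab0, c, rows, cols, ab', hab', hrel⟩ :=
    Groth.Agent.S2108.result (R := Rb) (A := C')
      (fun j => MvPolynomial.map (algebraMap R Rb) (f j)) φb hφb hkerb 𝔭
  obtain ⟨a₁, ha₁⟩ := hφb ab0
  obtain ⟨ab, hab⟩ := hφb ab'
  have hrel' := hrel a₁ ha₁
  have hprime : (𝔭.comap φb).IsPrime := Ideal.comap_isPrime φb 𝔭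
  have hIp : Ideal.span (Set.range fun j => MvPolynomial.map (algebraMap R Rb) (f j)) ≤
      𝔭.comap φb := by
    rw [← hkerb]
    intro x hx
    rw [Ideal.mem_comap]
    have : φb x = 0 := hx
    rw [this]
    exact Ideal.zero_mem _
  have ha₁p : a₁ ∉ 𝔭.comap φb := by
    rw [Ideal.mem_comap, ha₁]; exact hab0
  obtain ⟨b, hb, hbE⟩ := exists_notMem_mul_mem_of_le_sup_sq
    (fun j => MvPolynomial.map (algebraMap R Rb) (f j))
    (Ideal.span (Set.range ((fun j => MvPolynomial.map (algebraMap R Rb) (f j)) ∘ rows)))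
    (𝔭.comap φb) hIp a₁ ha₁p hrel'
  obtain ⟨a₀, h₀, g₀, hgood, hmap⟩ := exists_goodElt_of_bar π f hsurj hker φ hkerφ
    φb.toRingHom hφφb rows cols rows.injective (a₁ * b)
    (fun ℓ => by
      rw [mul_assoc]
      exact Ideal.mul_mem_left _ _ (hbE ℓ))
    (ab * b)
    (by
      change φb (a₁ * b) = φb (ab * b) * φb _
      rw [map_mul, map_mul, ha₁, hab, hab']; ring)
  refine ⟨a₀, h₀, g₀, hgood, ?_⟩
  rw [hφφb, hmap, map_mul, ha₁]
  intro hmem
  rcases Ideal.IsPrime.mem_or_mem inferInstance hmem with h' | h'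
  · exact hab0 h'
  · exact hb h'

/-- The lifting lemma (Stacks 07CP), in a form flexible in the presentation of the quotients. -/
theorem lifting_lemma_gen {R Λ C' Rb : Type u} [CommRing R] [IsNoetherianRing R] [CommRing Λ]
    [Algebra R Λ] (π : R) (hR : ∀ r : R, π ^ 2 * r = 0 → π * r = 0)
    (hΛ : ∀ x : Λ, π ^ 2 • x = 0 → π • x = 0) [CommRing Rb] [Algebra R Rb]
    (hsurj : Function.Surjective (algebraMap R Rb))
    (hker : RingHom.ker (algebraMap R Rb) = Ideal.span {π ^ 2})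
    [CommRing C'] [Algebra R C'] [Algebra Rb C'] [IsScalarTower R Rb C']
    [Algebra.FinitePresentation Rb C']
    (IΛ : Ideal Λ) (hIΛ : IΛ = Ideal.span {algebraMap R Λ (π ^ 2)})
    (gΛ : C' →ₐ[R] Λ ⧸ IΛ) :
    ∃ (D : Type u) (_ : CommRing D) (_ : Algebra R D), Algebra.FinitePresentation R D ∧
      ∃ (δ : D →ₐ[R] Λ) (ψ : C' →ₐ[R] D ⧸ Ideal.span {algebraMap R D π}),
        (∀ (c : C') (d : D) (l : Λ), Ideal.Quotient.mk (Ideal.span {algebraMap R D π}) d = ψ c →
          Ideal.Quotient.mk IΛ l = gΛ c →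
            δ d - l ∈ Ideal.span {algebraMap R Λ π}) ∧
        (∀ (Q : Ideal D) [Q.IsPrime], algebraMap R D π ∉ Q → Algebra.IsSmoothAt R Q) ∧
        (∀ (Q : Ideal (D ⧸ Ideal.span {algebraMap R D π})) [Q.IsPrime],
          Algebra.IsSmoothAt Rb (Q.comap ψ) →
            Algebra.IsSmoothAt R (Q.comap (Ideal.Quotient.mk (Ideal.span {algebraMap R D π})))) := by
  classical
  obtain ⟨n, φb, hφb, hfg⟩ := Algebra.FinitePresentation.out (R := Rb) (A := C')
  obtain ⟨m, fb, hfb⟩ := Submodule.fg_iff_exists_fin_generating_family.mp hfg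
  have hmapsurj : Function.Surjective (MvPolynomial.map (σ := Fin n) (algebraMap R Rb)) :=
    MvPolynomial.map_surjective _ hsurj
  choose f hf using fun j => hmapsurj (fb j)
  have hkerb : RingHom.ker φb.toRingHom =
      Ideal.span (Set.range fun j => MvPolynomial.map (algebraMap R Rb) (f j)) := by
    rw [← hfb]
    congr 2
    funext j
    exact (hf j).symm
  let φ : MvPolynomial (Fin n) R →ₐ[R] C' :=
    (φb.restrictScalars R).comp (MvPolynomial.mapAlgHom (Algebra.ofId R Rb))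
  have hφφb : ∀ F, φ F = φb (MvPolynomial.map (algebraMap R Rb) F) := fun F => rfl
  have hφ : Function.Surjective φ := by
    intro x
    obtain ⟨y, rfl⟩ := hφb x
    obtain ⟨F, rfl⟩ := hmapsurj y
    exact ⟨F, hφφb F⟩
  have hkerφ : RingHom.ker φ.toRingHom =
      Ideal.span (Set.range f) ⊔ Ideal.span {(C (π ^ 2) : MvPolynomial (Fin n) R)} := by
    have h1 : RingHom.ker φ.toRingHom =
        (RingHom.ker φb.toRingHom).comap (MvPolynomial.map (σ := Fin n) (algebraMap R Rb)) := by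
      ext F
      rw [Ideal.mem_comap, RingHom.mem_ker, RingHom.mem_ker]
      exact Iff.rfl
    have h2 : Ideal.span (Set.range fun j => MvPolynomial.map (algebraMap R Rb) (f j)) =
        (Ideal.span (Set.range f)).map (MvPolynomial.map (σ := Fin n) (algebraMap R Rb)) := by
      rw [Ideal.map_span, ← Set.range_comp]
      rfl
    rw [h1, hkerb, h2, Ideal.comap_map_of_surjective _ hmapsurj]
    congr 1
    change RingHom.ker (MvPolynomial.map (σ := Fin n) (algebraMap R Rb)) = _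
    rw [MvPolynomial.ker_map, hker, Ideal.map_span, Set.image_singleton]
  have hnoethb : IsNoetherianRing Rb := isNoetherianRing_of_surjective R Rb _ hsurj
  have hnoethC : IsNoetherianRing C' := Algebra.FiniteType.isNoetherianRing Rb C'
  -- the finite cover
  let gens : Set C' := {t | ∃ a₀ h₀ g₀, GoodElt π f a₀ h₀ g₀ ∧ φ a₀ = t}
  have hfgspan : (Submodule.span C' gens).FG := IsNoetherian.noetherian _
  obtain ⟨T, hTsub, hTspan⟩ := (Submodule.fg_span_iff_fg_span_finset_subset gens).mp hfgspan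
  let K : Type u := {t : C' // t ∈ T}
  have hK : ∀ k : K, ∃ a₀ h₀ g₀, GoodElt π f a₀ h₀ g₀ ∧ φ a₀ = k.1 := fun k => hTsub k.2
  choose a h g hgood hφa using hK
  have h4 : ∀ k ℓ, a k * f ℓ = ∑ j, h k ℓ j * f j + C (π ^ 2) * g k ℓ := fun k => (hgood k).1
  have hcover : ∀ (𝔭 : Ideal C') [𝔭.IsPrime], Algebra.IsSmoothAt Rb 𝔭 → ∃ k, φ (a k) ∉ 𝔭 := by
    intro 𝔭 _ hsm
    by_contra hall
    push Not at hall
    obtain ⟨a₀, h₀, g₀, hg0, ha₀⟩ := exists_goodElt_of_isSmoothAt π hsurj hker f φ hkerφ φb hφb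
      hkerb hφφb 𝔭 hsm
    apply ha₀
    have h1 : φ a₀ ∈ Submodule.span C' gens := Submodule.subset_span ⟨a₀, h₀, g₀, hg0, rfl⟩
    rw [hTspan] at h1
    have h2 : Submodule.span C' (T : Set C') ≤ 𝔭 := by
      rw [Submodule.span_le]
      intro t ht
      have := hall ⟨t, ht⟩
      rw [hφa] at this
      exact this
    exact h2 h1
  have hfinK : Finite K := Finite.of_fintype K
  refine ⟨PP R n m ⧸ JD π f a h g, inferInstance, inferInstance,
    finitePresentation_JD π f a h g, ?_⟩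
  obtain ⟨δ, hδ⟩ := exists_delta π f a h g hΛ h4 φ hkerφ IΛ hIΛ gΛ
  refine lifting_abstract π f a ((Ideal.Quotient.mkₐ R (JD π f a h g)).comp (iota R n m))
    (iota_f_mem π f a h g) φ hφ hkerφ IΛ hIΛ gΛ δ hδ (Rb := Rb) hcover ?_ ?_
  · intro q _ hq
    exact isSmoothAt_D_of_notMem π f a h g h4 q hq
  · intro q _ k hπq hak
    obtain ⟨_, c, rows, cols, a', hrows, hsupp, hnorm', hM⟩ := hgood k
    have hnorm : ∀ i, pp π a h g k (rows i) = 0 := fun i =>
      pp_rows_eq_zero π a h g k (rows i) (hnorm' i).1 (hnorm' i).2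
    exact isSmoothAt_D_of_mem π f a h g k rows cols hR h4 hrows hsupp hnorm a' hM q hπq hak

end Groth.Agent.Lib.Helper22.Pop
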