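import Groth.Agent.Lib.Helper22.PopX

set_option autoImplicit false
universe u

namespace Groth.Agent.Lib.Helper22.Pop

open TensorProduct

/-- smooth base change for the singular ideal, tensor product form. -/
theorem tmul_mem_singularIdeal {R A S : Type u} [CommRing R] [CommRing A] [Algebra R A]
    [Algebra.FinitePresentation R A] [CommRing S] [Algebra R S] (a : A)
    (ha : a ∈ Smoothing.singularIdeal R A) :
    (1 : S) ⊗ₜ[R] a ∈ Smoothing.singularIdeal S (S ⊗[R] A) := by
  rw [Smoothing.singularIdeal, PrimeSpectrum.mem_vanishingIdeal]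
  intro x hx
  let ι : A →ₐ[R] S ⊗[R] A := Algebra.TensorProduct.includeRight
  have hprime : (x.asIdeal.comap ι).IsPrime := Ideal.comap_isPrime ι _
  by_cases hsm : Algebra.IsSmoothAt R (x.asIdeal.comap ι)
  · exfalso
    have := hsm
    obtain ⟨f, hf, hsmf⟩ := Algebra.IsSmoothAt.exists_notMem_smooth R (x.asIdeal.comap ι)
    have e := IsLocalization.Away.tensorProductEquivTMulRight R S f (Localization.Away f)
    have hsm' : Algebra.Smooth S (Localization.Away ((1 : S) ⊗ₜ[R] f)) := Algebra.Smooth.of_equiv e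
    have hsub := Algebra.basicOpen_subset_smoothLocus_iff_smooth.mpr hsm'
    apply hx
    apply hsub
    rw [SetLike.mem_coe, PrimeSpectrum.mem_basicOpen]
    exact hf
  · rw [Smoothing.singularIdeal, PrimeSpectrum.mem_vanishingIdeal] at ha
    exact ha ⟨x.asIdeal.comap ι, hprime⟩ hsm

/-- transport of the singular ideal along an algebra isomorphism. -/
theorem algEquiv_mem_singularIdeal {S A₁ A₂ : Type u} [CommRing S] [CommRing A₁] [CommRing A₂]
    [Algebra S A₁] [Algebra S A₂] (e : A₁ ≃ₐ[S] A₂) (a : A₁)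
    (ha : a ∈ Smoothing.singularIdeal S A₁) : e a ∈ Smoothing.singularIdeal S A₂ := by
  rw [Smoothing.singularIdeal, PrimeSpectrum.mem_vanishingIdeal] at ha ⊢
  intro x hx
  have hprime : (x.asIdeal.comap e.toAlgHom).IsPrime := Ideal.comap_isPrime e.toAlgHom _
  have hns : ¬ Algebra.IsSmoothAt S (x.asIdeal.comap e.toAlgHom) := by
    intro hsm
    apply hx
    refine isSmoothAt_of_surjective e.toAlgHom e.surjective x.asIdeal ?_ hsm
    intro y hy
    refine ⟨1, ?_, ?_⟩
    · rw [map_one]
      exact fun h1 => x.2.ne_top ((Ideal.eq_top_iff_one _).mpr h1)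
    · rw [one_mul]
      exact e.injective (by rw [map_zero]; exact hy)
  exact ha ⟨x.asIdeal.comap e.toAlgHom, hprime⟩ hns

/-- smooth base change for the singular ideal, quotient form. -/
theorem mk_mem_singularIdeal {R A : Type u} [CommRing R] [CommRing A] [Algebra R A]
    [Algebra.FinitePresentation R A] (K : Ideal R) (a : A)
    (ha : a ∈ Smoothing.singularIdeal R A) :
    Ideal.Quotient.mk (K.map (algebraMap R A)) a ∈
      Smoothing.singularIdeal (R ⧸ K) (A ⧸ K.map (algebraMap R A)) := by
  have h1 := tmul_mem_singularIdeal (S := R ⧸ K) a ha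
  have h2 := algEquiv_mem_singularIdeal
    (Algebra.TensorProduct.quotIdealMapEquivQuotTensor A K).symm _ h1
  have h3 : (Algebra.TensorProduct.quotIdealMapEquivQuotTensor A K).symm ((1 : R ⧸ K) ⊗ₜ[R] a) =
      Ideal.Quotient.mk (K.map (algebraMap R A)) a := by
    rw [AlgEquiv.symm_apply_eq]
    exact (Algebra.TensorProduct.quotIdealMapEquivQuotTensor_mk A K a).symm
  rw [h3] at h2
  exact h2

end Groth.Agent.Lib.Helper22.Pop
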