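import Groth.Agent.Lib.Helper22.PopY1

set_option autoImplicit false
universe u

namespace Groth.Agent.Lib.Helper22.Pop

open MvPolynomial

/-- `desingularize_lifting_apply` with abstract models of `R/π⁸` and `Λ/π⁸Λ`. -/
theorem desingularize_lifting_apply_gen {R Λ A C' Rb Λb : Type u} [CommRing R]
    [IsNoetherianRing R]
    [CommRing Λ] [Algebra R Λ] (π : R) (hR : ∀ r : R, π ^ 2 * r = 0 → π * r = 0)
    (hΛ : ∀ x : Λ, π ^ 2 • x = 0 → π • x = 0) [CommRing A] [Algebra R A]
    [Algebra.FinitePresentation R A] (φ : A →ₐ[R] Λ)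
    (hπ : Smoothing.IsStrictlyStandard R A (algebraMap R A π))
    [CommRing Rb] [Algebra R Rb] (hsurj : Function.Surjective (algebraMap R Rb))
    (hker : RingHom.ker (algebraMap R Rb) = Ideal.span {π ^ 8})
    [CommRing C'] [Algebra R C'] [Algebra Rb C'] [IsScalarTower R Rb C']
    [Algebra.FinitePresentation Rb C']
    [CommRing Λb] [Algebra R Λb] (qΛ : Λ →ₐ[R] Λb) (hqsurj : Function.Surjective qΛ)
    (hqker : RingHom.ker qΛ.toRingHom = Ideal.span {algebraMap R Λ (π ^ 8)})
    (γ : A →ₐ[R] C') (g : C' →ₐ[R] Λb)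
    (hfac : ∀ a : A, g (γ a) = qΛ (φ a)) :
    ∃ (B : Type u) (_ : CommRing B) (_ : Algebra R B), Algebra.FinitePresentation R B ∧
      ∃ (α : A →ₐ[R] B) (β : B →ₐ[R] Λ), β.comp α = φ ∧
        (∀ (Q : Ideal B) [Q.IsPrime], algebraMap R B π ∉ Q → Algebra.IsSmoothAt R Q) ∧
        (Smoothing.singularIdeal Rb C').map g ≤
          ((Smoothing.singularIdeal R B).map β).radical.map qΛ := by
  classical
  -- annihilator conditions for π^4
  have hR4 : ∀ r : R, (π ^ 4) ^ 2 * r = 0 → π ^ 4 * r = 0 := by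
    intro r hr
    have h1 : π • r = 0 := ann_pow_of_ann_sq (X := R) π (fun x hx => hR x hx) 7 r
      (by rw [smul_eq_mul, ← hr]; ring)
    rw [smul_eq_mul] at h1
    calc π ^ 4 * r = π ^ 3 * (π * r) := by ring
      _ = 0 := by rw [h1, mul_zero]
  have hΛ4 : ∀ x : Λ, (π ^ 4) ^ 2 • x = 0 → π ^ 4 • x = 0 := by
    intro x hx
    have h1 : π • x = 0 := ann_pow_of_ann_sq (X := Λ) π hΛ 7 x
      (by rw [← hx, ← pow_mul])
    rw [show π ^ 4 = π ^ 3 * π by ring, mul_smul, h1, smul_zero]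
  -- the comparison of `Λb` with the quotient
  let e : Λb ≃ₐ[R] Λ ⧸ Ideal.span {algebraMap R Λ (π ^ 8)} :=
    (Ideal.quotientKerAlgEquivOfSurjective hqsurj).symm.trans
      (Ideal.quotientEquivAlgOfEq R hqker)
  have he : ∀ l : Λ, e (qΛ l) = Ideal.Quotient.mk _ l := by
    intro l
    change (Ideal.quotientEquivAlgOfEq R hqker)
      ((Ideal.quotientKerAlgEquivOfSurjective hqsurj).symm (qΛ l)) = _
    rw [Ideal.quotientKerAlgEquivOfSurjective_symm_apply]
    rfl
  obtain ⟨D, instD, instRD, hfpD, δ, ψ, hcompat, hbD, hcD⟩ :=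
    lifting_lemma_gen (R := R) (Λ := Λ) (C' := C') (Rb := Rb) (π ^ 4) hR4 hΛ4
      hsurj (by rw [hker, ← pow_mul])
      (Ideal.span {algebraMap R Λ (π ^ 8)}) (by rw [← pow_mul]) (e.toAlgHom.comp g)
  obtain ⟨B, instB, instRB, instDB, tower, hfpB, α, β, hβα, hβδ, hincl1, hincl2⟩ :=
    Groth.Agent.S2028.result π hR hΛ φ δ hπ (ψ.comp γ)
      (fun a d hd => hcompat (γ a) d (φ a) hd (by
        change _ = e (g (γ a))
        rw [hfac, he]))
  have hβD : ∀ d : D, β (algebraMap D B d) = δ d := fun d => DFunLike.congr_fun hβδ d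
  -- smoothness of `B` away from `π`
  have hbB : ∀ (Q : Ideal B) [Q.IsPrime], algebraMap R B π ∉ Q → Algebra.IsSmoothAt R Q := by
    intro Q _ hQ
    have hprime : (Q.comap (algebraMap D B)).IsPrime := Ideal.comap_isPrime _ Q
    have hq : algebraMap R D (π ^ 4) ∉ Q.comap (algebraMap D B) := by
      rw [Ideal.mem_comap, ← IsScalarTower.algebraMap_apply, map_pow]
      exact fun hmem => hQ (Ideal.IsPrime.mem_of_pow_mem inferInstance _ hmem)
    obtain ⟨h0, hh0, hh0q⟩ := exists_mem_singularIdeal_notMem _ (hbD _ hq)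
    have h1 : algebraMap D B h0 ∈ Smoothing.singularIdeal R B :=
      hincl2 (Ideal.mem_map_of_mem _ hh0)
    by_contra hns
    rw [Smoothing.singularIdeal, PrimeSpectrum.mem_vanishingIdeal] at h1
    exact hh0q (h1 ⟨Q, inferInstance⟩ hns)
  refine ⟨B, instB, instRB, hfpB, α, β, hβα, hbB, ?_⟩
  have hπB : algebraMap R B π ∈ Smoothing.singularIdeal R B :=
    mem_singularIdeal_of_smooth_away _ hbB
  rw [Ideal.map_le_iff_le_comap]
  intro cb hcb
  rw [Ideal.mem_comap]
  obtain ⟨d, hd⟩ := Ideal.Quotient.mk_surjective (ψ cb)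
  obtain ⟨l, hl⟩ := hqsurj (g cb)
  have h1 := hcompat cb d l hd (by
    change _ = e (g cb)
    rw [← hl, he])
  obtain ⟨w, hw⟩ := Ideal.mem_span_singleton'.mp h1
  -- `d` lies in the singular ideal of `D`
  have hdsing : d ∈ Smoothing.singularIdeal R D := by
    rw [Smoothing.singularIdeal, PrimeSpectrum.mem_vanishingIdeal]
    intro x hx
    have hπx : algebraMap R D (π ^ 4) ∈ x.asIdeal := by
      by_contra hπx
      exact hx (hbD x.asIdeal hπx)
    have hkerle : RingHom.ker (Ideal.Quotient.mk (Ideal.span {algebraMap R D (π ^ 4)})) ≤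
        x.asIdeal := by
      rw [Ideal.mk_ker, Ideal.span_le]
      rintro _ rfl
      exact hπx
    have hQprime : (x.asIdeal.map (Ideal.Quotient.mk (Ideal.span {algebraMap R D (π ^ 4)}))).IsPrime :=
      Ideal.map_isPrime_of_surjective Ideal.Quotient.mk_surjective hkerle
    have hQcomap : (x.asIdeal.map (Ideal.Quotient.mk (Ideal.span {algebraMap R D (π ^ 4)}))).comap
        (Ideal.Quotient.mk (Ideal.span {algebraMap R D (π ^ 4)})) = x.asIdeal := by
      rw [Ideal.comap_map_of_surjective _ Ideal.Quotient.mk_surjective]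
      exact sup_eq_left.mpr hkerle
    have hCns : ¬ Algebra.IsSmoothAt Rb
        ((x.asIdeal.map (Ideal.Quotient.mk (Ideal.span {algebraMap R D (π ^ 4)}))).comap ψ) := by
      intro hsm
      exact hx (isSmoothAt_congr hQcomap (hcD _ hsm))
    have hprimeC : ((x.asIdeal.map
        (Ideal.Quotient.mk (Ideal.span {algebraMap R D (π ^ 4)}))).comap ψ).IsPrime :=
      Ideal.comap_isPrime ψ _
    rw [Smoothing.singularIdeal, PrimeSpectrum.mem_vanishingIdeal] at hcb
    have h2 := hcb ⟨_, hprimeC⟩ hCns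
    change cb ∈ Ideal.comap ψ _ at h2
    rw [Ideal.mem_comap, ← hd] at h2
    have h3 : d ∈ (x.asIdeal.map (Ideal.Quotient.mk (Ideal.span {algebraMap R D (π ^ 4)}))).comap
        (Ideal.Quotient.mk (Ideal.span {algebraMap R D (π ^ 4)})) := h2
    rw [hQcomap] at h3
    exact h3
  have h4 : δ d ∈ (Smoothing.singularIdeal R B).map β := by
    rw [← hβD]
    exact Ideal.mem_map_of_mem _ (hincl2 (Ideal.mem_map_of_mem _ hdsing))
  have h5 : algebraMap R Λ (π ^ 4) ∈ (Smoothing.singularIdeal R B).map β := by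
    have : algebraMap R Λ (π ^ 4) = β (algebraMap R B π ^ 3 * algebraMap R B π) := by
      rw [← pow_succ, ← map_pow, AlgHom.commutes]
    rw [this]
    exact Ideal.mem_map_of_mem _ (Ideal.mul_mem_left _ _ hπB)
  have h6 : l ∈ (Smoothing.singularIdeal R B).map β := by
    have : l = δ d - w * algebraMap R Λ (π ^ 4) := by rw [hw]; ring
    rw [this]
    exact Ideal.sub_mem _ h4 (Ideal.mul_mem_left _ _ h5)
  rw [← hl]
  exact Ideal.mem_map_of_mem _ (Ideal.le_radical h6)

end Groth.Agent.Lib.Helper22.Pop
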