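import Groth.Agent.Lib.Helper22.PopY2

set_option autoImplicit false
universe u

namespace Groth.Agent.Lib.Helper22.Pop

open TensorProduct

/-- the problem `R → A → Λ ⊇ 𝔮` is resolved at the level `S` (a quotient of `R`), relative to the
original singular ideal of `A` over `R`. -/
def ResAt {R A Λ : Type u} [CommRing R] [CommRing A] [Algebra R A] [CommRing Λ] [Algebra R Λ]
    (φ : A →ₐ[R] Λ) (𝔮 : Ideal Λ) (S : Type u) [CommRing S] [Algebra R S] (ΛS : Type u)
    [CommRing ΛS] [Algebra S ΛS] (q : Λ →+* ΛS) : Prop :=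
  ∃ (B : Type u) (_ : CommRing B) (_ : Algebra S B), Algebra.FinitePresentation S B ∧
    ∃ (γ : A →+* B) (h : B →ₐ[S] ΛS),
      (∀ x : R, γ (algebraMap R A x) = algebraMap S B (algebraMap R S x)) ∧
      (∀ a : A, h (γ a) = q (φ a)) ∧
      (∀ a ∈ Smoothing.singularIdeal R A, q (φ a) ∈ ((Smoothing.singularIdeal S B).map h).radical) ∧
      ¬ ((Smoothing.singularIdeal S B).map h).radical ≤ 𝔮.map q

/-- the abstract descent step. -/
theorem resAt_step {R A Λ : Type u} [CommRing R] [CommRing A] [Algebra R A]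
    [Algebra.FinitePresentation R A] [CommRing Λ] [Algebra R Λ]
    (φ : A →ₐ[R] Λ) (𝔮 : Ideal Λ)
    {S ΛS : Type u} [CommRing S] [IsNoetherianRing S] [Algebra R S] [CommRing ΛS] [Algebra R ΛS]
    [Algebra S ΛS] [IsScalarTower R S ΛS] (qS : Λ →ₐ[R] ΛS) (h𝔮S : (𝔮.map qS).IsPrime)
    (ϖ : S) (hS : ∀ s : S, ϖ ^ 2 * s = 0 → ϖ * s = 0)
    (hΛS : ∀ y : ΛS, ϖ ^ 2 • y = 0 → ϖ • y = 0)
    (hstd : Smoothing.IsStrictlyStandard S (S ⊗[R] A) (algebraMap S (S ⊗[R] A) ϖ))
    (hϖ𝔮 : algebraMap S ΛS ϖ ∈ 𝔮.map qS)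
    {S' ΛS' : Type u} [CommRing S'] [Algebra R S'] [Algebra S S'] [IsScalarTower R S S']
    (hsurj : Function.Surjective (algebraMap S S'))
    (hker : RingHom.ker (algebraMap S S') = Ideal.span {ϖ ^ 8})
    [CommRing ΛS'] [Algebra S ΛS'] [Algebra S' ΛS'] [IsScalarTower S S' ΛS']
    (qSS' : ΛS →ₐ[S] ΛS') (hqsurj : Function.Surjective qSS')
    (hqker : RingHom.ker qSS'.toRingHom = Ideal.span {algebraMap S ΛS (ϖ ^ 8)})
    (hres : ResAt φ 𝔮 S' ΛS' (qSS'.toRingHom.comp qS.toRingHom)) :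
    ResAt φ 𝔮 S ΛS qS.toRingHom := by
  classical
  obtain ⟨C', instC, instS'C, hfpC, γ, h, hcompat, hfac, hb', hc'⟩ := hres
  -- algebra structures on `C'`
  let algSC : Algebra S C' := ((algebraMap S' C').comp (algebraMap S S')).toAlgebra
  have towerSC : IsScalarTower S S' C' := IsScalarTower.of_algebraMap_eq (fun _ => rfl)
  let algRC : Algebra R C' := ((algebraMap S C').comp (algebraMap R S)).toAlgebra
  have towerRSC : IsScalarTower R S C' := IsScalarTower.of_algebraMap_eq (fun _ => rfl)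
  let γR : A →ₐ[R] C' :=
    { γ with
      commutes' := fun x => by
        change γ (algebraMap R A x) = algebraMap S' C' (algebraMap S S' (algebraMap R S x))
        rw [hcompat, IsScalarTower.algebraMap_apply R S S'] }
  have hγR : ∀ a, γR a = γ a := fun a => rfl
  let φS : S ⊗[R] A →ₐ[S] ΛS :=
    Algebra.TensorProduct.lift (Algebra.ofId S ΛS) (qS.comp φ) (fun _ _ => Commute.all _ _)
  have hφS : ∀ (s : S) (a : A), φS (s ⊗ₜ[R] a) = algebraMap S ΛS s * qS (φ a) := fun s a =>
    Algebra.TensorProduct.lift_tmul _ _ _ s a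
  let γS : S ⊗[R] A →ₐ[S] C' :=
    Algebra.TensorProduct.lift (Algebra.ofId S C') γR (fun _ _ => Commute.all _ _)
  have hγS : ∀ (s : S) (a : A), γS (s ⊗ₜ[R] a) = algebraMap S C' s * γ a := fun s a =>
    Algebra.TensorProduct.lift_tmul _ _ _ s a
  let g : C' →ₐ[S] ΛS' := h.restrictScalars S
  have hg : ∀ c, g c = h c := fun c => rfl
  have hfacS : ∀ t : S ⊗[R] A, g (γS t) = qSS' (φS t) := by
    intro t
    induction t using TensorProduct.induction_on with
    | zero => simp
    | tmul s a =>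
      rw [hγS, hφS, map_mul, map_mul, AlgHom.commutes, AlgHom.commutes, hg, hfac]
      rfl
    | add x y hx hy => rw [map_add, map_add, map_add, map_add, hx, hy]
  obtain ⟨B, instB, instSB, hfpB, α, β, hβα, hsmB, hincl⟩ :=
    desingularize_lifting_apply_gen (R := S) (Λ := ΛS) (A := S ⊗[R] A) (C' := C') (Rb := S')
      (Λb := ΛS') ϖ hS hΛS φS hstd hsurj hker qSS' hqsurj hqker γS g hfacS
  have hβα' : ∀ t, β (α t) = φS t := fun t => DFunLike.congr_fun hβα t
  have hϖB : algebraMap S B ϖ ∈ Smoothing.singularIdeal S B :=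
    mem_singularIdeal_of_smooth_away _ hsmB
  have hϖΛ : algebraMap S ΛS ϖ ∈ (Smoothing.singularIdeal S B).map β := by
    rw [← β.commutes]
    exact Ideal.mem_map_of_mem _ hϖB
  refine ⟨B, instB, instSB, hfpB,
    α.toRingHom.comp (Algebra.TensorProduct.includeRight : A →ₐ[R] S ⊗[R] A).toRingHom, β,
    ?_, ?_, ?_, ?_⟩
  · intro x
    change α ((1 : S) ⊗ₜ[R] algebraMap R A x) = _
    have : (1 : S) ⊗ₜ[R] algebraMap R A x = algebraMap S (S ⊗[R] A) (algebraMap R S x) := by
      rw [Algebra.TensorProduct.algebraMap_apply, Algebra.algebraMap_self, RingHom.id_apply,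
        Algebra.algebraMap_eq_smul_one x, Algebra.algebraMap_eq_smul_one x]
      exact (TensorProduct.smul_tmul x (1 : S) (1 : A)).symm
    rw [this, α.commutes]
  · intro a
    change β (α ((1 : S) ⊗ₜ[R] a)) = qS (φ a)
    rw [hβα', hφS, map_one, one_mul]
  · intro a ha
    have h1 := hb' a ha
    change qSS' (qS (φ a)) ∈ _ at h1
    obtain ⟨N, hN⟩ := h1
    have h2 : qSS' (qS (φ a)) ^ N ∈ (Smoothing.singularIdeal S' C').map g := hN
    have h3 := hincl h2
    obtain ⟨l, hl, hl'⟩ := (Ideal.mem_map_iff_of_surjective qSS' hqsurj).mp h3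
    have h4 : qS (φ a) ^ N - l ∈ RingHom.ker qSS'.toRingHom := by
      rw [RingHom.mem_ker]
      change qSS' (qS (φ a) ^ N - l) = 0
      rw [map_sub, map_pow, hl', sub_self]
    rw [hqker] at h4
    obtain ⟨w, hw⟩ := Ideal.mem_span_singleton'.mp h4
    have h5 : qS (φ a) ^ N ∈ ((Smoothing.singularIdeal S B).map β).radical := by
      have : qS (φ a) ^ N = l + w * algebraMap S ΛS (ϖ ^ 8) := by rw [hw]; ring
      rw [this]
      refine Ideal.add_mem _ hl (Ideal.le_radical (Ideal.mul_mem_left _ _ ?_))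
      rw [map_pow]
      exact Ideal.pow_mem_of_mem _ hϖΛ 8 (by norm_num)
    change qS (φ a) ∈ _
    exact Ideal.radical_isRadical _ ⟨N, h5⟩
  · intro hle
    apply hc'
    have hkerle : RingHom.ker qSS' ≤ 𝔮.map qS := by
      have : RingHom.ker qSS' = RingHom.ker qSS'.toRingHom := rfl
      rw [this, hqker, Ideal.span_le]
      rintro _ rfl
      rw [map_pow]
      exact Ideal.pow_mem_of_mem _ hϖ𝔮 8 (by norm_num)
    have hprime' : ((𝔮.map qS).map qSS').IsPrime :=
      Ideal.map_isPrime_of_surjective hqsurj hkerle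
    have hmapmap : 𝔮.map (qSS'.toRingHom.comp qS.toRingHom) = (𝔮.map qS).map qSS' :=
      (Ideal.map_map qS.toRingHom qSS'.toRingHom).symm
    rw [hmapmap, hprime'.radical_le_iff]
    calc (Smoothing.singularIdeal S' C').map h
        = (Smoothing.singularIdeal S' C').map g := rfl
      _ ≤ ((Smoothing.singularIdeal S B).map β).radical.map qSS' := hincl
      _ ≤ (𝔮.map qS).map qSS' := Ideal.map_mono hle

end Groth.Agent.Lib.Helper22.Pop
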