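import Groth.Agent.Lib.Helper22.PopY3

set_option autoImplicit false
universe u

namespace Groth.Agent.Lib.Helper22.Pop

open TensorProduct

theorem resAt_congr {R A Λ : Type u} [CommRing R] [CommRing A] [Algebra R A] [CommRing Λ]
    [Algebra R Λ] (φ : A →ₐ[R] Λ) (𝔮 : Ideal Λ) (S : Type u) [CommRing S] [Algebra R S]
    (ΛS : Type u) [CommRing ΛS] [Algebra S ΛS] {q q' : Λ →+* ΛS} (hq : q = q')
    (h : ResAt φ 𝔮 S ΛS q) : ResAt φ 𝔮 S ΛS q' := by
  subst hq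
  exact h

/-- strict standardness after base change, in `algebraMap` form. -/
theorem isStrictlyStandard_baseChange {R A S : Type u} [CommRing R] [CommRing A] [Algebra R A]
    [Algebra.FinitePresentation R A] [CommRing S] [Algebra R S] (ϖ₀ : R)
    (hstd : Smoothing.IsStrictlyStandard R A (algebraMap R A ϖ₀)) :
    Smoothing.IsStrictlyStandard S (S ⊗[R] A) (algebraMap S (S ⊗[R] A) (algebraMap R S ϖ₀)) := by
  have h := (Groth.Agent.S6829.result (R := R) (A := A) (R' := S) (algebraMap R A ϖ₀)).2 hstd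
  have e : algebraMap S (S ⊗[R] A) (algebraMap R S ϖ₀) = (1 : S) ⊗ₜ[R] algebraMap R A ϖ₀ := by
    rw [Algebra.TensorProduct.algebraMap_apply, Algebra.algebraMap_self, RingHom.id_apply,
      Algebra.algebraMap_eq_smul_one ϖ₀, Algebra.algebraMap_eq_smul_one ϖ₀]
    exact TensorProduct.smul_tmul ϖ₀ (1 : S) (1 : A)
  rw [e]
  exact h

section level

variable {R A Λ : Type u} [CommRing R] [IsNoetherianRing R] [CommRing A] [Algebra R A]
  [Algebra.FinitePresentation R A] [CommRing Λ] [Algebra R Λ]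

/-- the problem is resolved modulo the ideal `I`. -/
abbrev LevelRes (φ : A →ₐ[R] Λ) (𝔮 : Ideal Λ) (I : Ideal R) : Prop :=
  ResAt φ 𝔮 (R ⧸ I) (Λ ⧸ I.map (algebraMap R Λ)) (Ideal.Quotient.mk (I.map (algebraMap R Λ)))

theorem levelRes_step (φ : A →ₐ[R] Λ) (𝔮 : Ideal Λ) [𝔮.IsPrime] (I J : Ideal R) (ϖ₀ : R)
    (hJ : J = I ⊔ Ideal.span {ϖ₀ ^ 8})
    (hI : ∀ x : R, ϖ₀ ^ 2 * x ∈ I → ϖ₀ * x ∈ I)
    (hIΛ : ∀ y : Λ, algebraMap R Λ ϖ₀ ^ 2 * y ∈ I.map (algebraMap R Λ) →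
      algebraMap R Λ ϖ₀ * y ∈ I.map (algebraMap R Λ))
    (hstd : Smoothing.IsStrictlyStandard R A (algebraMap R A ϖ₀))
    (hϖ𝔮 : algebraMap R Λ ϖ₀ ∈ 𝔮) (hI𝔮 : I.map (algebraMap R Λ) ≤ 𝔮)
    (hres : LevelRes φ 𝔮 J) : LevelRes φ 𝔮 I := by
  classical
  have hIJ : I ≤ J := by rw [hJ]; exact le_sup_left
  have hIJΛ : I.map (algebraMap R Λ) ≤ J.map (algebraMap R Λ) := Ideal.map_mono hIJ
  let algSS' : Algebra (R ⧸ I) (R ⧸ J) := (Ideal.Quotient.factor hIJ).toAlgebra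
  have towerRSS' : IsScalarTower R (R ⧸ I) (R ⧸ J) :=
    IsScalarTower.of_algebraMap_eq (fun _ => rfl)
  let algSΛS' : Algebra (R ⧸ I) (Λ ⧸ J.map (algebraMap R Λ)) :=
    ((algebraMap (R ⧸ J) (Λ ⧸ J.map (algebraMap R Λ))).comp (algebraMap (R ⧸ I) (R ⧸ J))).toAlgebra
  have towerSS'ΛS' : IsScalarTower (R ⧸ I) (R ⧸ J) (Λ ⧸ J.map (algebraMap R Λ)) :=
    IsScalarTower.of_algebraMap_eq (fun _ => rfl)
  have towerRSΛS : IsScalarTower R (R ⧸ I) (Λ ⧸ I.map (algebraMap R Λ)) :=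
    IsScalarTower.of_algebraMap_eq (fun _ => rfl)
  let qS : Λ →ₐ[R] (Λ ⧸ I.map (algebraMap R Λ)) := Ideal.Quotient.mkₐ R _
  let qSS' : (Λ ⧸ I.map (algebraMap R Λ)) →ₐ[R ⧸ I] (Λ ⧸ J.map (algebraMap R Λ)) :=
    { Ideal.Quotient.factor hIJΛ with
      commutes' := fun s => by
        obtain ⟨x, rfl⟩ := Ideal.Quotient.mk_surjective s
        rfl }
  have hqSS' : ∀ y : Λ, qSS' (Ideal.Quotient.mk _ y) = Ideal.Quotient.mk _ y := fun y => rfl
  have h𝔮S : (𝔮.map qS).IsPrime := by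
    refine Ideal.map_isPrime_of_surjective (Ideal.Quotient.mkₐ_surjective R _) ?_
    change RingHom.ker (Ideal.Quotient.mk (I.map (algebraMap R Λ))) ≤ 𝔮
    rw [Ideal.mk_ker]
    exact hI𝔮
  have hmkS : ∀ x : R, algebraMap (R ⧸ I) (Λ ⧸ I.map (algebraMap R Λ)) (Ideal.Quotient.mk I x) =
      Ideal.Quotient.mk _ (algebraMap R Λ x) := fun x => rfl
  refine resAt_congr φ 𝔮 _ _ (q := qS.toRingHom) rfl ?_
  refine resAt_step φ 𝔮 qS h𝔮S (Ideal.Quotient.mk I ϖ₀) ?_ ?_ ?_ ?_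
    (Ideal.Quotient.factor_surjective hIJ) ?_ qSS' (Ideal.Quotient.factor_surjective hIJΛ) ?_ ?_
  · intro s hs
    obtain ⟨x, rfl⟩ := Ideal.Quotient.mk_surjective s
    rw [← map_pow, ← map_mul, Ideal.Quotient.eq_zero_iff_mem] at hs
    rw [← map_mul, Ideal.Quotient.eq_zero_iff_mem]
    exact hI x hs
  · intro y hy
    obtain ⟨y, rfl⟩ := Ideal.Quotient.mk_surjective y
    rw [Algebra.smul_def, ← map_pow, hmkS, ← map_mul, Ideal.Quotient.eq_zero_iff_mem,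
      map_pow] at hy
    rw [Algebra.smul_def, hmkS, ← map_mul, Ideal.Quotient.eq_zero_iff_mem]
    exact hIΛ y hy
  · exact isStrictlyStandard_baseChange (S := R ⧸ I) ϖ₀ hstd
  · rw [hmkS]
    exact Ideal.mem_map_of_mem _ hϖ𝔮
  · change RingHom.ker (Ideal.Quotient.factor hIJ) = _
    rw [Ideal.Quotient.factor_ker, hJ, Ideal.map_sup, Ideal.map_quotient_self, bot_sup_eq,
      Ideal.map_span, Set.image_singleton, map_pow]
  · change RingHom.ker (Ideal.Quotient.factor hIJΛ) = _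
    rw [Ideal.Quotient.factor_ker, hJ, Ideal.map_sup, Ideal.map_sup, Ideal.map_quotient_self,
      bot_sup_eq, Ideal.map_span, Set.image_singleton, Ideal.map_span, Set.image_singleton,
      ← map_pow, hmkS]
  · refine resAt_congr φ 𝔮 _ _ ?_ hres
    ext y
    rfl

end level

end Groth.Agent.Lib.Helper22.Pop
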