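import Groth.Agent.Lib.Helper22.PopY4

set_option autoImplicit false
universe u

namespace Groth.Agent.Lib.Helper22.Pop

open TensorProduct

section level

variable {R A Λ : Type u} [CommRing R] [IsNoetherianRing R] [CommRing A] [Algebra R A]
  [Algebra.FinitePresentation R A] [CommRing Λ] [Algebra R Λ]

theorem levelRes_top (φ : A →ₐ[R] Λ) (𝔮 : Ideal Λ) (K : Ideal R)
    (φK : (A ⧸ K.map (algebraMap R A)) →ₐ[R ⧸ K] (Λ ⧸ K.map (algebraMap R Λ)))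
    (hφK : ∀ a : A, φK (Ideal.Quotient.mk _ a) = Ideal.Quotient.mk _ (φ a))
    (hres : Smoothing.Resolvable (R ⧸ K) φK
      (𝔮.map (Ideal.Quotient.mk (K.map (algebraMap R Λ))))) : LevelRes φ 𝔮 K := by
  obtain ⟨C', instC, instKC, hfp, gK, hK, hcomp, hle, hnle⟩ := hres
  have hcomp' : ∀ t, hK (gK t) = φK t := fun t => DFunLike.congr_fun hcomp t
  refine ⟨C', instC, instKC, hfp, gK.toRingHom.comp (Ideal.Quotient.mk _), hK, ?_, ?_, ?_, ?_⟩
  · intro x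
    change gK (algebraMap (R ⧸ K) (A ⧸ K.map (algebraMap R A)) (Ideal.Quotient.mk K x)) = _
    rw [gK.commutes]
    rfl
  · intro a
    change hK (gK (Ideal.Quotient.mk _ a)) = _
    rw [hcomp', hφK]
  · intro a ha
    have h1 := mk_mem_singularIdeal K a ha
    have h2 : φK (Ideal.Quotient.mk _ a) ∈ Smoothing.singRad (R ⧸ K) φK :=
      Ideal.le_radical (Ideal.mem_map_of_mem _ h1)
    rw [hφK] at h2
    exact hle h2
  · exact hnle

theorem resolvable_of_resAt (φ : A →ₐ[R] Λ) (𝔮 : Ideal Λ)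
    (hres : ResAt φ 𝔮 R Λ (AlgHom.id R Λ).toRingHom) : Smoothing.Resolvable R φ 𝔮 := by
  obtain ⟨B, instB, instRB, hfp, γ, h, hcompat, hfac, hb, hc⟩ := hres
  have hmapid : 𝔮.map (AlgHom.id R Λ).toRingHom = 𝔮 := Ideal.map_id 𝔮
  refine ⟨B, instB, instRB, hfp, { γ with commutes' := fun x => hcompat x }, h, ?_, ?_, ?_⟩
  · apply AlgHom.ext
    intro a
    exact hfac a
  · unfold Smoothing.singRad
    rw [Ideal.radical_le_radical_iff, Ideal.map_le_iff_le_comap]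
    intro a ha
    exact hb a ha
  · rw [hmapid] at hc
    exact hc

theorem levelRes_base (φ : A →ₐ[R] Λ) (𝔮 : Ideal Λ) [𝔮.IsPrime] (I₁ : Ideal R) (ϖ₀ : R)
    (hI₁ : I₁ = Ideal.span {ϖ₀ ^ 8})
    (hR0 : ∀ x : R, ϖ₀ ^ 2 * x = 0 → ϖ₀ * x = 0)
    (hΛ0 : ∀ y : Λ, algebraMap R Λ ϖ₀ ^ 2 * y = 0 → algebraMap R Λ ϖ₀ * y = 0)
    (hstd : Smoothing.IsStrictlyStandard R A (algebraMap R A ϖ₀))
    (hϖ𝔮 : algebraMap R Λ ϖ₀ ∈ 𝔮)
    (hres : LevelRes φ 𝔮 I₁) : Smoothing.Resolvable R φ 𝔮 := by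
  classical
  apply resolvable_of_resAt
  have hmapid : 𝔮.map (AlgHom.id R Λ) = 𝔮 := Ideal.map_id 𝔮
  have towerRSΛS : IsScalarTower R (R ⧸ I₁) (Λ ⧸ I₁.map (algebraMap R Λ)) :=
    IsScalarTower.of_algebraMap_eq (fun _ => rfl)
  refine resAt_step φ 𝔮 (AlgHom.id R Λ) (by rw [hmapid]; infer_instance) ϖ₀ hR0 ?_ ?_ ?_
    (S' := R ⧸ I₁) (ΛS' := Λ ⧸ I₁.map (algebraMap R Λ))
    Ideal.Quotient.mk_surjective ?_ (Ideal.Quotient.mkₐ R _) (Ideal.Quotient.mkₐ_surjective R _)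
    ?_ ?_
  · intro y hy
    rw [Algebra.smul_def, map_pow] at hy
    rw [Algebra.smul_def]
    exact hΛ0 y hy
  · exact isStrictlyStandard_baseChange (S := R) ϖ₀ hstd
  · rw [hmapid]; exact hϖ𝔮
  · change RingHom.ker (Ideal.Quotient.mk I₁) = _
    rw [Ideal.mk_ker, hI₁]
  · change RingHom.ker (Ideal.Quotient.mk (I₁.map (algebraMap R Λ))) = _
    rw [Ideal.mk_ker, hI₁, Ideal.map_span, Set.image_singleton]
  · refine resAt_congr φ 𝔮 _ _ ?_ hres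
    ext y
    rfl

end level

end Groth.Agent.Lib.Helper22.Pop
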