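import Mathlib
import Groth.Agent.Lib.Helper22.DualDetect

/-!
# Primitive elements of finite commutative Hopf algebras over a field (helper22)

* `exists_primitive`: if the dual algebra of `A` is local (and `dim A > 1`) then `A` has a nonzero
  primitive element.
* `isHopfIdeal_span_primitive`: the ideal generated by a primitive element is a Hopf ideal.
-/

set_option autoImplicit false
universe u v
open scoped TensorProduct
open WithConv

namespace Groth.Agent.Lib.helper22.PrimElt

variable (k : Type u) [Field k] (A : Type v) [CommRing A] [HopfAlgebra k A]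

/-- evaluation at `1`, the counit of the dual algebra -/
noncomputable def evOne [Coalgebra.IsCocomm k A] : WithConv (A →ₗ[k] k) →ₐ[k] k :=
  AlgHom.ofLinearMap
    { toFun := fun φ => φ.ofConv 1
      map_add' := fun _ _ => rfl
      map_smul' := fun _ _ => rfl }
    (by
      change (1 : WithConv (A →ₗ[k] k)) (1 : A) = 1
      rw [LinearMap.convOne_apply, Bialgebra.counit_one, map_one])
    (by
      intro φ ψ
      change (φ * ψ) (1 : A) = φ.ofConv 1 * ψ.ofConv 1
      rw [LinearMap.convMul_apply, Bialgebra.comul_one, Algebra.TensorProduct.one_def,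
        TensorProduct.map_tmul, LinearMap.mul'_apply])

theorem evOne_apply [Coalgebra.IsCocomm k A] (φ : WithConv (A →ₗ[k] k)) :
    evOne k A φ = φ.ofConv 1 := rfl

variable {k A}

/-- a primitive element is killed by the counit -/
theorem counit_primitive {x : A} (hx : Coalgebra.comul x = x ⊗ₜ[k] (1 : A) + (1 : A) ⊗ₜ[k] x) :
    Coalgebra.counit (R := k) x = 0 := by
  have h1 := Coalgebra.rTensor_counit_comul (R := k) x
  rw [hx, map_add, LinearMap.rTensor_tmul, LinearMap.rTensor_tmul, Bialgebra.counit_one] at h1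
  have h2 := congrArg (TensorProduct.lid k A) h1
  rw [map_add, TensorProduct.lid_tmul, TensorProduct.lid_tmul, one_smul] at h2
  have h3 : Coalgebra.counit (R := k) x • (1 : A) = 0 := by
    have := add_eq_right.1 h2
    exact this
  have h4 := congrArg (Coalgebra.counit (R := k)) h3
  rw [map_smul, Bialgebra.counit_one, map_zero, smul_eq_mul, mul_one] at h4
  exact h4

/-- the antipode of a primitive element is its negative -/
theorem antipode_primitive {x : A}
    (hx : Coalgebra.comul x = x ⊗ₜ[k] (1 : A) + (1 : A) ⊗ₜ[k] x) :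
    HopfAlgebra.antipode k x = -x := by
  have h1 := HopfAlgebra.mul_antipode_rTensor_comul_apply (R := k) x
  rw [hx, map_add, LinearMap.rTensor_tmul, LinearMap.rTensor_tmul, map_add,
    LinearMap.mul'_apply, LinearMap.mul'_apply, HopfAlgebra.antipode_one, one_mul, mul_one,
    counit_primitive hx, map_zero] at h1
  exact eq_neg_of_add_eq_zero_left h1

/-- the ideal generated by a primitive element is a Hopf ideal -/
theorem isHopfIdeal_span_primitive {x : A}
    (hx : Coalgebra.comul x = x ⊗ₜ[k] (1 : A) + (1 : A) ⊗ₜ[k] x) :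
    (Ideal.span ({x} : Set A)).IsHopfIdeal k := by
  set I := Ideal.span ({x} : Set A) with hI
  have hxI : x ∈ I := Ideal.subset_span rfl
  refine @Ideal.IsHopfIdeal.mk _ _ _ _ _ I ?_ ?_
  · rw [Submodule.isCoideal_iff_comul_mem]
    refine ⟨?_, ?_⟩
    · intro y hy
      obtain ⟨a, rfl⟩ := Ideal.mem_span_singleton'.1 hy
      rw [Bialgebra.counit_mul, counit_primitive hx, mul_zero]
    · intro y hy
      obtain ⟨a, rfl⟩ := Ideal.mem_span_singleton'.1 hy
      rw [Bialgebra.comul_mul, hx, mul_add]
      have key1 : ∀ t : A ⊗[k] A, t * (x ⊗ₜ[k] (1 : A)) ∈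
          LinearMap.range (LinearMap.rTensor A (I.restrictScalars k).subtype) := by
        intro t
        induction t using TensorProduct.induction_on with
        | zero => rw [zero_mul]; exact Submodule.zero_mem _
        | tmul c d =>
          rw [Algebra.TensorProduct.tmul_mul_tmul, mul_one]
          exact ⟨(⟨c * x, I.mul_mem_left c hxI⟩ : (I.restrictScalars k)) ⊗ₜ[k] d, rfl⟩
        | add t t' ht ht' => rw [add_mul]; exact Submodule.add_mem _ ht ht'
      have key2 : ∀ t : A ⊗[k] A, t * ((1 : A) ⊗ₜ[k] x) ∈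
          LinearMap.range (LinearMap.lTensor A (I.restrictScalars k).subtype) := by
        intro t
        induction t using TensorProduct.induction_on with
        | zero => rw [zero_mul]; exact Submodule.zero_mem _
        | tmul c d =>
          rw [Algebra.TensorProduct.tmul_mul_tmul, mul_one]
          exact ⟨c ⊗ₜ[k] (⟨d * x, I.mul_mem_left d hxI⟩ : (I.restrictScalars k)), rfl⟩
        | add t t' ht ht' => rw [add_mul]; exact Submodule.add_mem _ ht ht'
      exact Submodule.add_mem _ (Submodule.mem_sup_right (key1 _)) (Submodule.mem_sup_left (key2 _))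
  · intro y hy
    obtain ⟨a, rfl⟩ := Ideal.mem_span_singleton'.1 hy
    have h1 : HopfAlgebra.antipode k (a * x) = HopfAlgebra.antipode k a * HopfAlgebra.antipode k x := by
      rw [HopfAlgebra.antipode_mul_antidistrib, mul_comm]
    rw [h1, antipode_primitive hx, mul_neg]
    exact I.neg_mem (I.mul_mem_left _ hxI)

variable (k A)

/-- if the dual algebra is local and `dim A > 1` there is a nonzero primitive element -/
theorem exists_primitive [Coalgebra.IsCocomm k A] [FiniteDimensional k A]
    (hloc : IsLocalRing (WithConv (A →ₗ[k] k))) (hA : 1 < Module.finrank k A) :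
    ∃ x : A, x ≠ 0 ∧ Coalgebra.comul x = x ⊗ₜ[k] (1 : A) + (1 : A) ⊗ₜ[k] x := by
  classical
  let m : Ideal (WithConv (A →ₗ[k] k)) := RingHom.ker (evOne k A)
  have hmem : ∀ φ : WithConv (A →ₗ[k] k), φ ∈ m ↔ evOne k A φ = 0 := fun φ => RingHom.mem_ker
  have hmmax : m.IsMaximal :=
    RingHom.ker_isMaximal_of_surjective _
      (fun r => ⟨algebraMap k (WithConv (A →ₗ[k] k)) r, AlgHom.commutes _ r⟩)
  have hfinD : Module.Finite k (WithConv (A →ₗ[k] k)) :=
    Module.Finite.equiv (WithConv.linearEquiv k (A →ₗ[k] k)).symm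
  have hfr : Module.finrank k (WithConv (A →ₗ[k] k)) = Module.finrank k A := by
    rw [(WithConv.linearEquiv k (A →ₗ[k] k)).finrank_eq]
    exact Subspace.dual_finrank_eq
  -- the subspace `k·1 + m²` is proper
  let P : Submodule k (WithConv (A →ₗ[k] k)) :=
    Submodule.span k {1} ⊔ (m * m).restrictScalars k
  have hP : P < ⊤ := by
    rw [lt_top_iff_ne_top]
    intro hPtop
    have hle : m ≤ m * m := by
      intro φ hφ
      have h1 : φ ∈ P := by rw [hPtop]; exact Submodule.mem_top
      obtain ⟨y, hy, z, hz, rfl⟩ := Submodule.mem_sup.1 h1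
      obtain ⟨c, rfl⟩ := Submodule.mem_span_singleton.1 hy
      have hz' : z ∈ m * m := hz
      have hzm : evOne k A z = 0 := (hmem z).1 (Ideal.mul_le_right hz')
      have h2 := (hmem _).1 hφ
      rw [map_add, hzm, add_zero, map_smul, map_one, smul_eq_mul, mul_one] at h2
      rw [h2, zero_smul, zero_add]
      exact hz'
    have hnoeth : IsNoetherianRing (WithConv (A →ₗ[k] k)) :=
      isNoetherian_of_tower k (inferInstance : IsNoetherian k (WithConv (A →ₗ[k] k)))
    have hjac : m ≤ Ideal.jacobson (⊥ : Ideal (WithConv (A →ₗ[k] k))) := by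
      rw [IsLocalRing.jacobson_eq_maximalIdeal ⊥ bot_ne_top, IsLocalRing.eq_maximalIdeal hmmax]
    have hbot : m = ⊥ :=
      Submodule.eq_bot_of_le_smul_of_le_jacobson_bot m m (IsNoetherian.noetherian m) hle hjac
    have hinj : Function.Injective (evOne k A).toLinearMap := by
      rw [← LinearMap.ker_eq_bot, eq_bot_iff]
      intro φ hφ
      have : φ ∈ m := (hmem φ).2 hφ
      rw [hbot] at this
      exact this
    have := LinearMap.finrank_le_finrank_of_injective hinj
    rw [hfr, Module.finrank_self] at this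
    omega
  obtain ⟨δ, hδ0, hδP⟩ := Submodule.exists_le_ker_of_lt_top P hP
  have hδ1 : δ 1 = 0 :=
    hδP (Submodule.mem_sup_left (Submodule.subset_span rfl))
  have hδmm : ∀ φ ψ : WithConv (A →ₗ[k] k), φ ∈ m → ψ ∈ m → δ (φ * ψ) = 0 := by
    intro φ ψ hφ hψ
    exact hδP (Submodule.mem_sup_right (Ideal.mul_mem_mul hφ hψ))
  have hδalg : ∀ c : k, δ (algebraMap k (WithConv (A →ₗ[k] k)) c) = 0 := by
    intro c
    rw [Algebra.algebraMap_eq_smul_one, map_smul, hδ1, smul_zero]
  -- `δ` is a derivation at the counit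
  have hder : ∀ φ ψ : WithConv (A →ₗ[k] k),
      δ (φ * ψ) = evOne k A φ * δ ψ + evOne k A ψ * δ φ := by
    intro φ ψ
    set a := evOne k A φ with ha
    set b := evOne k A ψ with hb
    set φ₀ := φ - algebraMap k _ a with hφ₀
    set ψ₀ := ψ - algebraMap k _ b with hψ₀
    have hφm : φ₀ ∈ m := by
      rw [hmem, hφ₀, map_sub, AlgHom.commutes, ← ha]
      exact sub_self _
    have hψm : ψ₀ ∈ m := by
      rw [hmem, hψ₀, map_sub, AlgHom.commutes, ← hb]
      exact sub_self _
    have e : φ * ψ = algebraMap k _ (a * b) + a • ψ₀ + b • φ₀ + φ₀ * ψ₀ := by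
      rw [hφ₀, hψ₀, Algebra.smul_def, Algebra.smul_def, map_mul]
      ring
    have e1 : δ ψ₀ = δ ψ := by rw [hψ₀, map_sub, hδalg, sub_zero]
    have e2 : δ φ₀ = δ φ := by rw [hφ₀, map_sub, hδalg, sub_zero]
    rw [e, map_add, map_add, map_add, hδalg, hδmm _ _ hφm hψm, map_smul, map_smul, e1, e2,
      zero_add, add_zero, smul_eq_mul, smul_eq_mul]
  obtain ⟨x, hx⟩ := DualDetect.exists_eval
    (f := δ ∘ₗ (WithConv.linearEquiv k (A →ₗ[k] k)).symm.toLinearMap)
  have hx' : ∀ φ : WithConv (A →ₗ[k] k), δ φ = φ.ofConv x := fun φ => hx φ.ofConv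
  refine ⟨x, ?_, ?_⟩
  · rintro rfl
    apply hδ0
    ext φ
    rw [hx', map_zero]
    rfl
  · rw [← sub_eq_zero]
    apply DualDetect.tmul_eq_zero_of_forall_dual
    intro φ ψ
    rw [map_sub, map_sub, map_add, map_add, TensorProduct.map_tmul, TensorProduct.map_tmul,
      LinearMap.mul'_apply, LinearMap.mul'_apply]
    have h1 := LinearMap.convMul_apply (toConv φ) (toConv ψ) x
    rw [WithConv.ofConv_toConv, WithConv.ofConv_toConv] at h1
    rw [← h1]
    have h2 := hder (toConv φ) (toConv ψ)
    rw [hx', hx', hx', evOne_apply, evOne_apply] at h2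
    simp only [WithConv.ofConv_toConv] at h2
    change (toConv φ * toConv ψ).ofConv x - _ = 0
    rw [h2]
    ring

end Groth.Agent.Lib.helper22.PrimElt
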