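import Mathlib
import Groth.Agent.Lib.Helper22.PrimElt

/-!
# A simple local Hopf algebra with a nonzero primitive element is `α_p` (helper22)
-/

set_option autoImplicit false
universe u v
open scoped TensorProduct
open Polynomial

namespace Groth.Agent.Lib.helper22.PrimAlpha

variable {k : Type u} [Field k] {A : Type v} [CommRing A] [HopfAlgebra k A]

/-- in characteristic `p` the `p`-th power of a primitive element is primitive -/
theorem primitive_pow_char (p : ℕ) [Fact p.Prime] [CharP k p] {x : A}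
    (hx : Coalgebra.comul x = x ⊗ₜ[k] (1 : A) + (1 : A) ⊗ₜ[k] x) :
    Coalgebra.comul (R := k) (x ^ p) = (x ^ p) ⊗ₜ[k] (1 : A) + (1 : A) ⊗ₜ[k] (x ^ p) := by
  have hp0 : ((p : ℕ) : A ⊗[k] A) = 0 := by
    rw [← map_natCast (algebraMap k (A ⊗[k] A)) p, CharP.cast_eq_zero k p, map_zero]
  rw [Bialgebra.comul_pow, hx, add_pow_prime_eq (Fact.out : p.Prime), hp0, zero_mul, zero_mul,
    zero_mul, add_zero, Algebra.TensorProduct.tmul_pow, Algebra.TensorProduct.tmul_pow, one_pow]

variable [FiniteDimensional k A]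

/-- the span statement: if `ker ε = (x)` and `x ^ d = 0` then the powers `x^i`, `i < d`, span -/
theorem span_pow_eq_top {x : A}
    (hspan : Ideal.span ({x} : Set A) = RingHom.ker (Bialgebra.counitAlgHom k A))
    (d : ℕ) (hd : x ^ d = 0) :
    ⊤ ≤ Submodule.span k (Set.range (fun i : Fin d => x ^ (i : ℕ))) := by
  have key : ∀ j : ℕ, ∀ a : A, ∃ s ∈ Submodule.span k (Set.range (fun i : Fin j => x ^ (i : ℕ))),
      a - s ∈ Ideal.span ({x ^ j} : Set A) := by
    intro j
    induction j with
    | zero =>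
      intro a
      refine ⟨0, Submodule.zero_mem _, ?_⟩
      rw [pow_zero, Ideal.span_singleton_one]
      exact Submodule.mem_top
    | succ j ih =>
      intro a
      obtain ⟨s, hs, has⟩ := ih a
      obtain ⟨b, hb⟩ := Ideal.mem_span_singleton'.1 has
      have hb' : b - algebraMap k A (Bialgebra.counitAlgHom k A b) ∈
          Ideal.span ({x} : Set A) := by
        rw [hspan, RingHom.mem_ker, map_sub, AlgHom.commutes]
        exact sub_self _
      obtain ⟨c, hc⟩ := Ideal.mem_span_singleton'.1 hb'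
      refine ⟨s + (Bialgebra.counitAlgHom k A b) • x ^ j, ?_, ?_⟩
      · refine Submodule.add_mem _ ?_ (Submodule.smul_mem _ _ ?_)
        · refine Submodule.span_mono ?_ hs
          rintro _ ⟨i, rfl⟩
          exact ⟨Fin.castSucc i, rfl⟩
        · exact Submodule.subset_span ⟨Fin.last j, rfl⟩
      · rw [Ideal.mem_span_singleton']
        refine ⟨c, ?_⟩
        have e2 : a - (s + (Bialgebra.counitAlgHom k A b) • x ^ j) =
            b * x ^ j - (Bialgebra.counitAlgHom k A b) • x ^ j := by
          rw [hb]; ring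
        rw [e2, Algebra.smul_def, ← sub_mul, ← hc, pow_succ]
        ring
  intro a _
  obtain ⟨s, hs, has⟩ := key d a
  rw [hd, Ideal.span_singleton_eq_bot.2 rfl, Ideal.mem_bot, sub_eq_zero] at has
  rw [has]
  exact hs

/-- a simple local finite Hopf algebra in characteristic `p` with a nonzero primitive element is
`k[x]/(x^p)` -/
theorem alpha_p_of_primitive (p : ℕ) [Fact p.Prime] [CharP k p] [IsLocalRing A]
    (hA : 1 < Module.finrank k A)
    (hsimple : ∀ I : Ideal A, I.IsHopfIdeal k →
      I = ⊥ ∨ I = RingHom.ker (Bialgebra.counitAlgHom k A))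
    {x : A} (hx0 : x ≠ 0) (hx : Coalgebra.comul x = x ⊗ₜ[k] (1 : A) + (1 : A) ⊗ₜ[k] x) :
    x ^ p = 0 ∧ LinearIndependent k (fun i : Fin p => x ^ (i : ℕ)) ∧ Module.finrank k A = p := by
  classical
  have hp : p.Prime := Fact.out
  -- `(y) = ker ε` for every nonzero primitive `y`
  have hprinc : ∀ y : A, y ≠ 0 →
      Coalgebra.comul y = y ⊗ₜ[k] (1 : A) + (1 : A) ⊗ₜ[k] y →
      Ideal.span ({y} : Set A) = RingHom.ker (Bialgebra.counitAlgHom k A) := by
    intro y hy0 hy
    rcases hsimple _ (PrimElt.isHopfIdeal_span_primitive hy) with h | h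
    · exact absurd (Ideal.span_singleton_eq_bot.1 h) hy0
    · exact h
  have hspan := hprinc x hx0 hx
  -- `x` is nilpotent
  have hnil : IsNilpotent x := by
    have hart : IsArtinianRing A := IsArtinianRing.of_finite k A
    have hmem : x ∈ IsLocalRing.maximalIdeal A := by
      have hmax : (RingHom.ker (Bialgebra.counitAlgHom k A)).IsMaximal :=
        RingHom.ker_isMaximal_of_surjective _ (fun r => ⟨algebraMap k A r, by simp⟩)
      rw [← IsLocalRing.eq_maximalIdeal hmax, ← hspan]
      exact Ideal.subset_span rfl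
    have hnilp : IsNilpotent (IsLocalRing.maximalIdeal A) := by
      rw [← IsLocalRing.jacobson_eq_maximalIdeal ⊥ bot_ne_top]
      exact IsArtinianRing.isNilpotent_jacobson_bot
    obtain ⟨N, hN⟩ := hnilp
    refine ⟨N, ?_⟩
    have := Ideal.pow_mem_pow hmem N
    rw [hN] at this
    exact this
  obtain ⟨M, hM⟩ := hnil
  -- the minimal polynomial of `x` is `X ^ d`
  have hint : IsIntegral k x := Algebra.IsIntegral.isIntegral x
  obtain ⟨d, hd⟩ : ∃ d : ℕ, minpoly k x = X ^ d := by
    have h1 : minpoly k x ∣ X ^ M := minpoly.dvd k x (by rw [map_pow, aeval_X, hM])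
    obtain ⟨i, -, hi⟩ := (dvd_prime_pow Polynomial.prime_X M).1 h1
    exact ⟨i, Polynomial.eq_of_monic_of_associated (minpoly.monic hint) (monic_X_pow i) hi⟩
  have hdeg : (minpoly k x).natDegree = d := by rw [hd, natDegree_X_pow]
  have hxd : x ^ d = 0 := by
    have := minpoly.aeval k x
    rw [hd, map_pow, aeval_X] at this
    exact this
  have hli : LinearIndependent k (fun i : Fin d => x ^ (i : ℕ)) := by
    have := linearIndependent_pow (K := k) x
    rw [hdeg] at this
    exact this
  have hsp := span_pow_eq_top hspan d hxd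
  let B : Module.Basis (Fin d) k A := Module.Basis.mk hli hsp
  have hB : ∀ i : Fin d, B i = x ^ (i : ℕ) := fun i => by
    rw [Module.Basis.mk_apply]
  have hfr : Module.finrank k A = d := by
    rw [Module.finrank_eq_card_basis B, Fintype.card_fin]
  have hd1 : 1 < d := by rw [← hfr]; exact hA
  have hne : ∀ j : ℕ, j < d → x ^ j ≠ 0 := fun j hj => by
    have := hli.ne_zero ⟨j, hj⟩
    exact this
  -- `x ^ p = 0`
  have hxp : x ^ p = 0 := by
    by_contra hxp
    have h1 := hprinc (x ^ p) hxp (primitive_pow_char p hx)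
    have h2 : x ∈ Ideal.span ({x ^ p} : Set A) := by
      rw [h1, ← hspan]
      exact Ideal.subset_span rfl
    obtain ⟨c, hc⟩ := Ideal.mem_span_singleton'.1 h2
    have h3 : x * (1 - c * x ^ (p - 1)) = 0 := by
      have : x ^ p = x ^ (p - 1) * x := by
        rw [← pow_succ, Nat.sub_add_cancel hp.one_le]
      rw [mul_sub, mul_one, sub_eq_zero]
      conv_lhs => rw [← hc, this]
      ring
    have h4 : IsNilpotent (c * x ^ (p - 1)) := by
      refine ⟨M, ?_⟩
      rw [mul_pow, ← pow_mul, mul_comm (p - 1) M, pow_mul, hM,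
        zero_pow (Nat.sub_pos_of_lt hp.one_lt).ne', mul_zero]
    exact hx0 (h4.isUnit_one_sub.mul_left_eq_zero.1 h3)
  have hdp : d ≤ p := by
    by_contra hlt
    exact hne p (not_le.1 hlt) hxp
  -- `p ∣ d`
  have hpd : p ∣ d := by
    let ξ : A →ₗ[k] k := B.coord ⟨1, hd1⟩
    have hξ : ∀ j : ℕ, j ≤ d → ξ (x ^ j) = if j = 1 then 1 else 0 := by
      intro j hj
      rcases Nat.lt_or_ge j d with hjd | hjd
      · have : x ^ j = B ⟨j, hjd⟩ := (hB ⟨j, hjd⟩).symm
        rw [this, Module.Basis.coord_apply, Module.Basis.repr_self, Finsupp.single_apply]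
        simp only [Fin.mk.injEq]
      · have hjd' : j = d := le_antisymm hj hjd
        rw [hjd', hxd, map_zero, if_neg (by omega)]
    let L : A ⊗[k] A →ₗ[k] A := (TensorProduct.rid k A).toLinearMap ∘ₗ LinearMap.lTensor A ξ
    have hL : ∀ a b : A, L (a ⊗ₜ[k] b) = ξ b • a := by
      intro a b
      simp [L]
    have h0 : Coalgebra.comul (R := k) (x ^ d) = 0 := by rw [hxd, map_zero]
    rw [Bialgebra.comul_pow, hx, add_pow] at h0
    have h1 := congrArg L h0
    rw [map_zero, map_sum] at h1
    have hterm : ∀ m ∈ Finset.range (d + 1),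
        L ((x ⊗ₜ[k] (1 : A)) ^ m * ((1 : A) ⊗ₜ[k] x) ^ (d - m) * ((d.choose m : ℕ) : A ⊗[k] A)) =
          (d.choose m) • ((if d - m = 1 then (1 : k) else 0) • x ^ m) := by
      intro m hm
      rw [Algebra.TensorProduct.tmul_pow, Algebra.TensorProduct.tmul_pow, one_pow, one_pow,
        Algebra.TensorProduct.tmul_mul_tmul, mul_one, one_mul, mul_comm, ← nsmul_eq_mul, map_nsmul,
        hL, hξ _ (Nat.sub_le d m)]
    rw [Finset.sum_congr rfl hterm, Finset.sum_eq_single (d - 1)] at h1
    · rw [if_pos (by omega), one_smul, Nat.choose_symm (Nat.sub_le d 1) |>.symm.trans (by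
        rw [Nat.sub_sub_self hd1.le]), Nat.choose_one_right] at h1
      have h2 : ((d : ℕ) : k) • x ^ (d - 1) = 0 := by
        rw [Nat.cast_smul_eq_nsmul]
        exact h1
      rcases smul_eq_zero.1 h2 with h3 | h3
      · exact (CharP.cast_eq_zero_iff k p d).1 h3
      · exact absurd h3 (hne (d - 1) (by omega))
    · intro m _ hm
      rw [if_neg (by omega), zero_smul, smul_zero]
    · intro h
      exact absurd (Finset.mem_range.2 (by omega)) h
  have hdp' : d = p := le_antisymm hdp (Nat.le_of_dvd (by omega) hpd)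
  subst hdp'
  exact ⟨hxp, hli, hfr⟩

end Groth.Agent.Lib.helper22.PrimAlpha
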