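import Mathlib
import Groth.Prelude.Def_W4c5quivmodgenus0Quiv

/-!
# Comparison of (semi)stability for the quivers `Q` and `P` (helper22)
-/

namespace Groth.Agent.Lib.Helper22.PtQuivLib

open PtQuiv Module

variable {K : Type*} [Field K] {κ : Type*} [Fintype κ] [DecidableEq κ]

lemma sum_split (a b : κ) (hab : a ≠ b) (θ : κ → ℚ) (I : Finset κ) :
    ∑ i ∈ I, θ i = ∑ i ∈ I.subtype (fun i => i ≠ a ∧ i ≠ b), θ i.1 +
      (if a ∈ I then θ a else 0) + (if b ∈ I then θ b else 0) := by
  have key : ∑ i ∈ I, θ i = ∑ i ∈ I, ((if (i ≠ a ∧ i ≠ b) then θ i else 0) +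
      (if i = a then θ i else 0) + (if i = b then θ i else 0)) := by
    refine Finset.sum_congr rfl fun i _ => ?_
    by_cases h1 : i = a
    · subst h1; simp [hab]
    · by_cases h2 : i = b
      · subst h2; simp [h1]
      · simp [h1, h2]
  rw [key, Finset.sum_add_distrib, Finset.sum_add_distrib, Finset.sum_ite_eq',
    Finset.sum_ite_eq', ← Finset.sum_filter, Finset.sum_subtype_eq_sum_filter]

lemma PWt_eval (c : ℚ) (θ : κ → ℚ) (a b : κ) (U : Fin 2 → Submodule K K)
    (I' : Finset {i : κ // i ≠ a ∧ i ≠ b}) :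
    PWt K ![c * (θ a - 1), c * (θ b - 1)] (fun i : {i : κ // i ≠ a ∧ i ≠ b} => c * θ i.1) U I' =
      c * (θ a - 1) * (finrank K (U 0) : ℚ) + c * (θ b - 1) * (finrank K (U 1) : ℚ) +
        c * ∑ i ∈ I', θ i.1 := by
  simp [PWt, Fin.sum_univ_two, Finset.mul_sum]

lemma finrank_topKK : finrank K (⊤ : Submodule K K) = 1 := by
  rw [finrank_top, Module.finrank_self]

lemma finrank_top2 : finrank K (⊤ : Submodule K (Fin 2 → K)) = 2 := by
  rw [finrank_top, Module.finrank_fin_fun]

/-- `P`-subrepresentations give `Q`-subrepresentations of proportional weight. -/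
lemma lemA (c : ℚ) (a b : κ) (hab : a ≠ b) (s : κ → (Fin 2 → K)) (θ : κ → ℚ)
    (hli : LinearIndependent K ![s a, s b])
    (t : {i : κ // i ≠ a ∧ i ≠ b} → (Fin 2 → K))
    (ht : ∀ i, s i.1 = t i 0 • s a + t i 1 • s b)
    (U : Fin 2 → Submodule K K) (I' : Finset {i : κ // i ≠ a ∧ i ≠ b})
    (hU : PSubrep t U I') :
    ∃ (L : Submodule K (Fin 2 → K)) (I : Finset κ), QSubrep s L I ∧
      PWt K ![c * (θ a - 1), c * (θ b - 1)]
        (fun i : {i : κ // i ≠ a ∧ i ≠ b} => c * θ i.1) U I' = c * QWt K (-1) θ L I ∧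
      ((L = ⊥ ∧ I = ∅) → (U = ⊥ ∧ I' = ∅)) ∧
      ((L = ⊤ ∧ I = Finset.univ) → (U = ⊤ ∧ I' = Finset.univ)) := by
  classical
  have hsa : s a ≠ 0 := hli.ne_zero 0
  have hsb : s b ≠ 0 := hli.ne_zero 1
  let e : {i : κ // i ≠ a ∧ i ≠ b} ↪ κ := Function.Embedding.subtype _
  have hea : a ∉ I'.map e := by
    intro h; obtain ⟨i, -, hi⟩ := Finset.mem_map.mp h; exact i.2.1 hi
  have heb : b ∉ I'.map e := by
    intro h; obtain ⟨i, -, hi⟩ := Finset.mem_map.mp h; exact i.2.2 hi
  have hsum : ∑ i ∈ I'.map e, θ i = ∑ i ∈ I', θ i.1 := by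
    rw [Finset.sum_map]; rfl
  have hP := PWt_eval (K := K) c θ a b U I'
  rcases eq_bot_or_eq_top (U 0) with h0 | h0 <;> rcases eq_bot_or_eq_top (U 1) with h1 | h1
  · -- (⊥, ⊥)
    refine ⟨⊥, I'.map e, ?_, ?_, ?_, ?_⟩
    · intro i hi
      obtain ⟨i', hi', rfl⟩ := Finset.mem_map.mp hi
      have z0 : t i' 0 = 0 := (Submodule.mem_bot K).mp (h0 ▸ hU i' hi' 0)
      have z1 : t i' 1 = 0 := (Submodule.mem_bot K).mp (h1 ▸ hU i' hi' 1)
      rw [Submodule.mem_bot]
      show s i'.1 = 0
      rw [ht, z0, z1]; simp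
    · have q : QWt K (-1) θ (⊥ : Submodule K (Fin 2 → K)) (I'.map e) = ∑ i ∈ I', θ i.1 := by
        unfold QWt; rw [finrank_bot, hsum]; simp
      rw [hP, h0, h1, q, finrank_bot]; simp
    · rintro ⟨-, hI⟩
      refine ⟨?_, Finset.map_eq_empty.mp hI⟩
      funext j; fin_cases j
      · exact h0
      · exact h1
    · rintro ⟨hL, -⟩
      exact absurd hL bot_ne_top
  · -- (⊥, ⊤)
    refine ⟨K ∙ s b, insert b (I'.map e), ?_, ?_, ?_, ?_⟩
    · intro i hi
      rcases Finset.mem_insert.mp hi with rfl | hi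
      · exact Submodule.mem_span_singleton_self _
      · obtain ⟨i', hi', rfl⟩ := Finset.mem_map.mp hi
        have z0 : t i' 0 = 0 := (Submodule.mem_bot K).mp (h0 ▸ hU i' hi' 0)
        have : s (e i') = t i' 1 • s b := by
          show s i'.1 = _
          rw [ht, z0]; simp
        rw [this]
        exact Submodule.smul_mem _ _ (Submodule.mem_span_singleton_self _)
    · have q : QWt K (-1) θ (K ∙ s b) (insert b (I'.map e)) =
          -1 + (θ b + ∑ i ∈ I', θ i.1) := by
        unfold QWt; rw [finrank_span_singleton hsb, Finset.sum_insert heb, hsum]; simp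
      rw [hP, h0, h1, q, finrank_bot, finrank_topKK]; push_cast; ring
    · rintro ⟨hL, -⟩
      exact absurd (Submodule.span_singleton_eq_bot.mp hL) hsb
    · rintro ⟨hL, -⟩
      have := finrank_span_singleton (K := K) hsb
      rw [hL, finrank_top2] at this
      omega
  · -- (⊤, ⊥)
    refine ⟨K ∙ s a, insert a (I'.map e), ?_, ?_, ?_, ?_⟩
    · intro i hi
      rcases Finset.mem_insert.mp hi with rfl | hi
      · exact Submodule.mem_span_singleton_self _
      · obtain ⟨i', hi', rfl⟩ := Finset.mem_map.mp hi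
        have z1 : t i' 1 = 0 := (Submodule.mem_bot K).mp (h1 ▸ hU i' hi' 1)
        have : s (e i') = t i' 0 • s a := by
          show s i'.1 = _
          rw [ht, z1]; simp
        rw [this]
        exact Submodule.smul_mem _ _ (Submodule.mem_span_singleton_self _)
    · have q : QWt K (-1) θ (K ∙ s a) (insert a (I'.map e)) =
          -1 + (θ a + ∑ i ∈ I', θ i.1) := by
        unfold QWt; rw [finrank_span_singleton hsa, Finset.sum_insert hea, hsum]; simp
      rw [hP, h0, h1, q, finrank_bot, finrank_topKK]; push_cast; ring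
    · rintro ⟨hL, -⟩
      exact absurd (Submodule.span_singleton_eq_bot.mp hL) hsa
    · rintro ⟨hL, -⟩
      have := finrank_span_singleton (K := K) hsa
      rw [hL, finrank_top2] at this
      omega
  · -- (⊤, ⊤)
    have hab' : a ∉ insert b (I'.map e) := by
      intro h
      rcases Finset.mem_insert.mp h with h | h
      · exact hab h
      · exact hea h
    refine ⟨⊤, insert a (insert b (I'.map e)), ?_, ?_, ?_, ?_⟩
    · intro i _
      exact Submodule.mem_top
    · have q : QWt K (-1) θ (⊤ : Submodule K (Fin 2 → K)) (insert a (insert b (I'.map e))) =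
          -2 + (θ a + (θ b + ∑ i ∈ I', θ i.1)) := by
        unfold QWt
        rw [finrank_top2, Finset.sum_insert hab', Finset.sum_insert heb, hsum]; push_cast; ring
      rw [hP, h0, h1, q, finrank_topKK]; push_cast; ring
    · rintro ⟨hL, -⟩
      exact absurd hL top_ne_bot
    · rintro ⟨-, hI⟩
      refine ⟨?_, ?_⟩
      · funext j; fin_cases j
        · exact h0
        · exact h1
      · refine Finset.eq_univ_iff_forall.mpr fun i => ?_
        have hi : i.1 ∈ insert a (insert b (I'.map e)) := hI ▸ Finset.mem_univ _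
        rcases Finset.mem_insert.mp hi with h | h
        · exact absurd h i.2.1
        · rcases Finset.mem_insert.mp h with h | h
          · exact absurd h i.2.2
          · obtain ⟨i', hi', hii'⟩ := Finset.mem_map.mp h
            have : i' = i := Subtype.ext hii'
            exact this ▸ hi'

/-- `Q`-subrepresentations are dominated by `P`-subrepresentations. -/
lemma lemB (c : ℚ) (hc : 0 < c) (a b : κ) (hab : a ≠ b) (s : κ → (Fin 2 → K)) (θ : κ → ℚ)
    (h0 : ∀ i, 0 ≤ θ i) (h1 : ∀ i, θ i ≤ 1) (hθ : 1 < θ a + θ b)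
    (hli : LinearIndependent K ![s a, s b])
    (t : {i : κ // i ≠ a ∧ i ≠ b} → (Fin 2 → K))
    (ht : ∀ i, s i.1 = t i 0 • s a + t i 1 • s b)
    (L : Submodule K (Fin 2 → K)) (I : Finset κ) (hsub : QSubrep s L I) :
    ∃ (U : Fin 2 → Submodule K K) (I' : Finset {i : κ // i ≠ a ∧ i ≠ b}), PSubrep t U I' ∧
      c * QWt K (-1) θ L I ≤ PWt K ![c * (θ a - 1), c * (θ b - 1)]
        (fun i : {i : κ // i ≠ a ∧ i ≠ b} => c * θ i.1) U I' ∧
      (QWt K (-1) θ L I = 0 → PWt K ![c * (θ a - 1), c * (θ b - 1)]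
        (fun i : {i : κ // i ≠ a ∧ i ≠ b} => c * θ i.1) U I' = 0 →
        ((U = ⊥ ∧ I' = ∅) → (L = ⊥ ∧ I = ∅)) ∧
        ((U = ⊤ ∧ I' = Finset.univ) → (L = ⊤ ∧ I = Finset.univ))) := by
  classical
  obtain ⟨I', hI'_def⟩ : ∃ I' : Finset {i : κ // i ≠ a ∧ i ≠ b},
      I' = I.subtype (fun i => i ≠ a ∧ i ≠ b) := ⟨_, rfl⟩
  obtain ⟨δa, hδa_def⟩ : ∃ δa : ℚ, δa = (if a ∈ I then θ a else 0) := ⟨_, rfl⟩
  obtain ⟨δb, hδb_def⟩ : ∃ δb : ℚ, δb = (if b ∈ I then θ b else 0) := ⟨_, rfl⟩
  have hmemI' : ∀ i : {i : κ // i ≠ a ∧ i ≠ b}, i ∈ I' ↔ i.1 ∈ I := fun i => by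
    rw [hI'_def]; exact Finset.mem_subtype
  have hsa : s a ≠ 0 := hli.ne_zero 0
  have hsb : s b ≠ 0 := hli.ne_zero 1
  have hQ : QWt K (-1) θ L I = -(finrank K L : ℚ) + (∑ i ∈ I', θ i.1 + δa + δb) := by
    unfold QWt
    rw [sum_split a b hab θ I, ← hI'_def, ← hδa_def, ← hδb_def]; ring
  have hboth : s a ∈ L → s b ∈ L → 2 ≤ finrank K L := by
    intro ha hb
    have hle : Submodule.span K (Set.range ![s a, s b]) ≤ L := by
      rw [Submodule.span_le]
      rintro _ ⟨j, rfl⟩
      fin_cases j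
      · exact ha
      · exact hb
    have := Submodule.finrank_mono hle
    rw [finrank_span_eq_card hli] at this
    simpa using this
  have ht0 : ∀ i : {i : κ // i ≠ a ∧ i ≠ b}, s i.1 = 0 → t i 0 = 0 ∧ t i 1 = 0 := fun i hi =>
    LinearIndependent.pair_iff.mp hli _ _ (by rw [← ht i]; exact hi)
  have hL2 : finrank K L ≤ 2 := by
    have := Submodule.finrank_le L
    rwa [Module.finrank_fin_fun] at this
  have hδa : δa ≤ θ a := by
    rw [hδa_def]; split_ifs
    · exact le_rfl
    · exact h0 a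
  have hδb : δb ≤ θ b := by
    rw [hδb_def]; split_ifs
    · exact le_rfl
    · exact h0 b
  have hPe := fun U => PWt_eval (K := K) c θ a b U I'
  obtain hd | hd | hd : finrank K L = 0 ∨ finrank K L = 1 ∨ finrank K L = 2 := by omega
  · -- dim 0
    have hLbot : L = ⊥ := Submodule.finrank_eq_zero.mp hd
    have haI : a ∉ I := fun h => hsa (by
      have := hsub a h; rwa [hLbot, Submodule.mem_bot] at this)
    have hbI : b ∉ I := fun h => hsb (by
      have := hsub b h; rwa [hLbot, Submodule.mem_bot] at this)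
    have ea : δa = 0 := by rw [hδa_def, if_neg haI]
    have eb : δb = 0 := by rw [hδb_def, if_neg hbI]
    refine ⟨fun _ => ⊥, I', ?_, ?_, ?_⟩
    · intro i hi j
      have hsi : s i.1 = 0 := by
        have := hsub i.1 ((hmemI' i).mp hi); rwa [hLbot, Submodule.mem_bot] at this
      obtain ⟨z0, z1⟩ := ht0 i hsi
      show t i j ∈ (⊥ : Submodule K K)
      rw [Submodule.mem_bot]
      fin_cases j
      · exact z0
      · exact z1
    · have : c * QWt K (-1) θ L I = PWt K ![c * (θ a - 1), c * (θ b - 1)]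
          (fun i : {i : κ // i ≠ a ∧ i ≠ b} => c * θ i.1) (fun _ => ⊥) I' := by
        rw [hPe, hQ, hd, ea, eb]
        show _ = c * (θ a - 1) * (finrank K (⊥ : Submodule K K) : ℚ) +
          c * (θ b - 1) * (finrank K (⊥ : Submodule K K) : ℚ) + _
        rw [finrank_bot]; push_cast; ring
      exact le_of_eq this
    · intro _ _
      refine ⟨?_, ?_⟩
      · rintro ⟨-, hI'e⟩
        refine ⟨hLbot, Finset.eq_empty_iff_forall_notMem.mpr fun i hi => ?_⟩
        have hia : i ≠ a := fun h => haI (h ▸ hi)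
        have hib : i ≠ b := fun h => hbI (h ▸ hi)
        have : (⟨i, hia, hib⟩ : {i : κ // i ≠ a ∧ i ≠ b}) ∈ I' := (hmemI' _).mpr hi
        rw [hI'e] at this
        exact absurd this (Finset.notMem_empty _)
      · rintro ⟨hU, -⟩
        exact absurd (congrFun hU 0) bot_ne_top
  · -- dim 1
    by_cases ha : a ∈ I <;> by_cases hb : b ∈ I
    · exfalso
      have := hboth (hsub a ha) (hsub b hb)
      omega
    · -- a ∈ I, b ∉ I
      have ea : δa = θ a := by rw [hδa_def, if_pos ha]
      have eb : δb = 0 := by rw [hδb_def, if_neg hb]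
      refine ⟨![⊤, ⊥], I', ?_, ?_, ?_⟩
      · intro i hi j
        fin_cases j
        · exact Submodule.mem_top
        · show t i 1 ∈ (⊥ : Submodule K K)
          rw [Submodule.mem_bot]
          by_contra hne
          have hsi : s i.1 ∈ L := hsub i.1 ((hmemI' i).mp hi)
          have hsaL : s a ∈ L := hsub a ha
          have : s b = (t i 1)⁻¹ • (s i.1 - t i 0 • s a) := by
            rw [ht i, add_sub_cancel_left, smul_smul, inv_mul_cancel₀ hne, one_smul]
          have hsbL : s b ∈ L := by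
            rw [this]; exact L.smul_mem _ (L.sub_mem hsi (L.smul_mem _ hsaL))
          have := hboth hsaL hsbL
          omega
      · have : c * QWt K (-1) θ L I = PWt K ![c * (θ a - 1), c * (θ b - 1)]
            (fun i : {i : κ // i ≠ a ∧ i ≠ b} => c * θ i.1) ![⊤, ⊥] I' := by
          rw [hPe, hQ, hd, ea, eb]
          show _ = c * (θ a - 1) * (finrank K (⊤ : Submodule K K) : ℚ) +
            c * (θ b - 1) * (finrank K (⊥ : Submodule K K) : ℚ) + _
          rw [finrank_topKK, finrank_bot]; push_cast; ring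
        exact le_of_eq this
      · intro _ _
        refine ⟨?_, ?_⟩
        · rintro ⟨hU, -⟩
          exact absurd (congrFun hU 0) top_ne_bot
        · rintro ⟨hU, -⟩
          exact absurd (congrFun hU 1) bot_ne_top
    · -- a ∉ I, b ∈ I
      have ea : δa = 0 := by rw [hδa_def, if_neg ha]
      have eb : δb = θ b := by rw [hδb_def, if_pos hb]
      refine ⟨![⊥, ⊤], I', ?_, ?_, ?_⟩
      · intro i hi j
        fin_cases j
        · show t i 0 ∈ (⊥ : Submodule K K)
          rw [Submodule.mem_bot]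
          by_contra hne
          have hsi : s i.1 ∈ L := hsub i.1 ((hmemI' i).mp hi)
          have hsbL : s b ∈ L := hsub b hb
          have : s a = (t i 0)⁻¹ • (s i.1 - t i 1 • s b) := by
            rw [ht i, add_sub_cancel_right, smul_smul, inv_mul_cancel₀ hne, one_smul]
          have hsaL : s a ∈ L := by
            rw [this]; exact L.smul_mem _ (L.sub_mem hsi (L.smul_mem _ hsbL))
          have := hboth hsaL hsbL
          omega
        · exact Submodule.mem_top
      · have : c * QWt K (-1) θ L I = PWt K ![c * (θ a - 1), c * (θ b - 1)]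
            (fun i : {i : κ // i ≠ a ∧ i ≠ b} => c * θ i.1) ![⊥, ⊤] I' := by
          rw [hPe, hQ, hd, ea, eb]
          show _ = c * (θ a - 1) * (finrank K (⊥ : Submodule K K) : ℚ) +
            c * (θ b - 1) * (finrank K (⊤ : Submodule K K) : ℚ) + _
          rw [finrank_topKK, finrank_bot]; push_cast; ring
        exact le_of_eq this
      · intro _ _
        refine ⟨?_, ?_⟩
        · rintro ⟨hU, -⟩
          exact absurd (congrFun hU 1) top_ne_bot
        · rintro ⟨hU, -⟩
          exact absurd (congrFun hU 0) bot_ne_top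
    · -- neither
      have ea : δa = 0 := by rw [hδa_def, if_neg ha]
      have eb : δb = 0 := by rw [hδb_def, if_neg hb]
      have hlt : c * QWt K (-1) θ L I < PWt K ![c * (θ a - 1), c * (θ b - 1)]
          (fun i : {i : κ // i ≠ a ∧ i ≠ b} => c * θ i.1) (fun _ => ⊤) I' := by
        rw [hPe, hQ, hd, ea, eb]
        show _ < c * (θ a - 1) * (finrank K (⊤ : Submodule K K) : ℚ) +
          c * (θ b - 1) * (finrank K (⊤ : Submodule K K) : ℚ) + _
        rw [finrank_topKK]; push_cast
        nlinarith [mul_pos hc (sub_pos.mpr hθ)]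
      refine ⟨fun _ => ⊤, I', fun _ _ _ => Submodule.mem_top, hlt.le, ?_⟩
      intro hq0 hp0
      exfalso
      rw [hq0, hp0, mul_zero] at hlt
      exact lt_irrefl _ hlt
  · -- dim 2
    have hLtop : L = ⊤ := Submodule.eq_top_of_finrank_eq (by rw [hd, Module.finrank_fin_fun])
    have hPv : PWt K ![c * (θ a - 1), c * (θ b - 1)]
        (fun i : {i : κ // i ≠ a ∧ i ≠ b} => c * θ i.1) (fun _ => ⊤) I' =
        c * (θ a - 1) + c * (θ b - 1) + c * ∑ i ∈ I', θ i.1 := by
      rw [hPe]
      show c * (θ a - 1) * (finrank K (⊤ : Submodule K K) : ℚ) +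
        c * (θ b - 1) * (finrank K (⊤ : Submodule K K) : ℚ) + _ = _
      rw [finrank_topKK]; push_cast; ring
    have hQv : QWt K (-1) θ L I = -2 + (∑ i ∈ I', θ i.1 + δa + δb) := by
      rw [hQ, hd]; push_cast; ring
    refine ⟨fun _ => ⊤, I', fun _ _ _ => Submodule.mem_top, ?_, ?_⟩
    · rw [hPv, hQv]
      nlinarith [mul_le_mul_of_nonneg_left hδa hc.le, mul_le_mul_of_nonneg_left hδb hc.le]
    · intro hq0 hp0
      refine ⟨?_, ?_⟩
      · rintro ⟨hU, -⟩
        exact absurd (congrFun hU 0) top_ne_bot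
      · rintro ⟨-, hI'u⟩
        have heq : δa + δb = θ a + θ b := by
          have e1 : c * (-2 + (∑ i ∈ I', θ i.1 + δa + δb)) = 0 := by
            rw [← hQv, hq0, mul_zero]
          have e2 : c * (θ a - 1) + c * (θ b - 1) + c * ∑ i ∈ I', θ i.1 = 0 := by
            rw [← hPv, hp0]
          have : c * ((δa + δb) - (θ a + θ b)) = 0 := by linear_combination e1 - e2
          rcases mul_eq_zero.mp this with h | h
          · exact absurd h hc.ne'
          · linarith
        have haI : a ∈ I := by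
          by_contra h
          have ea : δa = 0 := by rw [hδa_def, if_neg h]
          have := h1 b
          linarith
        have hbI : b ∈ I := by
          by_contra h
          have eb : δb = 0 := by rw [hδb_def, if_neg h]
          have := h1 a
          linarith
        refine ⟨hLtop, Finset.eq_univ_iff_forall.mpr fun i => ?_⟩
        by_cases hia : i = a
        · exact hia ▸ haI
        by_cases hib : i = b
        · exact hib ▸ hbI
        have : (⟨i, hia, hib⟩ : {i : κ // i ≠ a ∧ i ≠ b}) ∈ I' := by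
          rw [hI'u]; exact Finset.mem_univ _
        exact (hmemI' _).mp this

lemma lemI (a b : κ) (hab : a ≠ b) (s : κ → (Fin 2 → K)) (θ : κ → ℚ)
    (hθ : 1 < θ a + θ b) (hQ : QSemistable (-1) θ s) : LinearIndependent K ![s a, s b] := by
  classical
  by_contra hnot
  rw [LinearIndependent.pair_iff] at hnot
  push_neg at hnot
  obtain ⟨x, y, hxy, hne⟩ := hnot
  obtain ⟨v, hva, hvb⟩ : ∃ v : Fin 2 → K, s a ∈ K ∙ v ∧ s b ∈ K ∙ v := by
    by_cases hy : y = 0
    · have hx : x ≠ 0 := fun hx => hne hx hy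
      have : s a = 0 := by
        rw [hy, zero_smul, add_zero] at hxy
        exact (smul_eq_zero.mp hxy).resolve_left hx
      exact ⟨s b, by rw [this]; exact Submodule.zero_mem _, Submodule.mem_span_singleton_self _⟩
    · refine ⟨s a, Submodule.mem_span_singleton_self _, ?_⟩
      have : s b = (-(y⁻¹ * x)) • s a := by
        have h1 : y • s b = -(x • s a) := eq_neg_of_add_eq_zero_right hxy
        calc s b = y⁻¹ • (y • s b) := by rw [smul_smul, inv_mul_cancel₀ hy, one_smul]
          _ = y⁻¹ • (-(x • s a)) := by rw [h1]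
          _ = (-(y⁻¹ * x)) • s a := by rw [smul_neg, smul_smul, neg_smul]
      rw [this]; exact Submodule.smul_mem _ _ (Submodule.mem_span_singleton_self _)
  have hsub : QSubrep s (K ∙ v) {a, b} := by
    intro i hi
    rcases Finset.mem_insert.mp hi with rfl | hi
    · exact hva
    · rw [Finset.mem_singleton] at hi; rw [hi]; exact hvb
  have hw := hQ.2 _ _ hsub
  unfold QWt at hw
  rw [Finset.sum_pair hab] at hw
  have hfr : (finrank K (K ∙ v) : ℚ) ≤ 1 := by
    have := finrank_span_le_card (R := K) ({v} : Set (Fin 2 → K))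
    have h2 : ({v} : Set (Fin 2 → K)).toFinset.card = 1 := by simp
    rw [h2] at this
    exact_mod_cast this
  linarith

lemma total_zero (c : ℚ) (a b : κ) (hab : a ≠ b) (θ : κ → ℚ) (h2 : ∑ i, θ i = 2) :
    (∑ j, (![c * (θ a - 1), c * (θ b - 1)] : Fin 2 → ℚ) j) +
      ∑ i : {i : κ // i ≠ a ∧ i ≠ b}, c * θ i.1 = 0 := by
  have := sum_split a b hab θ Finset.univ
  rw [Finset.subtype_univ, if_pos (Finset.mem_univ a), if_pos (Finset.mem_univ b), h2] at this
  rw [Fin.sum_univ_two, ← Finset.mul_sum]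
  simp only [Matrix.cons_val_zero, Matrix.cons_val_one]
  linear_combination (-c) * this

lemma exists_t (a b : κ) (s : κ → (Fin 2 → K)) (hli : LinearIndependent K ![s a, s b]) :
    ∃ t : {i : κ // i ≠ a ∧ i ≠ b} → (Fin 2 → K),
      ∀ i, s i.1 = t i 0 • s a + t i 1 • s b := by
  have hspan : Submodule.span K (Set.range ![s a, s b]) = ⊤ :=
    hli.span_eq_top_of_card_eq_finrank' (by simp)
  have : ∀ x : Fin 2 → K, ∃ f : Fin 2 → K, x = f 0 • s a + f 1 • s b := by
    intro x
    have hx : x ∈ Submodule.span K (Set.range ![s a, s b]) := hspan ▸ Submodule.mem_top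
    obtain ⟨f, hf⟩ := (Submodule.mem_span_range_iff_exists_fun K).mp hx
    refine ⟨f, ?_⟩
    rw [← hf, Fin.sum_univ_two]; rfl
  choose F hF using this
  exact ⟨fun i => F (s i.1), fun i => hF (s i.1)⟩

universe u v

theorem semistable_iff (K : Type u) [Field K]
    (κ : Type v) [Fintype κ] [DecidableEq κ] (a b : κ) (hab : a ≠ b) (s : κ → (Fin 2 → K))
    (θ : κ → ℚ) (h0 : ∀ i, 0 ≤ θ i) (h1 : ∀ i, θ i ≤ 1) (h2 : ∑ i, θ i = 2)
    (hθ : 1 < θ a + θ b) (hθ' : θ a + θ b < 2) :
    PtQuiv.QSemistable (-1) θ s ↔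
      (LinearIndependent K ![s a, s b] ∧
        ∀ t : {i : κ // i ≠ a ∧ i ≠ b} → (Fin 2 → K),
          (∀ i, s i.1 = t i 0 • s a + t i 1 • s b) →
            PtQuiv.PSemistable ![(2 - θ a - θ b)⁻¹ * (θ a - 1), (2 - θ a - θ b)⁻¹ * (θ b - 1)]
              (fun i : {i : κ // i ≠ a ∧ i ≠ b} => (2 - θ a - θ b)⁻¹ * θ i.1) t) := by
  have hc : (0 : ℚ) < (2 - θ a - θ b)⁻¹ := inv_pos.mpr (by linarith)
  constructor
  · intro hQ
    have hli := lemI a b hab s θ hθ hQ
    refine ⟨hli, fun t ht => ⟨total_zero _ a b hab θ h2, fun U I' hU => ?_⟩⟩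
    obtain ⟨L, I, hsub, hwt, -, -⟩ := lemA (2 - θ a - θ b)⁻¹ a b hab s θ hli t ht U I' hU
    rw [hwt]
    exact mul_nonpos_of_nonneg_of_nonpos hc.le (hQ.2 L I hsub)
  · rintro ⟨hli, hP⟩
    obtain ⟨t, ht⟩ := exists_t a b s hli
    have hPt := hP t ht
    refine ⟨by rw [h2]; norm_num, fun L I hsub => ?_⟩
    obtain ⟨U, I', hU, hle, -⟩ := lemB _ hc a b hab s θ h0 h1 hθ hli t ht L I hsub
    have := hPt.2 U I' hU
    by_contra hpos
    push_neg at hpos
    have := mul_pos hc hpos
    linarith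

theorem stable_iff (K : Type u) [Field K]
    (κ : Type v) [Fintype κ] [DecidableEq κ] (a b : κ) (hab : a ≠ b) (s : κ → (Fin 2 → K))
    (θ : κ → ℚ) (h0 : ∀ i, 0 ≤ θ i) (h1 : ∀ i, θ i ≤ 1) (h2 : ∑ i, θ i = 2)
    (hθ : 1 < θ a + θ b) (hθ' : θ a + θ b < 2) :
    PtQuiv.QStable (-1) θ s ↔
      (LinearIndependent K ![s a, s b] ∧
        ∀ t : {i : κ // i ≠ a ∧ i ≠ b} → (Fin 2 → K),
          (∀ i, s i.1 = t i 0 • s a + t i 1 • s b) →
            PtQuiv.PStable ![(2 - θ a - θ b)⁻¹ * (θ a - 1), (2 - θ a - θ b)⁻¹ * (θ b - 1)]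
              (fun i : {i : κ // i ≠ a ∧ i ≠ b} => (2 - θ a - θ b)⁻¹ * θ i.1) t) := by
  have hc : (0 : ℚ) < (2 - θ a - θ b)⁻¹ := inv_pos.mpr (by linarith)
  have hss := semistable_iff K κ a b hab s θ h0 h1 h2 hθ hθ'
  constructor
  · rintro ⟨hQ, hQst⟩
    have hli := lemI a b hab s θ hθ hQ
    refine ⟨hli, fun t ht => ⟨(hss.mp hQ).2 t ht, fun U I' hU hw0 => ?_⟩⟩
    obtain ⟨L, I, hsub, hwt, hi1, hi2⟩ :=
      lemA (2 - θ a - θ b)⁻¹ a b hab s θ hli t ht U I' hU
    have hq0 : QWt K (-1) θ L I = 0 := by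
      rw [hwt] at hw0
      exact (mul_eq_zero.mp hw0).resolve_left hc.ne'
    rcases hQst L I hsub hq0 with h | h
    · exact Or.inl (hi1 h)
    · exact Or.inr (hi2 h)
  · rintro ⟨hli, hP⟩
    have hQss : QSemistable (-1) θ s := hss.mpr ⟨hli, fun t ht => (hP t ht).1⟩
    refine ⟨hQss, fun L I hsub hq0 => ?_⟩
    obtain ⟨t, ht⟩ := exists_t a b s hli
    obtain ⟨U, I', hU, hle, himp⟩ := lemB _ hc a b hab s θ h0 h1 hθ hli t ht L I hsub
    have hle0 := (hP t ht).1.2 U I' hU
    have hp0 : PWt K ![(2 - θ a - θ b)⁻¹ * (θ a - 1), (2 - θ a - θ b)⁻¹ * (θ b - 1)]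
        (fun i : {i : κ // i ≠ a ∧ i ≠ b} => (2 - θ a - θ b)⁻¹ * θ i.1) U I' = 0 := by
      rw [hq0, mul_zero] at hle
      exact le_antisymm hle0 hle
    obtain ⟨i1, i2⟩ := himp hq0 hp0
    rcases (hP t ht).2 U I' hU hp0 with h | h
    · exact Or.inl (i1 h)
    · exact Or.inr (i2 h)

end Groth.Agent.Lib.Helper22.PtQuivLib
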