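import Mathlib
import Groth.Prelude.Def_QFDual

/-!
# The different `(Rτ : M)` under base change (helper22)

General part: for a ring map `R → S`, an `R`-module `M` with an element `τ` and a base change
`f : M → N` (`IsBaseChange S f`), compare `QFDual.different S (f τ)` with the extension of
`QFDual.different R τ`:
* `map_different_le` : always `𝔇 S ≤ 𝔇'`;
* `different_le_map_of_flat` : equality for `S` flat and `M` finite;
* `different_le_map_of_invertible` : equality for `M` invertible;
* `different_le_radical_map` : equality of radicals for `M` finite.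

Square part: `isBaseChange_of_isPushout` (base change along `A → A'` of a `B`-module is base change
along `B → B'` in a pushout square), and the application to `Ω = Hom_A(B, A)` of a finite free
algebra: `T1`, `T2`, `T3`, `T4`.
-/

namespace Groth.Agent.Lib.helper22.QFDualBC

open TensorProduct

section RankOne

variable {R : Type*} [CommRing R] {M : Type*} [AddCommGroup M] [Module R M]

/-- In an invertible module, `φ x • y = φ y • x`. -/
theorem rank_one_identity [Module.Invertible R M] (φ : M →ₗ[R] R) (x y : M) :
    φ x • y = φ y • x := by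
  refine Module.eq_of_localization_maximal (R := R) (M := M)
    (fun P _ => LocalizedModule P.primeCompl M)
    (fun P _ => LocalizedModule.mkLinearMap P.primeCompl M) _ _ ?_
  intro P hP
  have hfree : Module.Free (Localization.AtPrime P) (LocalizedModule P.primeCompl M) :=
    inferInstance
  obtain ⟨e⟩ := Module.Invertible.free_iff_linearEquiv.mp hfree
  let φP : LocalizedModule P.primeCompl M →ₗ[Localization.AtPrime P] Localization.AtPrime P :=
    LinearMap.extendScalarsOfIsLocalization P.primeCompl _ <| IsLocalizedModule.map
      P.primeCompl (LocalizedModule.mkLinearMap _ M) (Algebra.linearMap R _) φ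
  have hφP : ∀ z : M, φP (LocalizedModule.mkLinearMap P.primeCompl M z) =
      algebraMap R (Localization.AtPrime P) (φ z) := by
    intro z
    exact IsLocalizedModule.map_apply _ _ _ _ _
  have hrep : ∀ z : LocalizedModule P.primeCompl M, z = e z • e.symm 1 := by
    intro z
    rw [← map_smul, smul_eq_mul, mul_one, e.symm_apply_apply]
  have hloc : ∀ x' y' : LocalizedModule P.primeCompl M, φP x' • y' = φP y' • x' := by
    intro x' y'
    rw [hrep x', hrep y']
    simp only [map_smul, smul_eq_mul, smul_smul]
    congr 1
    ring
  have h1 := hloc (LocalizedModule.mkLinearMap P.primeCompl M x)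
    (LocalizedModule.mkLinearMap P.primeCompl M y)
  rw [hφP, hφP, algebraMap_smul, algebraMap_smul, ← map_smul, ← map_smul] at h1
  exact h1

end RankOne

section Nontriv

/-- a finite module whose annihilator is contained in the kernel of a map to a field has
nonzero base change to that field. -/
theorem nontrivial_tensor_of_annihilator_le {R : Type*} [CommRing R] {Q : Type*} [AddCommGroup Q]
    [Module R Q] [Module.Finite R Q] {K : Type*} [Field K] [Algebra R K]
    (h : Module.annihilator R Q ≤ RingHom.ker (algebraMap R K)) : Nontrivial (K ⊗[R] Q) := by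
  let q : Ideal R := RingHom.ker (algebraMap R K)
  have hq : q.IsPrime := RingHom.ker_isPrime _
  have hsupp : (⟨q, hq⟩ : PrimeSpectrum R) ∈ Module.support R Q := by
    rw [Module.mem_support_iff_of_finite]
    exact h
  rw [Module.mem_support_iff_nontrivial_residueField_tensorProduct] at hsupp
  let ι : q.ResidueField →+* K := Ideal.ResidueField.lift q (algebraMap R K) le_rfl (by
    intro x hx
    show IsUnit (algebraMap R K x)
    rw [isUnit_iff_ne_zero]
    exact hx)
  let _ : Algebra q.ResidueField K := ι.toAlgebra
  have : IsScalarTower R q.ResidueField K := IsScalarTower.of_algebraMap_eq (fun x => by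
    show algebraMap R K x = ι (algebraMap R q.ResidueField x)
    rw [Ideal.ResidueField.lift_algebraMap])
  have : Nontrivial (q.ResidueField ⊗[R] Q) := hsupp
  have e := AlgebraTensorModule.cancelBaseChange R q.ResidueField K K Q
  exact e.toEquiv.symm.nontrivial

end Nontriv

section General

variable {R : Type*} {S : Type*} [CommRing R] [CommRing S] [Algebra R S]
  {M : Type*} {N : Type*} [AddCommGroup M] [Module R M] [AddCommGroup N] [Module R N] [Module S N]
  [IsScalarTower R S N] {f : M →ₗ[R] N}

/-- The different of `(M, τ)` maps into the different of the base change. -/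
theorem map_different_le (hf : IsBaseChange S f) (τ : M) :
    (QFDual.different R τ).map (algebraMap R S) ≤ QFDual.different S (f τ) := by
  rw [Ideal.map_le_iff_le_comap]
  intro r hr
  rw [Ideal.mem_comap, QFDual.mem_different_iff]
  rw [QFDual.mem_different_iff] at hr
  intro n
  induction n using hf.inductionOn with
  | zero => exact ⟨0, by simp⟩
  | tmul m =>
    obtain ⟨c, hc⟩ := hr m
    refine ⟨algebraMap R S c, ?_⟩
    rw [algebraMap_smul, algebraMap_smul, ← map_smul, ← map_smul, hc]
  | smul s n hn =>
    obtain ⟨c, hc⟩ := hn
    refine ⟨s * c, ?_⟩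
    rw [mul_smul, hc, smul_comm]
  | add n₁ n₂ h₁ h₂ =>
    obtain ⟨c₁, hc₁⟩ := h₁
    obtain ⟨c₂, hc₂⟩ := h₂
    exact ⟨c₁ + c₂, by rw [add_smul, hc₁, hc₂, smul_add]⟩

/-- flat base change: the different of the base change is the extension of the different. -/
theorem different_le_map_of_flat [Module.Flat R S] [Module.Finite R M] (hf : IsBaseChange S f)
    (τ : M) :
    QFDual.different S (f τ) ≤ (QFDual.different R τ).map (algebraMap R S) := by
  classical
  obtain ⟨k, m, hm⟩ := Module.Finite.exists_fin (R := R) (M := M)
  -- the quotients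
  let t : R →ₗ[R] M := LinearMap.toSpanSingleton R M τ
  let t' : S →ₗ[S] N := LinearMap.toSpanSingleton S N (f τ)
  let Q := M ⧸ LinearMap.range t
  let Q' := N ⧸ LinearMap.range t'
  have hker : LinearMap.range t ≤ LinearMap.ker
      (((LinearMap.range t').mkQ.restrictScalars R).comp f) := by
    rintro _ ⟨r, rfl⟩
    rw [LinearMap.mem_ker]
    show (LinearMap.range t').mkQ (f (t r)) = 0
    rw [Submodule.mkQ_apply, Submodule.Quotient.mk_eq_zero]
    refine ⟨algebraMap R S r, ?_⟩
    show algebraMap R S r • f τ = f (r • τ)
    rw [algebraMap_smul, map_smul]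
  let q : Q →ₗ[R] Q' := Submodule.liftQ _ (((LinearMap.range t').mkQ.restrictScalars R).comp f) hker
  have hq : IsBaseChange S q := by
    refine IsBaseChange.of_right_exact S (Algebra.linearMap R S) f q (f := t)
      (g := (LinearMap.range t).mkQ) (f' := t') (g' := (LinearMap.range t').mkQ) ?_ ?_
      (IsBaseChange.linearMap R S) hf (LinearMap.exact_map_mkQ_range t)
      (Submodule.mkQ_surjective _) (LinearMap.exact_map_mkQ_range t') (Submodule.mkQ_surjective _)
    · apply LinearMap.ext
      intro r
      show f (r • τ) = algebraMap R S r • f τ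
      rw [algebraMap_smul, map_smul]
    · exact Submodule.liftQ_mkQ _ _ _
  -- the maps whose kernels are the differents
  let ρ : R →ₗ[R] (Fin k → Q) :=
    LinearMap.pi fun j => LinearMap.toSpanSingleton R Q ((LinearMap.range t).mkQ (m j))
  let ρ' : S →ₗ[S] (Fin k → Q') :=
    LinearMap.pi fun j => LinearMap.toSpanSingleton S Q' ((LinearMap.range t').mkQ (f (m j)))
  let h₃ : (Fin k → Q) →ₗ[R] (Fin k → Q') := LinearMap.pi fun j => q ∘ₗ LinearMap.proj j
  have isb₃ : IsBaseChange S h₃ := IsBaseChange.pi (fun _ : Fin k => q) (fun _ => hq)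
  have hmaps : ∀ x : LinearMap.ker ρ, algebraMap R S (x : R) ∈ LinearMap.ker ρ' := by
    intro x
    have hx : ρ x = 0 := x.2
    rw [LinearMap.mem_ker]
    ext j
    have hxj : (x : R) • (LinearMap.range t).mkQ (m j) = 0 := congrFun hx j
    show algebraMap R S (x : R) • (LinearMap.range t').mkQ (f (m j)) = 0
    have : q ((x : R) • (LinearMap.range t).mkQ (m j)) = 0 := by rw [hxj, map_zero]
    rw [map_smul] at this
    rw [algebraMap_smul]
    exact this
  let h₁ : LinearMap.ker ρ →ₗ[R] LinearMap.ker ρ' :=
    { toFun := fun x => ⟨algebraMap R S (x : R), hmaps x⟩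
      map_add' := fun x y => by
        apply Subtype.ext
        simp
      map_smul' := fun a x => by
        apply Subtype.ext
        simp [Algebra.smul_def] }
  have comm₁ : (Algebra.linearMap R S).comp (LinearMap.ker ρ).subtype =
      ((LinearMap.ker ρ').subtype.restrictScalars R).comp h₁ := by
    apply LinearMap.ext
    intro x
    rfl
  have comm₂ : h₃.comp ρ = (ρ'.restrictScalars R).comp (Algebra.linearMap R S) := by
    apply LinearMap.ext
    intro x
    funext j
    show q (x • (LinearMap.range t).mkQ (m j)) =
      algebraMap R S x • (LinearMap.range t').mkQ (f (m j))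
    rw [map_smul, algebraMap_smul]
    rfl
  have hbc : IsBaseChange S h₁ :=
    IsBaseChange.of_left_exact S h₁ (Algebra.linearMap R S) h₃ comm₁ comm₂
      (IsBaseChange.linearMap R S) isb₃
      (LinearMap.exact_subtype_ker_map ρ) (Submodule.injective_subtype _)
      (LinearMap.exact_subtype_ker_map ρ') (Submodule.injective_subtype _)
  -- elements of ker ρ are in the different
  have hkerρ : ∀ x : LinearMap.ker ρ, (x : R) ∈ QFDual.different R τ := by
    intro x
    have hx : ρ x = 0 := x.2
    rw [QFDual.mem_different_iff]
    have hall : ∀ m' ∈ Submodule.span R (Set.range m), (x : R) • m' ∈ LinearMap.range t := by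
      intro m' hm'
      induction hm' using Submodule.span_induction with
      | mem y hy =>
        obtain ⟨j, rfl⟩ := hy
        have hxj : (x : R) • (LinearMap.range t).mkQ (m j) = 0 := congrFun hx j
        rw [← map_smul, Submodule.mkQ_apply, Submodule.Quotient.mk_eq_zero] at hxj
        exact hxj
      | zero => rw [smul_zero]; exact Submodule.zero_mem _
      | add y z _ _ hy hz => rw [smul_add]; exact Submodule.add_mem _ hy hz
      | smul a y _ hy => rw [smul_comm]; exact Submodule.smul_mem _ _ hy
    intro m'
    obtain ⟨c, hc⟩ := hall m' (by rw [hm]; trivial)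
    exact ⟨c, hc⟩
  have key : ∀ n : LinearMap.ker ρ', (n : S) ∈ (QFDual.different R τ).map (algebraMap R S) := by
    intro n
    induction n using hbc.inductionOn with
    | zero => exact Ideal.zero_mem _
    | tmul x => exact Ideal.mem_map_of_mem _ (hkerρ x)
    | smul a n hn =>
      show a • (n : S) ∈ _
      rw [smul_eq_mul]
      exact Ideal.mul_mem_left _ _ hn
    | add n₁ n₂ h1 h2 => exact Ideal.add_mem _ h1 h2
  intro y hy
  rw [QFDual.mem_different_iff] at hy
  have hyker : y ∈ LinearMap.ker ρ' := by
    rw [LinearMap.mem_ker]
    ext j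
    show y • (LinearMap.range t').mkQ (f (m j)) = 0
    rw [← map_smul, Submodule.mkQ_apply, Submodule.Quotient.mk_eq_zero]
    obtain ⟨c, hc⟩ := hy (f (m j))
    exact ⟨c, hc⟩
  exact key ⟨y, hyker⟩

/-- values of functionals at `τ` lie in the different (invertible case) -/
theorem apply_mem_different [Module.Invertible R M] (φ : M →ₗ[R] R) (τ : M) :
    φ τ ∈ QFDual.different R τ := by
  rw [QFDual.mem_different_iff]
  intro m
  exact ⟨φ m, rank_one_identity φ m τ⟩

/-- invertible case: the different of the base change is the extension of the different. -/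
theorem different_le_map_of_invertible [Module.Invertible R M] (hf : IsBaseChange S f) (τ : M) :
    QFDual.different S (f τ) ≤ (QFDual.different R τ).map (algebraMap R S) := by
  intro y hy
  rw [QFDual.mem_different_iff] at hy
  have key : ∀ t : Module.Dual R M ⊗[R] M,
      y * algebraMap R S (contractLeft R M t) ∈ (QFDual.different R τ).map (algebraMap R S) := by
    intro t
    induction t using TensorProduct.induction_on with
    | zero => simp
    | tmul φ m =>
      let φ' : N →ₗ[S] S := hf.lift ((Algebra.linearMap R S) ∘ₗ φ)
      have hφ' : ∀ z : M, φ' (f z) = algebraMap R S (φ z) := fun z => hf.lift_eq _ z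
      obtain ⟨c, hc⟩ := hy (f m)
      have h1 : y * algebraMap R S (φ m) = c * algebraMap R S (φ τ) := by
        rw [← hφ', ← hφ', ← smul_eq_mul, ← smul_eq_mul, ← LinearMap.map_smul φ',
          ← LinearMap.map_smul φ', hc]
      rw [contractLeft_apply, h1]
      exact Ideal.mul_mem_left _ _ (Ideal.mem_map_of_mem _ (apply_mem_different φ τ))
    | add t₁ t₂ h₁ h₂ =>
      rw [map_add, map_add, mul_add]
      exact Ideal.add_mem _ h₁ h₂
  obtain ⟨t, ht⟩ := (Module.Invertible.bijective (R := R) (M := M)).2 1
  have := key t
  rwa [ht, map_one, mul_one] at this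

/-- the different of the base change is contained in the radical of the extension. -/
theorem different_le_radical_map [Module.Finite R M] (hf : IsBaseChange S f) (τ : M) :
    QFDual.different S (f τ) ≤ ((QFDual.different R τ).map (algebraMap R S)).radical := by
  rw [Ideal.radical_eq_sInf]
  refine le_sInf ?_
  rintro q' ⟨hle, hq'⟩
  intro y hy
  by_contra hyq
  rw [QFDual.mem_different_iff] at hy
  let K := q'.ResidueField
  let Q := M ⧸ (R ∙ τ)
  have hann : Module.annihilator R Q ≤ RingHom.ker (algebraMap R K) := by
    intro r hr
    rw [RingHom.mem_ker, IsScalarTower.algebraMap_apply R S K, ← RingHom.mem_ker,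
      Ideal.ker_algebraMap_residueField]
    apply hle
    apply Ideal.mem_map_of_mem
    rw [QFDual.mem_different_iff]
    intro m
    have h0 : r • (Submodule.mkQ (R ∙ τ) m) = 0 := Module.mem_annihilator.mp hr _
    rw [← map_smul, Submodule.mkQ_apply, Submodule.Quotient.mk_eq_zero,
      Submodule.mem_span_singleton] at h0
    exact h0
  have hnt : Nontrivial (K ⊗[R] Q) := nontrivial_tensor_of_annihilator_le hann
  let g : M →ₗ[R] K ⊗[R] Q := (TensorProduct.mk R K Q 1) ∘ₗ (Submodule.mkQ (R ∙ τ))
  let g' : N →ₗ[S] K ⊗[R] Q := hf.lift g
  have hg' : ∀ z : M, g' (f z) = (1 : K) ⊗ₜ[R] (Submodule.mkQ (R ∙ τ) z) := fun z => hf.lift_eq _ z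
  have hgτ : g' (f τ) = 0 := by
    rw [hg']
    have : Submodule.mkQ (R ∙ τ) τ = 0 := by
      rw [Submodule.mkQ_apply, Submodule.Quotient.mk_eq_zero]
      exact Submodule.mem_span_singleton_self τ
    rw [this, tmul_zero]
  have hy0 : algebraMap S K y ≠ 0 := by
    intro h0
    apply hyq
    rw [← RingHom.mem_ker, Ideal.ker_algebraMap_residueField] at h0
    exact h0
  have hzero : ∀ m : M, (1 : K) ⊗ₜ[R] (Submodule.mkQ (R ∙ τ) m) = 0 := by
    intro m
    obtain ⟨c, hc⟩ := hy (f m)
    have h1 : y • ((1 : K) ⊗ₜ[R] (Submodule.mkQ (R ∙ τ) m)) = 0 := by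
      rw [← hg', ← LinearMap.map_smul g', ← hc, LinearMap.map_smul g', hgτ, smul_zero]
    have h2 : (algebraMap S K y) • ((1 : K) ⊗ₜ[R] (Submodule.mkQ (R ∙ τ) m)) = 0 := by
      rw [algebraMap_smul]
      exact h1
    have h3 := congrArg (fun z => (algebraMap S K y)⁻¹ • z) h2
    simp only [smul_smul, inv_mul_cancel₀ hy0, one_smul, smul_zero] at h3
    exact h3
  have hsub : Subsingleton (K ⊗[R] Q) := by
    refine ⟨fun a b => ?_⟩
    have hall : ∀ z : K ⊗[R] Q, z = 0 := by
      intro z
      induction z using TensorProduct.induction_on with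
      | zero => rfl
      | tmul k x =>
        obtain ⟨m, rfl⟩ := Submodule.mkQ_surjective _ x
        have : k ⊗ₜ[R] (Submodule.mkQ (R ∙ τ) m) = k • ((1 : K) ⊗ₜ[R] (Submodule.mkQ (R ∙ τ) m)) := by
          rw [smul_tmul', smul_eq_mul, mul_one]
        rw [this, hzero, smul_zero]
      | add a b ha hb => rw [ha, hb, add_zero]
    rw [hall a, hall b]
  exact not_subsingleton _ hsub

end General

section Square

variable {A : Type*} {A' : Type*} {B : Type*} {B' : Type*} [CommRing A] [CommRing A'] [CommRing B]
  [CommRing B'] [Algebra A A'] [Algebra A B] [Algebra A' B'] [Algebra B B'] [Algebra A B']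
  [IsScalarTower A A' B'] [IsScalarTower A B B']
  {M : Type*} {N : Type*} [AddCommGroup M] [AddCommGroup N]
  [Module A M] [Module B M] [IsScalarTower A B M]
  [Module A N] [Module A' N] [Module B N] [Module B' N]
  [IsScalarTower A A' N] [IsScalarTower A B N] [IsScalarTower A' B' N] [IsScalarTower B B' N]

/-- In a pushout square of rings, a `B`-linear map into a `B'`-module which is a base change
along `A → A'` is a base change along `B → B'`. -/
theorem isBaseChange_of_isPushout (hB : Algebra.IsPushout A A' B B') (f : M →ₗ[B] N)
    (hf : IsBaseChange A' (f.restrictScalars A)) : IsBaseChange B' f := by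
  have := hB
  let e₁ : B' ⊗[B] M ≃ₗ[A'] A' ⊗[A] M := Algebra.IsPushout.cancelBaseChange A A' B B' M
  let e₂ : A' ⊗[A] M ≃ₗ[A'] N := hf.equiv
  let c : B' ⊗[B] M →ₗ[B'] N := f.liftBaseChange B'
  have hc : ∀ z : A' ⊗[A] M, c (e₁.symm z) = e₂ z := by
    intro z
    induction z using TensorProduct.induction_on with
    | zero => simp
    | tmul a' m =>
      rw [Algebra.IsPushout.cancelBaseChange_symm_tmul, LinearMap.liftBaseChange_tmul,
        hf.equiv_tmul, algebraMap_smul]
      rfl
    | add x y hx hy => rw [map_add, map_add, map_add, hx, hy]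
  have hbij : Function.Bijective c := by
    have hfun : (c : B' ⊗[B] M → N) = e₂ ∘ e₁ := by
      funext z
      rw [Function.comp_apply, ← hc (e₁ z), e₁.symm_apply_apply]
    rw [hfun]
    exact e₂.bijective.comp e₁.bijective
  refine IsBaseChange.of_equiv (LinearEquiv.ofBijective c hbij) ?_
  intro x
  rw [LinearEquiv.ofBijective_apply, LinearMap.liftBaseChange_tmul, one_smul]

end Square

section Omega

universe u v u'

variable {A : Type u} {B : Type v} {A' : Type u'} {B' : Type v}
  [CommRing A] [CommRing B] [CommRing A'] [CommRing B']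
  [Algebra A B] [Algebra A A'] [Algebra B B'] [Algebra A' B'] [Algebra A B']
  [IsScalarTower A A' B'] [IsScalarTower A B B']

/-- `A`-module structure on `Hom_A(B, A)` through `B`. -/
@[reducible] def modBase : Module A (Disc.Omega A B) := Module.compHom _ (algebraMap A B)

/-- `B`-module structure on `Hom_{A'}(B', A')` through `B'`. -/
@[reducible] def modB : Module B (Disc.Omega A' B') := Module.compHom _ (algebraMap B B')

/-- `A`-module structure on `Hom_{A'}(B', A')` through `B'`. -/
@[reducible] def modA : Module A (Disc.Omega A' B') := Module.compHom _ (algebraMap A B')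

attribute [local instance] modBase modB modA

local instance towerBase : IsScalarTower A B (Disc.Omega A B) :=
  IsScalarTower.of_algebraMap_smul fun _ _ => rfl

local instance towerB : IsScalarTower B B' (Disc.Omega A' B') :=
  IsScalarTower.of_algebraMap_smul fun _ _ => rfl

local instance towerA : IsScalarTower A B' (Disc.Omega A' B') :=
  IsScalarTower.of_algebraMap_smul fun _ _ => rfl

local instance towerAA' : IsScalarTower A A' (Disc.Omega A' B') :=
  IsScalarTower.of_algebraMap_smul fun r x => by
    show algebraMap A' B' (algebraMap A A' r) • x = algebraMap A B' r • x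
    rw [← IsScalarTower.algebraMap_apply]

local instance towerAB : IsScalarTower A B (Disc.Omega A' B') :=
  IsScalarTower.of_algebraMap_smul fun r x => by
    show algebraMap B B' (algebraMap A B r) • x = algebraMap A B' r • x
    rw [← IsScalarTower.algebraMap_apply]

/-- the `A`-linear identification of `Ω` with the dual. -/
def wrap : Disc.Omega A B ≃ₗ[A] Module.Dual A B where
  toFun := Disc.Omega.toLinearMap
  invFun := fun φ => ⟨φ⟩
  left_inv := fun _ => rfl
  right_inv := fun _ => rfl
  map_add' := fun _ _ => rfl
  map_smul' := fun a ω => by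
    apply LinearMap.ext
    intro x
    show ω.toLinearMap (algebraMap A B a * x) = a • ω.toLinearMap x
    rw [← Algebra.smul_def, map_smul]

/-- `bcFin` as a `B`-linear map. -/
noncomputable def bcB (hB : Algebra.IsPushout A A' B B') :
    Disc.Omega A B →ₗ[B] Disc.Omega A' B' where
  toFun := QFDual.bcFin hB
  map_add' := map_add _
  map_smul' := fun b ω => (QFDual.bcFin hB).map_smulₛₗ b ω

theorem isBaseChange_bcB (hB : Algebra.IsPushout A A' B B')
    (hd : IsBaseChange A' hB.out.toDual) : IsBaseChange B' (bcB hB) := by
  apply isBaseChange_of_isPushout hB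
  refine (IsBaseChange.iff_of_equiv_comm (wrap (A := A) (B := B)) (wrap (A := A') (B := B')) ?_).mpr hd
  apply LinearMap.ext
  intro ω
  rfl

theorem finite_omega [Module.Finite A B] [Module.Free A B] : Module.Finite B (Disc.Omega A B) := by
  have h1 : Module.Finite A (Disc.Omega A B) :=
    Module.Finite.equiv (wrap (A := A) (B := B)).symm
  exact Module.Finite.of_restrictScalars_finite A B _

theorem trace_algebraMap (hB : Algebra.IsPushout A A' B B') [Module.Finite A B] [Module.Free A B]
    [Module.Finite A' B'] [Module.Free A' B'] (x : B) :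
    Algebra.trace A' B' (algebraMap B B' x) = algebraMap A A' (Algebra.trace A B x) := by
  classical
  let b := Module.Free.chooseBasis A B
  let b' := hB.out.basis b
  have hb' : ∀ i, b' i = algebraMap B B' (b i) := fun i => hB.out.basis_apply b i
  rw [Algebra.trace_eq_matrix_trace b', Algebra.trace_eq_matrix_trace b, Matrix.trace,
    Matrix.trace, map_sum]
  refine Finset.sum_congr rfl fun i _ => ?_
  rw [Matrix.diag_apply, Matrix.diag_apply, Algebra.leftMulMatrix_eq_repr_mul,
    Algebra.leftMulMatrix_eq_repr_mul, hb', ← map_mul]
  exact hB.out.basis_repr_comp_apply b (x * b i) i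

theorem bcB_trace (hB : Algebra.IsPushout A A' B B') [Module.Finite A B] [Module.Free A B]
    [Module.Finite A' B'] [Module.Free A' B'] :
    bcB hB (Disc.Omega.trace A B) = Disc.Omega.trace A' B' := by
  apply Disc.Omega.ext
  refine hB.out.algHom_ext _ _ fun x => ?_
  show (QFDual.bcFin hB (Disc.Omega.trace A B)).toLinearMap (algebraMap B B' x) =
    Algebra.trace A' B' (algebraMap B B' x)
  rw [QFDual.bcFin_apply_algebraMap, trace_algebraMap hB]
  rfl

variable [Module.Finite A B] [Module.Free A B] [Module.Finite A' B'] [Module.Free A' B']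

/-- The extension of the different is contained in the different of the base change. -/
theorem T1 (hB : Algebra.IsPushout A A' B B') :
    Ideal.map (algebraMap B B') (QFDual.different B (Disc.Omega.trace A B)) ≤
      QFDual.different B' (Disc.Omega.trace A' B') := by
  have h := map_different_le (isBaseChange_bcB hB hB.out.dual) (Disc.Omega.trace A B)
  rwa [bcB_trace hB] at h

/-- flat case -/
theorem T2 (hB : Algebra.IsPushout A A' B B') [Module.Flat A A'] :
    QFDual.different B' (Disc.Omega.trace A' B') ≤
      Ideal.map (algebraMap B B') (QFDual.different B (Disc.Omega.trace A B)) := by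
  have : Module.Flat B B' := Module.Flat.isBaseChange A B A' B' hB.symm.out
  have : Module.Finite B (Disc.Omega A B) := finite_omega
  have h := different_le_map_of_flat (isBaseChange_bcB hB hB.out.dual) (Disc.Omega.trace A B)
  rwa [bcB_trace hB] at h

/-- invertible case -/
theorem T3 (hB : Algebra.IsPushout A A' B B') [Module.Invertible B (Disc.Omega A B)] :
    QFDual.different B' (Disc.Omega.trace A' B') ≤
      Ideal.map (algebraMap B B') (QFDual.different B (Disc.Omega.trace A B)) := by
  have h := different_le_map_of_invertible (isBaseChange_bcB hB hB.out.dual)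
    (Disc.Omega.trace A B)
  rwa [bcB_trace hB] at h

/-- radical -/
theorem T4 (hB : Algebra.IsPushout A A' B B') :
    QFDual.different B' (Disc.Omega.trace A' B') ≤
      (Ideal.map (algebraMap B B') (QFDual.different B (Disc.Omega.trace A B))).radical := by
  have : Module.Finite B (Disc.Omega A B) := finite_omega
  have h := different_le_radical_map (isBaseChange_bcB hB hB.out.dual) (Disc.Omega.trace A B)
  rwa [bcB_trace hB] at h

end Omega

end Groth.Agent.Lib.helper22.QFDualBC
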