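import Groth.Agent.Lib.Helper22.QFDualBC

namespace Groth.Agent.Lib.helper22.QFDualBC

open TensorProduct

section Omega2

universe u v u'

variable {A : Type u} {B : Type v} {A' : Type u'} {B' : Type v}
  [CommRing A] [CommRing B] [CommRing A'] [CommRing B']
  [Algebra A B] [Algebra A A'] [Algebra B B'] [Algebra A' B'] [Algebra A B']
  [IsScalarTower A A' B'] [IsScalarTower A B B']

attribute [local instance] modBase modB modA towerBase towerB towerA towerAA' towerAB

/-- flat base change of the dual of a finitely presented module, in `toDual` form. -/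
theorem isBaseChange_toDual_of_flat [Module.Flat A A'] [Module.FinitePresentation A B]
    (hB : Algebra.IsPushout A A' B B') : IsBaseChange A' hB.out.toDual := by
  have h0 : IsBaseChange A' (LinearMap.baseChangeHom A A' B A) :=
    Module.FinitePresentation.isBaseChange_map A B A A'
  let eN : (A' ⊗[A] B →ₗ[A'] A' ⊗[A] A) ≃ₗ[A'] (B' →ₗ[A'] A') :=
    LinearEquiv.arrowCongr hB.out.equiv (AlgebraTensorModule.rid A A' A')
  refine (IsBaseChange.iff_of_equiv_comm (LinearEquiv.refl A (B →ₗ[A] A)) eN ?_).mp h0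
  apply LinearMap.ext
  intro φ
  refine hB.out.algHom_ext _ _ fun x => ?_
  show hB.out.toDual φ ((IsScalarTower.toAlgHom A B B').toLinearMap x) =
    (AlgebraTensorModule.rid A A' A') ((φ.baseChange A')
      (hB.out.equiv.symm ((IsScalarTower.toAlgHom A B B').toLinearMap x)))
  rw [hB.out.toDual_comp_apply, hB.out.equiv_symm_apply, LinearMap.baseChange_tmul,
    AlgebraTensorModule.rid_tmul, Algebra.algebraMap_eq_smul_one]

/-- the base-change map `omegaBC` is bijective as soon as the dual commutes with the base change. -/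
theorem omegaBC_bijective (hB : Algebra.IsPushout A A' B B') (hd : IsBaseChange A' hB.out.toDual)
    {B₁ : Type v} [CommRing B₁] [Algebra B' B₁] [Algebra B B₁] [IsScalarTower B B' B₁] :
    Function.Bijective (QFDual.omegaBC (B₁ := B₁) hB) := by
  have hbc : IsBaseChange B' (bcB hB) := isBaseChange_bcB hB hd
  let e_c : B₁ ⊗[B'] (B' ⊗[B] Disc.Omega A B) ≃ₗ[B₁] B₁ ⊗[B] Disc.Omega A B :=
    AlgebraTensorModule.cancelBaseChange B B' B₁ B₁ (Disc.Omega A B)
  let e_l : B₁ ⊗[B'] (B' ⊗[B] Disc.Omega A B) ≃ₗ[B'] B₁ ⊗[B'] Disc.Omega A' B' :=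
    TensorProduct.congr (LinearEquiv.refl B' B₁) hbc.equiv
  have hfun : ∀ z : B₁ ⊗[B] Disc.Omega A B, QFDual.omegaBC (B₁ := B₁) hB z = e_l (e_c.symm z) := by
    intro z
    induction z using TensorProduct.induction_on with
    | zero => simp
    | tmul b φ =>
      rw [QFDual.omegaBC_tmul]
      have h1 : e_c.symm (b ⊗ₜ[B] φ) = b ⊗ₜ[B'] ((1 : B') ⊗ₜ[B] φ) := by
        rw [LinearEquiv.symm_apply_eq]
        simp [e_c]
      rw [h1]
      show _ = b ⊗ₜ[B'] hbc.equiv ((1 : B') ⊗ₜ[B] φ)
      rw [hbc.equiv_tmul, one_smul]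
      rfl
    | add x y hx hy => rw [map_add, map_add, map_add, hx, hy]
  have : (QFDual.omegaBC (B₁ := B₁) hB : B₁ ⊗[B] Disc.Omega A B → B₁ ⊗[B'] Disc.Omega A' B') =
      e_l ∘ e_c.symm := funext hfun
  rw [this]
  exact e_l.bijective.comp e_c.symm.bijective

end Omega2

end Groth.Agent.Lib.helper22.QFDualBC
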