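import Mathlib

set_option autoImplicit false
open Matrix

namespace Groth.Agent.Lib.helper22.RatMax

variable {n : ℕ}

/-- the bilinear form of a matrix -/
def bf (A : Matrix (Fin n) (Fin n) ℝ) (y z : Fin n → ℝ) : ℝ := y ⬝ᵥ A *ᵥ z

/-- the quadratic form of a matrix -/
def qf (A : Matrix (Fin n) (Fin n) ℝ) (y : Fin n → ℝ) : ℝ := y ⬝ᵥ A *ᵥ y

theorem bf_symm {A : Matrix (Fin n) (Fin n) ℝ} (hA : A.IsSymm) (y z : Fin n → ℝ) :
    bf A y z = bf A z y := by
  unfold bf
  rw [dotProduct_mulVec, ← mulVec_transpose, hA.eq, dotProduct_comm]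

theorem bf_add_right (A : Matrix (Fin n) (Fin n) ℝ) (y z w : Fin n → ℝ) :
    bf A y (z + w) = bf A y z + bf A y w := by
  unfold bf
  rw [mulVec_add, dotProduct_add]

theorem bf_add_left (A : Matrix (Fin n) (Fin n) ℝ) (y z w : Fin n → ℝ) :
    bf A (y + z) w = bf A y w + bf A z w := by
  unfold bf
  rw [add_dotProduct]

theorem bf_smul_right (A : Matrix (Fin n) (Fin n) ℝ) (y z : Fin n → ℝ) (s : ℝ) :
    bf A y (s • z) = s * bf A y z := by
  unfold bf
  rw [mulVec_smul, dotProduct_smul, smul_eq_mul]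

theorem bf_smul_left (A : Matrix (Fin n) (Fin n) ℝ) (y z : Fin n → ℝ) (s : ℝ) :
    bf A (s • y) z = s * bf A y z := by
  unfold bf
  rw [smul_dotProduct, smul_eq_mul]

theorem qf_eq_bf (A : Matrix (Fin n) (Fin n) ℝ) (y : Fin n → ℝ) : qf A y = bf A y y := rfl

theorem qf_add_smul {A : Matrix (Fin n) (Fin n) ℝ} (hA : A.IsSymm) (y z : Fin n → ℝ) (s : ℝ) :
    qf A (y + s • z) = qf A y + 2 * s * bf A y z + s ^ 2 * qf A z := by
  simp only [qf_eq_bf, bf_add_left, bf_add_right, bf_smul_left, bf_smul_right]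
  rw [bf_symm hA z y]
  ring

theorem qf_smul (A : Matrix (Fin n) (Fin n) ℝ) (y : Fin n → ℝ) (s : ℝ) :
    qf A (s • y) = s ^ 2 * qf A y := by
  simp only [qf_eq_bf, bf_smul_left, bf_smul_right]
  ring

theorem bf_single_right (A : Matrix (Fin n) (Fin n) ℝ) (y : Fin n → ℝ) (i : Fin n) :
    bf A (Pi.single i 1) y = (A *ᵥ y) i := by
  unfold bf
  rw [single_one_dotProduct]

theorem bf_eq_sum (A : Matrix (Fin n) (Fin n) ℝ) (y z : Fin n → ℝ) :
    bf A y z = ∑ i, y i * (A *ᵥ z) i := rfl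

/-- the symmetrization has the same quadratic form -/
theorem qf_symmetrize (A : Matrix (Fin n) (Fin n) ℝ) (y : Fin n → ℝ) :
    qf ((1 / 2 : ℝ) • (A + Aᵀ)) y = qf A y := by
  unfold qf
  rw [smul_mulVec, add_mulVec, dotProduct_smul, dotProduct_add, mulVec_transpose,
    dotProduct_comm y (y ᵥ* A), ← dotProduct_mulVec, smul_eq_mul]
  ring

variable (A : Matrix (Fin n) (Fin n) ℝ) (c : Fin n → ℝ)

/-- minimizers of the quadratic form on the slice `c·y = 1` of the orthant -/
def IsMin (y : Fin n → ℝ) : Prop :=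
  (∀ i, 0 ≤ y i) ∧ c ⬝ᵥ y = 1 ∧ ∀ z : Fin n → ℝ, (∀ i, 0 ≤ z i) → c ⬝ᵥ z = 1 → qf A y ≤ qf A z

variable {A c}

/-- first order condition along feasible directions -/
theorem bf_eq_zero_of_isMin (hA : A.IsSymm) {y : Fin n → ℝ} (hy : IsMin A c y) (z : Fin n → ℝ)
    (hz : ∀ i, y i = 0 → z i = 0) (hcz : c ⬝ᵥ z = 0) : bf A y z = 0 := by
  obtain ⟨hy0, hcy, hmin⟩ := hy
  -- a step size
  set D : ℝ := ∑ i, |z i| / y i + 1 with hD
  have hDpos : 0 < D := by
    have : 0 ≤ ∑ i, |z i| / y i := Finset.sum_nonneg (fun i _ => div_nonneg (abs_nonneg _) (hy0 i))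
    linarith
  have hstep : ∀ i, |z i| ≤ D * y i := by
    intro i
    by_cases hi : y i = 0
    · rw [hz i hi, hi]; simp
    · have hpos : 0 < y i := lt_of_le_of_ne (hy0 i) (Ne.symm hi)
      have h1 : |z i| / y i ≤ ∑ j, |z j| / y j :=
        Finset.single_le_sum (f := fun j => |z j| / y j)
          (fun j _ => div_nonneg (abs_nonneg _) (hy0 j)) (Finset.mem_univ i)
      have h2 : |z i| / y i ≤ D := by linarith
      rwa [div_le_iff₀ hpos] at h2
  have hfeas : ∀ s : ℝ, |s| * D ≤ 1 → qf A y ≤ qf A (y + s • z) := by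
    intro s hs
    apply hmin
    · intro i
      simp only [Pi.add_apply, Pi.smul_apply, smul_eq_mul]
      have h1 : |s * z i| ≤ y i := by
        rw [abs_mul]
        calc |s| * |z i| ≤ |s| * (D * y i) := mul_le_mul_of_nonneg_left (hstep i) (abs_nonneg _)
          _ = (|s| * D) * y i := by ring
          _ ≤ 1 * y i := mul_le_mul_of_nonneg_right hs (hy0 i)
          _ = y i := one_mul _
      have := neg_abs_le (s * z i)
      linarith
    · rw [dotProduct_add, dotProduct_smul, hcz, hcy, smul_zero, add_zero]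
  by_contra hb
  set b := bf A y z with hb'
  set Q := qf A z with hQ
  -- choose s = - t b with t small
  set t : ℝ := min (1 / (D * (|b| + 1))) (1 / (|Q| + 1)) with ht
  have htpos : 0 < t := by
    apply lt_min <;> positivity
  have ht1 : t * (D * (|b| + 1)) ≤ 1 := by
    have : t ≤ 1 / (D * (|b| + 1)) := min_le_left _ _
    have hpos : 0 < D * (|b| + 1) := by positivity
    calc t * (D * (|b| + 1)) ≤ 1 / (D * (|b| + 1)) * (D * (|b| + 1)) :=
          mul_le_mul_of_nonneg_right this hpos.le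
      _ = 1 := by field_simp
  have ht2 : t * (|Q| + 1) ≤ 1 := by
    have : t ≤ 1 / (|Q| + 1) := min_le_right _ _
    have hpos : 0 < |Q| + 1 := by positivity
    calc t * (|Q| + 1) ≤ 1 / (|Q| + 1) * (|Q| + 1) := mul_le_mul_of_nonneg_right this hpos.le
      _ = 1 := by field_simp
  have hs : |(-(t * b))| * D ≤ 1 := by
    rw [abs_neg, abs_mul, abs_of_pos htpos]
    have : t * |b| * D ≤ t * (D * (|b| + 1)) := by
      have : |b| * D ≤ D * (|b| + 1) := by nlinarith [abs_nonneg b]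
      calc t * |b| * D = t * (|b| * D) := by ring
        _ ≤ t * (D * (|b| + 1)) := mul_le_mul_of_nonneg_left this htpos.le
    linarith
  have h1 := hfeas (-(t * b)) hs
  rw [qf_add_smul hA] at h1
  have h2 : 0 ≤ t * b ^ 2 * (t * Q - 2) := by
    have : 2 * -(t * b) * b + (-(t * b)) ^ 2 * Q = t * b ^ 2 * (t * Q - 2) := by ring
    rw [← hb', ← hQ] at h1
    linarith
  have h3 : t * Q - 2 < 0 := by
    have : t * Q ≤ t * (|Q| + 1) := by
      apply mul_le_mul_of_nonneg_left _ htpos.le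
      linarith [le_abs_self Q]
    linarith
  have h4 : 0 < t * b ^ 2 := by positivity
  nlinarith

end Groth.Agent.Lib.helper22.RatMax
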