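import Groth.Agent.Lib.Helper22.RatMax1

set_option autoImplicit false
open Matrix

namespace Groth.Agent.Lib.helper22.RatMax

variable {n : ℕ} {A : Matrix (Fin n) (Fin n) ℝ} {c : Fin n → ℝ}

/-- the Kuhn–Tucker condition on the support of a minimizer -/
theorem kkt (hA : A.IsSymm) {y : Fin n → ℝ} (hy : IsMin A c y) (i : Fin n) (hi : y i ≠ 0) :
    (A *ᵥ y) i = qf A y * c i := by
  have h := bf_eq_zero_of_isMin hA hy (Pi.single i 1 - c i • y) (by
    intro j hj
    have hji : j ≠ i := fun h => hi (h ▸ hj)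
    simp [hji, hj]) (by
    rw [dotProduct_sub, dotProduct_single_one, dotProduct_smul, hy.2.1]
    simp)
  have h2 : bf A y (Pi.single i 1 - c i • y) = (A *ᵥ y) i - c i * qf A y := by
    rw [sub_eq_add_neg, bf_add_right, ← neg_smul, bf_smul_right, bf_symm hA y (Pi.single i 1),
      bf_single_right, qf_eq_bf]
    ring
  rw [h2] at h
  linarith

/-- the support of a vector -/
noncomputable def supp (y : Fin n → ℝ) : Finset (Fin n) := Finset.univ.filter (fun i => y i ≠ 0)

theorem mem_supp {y : Fin n → ℝ} {i : Fin n} : i ∈ supp y ↔ y i ≠ 0 := by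
  simp [supp]

/-- moving along a null direction until a coordinate vanishes -/
theorem false_of_null_direction (hA : A.IsSymm) {y : Fin n → ℝ} (hy : IsMin A c y)
    (hmin : ∀ y', IsMin A c y' → (supp y).card ≤ (supp y').card)
    (z : Fin n → ℝ) (hz : ∀ i, y i = 0 → z i = 0) (hcz : c ⬝ᵥ z = 0)
    (hb : bf A y z = 0) (hqz : qf A z = 0) (hneg : ∃ i, z i < 0) : False := by
  obtain ⟨i₁, hi₁⟩ := hneg
  let I : Finset (Fin n) := Finset.univ.filter (fun i => z i < 0)
  have hI : I.Nonempty := ⟨i₁, by simp [I, hi₁]⟩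
  obtain ⟨i₀, hi₀, hmin₀⟩ := Finset.exists_min_image I (fun i => y i / (- z i)) hI
  have hzi₀ : z i₀ < 0 := (Finset.mem_filter.mp hi₀).2
  have hyi₀ : 0 < y i₀ := by
    apply lt_of_le_of_ne (hy.1 i₀)
    intro h
    have := hz i₀ h.symm
    linarith
  set s := y i₀ / (- z i₀) with hs
  have hspos : 0 < s := div_pos hyi₀ (by linarith)
  have hy'0 : ∀ i, 0 ≤ (y + s • z) i := by
    intro i
    simp only [Pi.add_apply, Pi.smul_apply, smul_eq_mul]
    by_cases hzi : z i < 0
    · have h1 : s ≤ y i / (- z i) := hmin₀ i (by simp [I, hzi])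
      have hnz : 0 < - z i := by linarith
      rw [le_div_iff₀ hnz] at h1
      linarith
    · push Not at hzi
      have := hy.1 i
      positivity
  have hy'i₀ : (y + s • z) i₀ = 0 := by
    simp only [Pi.add_apply, Pi.smul_apply, smul_eq_mul, hs]
    have : z i₀ ≠ 0 := ne_of_lt hzi₀
    field_simp
    ring
  have hy' : IsMin A c (y + s • z) := by
    refine ⟨hy'0, ?_, ?_⟩
    · rw [dotProduct_add, dotProduct_smul, hcz, hy.2.1, smul_zero, add_zero]
    · intro w hw hcw
      rw [qf_add_smul hA, hb, hqz]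
      have := hy.2.2 w hw hcw
      linarith
  have hsub : supp (y + s • z) ⊂ supp y := by
    rw [Finset.ssubset_iff_of_subset]
    · refine ⟨i₀, mem_supp.mpr (ne_of_gt hyi₀), ?_⟩
      rw [mem_supp, not_not]
      exact hy'i₀
    · intro i hi
      rw [mem_supp] at hi ⊢
      intro h
      apply hi
      simp [h, hz i h]
  have h1 := Finset.card_lt_card hsub
  have h2 := hmin _ hy'
  omega

/-- the Kuhn–Tucker system of a minimizer with minimal support has trivial kernel -/
theorem kernel_trivial (hA : A.IsSymm) {y : Fin n → ℝ} (hy : IsMin A c y)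
    (hmin : ∀ y', IsMin A c y' → (supp y).card ≤ (supp y').card)
    (z : Fin n → ℝ) (ν : ℝ) (hz : ∀ i, y i = 0 → z i = 0) (hcz : c ⬝ᵥ z = 0)
    (hAz : ∀ i, y i ≠ 0 → (A *ᵥ z) i = ν * c i) : z = 0 ∧ ν = 0 := by
  have hb := bf_eq_zero_of_isMin hA hy z hz hcz
  have hν : ν = 0 := by
    have h1 : bf A y z = ν * (c ⬝ᵥ y) := by
      rw [bf_eq_sum, dotProduct, Finset.mul_sum]
      apply Finset.sum_congr rfl
      intro i _
      by_cases hi : y i = 0
      · rw [hi]; ring
      · rw [hAz i hi]; ring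
    rw [hb, hy.2.1, mul_one] at h1
    exact h1.symm
  have hAz0 : ∀ i, y i ≠ 0 → (A *ᵥ z) i = 0 := by
    intro i hi
    rw [hAz i hi, hν, zero_mul]
  have hqz : qf A z = 0 := by
    rw [qf_eq_bf, bf_eq_sum]
    apply Finset.sum_eq_zero
    intro i _
    by_cases hi : y i = 0
    · rw [hz i hi, zero_mul]
    · rw [hAz0 i hi, mul_zero]
  refine ⟨?_, hν⟩
  by_contra hz0
  by_cases hneg : ∃ i, z i < 0
  · exact false_of_null_direction hA hy hmin z hz hcz hb hqz hneg
  · push Not at hneg
    have : ∃ i, z i ≠ 0 := by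
      by_contra h
      push Not at h
      exact hz0 (funext h)
    obtain ⟨i, hi⟩ := this
    have hpos : 0 < z i := lt_of_le_of_ne (hneg i) (Ne.symm hi)
    apply false_of_null_direction hA hy hmin ((-1 : ℝ) • z)
    · intro j hj
      simp [hz j hj]
    · rw [dotProduct_smul, hcz, smul_zero]
    · rw [bf_smul_right, hb, mul_zero]
    · rw [qf_smul, hqz, mul_zero]
    · exact ⟨i, by simp [hpos]⟩

end Groth.Agent.Lib.helper22.RatMax
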