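import Groth.Agent.Lib.Helper22.RatMax2

set_option autoImplicit false
open Matrix

namespace Groth.Agent.Lib.helper22.RatMax

variable {n : ℕ} {A : Matrix (Fin n) (Fin n) ℝ} {c : Fin n → ℝ}

/-- the scale invariant objective -/
noncomputable def obj (A : Matrix (Fin n) (Fin n) ℝ) (c : Fin n → ℝ) (y : Fin n → ℝ) : ℝ :=
  (c ⬝ᵥ y) * |c ⬝ᵥ y| / qf A y

theorem obj_smul (y : Fin n → ℝ) {s : ℝ} (hs : 0 < s) : obj A c (s • y) = obj A c y := by
  unfold obj
  rw [dotProduct_smul, qf_smul, smul_eq_mul, abs_mul, abs_of_pos hs]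
  by_cases hq : qf A y = 0
  · simp [hq]
  · field_simp

theorem continuous_qf (A : Matrix (Fin n) (Fin n) ℝ) : Continuous (qf A) := by
  unfold qf dotProduct mulVec dotProduct
  fun_prop

theorem continuous_dot (c : Fin n → ℝ) : Continuous (fun y : Fin n → ℝ => c ⬝ᵥ y) := by
  unfold dotProduct
  fun_prop

theorem sum_pos_of_dot_pos {y : Fin n → ℝ} (hy : ∀ i, 0 ≤ y i) (h : 0 < c ⬝ᵥ y) : 0 < ∑ i, y i := by
  apply lt_of_le_of_ne (Finset.sum_nonneg (fun i _ => hy i))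
  intro h0
  have : ∀ i, y i = 0 := fun i =>
    (Finset.sum_eq_zero_iff_of_nonneg (fun i _ => hy i)).mp h0.symm i (Finset.mem_univ i)
  have : y = 0 := funext this
  rw [this, dotProduct_zero] at h
  exact lt_irrefl _ h

theorem exists_isMin (hpos : ∀ y : Fin n → ℝ, (∀ i, 0 ≤ y i) → y ≠ 0 → 0 < qf A y)
    (hc : ∃ y : Fin n → ℝ, (∀ i, 0 ≤ y i) ∧ 0 < c ⬝ᵥ y) : ∃ y, IsMin A c y := by
  obtain ⟨y₀, hy₀, hcy₀⟩ := hc
  -- normalization into the simplex
  have norm : ∀ y : Fin n → ℝ, (∀ i, 0 ≤ y i) → 0 < c ⬝ᵥ y →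
      (1 / ∑ i, y i) • y ∈ stdSimplex ℝ (Fin n) ∧ 0 < 1 / ∑ i, y i := by
    intro y hy hcy
    have hσ := sum_pos_of_dot_pos hy hcy
    refine ⟨⟨fun i => ?_, ?_⟩, by positivity⟩
    · simp only [Pi.smul_apply, smul_eq_mul]
      have := hy i
      positivity
    · simp only [Pi.smul_apply, smul_eq_mul, ← Finset.mul_sum]
      field_simp
  have hne0 : ∀ y ∈ stdSimplex ℝ (Fin n), y ≠ 0 := by
    rintro y ⟨-, hy⟩ rfl
    simp at hy
  have hqpos : ∀ y ∈ stdSimplex ℝ (Fin n), 0 < qf A y := fun y hy => hpos y hy.1 (hne0 y hy)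
  have hcont : ContinuousOn (obj A c) (stdSimplex ℝ (Fin n)) := by
    unfold obj
    apply ContinuousOn.div
    · exact ((continuous_dot c).mul (continuous_dot c).abs).continuousOn
    · exact (continuous_qf A).continuousOn
    · intro y hy
      exact (hqpos y hy).ne'
  obtain ⟨y₁, hy₁K, hy₁max⟩ := (isCompact_stdSimplex (𝕜 := ℝ) (ι := Fin n)).exists_isMaxOn
    ⟨_, (norm y₀ hy₀ hcy₀).1⟩ hcont
  have hobj_pos : ∀ y : Fin n → ℝ, 0 < qf A y → 0 < c ⬝ᵥ y → 0 < obj A c y := by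
    intro y hq hcy
    unfold obj
    rw [abs_of_pos hcy]
    positivity
  have h1 : 0 < obj A c y₁ := by
    have h0 : obj A c ((1 / ∑ i, y₀ i) • y₀) ≤ obj A c y₁ := hy₁max (norm y₀ hy₀ hcy₀).1
    have : 0 < obj A c ((1 / ∑ i, y₀ i) • y₀) := by
      rw [obj_smul _ (norm y₀ hy₀ hcy₀).2]
      apply hobj_pos _ _ hcy₀
      apply hpos y₀ hy₀
      rintro rfl
      simp at hcy₀
    exact lt_of_lt_of_le this h0
  have hcy₁ : 0 < c ⬝ᵥ y₁ := by
    by_contra hle
    push Not at hle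
    have : obj A c y₁ ≤ 0 := by
      unfold obj
      apply div_nonpos_of_nonpos_of_nonneg _ (hqpos y₁ hy₁K).le
      exact mul_nonpos_of_nonpos_of_nonneg hle (abs_nonneg _)
    linarith
  set t := c ⬝ᵥ y₁ with ht
  have hobj_one : ∀ y : Fin n → ℝ, c ⬝ᵥ y = 1 → obj A c y = 1 / qf A y := by
    intro y hy
    unfold obj
    rw [hy]
    simp
  refine ⟨(1 / t) • y₁, ?_, ?_, ?_⟩
  · intro i
    simp only [Pi.smul_apply, smul_eq_mul]
    have := hy₁K.1 i
    positivity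
  · rw [dotProduct_smul, smul_eq_mul, ← ht]
    field_simp
  · intro z hz hcz
    have hcz' : 0 < c ⬝ᵥ z := by rw [hcz]; exact one_pos
    have hz0 : z ≠ 0 := by
      rintro rfl
      simp at hcz
    have h2 : obj A c ((1 / ∑ i, z i) • z) ≤ obj A c y₁ := hy₁max (norm z hz hcz').1
    rw [obj_smul _ (norm z hz hcz').2, hobj_one z hcz] at h2
    have h3 : obj A c y₁ = obj A c ((1 / t) • y₁) := (obj_smul _ (by positivity)).symm
    have h4 : c ⬝ᵥ ((1 / t) • y₁) = 1 := by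
      rw [dotProduct_smul, smul_eq_mul, ← ht]
      field_simp
    rw [h3, hobj_one _ h4] at h2
    have hqz : 0 < qf A z := hpos z hz hz0
    have hqy : 0 < qf A ((1 / t) • y₁) := by
      rw [qf_smul]
      have := hqpos y₁ hy₁K
      positivity
    rwa [one_div_le_one_div hqz hqy] at h2

theorem exists_isMin_minimal_supp (h : ∃ y, IsMin A c y) :
    ∃ y, IsMin A c y ∧ ∀ y', IsMin A c y' → (supp y).card ≤ (supp y').card := by
  classical
  let P : ℕ → Prop := fun m => ∃ y, IsMin A c y ∧ (supp y).card = m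
  have hP : ∃ m, P m := by
    obtain ⟨y, hy⟩ := h
    exact ⟨_, y, hy, rfl⟩
  obtain ⟨y, hy, hcard⟩ := Nat.find_spec hP
  refine ⟨y, hy, fun y' hy' => ?_⟩
  rw [hcard]
  exact Nat.find_min' hP ⟨y', hy', rfl⟩

end Groth.Agent.Lib.helper22.RatMax
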