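import Groth.Agent.Lib.Helper22.RatMax3

set_option autoImplicit false
open Matrix

namespace Groth.Agent.Lib.helper22.RatMax

/-- the solution of a rational linear system which is nonsingular over the reals is rational -/
theorem rat_of_solve {m : Type*} [Fintype m] [DecidableEq m] (T : Matrix m m ℚ) (b : m → ℚ)
    (v : m → ℝ)
    (hinj : ∀ z : m → ℝ, (T.map (Rat.castHom ℝ)) *ᵥ z = 0 → z = 0)
    (hv : (T.map (Rat.castHom ℝ)) *ᵥ v = fun i => (b i : ℝ)) :
    ∃ x : m → ℚ, v = fun i => (x i : ℝ) := by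
  have hdetR : (T.map (Rat.castHom ℝ)).det ≠ 0 := by
    intro h
    obtain ⟨z, hz0, hz⟩ := Matrix.exists_mulVec_eq_zero_iff.mpr h
    exact hz0 (hinj z hz)
  have hdet : T.det ≠ 0 := by
    intro h
    apply hdetR
    have := (Rat.castHom ℝ).map_det T
    rw [RingHom.mapMatrix_apply] at this
    rw [← this, h, map_zero]
  have hunit : IsUnit T.det := IsUnit.mk0 _ hdet
  refine ⟨T⁻¹ *ᵥ b, ?_⟩
  have h1 : T *ᵥ (T⁻¹ *ᵥ b) = b := by
    rw [mulVec_mulVec, Matrix.mul_nonsing_inv _ hunit, one_mulVec]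
  have h2 : (T.map (Rat.castHom ℝ)) *ᵥ (fun i => ((T⁻¹ *ᵥ b) i : ℝ)) = fun i => (b i : ℝ) := by
    funext i
    have := (Rat.castHom ℝ).map_mulVec T (T⁻¹ *ᵥ b) i
    rw [h1] at this
    exact this.symm
  have h3 : (T.map (Rat.castHom ℝ)) *ᵥ (v - fun i => ((T⁻¹ *ᵥ b) i : ℝ)) = 0 := by
    rw [mulVec_sub, hv, h2, sub_self]
  exact sub_eq_zero.mp (hinj _ h3)

variable {n : ℕ}

/-- a minimizer with minimal support is rational when the data are rational -/
theorem rational_of_minimal (Bs : Matrix (Fin n) (Fin n) ℚ) (hBs : Bs.IsSymm) (ℓ : Fin n → ℚ)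
    (y : Fin n → ℝ)
    (hy : IsMin (Bs.map (Rat.castHom ℝ)) (fun i => (ℓ i : ℝ)) y)
    (hmin : ∀ y', IsMin (Bs.map (Rat.castHom ℝ)) (fun i => (ℓ i : ℝ)) y' →
      (supp y).card ≤ (supp y').card)
    (hq : 0 < qf (Bs.map (Rat.castHom ℝ)) y) :
    ∃ x : Fin n → ℚ, y = fun i => (x i : ℝ) := by
  classical
  set A := Bs.map (Rat.castHom ℝ) with hA
  set c : Fin n → ℝ := fun i => (ℓ i : ℝ) with hc
  have hAsymm : A.IsSymm := by
    rw [hA]
    ext i j
    simp only [Matrix.transpose_apply, Matrix.map_apply]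
    rw [← Matrix.transpose_apply Bs, hBs.eq]
  set μ := qf A y with hμ
  set S := supp y with hS
  -- the normalized minimizer
  set ŷ : Fin n → ℝ := (1 / μ) • y with hŷ
  have hŷS : ∀ i, i ∉ S → ŷ i = 0 := by
    intro i hi
    have : y i = 0 := by
      by_contra h
      exact hi (mem_supp.mpr h)
    simp [hŷ, this]
  have hAŷ : ∀ i, i ∈ S → (A *ᵥ ŷ) i = c i := by
    intro i hi
    rw [hŷ, mulVec_smul, Pi.smul_apply, kkt hAsymm hy i (mem_supp.mp hi), smul_eq_mul, ← hμ]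
    field_simp
  -- the linear system
  let T : Matrix (Fin n) (Fin n) ℚ :=
    Matrix.of fun i j => if i ∈ S then Bs i j else if i = j then 1 else 0
  let b : Fin n → ℚ := fun i => if i ∈ S then ℓ i else 0
  have hT : ∀ (z : Fin n → ℝ) (i : Fin n),
      ((T.map (Rat.castHom ℝ)) *ᵥ z) i = if i ∈ S then (A *ᵥ z) i else z i := by
    intro z i
    simp only [mulVec, dotProduct, Matrix.map_apply, T, Matrix.of_apply]
    split_ifs with hi
    · rfl
    · simp [apply_ite (Rat.castHom ℝ)]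
  have hinj : ∀ z : Fin n → ℝ, (T.map (Rat.castHom ℝ)) *ᵥ z = 0 → z = 0 := by
    intro z hz
    have hzS : ∀ i, i ∉ S → z i = 0 := by
      intro i hi
      have := congrFun hz i
      rw [hT, if_neg hi] at this
      exact this
    have hAz : ∀ i, i ∈ S → (A *ᵥ z) i = 0 := by
      intro i hi
      have := congrFun hz i
      rw [hT, if_pos hi] at this
      exact this
    have hz' : ∀ i, y i = 0 → z i = 0 := by
      intro i hi
      apply hzS
      rw [hS, mem_supp, not_not]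
      exact hi
    have hcz : c ⬝ᵥ z = 0 := by
      have h1 : c ⬝ᵥ z = bf A z ŷ := by
        rw [bf_eq_sum, dotProduct]
        apply Finset.sum_congr rfl
        intro i _
        by_cases hi : i ∈ S
        · rw [hAŷ i hi, mul_comm]
        · rw [hzS i hi]; ring
      have h2 : bf A ŷ z = 0 := by
        rw [bf_eq_sum]
        apply Finset.sum_eq_zero
        intro i _
        by_cases hi : i ∈ S
        · rw [hAz i hi, mul_zero]
        · rw [hŷS i hi, zero_mul]
      rw [h1, bf_symm hAsymm, h2]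
    exact (kernel_trivial hAsymm hy hmin z 0 hz' hcz (by
      intro i hi
      rw [hAz i (mem_supp.mpr hi), zero_mul])).1
  have hv : (T.map (Rat.castHom ℝ)) *ᵥ ŷ = fun i => (b i : ℝ) := by
    funext i
    rw [hT]
    simp only [b]
    split_ifs with hi
    · exact hAŷ i hi
    · rw [hŷS i hi]; simp
  obtain ⟨xh, hxh⟩ := rat_of_solve T b ŷ hinj hv
  -- recover y
  have hμpos : 0 < μ := hq
  have hyŷ : y = μ • ŷ := by
    rw [hŷ, smul_smul]
    field_simp
    simp
  have hcŷ : c ⬝ᵥ ŷ = ((ℓ ⬝ᵥ xh : ℚ) : ℝ) := by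
    rw [hxh]
    simp [dotProduct, hc]
  have hμ1 : μ * (c ⬝ᵥ ŷ) = 1 := by
    have := hy.2.1
    rw [hyŷ, dotProduct_smul, smul_eq_mul] at this
    exact this
  have hne : (c ⬝ᵥ ŷ) ≠ 0 := right_ne_zero_of_mul_eq_one hμ1
  have hμeq : μ = 1 / (c ⬝ᵥ ŷ) := by
    field_simp
    linarith
  refine ⟨(1 / (ℓ ⬝ᵥ xh)) • xh, ?_⟩
  rw [hyŷ, hμeq, hcŷ, hxh]
  funext i
  simp

end Groth.Agent.Lib.helper22.RatMax
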