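import Groth.Agent.Lib.Helper22.RatMax4

set_option autoImplicit false
open Matrix

namespace Groth.Agent.Lib.helper22.RatMax

theorem main (n : ℕ) (ℓ : Fin n → ℚ)
    (B : Matrix (Fin n) (Fin n) ℚ)
    (hpos : ∀ y : Fin n → ℝ, (∀ i, 0 ≤ y i) → y ≠ 0 → 0 < y ⬝ᵥ (B.map (fun r : ℚ => (r : ℝ))) *ᵥ y)
    (hℓ : ∃ y : Fin n → ℝ, (∀ i, 0 ≤ y i) ∧ 0 < (fun i => (ℓ i : ℝ)) ⬝ᵥ y) :
    ∃ x : Fin n → ℚ, (∀ i, 0 ≤ x i) ∧ x ≠ 0 ∧
      ∀ y : Fin n → ℝ, (∀ i, 0 ≤ y i) → y ≠ 0 →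
        (fun i => (ℓ i : ℝ)) ⬝ᵥ y / Real.sqrt (y ⬝ᵥ (B.map (fun r : ℚ => (r : ℝ))) *ᵥ y) ≤
          (fun i => (ℓ i : ℝ)) ⬝ᵥ (fun i => (x i : ℝ)) /
            Real.sqrt ((fun i => (x i : ℝ)) ⬝ᵥ (B.map (fun r : ℚ => (r : ℝ))) *ᵥ (fun i => (x i : ℝ))) := by
  set BR : Matrix (Fin n) (Fin n) ℝ := B.map (fun r : ℚ => (r : ℝ)) with hBR
  set c : Fin n → ℝ := fun i => (ℓ i : ℝ) with hc
  let Bs : Matrix (Fin n) (Fin n) ℚ := (1 / 2 : ℚ) • (B + Bᵀ)
  have hBs : Bs.IsSymm := by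
    simp only [Bs, Matrix.IsSymm, transpose_smul, transpose_add, transpose_transpose, add_comm]
  set A : Matrix (Fin n) (Fin n) ℝ := Bs.map (Rat.castHom ℝ) with hA
  have hAB : A = (1 / 2 : ℝ) • (BR + BRᵀ) := by
    ext i j
    simp [hA, Bs, hBR, Matrix.map_apply]
    ring
  have hqf : ∀ y, qf A y = qf BR y := by
    intro y
    rw [hAB, qf_symmetrize]
  have hpos' : ∀ y : Fin n → ℝ, (∀ i, 0 ≤ y i) → y ≠ 0 → 0 < qf A y := by
    intro y hy hy0
    rw [hqf]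
    exact hpos y hy hy0
  obtain ⟨y, hy, hmin⟩ := exists_isMin_minimal_supp (exists_isMin (A := A) (c := c) hpos' hℓ)
  have hy0 : y ≠ 0 := by
    rintro rfl
    have := hy.2.1
    simp at this
  have hq : 0 < qf A y := hpos' y hy.1 hy0
  obtain ⟨x, hx⟩ := rational_of_minimal Bs hBs ℓ y hy hmin hq
  refine ⟨x, ?_, ?_, ?_⟩
  · intro i
    have := hy.1 i
    rw [hx] at this
    have h' : (0 : ℝ) ≤ (x i : ℝ) := this
    exact_mod_cast h'
  · rintro rfl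
    apply hy0
    rw [hx]
    funext i
    simp
  · intro w hw hw0
    rw [← hx]
    change c ⬝ᵥ w / Real.sqrt (qf BR w) ≤ c ⬝ᵥ y / Real.sqrt (qf BR y)
    rw [hy.2.1, ← hqf, ← hqf]
    have hQw : 0 < qf A w := hpos' w hw hw0
    have hsw : 0 < Real.sqrt (qf A w) := Real.sqrt_pos.mpr hQw
    have hsy : 0 < Real.sqrt (qf A y) := Real.sqrt_pos.mpr hq
    by_cases ht : c ⬝ᵥ w ≤ 0
    · calc c ⬝ᵥ w / Real.sqrt (qf A w) ≤ 0 := div_nonpos_of_nonpos_of_nonneg ht hsw.le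
        _ ≤ 1 / Real.sqrt (qf A y) := by positivity
    · push Not at ht
      set t := c ⬝ᵥ w with htdef
      have hfeas : qf A y ≤ qf A ((1 / t) • w) := by
        apply hy.2.2
        · intro i
          simp only [Pi.smul_apply, smul_eq_mul]
          have := hw i
          positivity
        · rw [dotProduct_smul, smul_eq_mul, ← htdef]
          field_simp
      rw [qf_smul] at hfeas
      have h1 : t ^ 2 * qf A y ≤ qf A w := by
        have : (1 / t) ^ 2 * qf A w = qf A w / t ^ 2 := by field_simp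
        rw [this, le_div_iff₀ (by positivity)] at hfeas
        linarith
      have h2 : t * Real.sqrt (qf A y) ≤ Real.sqrt (qf A w) := by
        have := Real.sqrt_le_sqrt h1
        rwa [Real.sqrt_mul (by positivity), Real.sqrt_sq ht.le] at this
      rw [div_le_div_iff₀ hsw hsy]
      linarith

end Groth.Agent.Lib.helper22.RatMax
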