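import Mathlib

set_option autoImplicit false
open Polynomial

namespace Groth.Agent.Lib.helper22.ReesVal

/-- nonarchimedean bound for finite sums -/
theorem norm_sum_le {R : Type*} [CommRing R] (N : R → ℝ) (hna : ∀ x y, N (x + y) ≤ max (N x) (N y))
    (h0 : N 0 = 0) {ι : Type*} (s : Finset ι) (t : ι → R) (B : ℝ) (hB : 0 ≤ B)
    (h : ∀ j ∈ s, N (t j) ≤ B) : N (∑ j ∈ s, t j) ≤ B := by
  classical
  induction s using Finset.induction_on with
  | empty => simpa [h0] using hB
  | insert a s ha ih =>
    rw [Finset.sum_insert ha]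
    refine (hna _ _).trans (max_le (h a (Finset.mem_insert_self _ _)) (ih ?_))
    intro j hj
    exact h j (Finset.mem_insert_of_mem hj)

/-- an element integral over the unit ball of a multiplicative nonarchimedean norm lies in it -/
theorem norm_le_one_of_root {R : Type*} [CommRing R] (N : R → ℝ)
    (hmul : ∀ x y, N (x * y) = N x * N y) (hna : ∀ x y, N (x + y) ≤ max (N x) (N y))
    (hnonneg : ∀ x, 0 ≤ N x) (h0 : N 0 = 0) (h1 : N 1 = 1) (hneg : ∀ x, N (-x) = N x)
    (g : R) (P : R[X]) (hP : P.Monic) (hcoeff : ∀ j, N (P.coeff j) ≤ 1) (hroot : P.eval g = 0) :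
    N g ≤ 1 := by
  by_contra hlt
  push Not at hlt
  have hpow : ∀ m : ℕ, N (g ^ m) = N g ^ m := by
    intro m
    induction m with
    | zero => simp [h1]
    | succ m ih => rw [pow_succ, hmul, ih, pow_succ]
  set n := P.natDegree with hn
  have hsum := hP.as_sum
  have hev : g ^ n + ∑ j ∈ Finset.range n, P.coeff j * g ^ j = 0 := by
    have := hroot
    rw [hsum] at this
    simpa [eval_finsetSum] using this
  have hn1 : 1 ≤ n := by
    by_contra hcon
    have hn0 : n = 0 := by omega
    rw [hn0] at hev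
    simp at hev
    have := h1
    rw [hev, h0] at this
    exact zero_ne_one this
  have hg : g ^ n = -∑ j ∈ Finset.range n, P.coeff j * g ^ j := by
    rw [eq_neg_iff_add_eq_zero]
    exact hev
  have hNg0 : 0 ≤ N g := hnonneg g
  have hbound : N (∑ j ∈ Finset.range n, P.coeff j * g ^ j) ≤ N g ^ (n - 1) := by
    apply norm_sum_le N hna h0 _ _ _ (pow_nonneg hNg0 _)
    intro j hj
    rw [Finset.mem_range] at hj
    rw [hmul, hpow]
    calc N (P.coeff j) * N g ^ j ≤ 1 * N g ^ j :=
          mul_le_mul_of_nonneg_right (hcoeff j) (pow_nonneg hNg0 _)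
      _ = N g ^ j := one_mul _
      _ ≤ N g ^ (n - 1) := pow_le_pow_right₀ hlt.le (by omega)
  have h2 : N g ^ n ≤ N g ^ (n - 1) := by
    rw [← hpow, hg, hneg]
    exact hbound
  have h3 : N g ^ (n - 1) < N g ^ n := by
    apply pow_lt_pow_right₀ hlt
    omega
  linarith

end Groth.Agent.Lib.helper22.ReesVal
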