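import Groth.Agent.Lib.Helper22.Rees1

set_option autoImplicit false
open Polynomial

namespace Groth.Agent.Lib.helper22.ReesVal

theorem isIntegrallyClosedIn_of_gaussNorm {A : Type*} [CommRing A] [IsDomain A] {ι : Type*}
    (abv : ι → AbsoluteValue A ℝ) (hna : ∀ i, IsNonarchimedean (abv i)) (c : ι → ℝ)
    (hc : ∀ i, 0 < c i) (S : Subalgebra A A[X])
    (hS : ∀ f, f ∈ S ↔ ∀ i, gaussNorm (abv i) (c i) f ≤ 1) : IsIntegrallyClosedIn S A[X] := by
  rw [isIntegrallyClosedIn_iff]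
  refine ⟨Subtype.val_injective, ?_⟩
  intro g hg
  obtain ⟨P, hP, hroot⟩ := hg
  refine ⟨⟨g, (hS g).mpr fun i => ?_⟩, rfl⟩
  have habs := gaussNorm_isAbsoluteValue (c := c i) (hna i) (hc i)
  apply norm_le_one_of_root (gaussNorm (abv i) (c i)) (gaussNorm_mul (hna i) (hc i))
    (isNonarchimedean_gaussNorm (abv i) (hna i) (hc i).le)
    (fun x => gaussNorm_nonneg (abv i) x (hc i).le) (gaussNorm_zero _ _)
    (by rw [← C_1, gaussNorm_C]; exact map_one _)
    (fun x => habs.abv_neg _ x) g (P.map (algebraMap S A[X])) (hP.map _)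
  · intro j
    rw [coeff_map]
    exact (hS _).mp (P.coeff j).2 i
  · rw [eval_map]
    exact hroot

end Groth.Agent.Lib.helper22.ReesVal
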