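import Groth.Agent.Lib.Helper22.Rees1

set_option autoImplicit false

namespace Groth.Agent.Lib.helper22.ReesVal

variable {A K : Type*} [CommRing A] [IsDomain A] [Field K] [Algebra A K] [IsFractionRing A K]
  (v : AddValuation K (WithTop ℤ)) (q : ℕ)

/-- the integer value of the valuation -/
noncomputable def mu (a : A) : ℤ := (v (algebraMap A K a)).untopD 0

theorem v_eq_mu {a : A} (ha : a ≠ 0) : v (algebraMap A K a) = (mu v a : WithTop ℤ) := by
  have hne : v (algebraMap A K a) ≠ ⊤ := by
    rw [Ne, AddValuation.top_iff]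
    exact (map_ne_zero_iff _ (IsFractionRing.injective A K)).mpr ha
  obtain ⟨m, hm⟩ := WithTop.ne_top_iff_exists.mp hne
  unfold mu
  rw [← hm]
  simp

theorem mu_mul {a b : A} (ha : a ≠ 0) (hb : b ≠ 0) : mu v (a * b) = mu v a + mu v b := by
  have h := v_eq_mu v (mul_ne_zero ha hb)
  rw [map_mul, AddValuation.map_mul, v_eq_mu v ha, v_eq_mu v hb, ← WithTop.coe_add] at h
  exact (WithTop.coe_injective h).symm

theorem min_mu_le {a b : A} (ha : a ≠ 0) (hb : b ≠ 0) (hab : a + b ≠ 0) :
    min (mu v a) (mu v b) ≤ mu v (a + b) := by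
  have h := AddValuation.map_add v (algebraMap A K a) (algebraMap A K b)
  rw [← map_add, v_eq_mu v ha, v_eq_mu v hb, v_eq_mu v hab, ← WithTop.coe_min] at h
  exact WithTop.coe_le_coe.mp h

open scoped Classical in
/-- the real absolute value `2 ^ (- q v)` -/
noncomputable def abvFun (a : A) : ℝ := if a = 0 then 0 else (2 : ℝ) ^ (-((q : ℤ) * mu v a))

theorem abvFun_zero : abvFun v q (0 : A) = 0 := by simp [abvFun]

theorem abvFun_of_ne {a : A} (ha : a ≠ 0) : abvFun v q a = (2 : ℝ) ^ (-((q : ℤ) * mu v a)) := by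
  simp [abvFun, ha]

theorem abvFun_nonneg (a : A) : 0 ≤ abvFun v q a := by
  unfold abvFun
  split_ifs
  · exact le_rfl
  · positivity

theorem abvFun_mul (a b : A) : abvFun v q (a * b) = abvFun v q a * abvFun v q b := by
  by_cases ha : a = 0
  · simp [ha, abvFun_zero]
  by_cases hb : b = 0
  · simp [hb, abvFun_zero]
  rw [abvFun_of_ne v q ha, abvFun_of_ne v q hb, abvFun_of_ne v q (mul_ne_zero ha hb), mu_mul v ha hb,
    ← zpow_add₀ (two_ne_zero)]
  congr 1
  ring

theorem abvFun_eq_zero (a : A) : abvFun v q a = 0 ↔ a = 0 := by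
  constructor
  · intro h
    by_contra ha
    rw [abvFun_of_ne v q ha] at h
    exact (zpow_ne_zero _ two_ne_zero) h
  · rintro rfl
    exact abvFun_zero v q

theorem abvFun_add_le_max (a b : A) :
    abvFun v q (a + b) ≤ max (abvFun v q a) (abvFun v q b) := by
  by_cases ha : a = 0
  · simp [ha]
  by_cases hb : b = 0
  · simp [hb]
  by_cases hab : a + b = 0
  · rw [hab, abvFun_zero]
    exact le_max_of_le_left (abvFun_nonneg v q a)
  have hmin := min_mu_le v ha hb hab
  rw [abvFun_of_ne v q ha, abvFun_of_ne v q hb, abvFun_of_ne v q hab]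
  have hq0 : (0 : ℤ) ≤ q := Int.natCast_nonneg q
  rcases le_total (mu v a) (mu v b) with h | h
  · rw [min_eq_left h] at hmin
    apply le_max_of_le_left
    apply zpow_le_zpow_right₀ (by norm_num : (1 : ℝ) ≤ 2)
    have := mul_le_mul_of_nonneg_left hmin hq0
    omega
  · rw [min_eq_right h] at hmin
    apply le_max_of_le_right
    apply zpow_le_zpow_right₀ (by norm_num : (1 : ℝ) ≤ 2)
    have := mul_le_mul_of_nonneg_left hmin hq0
    omega

/-- the absolute value attached to an additive valuation -/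
noncomputable def mkAbv : AbsoluteValue A ℝ where
  toFun := abvFun v q
  map_mul' := abvFun_mul v q
  nonneg' := abvFun_nonneg v q
  eq_zero' := abvFun_eq_zero v q
  add_le' a b := by
    refine (abvFun_add_le_max v q a b).trans ?_
    exact max_le (le_add_of_nonneg_right (abvFun_nonneg v q b))
      (le_add_of_nonneg_left (abvFun_nonneg v q a))

theorem mkAbv_apply (a : A) : mkAbv v q a = abvFun v q a := rfl

theorem mkAbv_nonarch : IsNonarchimedean (mkAbv (A := A) v q) := fun a b =>
  abvFun_add_le_max v q a b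

/-- the filtration condition in terms of the absolute value -/
theorem cond_iff (hq : 0 < q) (p k : ℕ) (a : A) :
    (((k * p : ℕ) : WithTop ℤ) ≤ (q : WithTop ℤ) * v (algebraMap A K a)) ↔
      mkAbv v q a * ((2 : ℝ) ^ p) ^ k ≤ 1 := by
  rw [mkAbv_apply]
  by_cases ha : a = 0
  · subst ha
    rw [abvFun_zero, zero_mul, map_zero, AddValuation.map_zero]
    have hq' : (q : WithTop ℤ) ≠ 0 := by
      rw [Ne, Nat.cast_eq_zero]
      omega
    rw [WithTop.mul_top hq']
    simp
  · rw [abvFun_of_ne v q ha, v_eq_mu v ha]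
    have e1 : ((k * p : ℕ) : WithTop ℤ) = (((k * p : ℕ) : ℤ) : WithTop ℤ) := by norm_cast
    have e2 : (q : WithTop ℤ) * (mu v a : WithTop ℤ) = (((q : ℤ) * mu v a : ℤ) : WithTop ℤ) := by
      norm_cast
    rw [e1, e2, WithTop.coe_le_coe]
    have e3 : (2 : ℝ) ^ (-((q : ℤ) * mu v a)) * ((2 : ℝ) ^ p) ^ k =
        (2 : ℝ) ^ (-((q : ℤ) * mu v a) + (p * k : ℕ)) := by
      rw [zpow_add₀ two_ne_zero, ← pow_mul, zpow_natCast]
    rw [e3, zpow_le_one_iff_right₀ (by norm_num : (1 : ℝ) < 2)]
    push_cast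
    constructor <;> intro h <;> nlinarith

end Groth.Agent.Lib.helper22.ReesVal
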