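import Groth.Agent.Lib.Helper22.Rees2
import Groth.Agent.Lib.Helper22.Rees3
import Groth.Prelude.Def_W4c2filtblowupsingRees

set_option autoImplicit false
open Polynomial

namespace Groth.Agent.Lib.helper22.ReesVal

universe u

theorem gaussNorm_le_one_iff {A : Type*} [CommRing A] (abv : AbsoluteValue A ℝ) (c : ℝ) (hc : 0 ≤ c)
    (f : A[X]) : gaussNorm abv c f ≤ 1 ↔ ∀ n, abv (f.coeff n) * c ^ n ≤ 1 := by
  constructor
  · intro h n
    exact (le_gaussNorm abv f hc n).trans h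
  · intro h
    obtain ⟨n, hn⟩ := exists_eq_gaussNorm abv c f
    rw [hn]
    exact h n

theorem main (A K : Type u) [CommRing A] [IsDomain A]
    [IsNoetherianRing A] [IsIntegrallyClosed A] [Field K] [Algebra A K] [IsFractionRing A K]
    (ι : Type) [Finite ι] (v : ι → AddValuation K (WithTop ℤ))
    (hv : ∀ (i : ι) (x : A), 0 ≤ v i (algebraMap A K x)) (p q : ι → ℕ) (hp : ∀ i, 0 < p i)
    (hq : ∀ i, 0 < q i) (𝓕 : FiltBl.IdealFiltration A)
    (hF : ∀ (k : ℕ) (x : A), x ∈ 𝓕.F k ↔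
      ∀ i, ((k * p i : ℕ) : WithTop ℤ) ≤ (q i : WithTop ℤ) * v i (algebraMap A K x)) :
    IsIntegrallyClosed 𝓕.rees := by
  have hS : ∀ f : A[X], f ∈ 𝓕.rees ↔
      ∀ i, gaussNorm (mkAbv (A := A) (v i) (q i)) ((2 : ℝ) ^ p i) f ≤ 1 := by
    intro f
    have h1 : f ∈ 𝓕.rees ↔ ∀ n, f.coeff n ∈ 𝓕.F n := Iff.rfl
    rw [h1]
    simp only [hF, gaussNorm_le_one_iff _ _ (pow_nonneg (by norm_num : (0 : ℝ) ≤ 2) _),
      cond_iff _ _ (hq _)]
    exact ⟨fun h i n => h n i, fun h n i => h i n⟩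
  have : IsIntegrallyClosedIn 𝓕.rees A[X] :=
    isIntegrallyClosedIn_of_gaussNorm (fun i => mkAbv (A := A) (v i) (q i))
      (fun i => mkAbv_nonarch (v i) (q i)) (fun i => (2 : ℝ) ^ p i) (fun i => by positivity)
      𝓕.rees hS
  exact IsIntegrallyClosed.of_isIntegrallyClosed_of_isIntegrallyClosedIn 𝓕.rees A[X]

end Groth.Agent.Lib.helper22.ReesVal
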