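import Mathlib
import Groth.Agent.Lib.Helper22.RegFlat2

set_option autoImplicit false
universe u

namespace Groth.Agent.Lib.Helper22.RegFlat

open MvPolynomial IsLocalRing

/-- powers of regular parameters behave like a regular sequence (element form). -/
theorem mem_span_pow_of_mul_mem_of_regular {k S : Type u} [Field k] [CommRing S]
    [IsRegularLocalRing S] [Algebra k S] {d : ℕ} (hd : (maximalIdeal S).spanFinrank = d)
    (u : Fin d → S) (hu : Ideal.span (Set.range u) = maximalIdeal S) (e : Fin d → ℕ) (i : Fin d)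
    (y : S) (h : u i ^ e i * y ∈ Ideal.span ((fun j => u j ^ e j) '' {j | j < i})) :
    y ∈ Ideal.span ((fun j => u j ^ e j) '' {j | j < i}) := by
  classical
  let _ : Algebra (MvPolynomial (Fin d) k) S := (aeval u : MvPolynomial (Fin d) k →ₐ[k] S).toAlgebra
  have hX : ∀ j, algebraMap (MvPolynomial (Fin d) k) S (X j) = u j := fun j => aeval_X u j
  have hflat : Module.Flat (MvPolynomial (Fin d) k) S := flat_of_regular_parameters hd u hu hX
  have h1 := isWeaklyRegular_X_pow (k := k) (d := d) e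
  have h2 := RingTheory.Sequence.IsWeaklyRegular.of_flat (S := S) h1
  rw [List.map_ofFn] at h2
  have h3 : (algebraMap (MvPolynomial (Fin d) k) S ∘ fun j => (X j : MvPolynomial (Fin d) k) ^ e j) =
      fun j => u j ^ e j := by
    funext j
    simp only [Function.comp_apply, map_pow, hX]
  rw [h3] at h2
  exact (isWeaklyRegular_ofFn_iff _).mp h2 i y h

/-- saturation of an ideal at a prime is killed into the ideal by a single element. -/
theorem exists_notMem_forall_mul_mem {Λ : Type u} [CommRing Λ] [IsNoetherianRing Λ] (𝔮 : Ideal Λ)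
    [𝔮.IsPrime] (J : Ideal Λ) :
    ∃ s' : Λ, s' ∉ 𝔮 ∧ ∀ x : Λ, algebraMap Λ (Localization.AtPrime 𝔮) x ∈
      J.map (algebraMap Λ (Localization.AtPrime 𝔮)) → s' * x ∈ J := by
  classical
  set I₂ : Ideal Λ := (J.map (algebraMap Λ (Localization.AtPrime 𝔮))).comap
    (algebraMap Λ (Localization.AtPrime 𝔮)) with hI₂
  have hfg : I₂.FG := IsNoetherian.noetherian I₂
  obtain ⟨G, hG⟩ := hfg
  have key : ∀ g : Λ, algebraMap Λ (Localization.AtPrime 𝔮) g ∈
      J.map (algebraMap Λ (Localization.AtPrime 𝔮)) → ∃ s : Λ, s ∉ 𝔮 ∧ s * g ∈ J := by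
    intro g hg
    obtain ⟨⟨j, s⟩, hjs⟩ := (IsLocalization.mem_map_algebraMap_iff 𝔮.primeCompl
      (Localization.AtPrime 𝔮)).mp hg
    rw [← map_mul] at hjs
    obtain ⟨s'', hs''⟩ := (IsLocalization.eq_iff_exists 𝔮.primeCompl (Localization.AtPrime 𝔮)).mp hjs
    refine ⟨s'' * s, 𝔮.primeCompl.mul_mem s''.2 s.2, ?_⟩
    have : (s'' : Λ) * s * g = s'' * (j : Λ) := by
      rw [← hs'']; ring
    rw [this]
    exact Ideal.mul_mem_left _ _ j.2
  have hGmem : ∀ g ∈ G, ∃ s : Λ, s ∉ 𝔮 ∧ s * g ∈ J := by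
    intro g hg
    apply key
    have : g ∈ I₂ := by rw [← hG]; exact Ideal.subset_span hg
    exact this
  choose! sg hsg using hGmem
  refine ⟨∏ g ∈ G, sg g, ?_, ?_⟩
  · intro hmem
    obtain ⟨g, hg, hgq⟩ := (Ideal.IsPrime.prod_mem_iff).mp hmem
    exact (hsg g hg).1 hgq
  · intro x hx
    have hx' : x ∈ I₂ := hx
    rw [← hG] at hx'
    refine Submodule.span_induction (p := fun x _ => (∏ g ∈ G, sg g) * x ∈ J) ?_ ?_ ?_ ?_ hx'
    · intro g hg
      obtain ⟨w, hw⟩ := Finset.dvd_prod_of_mem sg hg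
      rw [hw, mul_comm (sg g) w, mul_assoc]
      exact Ideal.mul_mem_left _ _ (hsg g hg).2
    · simp
    · intro x y _ _ hx hy
      rw [mul_add]
      exact Ideal.add_mem _ hx hy
    · intro a x _ hx
      rw [smul_eq_mul, mul_left_comm]
      exact Ideal.mul_mem_left _ _ hx

end Groth.Agent.Lib.Helper22.RegFlat
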