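import Mathlib
import Groth.Agent.Lib.Helper22.RegFlat3

set_option autoImplicit false
universe u

namespace Groth.Agent.Lib.Helper22.RegFlat

open MvPolynomial IsLocalRing

section

variable {Λ : Type u} [CommRing Λ] (𝔮 : Ideal Λ) [𝔮.IsPrime]

local notation "Λq" => Localization.AtPrime 𝔮

/-- unit multiples of generators still generate. -/
theorem span_range_map_mul_eq {d : ℕ} (τ s : Fin d → Λ) (hs : ∀ i, s i ∉ 𝔮) :
    Ideal.span (Set.range fun i => algebraMap Λ Λq (s i * τ i)) =
      Ideal.span (Set.range fun i => algebraMap Λ Λq (τ i)) := by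
  have hunit : ∀ i, IsUnit (algebraMap Λ Λq (s i)) := fun i =>
    IsLocalization.map_units Λq (⟨s i, hs i⟩ : 𝔮.primeCompl)
  apply le_antisymm
  · rw [Ideal.span_le]
    rintro _ ⟨i, rfl⟩
    change algebraMap Λ Λq (s i * τ i) ∈ _
    rw [map_mul]
    exact Ideal.mul_mem_left _ _ (Ideal.subset_span ⟨i, rfl⟩)
  · rw [Ideal.span_le]
    rintro _ ⟨i, rfl⟩
    obtain ⟨w, hw⟩ := hunit i
    have : algebraMap Λ Λq (τ i) = (w⁻¹ : (Λq)ˣ) * algebraMap Λ Λq (s i * τ i) := by
      rw [map_mul, ← hw, ← mul_assoc, Units.inv_mul, one_mul]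
    change algebraMap Λ Λq (τ i) ∈ _
    rw [this]
    exact Ideal.mul_mem_left _ _ (Ideal.subset_span ⟨i, rfl⟩)

end

section main

variable {k Λ : Type u} [Field k] [CommRing Λ] [Algebra k Λ] [IsNoetherianRing Λ] (𝔮 : Ideal Λ)
  [𝔮.IsPrime] [IsRegularLocalRing (Localization.AtPrime 𝔮)]

local notation "Λq" => Localization.AtPrime 𝔮

/-- the ideal `J_i` of eighth powers of the previous `t_j ^ c`. -/
def Jid {d : ℕ} (c : ℕ) (t : Fin d → Λ) (i : Fin d) : Ideal Λ :=
  Ideal.span ((fun j => (t j ^ c) ^ 8) '' {j | j < i})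

include k in
/-- the key step: after multiplying `t i₀` by a suitable `s'`, the annihilator condition holds. -/
theorem exists_step {d : ℕ} (hd : (maximalIdeal Λq).spanFinrank = d) (c : ℕ) (hc : 0 < c)
    (t : Fin d → Λ)
    (hgen : Ideal.span (Set.range fun i => algebraMap Λ Λq (t i)) = maximalIdeal Λq)
    (i₀ : Fin d) :
    ∃ s' : Λ, s' ∉ 𝔮 ∧ ∀ x : Λ, ((s' * t i₀) ^ c) ^ 2 * x ∈ Jid c t i₀ →
      (s' * t i₀) ^ c * x ∈ Jid c t i₀ := by
  classical
  obtain ⟨s', hs', hsat⟩ := exists_notMem_forall_mul_mem 𝔮 (Jid c t i₀)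
  refine ⟨s', hs', fun x hx => ?_⟩
  -- the modified parameters
  let t' : Fin d → Λ := Function.update t i₀ (s' * t i₀)
  let sv : Fin d → Λ := Function.update (fun _ => (1 : Λ)) i₀ s'
  have ht' : ∀ i, t' i = sv i * t i := by
    intro i
    by_cases hi : i = i₀
    · subst hi; simp [t', sv]
    · simp [t', sv, Function.update_of_ne hi]
  have hsv : ∀ i, sv i ∉ 𝔮 := by
    intro i
    by_cases hi : i = i₀
    · subst hi; simpa [sv] using hs'
    · simp only [sv, Function.update_of_ne hi]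
      exact fun h => (Ideal.IsPrime.ne_top inferInstance) ((Ideal.eq_top_iff_one 𝔮).mpr h)
  let u : Fin d → Λq := fun i => algebraMap Λ Λq (t' i)
  have hu : Ideal.span (Set.range u) = maximalIdeal Λq := by
    rw [← hgen]
    have := span_range_map_mul_eq 𝔮 t sv hsv
    rw [← this]
    congr 2
    funext i
    simp only [u, ht']
  let e : Fin d → ℕ := fun j => if j < i₀ then c * 8 else if j = i₀ then c * 2 else 1
  have hJmap : (Jid c t i₀).map (algebraMap Λ Λq) =
      Ideal.span ((fun j => u j ^ e j) '' {j | j < i₀}) := by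
    rw [Jid, Ideal.map_span, ← Set.image_comp]
    congr 1
    refine Set.image_congr fun j hj => ?_
    have hj' : j < i₀ := hj
    have hne : j ≠ i₀ := ne_of_lt hj'
    simp only [Function.comp_apply, u, e, if_pos hj', t', Function.update_of_ne hne, map_pow,
      pow_mul]
  have hmem : u i₀ ^ e i₀ * algebraMap Λ Λq x ∈ Ideal.span ((fun j => u j ^ e j) '' {j | j < i₀}) := by
    rw [← hJmap]
    have h1 := Ideal.mem_map_of_mem (algebraMap Λ Λq) hx
    have h2 : u i₀ ^ e i₀ * algebraMap Λ Λq x = algebraMap Λ Λq (((s' * t i₀) ^ c) ^ 2 * x) := by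
      simp only [u, e, lt_irrefl, if_false, if_true, t', Function.update_self, map_mul, map_pow,
        pow_mul]
    rw [h2]
    exact h1
  have h3 := mem_span_pow_of_mul_mem_of_regular (k := k) hd u hu e i₀ _ hmem
  rw [← hJmap] at h3
  have h4 := hsat x h3
  obtain ⟨c', rfl⟩ : ∃ c', c = c' + 1 := ⟨c - 1, by omega⟩
  have : (s' * t i₀) ^ (c' + 1) * x = (s' ^ c' * t i₀ ^ (c' + 1)) * (s' * x) := by ring
  rw [this]
  exact Ideal.mul_mem_left _ _ h4

end main

end Groth.Agent.Lib.Helper22.RegFlat
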