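import Mathlib
import Groth.Agent.Lib.Helper22.RegFlat4

set_option autoImplicit false
universe u

namespace Groth.Agent.Lib.Helper22.RegFlat

open MvPolynomial IsLocalRing

section main

variable {k Λ : Type u} [Field k] [CommRing Λ] [Algebra k Λ] [IsNoetherianRing Λ] (𝔮 : Ideal Λ)
  [𝔮.IsPrime] [IsRegularLocalRing (Localization.AtPrime 𝔮)]

local notation "Λq" => Localization.AtPrime 𝔮

omit [IsNoetherianRing Λ] in
theorem Jid_update {d : ℕ} (c : ℕ) (t : Fin d → Λ) (i₀ i : Fin d) (hi : i ≤ i₀) (z : Λ) :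
    Jid c (Function.update t i₀ z) i = Jid c t i := by
  classical
  unfold Jid
  congr 1
  refine Set.image_congr fun j hj => ?_
  have hj' : j < i := hj
  have hne : j ≠ i₀ := ne_of_lt (lt_of_lt_of_le hj' hi)
  simp only [Function.update_of_ne hne]

include k in
theorem exists_parameters {d : ℕ} (hd : (maximalIdeal Λq).spanFinrank = d) (H' : Ideal Λ) (n : ℕ)
    (hn : 0 < n) (hH : ∀ x ∈ 𝔮, ∃ s : Λ, s ∉ 𝔮 ∧ s * x ^ n ∈ H') (c : ℕ) (hc : 0 < c) :
    ∃ t : Fin d → Λ, (∀ i, t i ∈ 𝔮) ∧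
      Ideal.span (Set.range fun i => algebraMap Λ Λq (t i)) = maximalIdeal Λq ∧
      (∀ i, t i ^ n ∈ H') ∧
      ∀ (i : Fin d) (x : Λ), (t i ^ c) ^ 2 * x ∈ Jid c t i → t i ^ c * x ∈ Jid c t i := by
  classical
  -- generators of the maximal ideal
  obtain ⟨d', x, hd', hx, -⟩ := Groth.Agent.Lib.helper17.Miracle.exists_generators Λq
  obtain rfl : d = d' := hd.symm.trans hd'
  have hlift : ∀ i, ∃ (τ : Λ) (s : Λ), s ∉ 𝔮 ∧ x i * algebraMap Λ Λq s = algebraMap Λ Λq τ := by
    intro i
    obtain ⟨⟨τ, s⟩, h⟩ := IsLocalization.surj 𝔮.primeCompl (x i)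
    exact ⟨τ, s, s.2, h⟩
  choose τ s₀ hs₀ hτ using hlift
  have hτgen : Ideal.span (Set.range fun i => algebraMap Λ Λq (τ i)) = maximalIdeal Λq := by
    rw [← hx]
    have hunit : ∀ i, IsUnit (algebraMap Λ Λq (s₀ i)) := fun i =>
      IsLocalization.map_units Λq (⟨s₀ i, hs₀ i⟩ : 𝔮.primeCompl)
    apply le_antisymm
    · rw [Ideal.span_le]
      rintro _ ⟨i, rfl⟩
      change algebraMap Λ Λq (τ i) ∈ _
      rw [← hτ i]
      exact Ideal.mul_mem_right _ _ (Ideal.subset_span ⟨i, rfl⟩)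
    · rw [Ideal.span_le]
      rintro _ ⟨i, rfl⟩
      obtain ⟨w, hw⟩ := hunit i
      have : x i = algebraMap Λ Λq (τ i) * (w⁻¹ : (Λq)ˣ) := by
        rw [← hτ i, ← hw, mul_assoc, Units.mul_inv, mul_one]
      rw [this]
      exact Ideal.mul_mem_right _ _ (Ideal.subset_span ⟨i, rfl⟩)
  have hτ𝔮 : ∀ i, τ i ∈ 𝔮 := by
    intro i
    rw [← IsLocalization.AtPrime.to_map_mem_maximal_iff Λq 𝔮, ← hτgen]
    exact Ideal.subset_span ⟨i, rfl⟩
  -- good families
  let Good : (Fin d → Λ) → Prop := fun t =>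
    (∀ i, ∃ s : Λ, s ∉ 𝔮 ∧ t i = s * τ i) ∧ (∀ i, t i ^ n ∈ H')
  have hGood_mem : ∀ t, Good t → ∀ i, t i ∈ 𝔮 := by
    intro t ht i
    obtain ⟨s, -, hs⟩ := ht.1 i
    rw [hs]
    exact Ideal.mul_mem_left _ _ (hτ𝔮 i)
  have hGood_gen : ∀ t, Good t →
      Ideal.span (Set.range fun i => algebraMap Λ Λq (t i)) = maximalIdeal Λq := by
    intro t ht
    choose sv hsv hsvt using ht.1
    rw [← hτgen, ← span_range_map_mul_eq 𝔮 τ sv hsv]
    congr 2
    funext i
    rw [hsvt i]
  have claim : ∀ m : ℕ, ∃ t : Fin d → Λ, Good t ∧ ∀ i : Fin d, (i : ℕ) < m →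
      ∀ x : Λ, (t i ^ c) ^ 2 * x ∈ Jid c t i → t i ^ c * x ∈ Jid c t i := by
    intro m
    induction m with
    | zero =>
      have h0 : ∀ i, ∃ s : Λ, s ∉ 𝔮 ∧ s * τ i ^ n ∈ H' := fun i => hH (τ i) (hτ𝔮 i)
      choose s hs hsH using h0
      refine ⟨fun i => s i * τ i, ⟨fun i => ⟨s i, hs i, rfl⟩, fun i => ?_⟩, fun i hi => ?_⟩
      · obtain ⟨n', rfl⟩ : ∃ n', n = n' + 1 := ⟨n - 1, by omega⟩
        have : (s i * τ i) ^ (n' + 1) = s i ^ n' * (s i * τ i ^ (n' + 1)) := by ring
        rw [this]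
        exact Ideal.mul_mem_left _ _ (hsH i)
      · exact absurd hi (Nat.not_lt_zero _)
    | succ m ih =>
      obtain ⟨t, htG, htD⟩ := ih
      by_cases hm : m < d
      · let i₀ : Fin d := ⟨m, hm⟩
        obtain ⟨s', hs', hstep⟩ := exists_step (k := k) 𝔮 hd c hc t (hGood_gen t htG) i₀
        refine ⟨Function.update t i₀ (s' * t i₀), ⟨fun i => ?_, fun i => ?_⟩, fun i hi x hx => ?_⟩
        · by_cases hi : i = i₀
          · subst hi
            obtain ⟨s, hs, hst⟩ := htG.1 i₀
            refine ⟨s' * s, fun h => ?_, ?_⟩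
            · rcases (Ideal.IsPrime.mem_or_mem inferInstance h) with h | h
              · exact hs' h
              · exact hs h
            · rw [Function.update_self, mul_assoc, ← hst]
          · rw [Function.update_of_ne hi]
            exact htG.1 i
        · by_cases hi : i = i₀
          · subst hi
            rw [Function.update_self, mul_pow]
            exact Ideal.mul_mem_left _ _ (htG.2 i₀)
          · rw [Function.update_of_ne hi]
            exact htG.2 i
        · have hile : i ≤ i₀ := by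
            rw [Fin.le_def]
            change (i : ℕ) ≤ m
            omega
          rw [Jid_update c t i₀ i hile] at hx ⊢
          by_cases hi' : i = i₀
          · subst hi'
            rw [Function.update_self] at hx ⊢
            exact hstep x hx
          · rw [Function.update_of_ne hi'] at hx ⊢
            have : (i : ℕ) < m := by
              have h1 : (i : ℕ) ≠ m := fun h => hi' (Fin.ext h)
              omega
            exact htD i this x hx
      · refine ⟨t, htG, fun i hi => htD i ?_⟩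
        have := i.2
        omega
  obtain ⟨t, htG, htD⟩ := claim d
  exact ⟨t, hGood_mem t htG, hGood_gen t htG, htG.2, fun i => htD i i.2⟩

end main

end Groth.Agent.Lib.Helper22.RegFlat
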