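import Mathlib
import Groth.Prelude.Def_Smoothing
import Groth.Agent.S6822
import Groth.Agent.Lib.Helper22.RegFlat5
import Groth.Agent.Lib.Helper22.IndSm6
import Groth.Agent.Lib.Helper22.SSPow5
import Groth.Agent.Lib.Helper22.RegSep2

set_option autoImplicit false
universe u

namespace Groth.Agent.Lib.Helper22.RegSep

open MvPolynomial IsLocalRing TensorProduct

theorem range_subtype_lt {M : Type*} {r : ℕ} (f : Fin r → M) (i : Fin r) :
    Set.range (fun j : {j : Fin r // (j : ℕ) < (i : ℕ)} => f j) = f '' {j | j < i} := by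
  ext y
  constructor
  · rintro ⟨⟨j, hj⟩, rfl⟩
    exact ⟨j, hj, rfl⟩
  · rintro ⟨j, hj, rfl⟩
    exact ⟨⟨j, hj⟩, rfl⟩

set_option maxHeartbeats 1600000 in
theorem core {k Cr Λ : Type u} [Field k] [CommRing Λ] [Algebra k Λ]
    (𝔮 : Ideal Λ) [𝔮.IsPrime]
    [IsRegularLocalRing (Localization.AtPrime 𝔮)] [Algebra.IsGeometricallyReduced k 𝔮.ResidueField]
    {d : ℕ} (hd : (maximalIdeal (Localization.AtPrime 𝔮)).spanFinrank = d)
    [Algebra (MvPolynomial (Fin d) k) Λ] [IsScalarTower k (MvPolynomial (Fin d) k) Λ]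
    (hgen : Ideal.span (Set.range fun i => algebraMap Λ (Localization.AtPrime 𝔮)
      (algebraMap (MvPolynomial (Fin d) k) Λ (X i))) = maximalIdeal (Localization.AtPrime 𝔮))
    (h𝔮 : ∀ i, algebraMap (MvPolynomial (Fin d) k) Λ (X i) ∈ 𝔮)
    [CommRing Cr] [Algebra (MvPolynomial (Fin d) k) Cr]
    [Algebra.FinitePresentation (MvPolynomial (Fin d) k) Cr]
    (ψ : Cr →ₐ[MvPolynomial (Fin d) k] Λ) (c : ℕ) (hc : 0 < c)
    (hstd : ∀ i, Smoothing.IsStrictlyStandard (MvPolynomial (Fin d) k) Cr
      (algebraMap (MvPolynomial (Fin d) k) Cr (X i) ^ c))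
    (hann : ∀ (i : Fin d) (x : Λ),
      (algebraMap (MvPolynomial (Fin d) k) Λ (X i) ^ c) ^ 2 * x ∈
        RegFlat.Jid c (fun j => algebraMap (MvPolynomial (Fin d) k) Λ (X j)) i →
      algebraMap (MvPolynomial (Fin d) k) Λ (X i) ^ c * x ∈
        RegFlat.Jid c (fun j => algebraMap (MvPolynomial (Fin d) k) Λ (X j)) i) :
    Smoothing.Resolvable (MvPolynomial (Fin d) k) ψ 𝔮 := by
  classical
  rcases Nat.eq_zero_or_pos d with h0 | hpos
  · subst h0
    set K : Ideal (MvPolynomial (Fin 0) k) :=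
      Ideal.span (Set.range fun _ : Fin 1 => (0 : MvPolynomial (Fin 0) k) ^ 8) with hK
    refine Groth.Agent.S6822.result ψ 𝔮 (r := 1) one_pos (fun _ => (0 : MvPolynomial (Fin 0) k))
      ?_ ?_ ?_ ?_ K hK (quotMapBar K ψ) (quotMapBar_mk K ψ) ?_
    · intro i; rw [map_zero]; exact zero_mem _
    · intro i x _; rw [map_zero, zero_mul]
    · intro i x _
      have h1 : Ideal.Quotient.mk (Ideal.span (Set.range
          fun j : {j : Fin 1 // (j : ℕ) < (i : ℕ)} =>
            algebraMap (MvPolynomial (Fin 0) k) Λ ((fun _ => (0 : MvPolynomial (Fin 0) k)) j) ^ 8))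
          (algebraMap (MvPolynomial (Fin 0) k) Λ 0) = 0 := by
        rw [Ideal.Quotient.eq_zero_iff_mem, map_zero]
        exact zero_mem _
      rw [h1, zero_mul]
    · intro i; rw [map_zero]; exact SSPow.isStrictlyStandard_zero
    · haveI := finitePresentation_quot (A := Cr) K
      have hK' : K = Ideal.span (Set.range fun i => (X i : MvPolynomial (Fin 0) k) ^ 1) := by
        rw [hK]
        simp
      exact IndSm.resolvable_mod_powers 𝔮 hd hgen 1 one_pos K hK' _
  · set K : Ideal (MvPolynomial (Fin d) k) :=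
      Ideal.span (Set.range fun i => ((X i : MvPolynomial (Fin d) k) ^ c) ^ 8) with hK
    refine Groth.Agent.S6822.result ψ 𝔮 hpos (fun i => (X i : MvPolynomial (Fin d) k) ^ c)
      ?_ ?_ ?_ ?_ K hK (quotMapBar K ψ) (quotMapBar_mk K ψ) ?_
    · intro i
      rw [map_pow]
      exact Ideal.pow_mem_of_mem _ (h𝔮 i) c hc
    · intro i x hx
      obtain ⟨y, rfl⟩ := Ideal.Quotient.mk_surjective x
      rw [← map_pow, ← map_mul, Ideal.Quotient.eq_zero_iff_mem] at hx
      rw [← map_mul, Ideal.Quotient.eq_zero_iff_mem]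
      have himg : (Set.range fun j : {j : Fin d // (j : ℕ) < (i : ℕ)} =>
          (fun i => (X i : MvPolynomial (Fin d) k) ^ c) j ^ 8) =
          (fun j => (X j : MvPolynomial (Fin d) k) ^ ((fun _ => c * 8) j)) '' {j | j < i} := by
        rw [← range_subtype_lt]
        simp only [pow_mul]
      rw [himg] at hx ⊢
      have hx' : (X i : MvPolynomial (Fin d) k) ^ (c * 2) * y ∈ Ideal.span
          ((fun j => (X j : MvPolynomial (Fin d) k) ^ ((fun _ => c * 8) j)) '' {j | j < i}) := by
        rwa [pow_mul]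
      exact Ideal.mul_mem_left _ _ (RegFlat.mem_span_pow_of_mul_mem (fun _ => c * 8) i (c * 2) y hx')
    · intro i x hx
      obtain ⟨y, rfl⟩ := Ideal.Quotient.mk_surjective x
      rw [← map_pow, ← map_mul, Ideal.Quotient.eq_zero_iff_mem] at hx
      rw [← map_mul, Ideal.Quotient.eq_zero_iff_mem]
      have hJ : Ideal.span (Set.range fun j : {j : Fin d // (j : ℕ) < (i : ℕ)} =>
          algebraMap (MvPolynomial (Fin d) k) Λ
            ((fun i => (X i : MvPolynomial (Fin d) k) ^ c) j) ^ 8) =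
          RegFlat.Jid c (fun j => algebraMap (MvPolynomial (Fin d) k) Λ (X j)) i := by
        unfold RegFlat.Jid
        rw [← range_subtype_lt]
        simp only [map_pow]
      rw [hJ] at hx ⊢
      rw [map_pow] at hx ⊢
      exact hann i y hx
    · intro i
      rw [map_pow]
      exact hstd i
    · haveI := finitePresentation_quot (A := Cr) K
      have hK' : K = Ideal.span (Set.range fun i => (X i : MvPolynomial (Fin d) k) ^ (c * 8)) := by
        rw [hK]
        simp only [pow_mul]
      exact IndSm.resolvable_mod_powers 𝔮 hd hgen (c * 8) (by positivity) K hK' _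

end Groth.Agent.Lib.Helper22.RegSep
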