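import Mathlib
import Groth.Prelude.Def_Smoothing
import Groth.Agent.Lib.Helper22.SepB4
import Groth.Agent.Lib.Helper22.RegSep1
import Groth.Agent.Lib.Helper22.RegSep3

set_option autoImplicit false
universe u

namespace Groth.Agent.Lib.Helper22.RegSep

open MvPolynomial IsLocalRing TensorProduct

section

variable {k A Λ : Type u} [Field k] [CommRing A]
    [Algebra k A] [Algebra.FinitePresentation k A] [CommRing Λ] [Algebra k Λ] [IsNoetherianRing Λ]
    (φ : A →ₐ[k] Λ) (𝔮 : Ideal Λ) [𝔮.IsPrime]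
    [IsRegularLocalRing (Localization.AtPrime 𝔮)]
    [Algebra.IsGeometricallyReduced k 𝔮.ResidueField] {d : ℕ}

local notation "Rd" => MvPolynomial (Fin d) k

set_option maxHeartbeats 1600000 in
theorem main_aux (hmin : 𝔮 ∈ (Smoothing.singRad k φ).minimalPrimes)
    (hd : (maximalIdeal (Localization.AtPrime 𝔮)).spanFinrank = d) :
    Smoothing.Resolvable k φ 𝔮 := by
  classical
  set H := Smoothing.singularIdeal k A with hH
  set H' := H.map φ with hH'
  have hmin' : 𝔮 ∈ H'.minimalPrimes := by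
    have : Smoothing.singRad k φ = H'.radical := rfl
    rw [this, Ideal.radical_minimalPrimes] at hmin
    exact hmin
  obtain ⟨n, hn, hpow⟩ := exists_pow_data H' 𝔮 hmin'
  -- generators of H
  haveI : IsNoetherianRing A := Algebra.FiniteType.isNoetherianRing k A
  obtain ⟨r, a', ha'⟩ :=
    Submodule.fg_iff_exists_fin_generating_family.mp (IsNoetherian.noetherian H)
  have ha'mem : ∀ j, a' j ∈ H := fun j => by
    rw [← ha']
    exact Submodule.subset_span ⟨j, rfl⟩
  let aT : Fin r → Rd ⊗[k] A := fun j => (1 : Rd) ⊗ₜ[k] a' j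
  have hsmT : ∀ j, Algebra.Smooth Rd (Localization.Away (aT j)) := fun j =>
    smooth_localizationAway_tmul (a' j) (ha'mem j)
  obtain ⟨Cr, instCr, algCr, hfpCr, ι, hstd₀, hsing, hlift⟩ :=
    SepB.exists_package (R := Rd) (T := Rd ⊗[k] A) (x := fun i => (X i : Rd)) n aT hsmT
  choose e₀ he₀ using hstd₀
  set c := 1 + ∑ i, e₀ i with hc
  have hcpos : 0 < c := by omega
  have hec : ∀ i, e₀ i ≤ c := fun i =>
    le_trans (Finset.single_le_sum (fun _ _ => Nat.zero_le _) (Finset.mem_univ i))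
      (Nat.le_add_left _ _)
  obtain ⟨t, ht𝔮, htgen, htn, htann⟩ :=
    RegFlat.exists_parameters (k := k) 𝔮 hd H' n hn hpow c hcpos
  letI algRΛ : Algebra Rd Λ := (aeval t : Rd →ₐ[k] Λ).toRingHom.toAlgebra
  haveI : IsScalarTower k Rd Λ :=
    IsScalarTower.of_algebraMap_eq fun x => ((aeval t : Rd →ₐ[k] Λ).commutes x).symm
  have halg : ∀ i, algebraMap Rd Λ (X i) = t i := fun i => aeval_X t i
  have halg' : (fun j => algebraMap Rd Λ (X j)) = t := funext halg
  let θ : Rd ⊗[k] A →ₐ[Rd] Λ :=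
    Algebra.TensorProduct.lift (Algebra.ofId Rd Λ) φ (fun _ _ => Commute.all _ _)
  have hθ : ∀ a, θ ((1 : Rd) ⊗ₜ[k] a) = φ a := by
    intro a
    simp [θ]
  have hH'span : H' = Ideal.span (Set.range fun j => θ (aT j)) := by
    have h1 : (fun j => θ (aT j)) = φ ∘ a' := funext fun j => hθ (a' j)
    rw [h1, Set.range_comp, ← Ideal.map_span, hH']
    congr 1
    exact ha'.symm
  obtain ⟨ψ, hψ⟩ := hlift Λ θ (fun i => by
    change algebraMap Rd Λ (X i) ^ n ∈ _
    rw [halg, ← hH'span]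
    exact htn i)
  have hcore : Smoothing.Resolvable Rd ψ 𝔮 := by
    refine core 𝔮 hd ?_ ?_ ψ c hcpos (fun i => he₀ i c (hec i)) ?_
    · simp only [halg]
      exact htgen
    · intro i
      rw [halg]
      exact ht𝔮 i
    · rw [halg']
      intro i x hx
      rw [halg] at hx ⊢
      exact htann i x hx
  -- descent
  letI : Algebra k Cr := Algebra.compHom Cr (algebraMap k Rd)
  haveI : IsScalarTower k Rd Cr := IsScalarTower.of_algebraMap_eq fun _ => rfl
  let γ : A →ₐ[k] Cr :=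
    (ι.restrictScalars k).comp (Algebra.TensorProduct.includeRight : A →ₐ[k] Rd ⊗[k] A)
  refine resolvable_of_resolvable_over φ ψ γ ?_ 𝔮 ?_ hcore
  · intro a
    change ψ (ι ((1 : Rd) ⊗ₜ[k] a)) = φ a
    rw [hψ, hθ]
  · rw [← hH', hH'span, Ideal.span_le]
    rintro _ ⟨j, rfl⟩
    change θ (aT j) ∈ _
    rw [← hψ]
    exact Ideal.le_radical (Ideal.mem_map_of_mem ψ (hsing j))

end

theorem main {k A Λ : Type u} [Field k] [CommRing A]
    [Algebra k A] [Algebra.FinitePresentation k A] [CommRing Λ] [Algebra k Λ] [IsNoetherianRing Λ]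
    (φ : A →ₐ[k] Λ) (𝔮 : Ideal Λ) [𝔮.IsPrime] (hmin : 𝔮 ∈ (Smoothing.singRad k φ).minimalPrimes)
    [IsRegularLocalRing (Localization.AtPrime 𝔮)]
    [Algebra.IsGeometricallyReduced k 𝔮.ResidueField] : Smoothing.Resolvable k φ 𝔮 :=
  main_aux φ 𝔮 hmin rfl

end Groth.Agent.Lib.Helper22.RegSep
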