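import Mathlib
import Groth.Prelude.Def_ConstGrp

/-!
# Self-duality of the constant group `ℤ/n` (helper22)
-/

set_option autoImplicit false
universe u
open scoped TensorProduct

namespace Groth.Agent.Lib.helper22.SelfDualZn

variable (k : Type u) [Field k] (n : ℕ) [NeZero n]

local notation "Zn" => Multiplicative (ZMod n)

/-- evaluation functional `ev_b ⊗ ev_c` on `F ⊗ F` -/
noncomputable def ev2 (b c : Zn) : ConstGrp.F k Zn ⊗[k] ConstGrp.F k Zn →ₗ[k] k :=
  LinearMap.mul' k k ∘ₗ TensorProduct.map (ConstGrp.ev k b).toLinearMap (ConstGrp.ev k c).toLinearMap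

theorem ev2_tmul (b c : Zn) (f f' : ConstGrp.F k Zn) : ev2 k n b c (f ⊗ₜ[k] f') = f b * f' c := rfl

theorem ev2_comul (b c : Zn) (f : ConstGrp.F k Zn) :
    ev2 k n b c (Coalgebra.comul (R := k) f) = f (b * c) := by
  classical
  rw [ConstGrp.comul_eq_sum, map_sum]
  simp only [map_sum, map_smul, ev2_tmul, smul_eq_mul]
  rw [Finset.sum_eq_single b]
  · rw [Finset.sum_eq_single c]
    · rw [ConstGrp.e_apply_self, ConstGrp.e_apply_self, mul_one, mul_one]
    · intro c' _ hc'
      rw [ConstGrp.e_apply_of_ne (Ne.symm hc'), mul_zero, mul_zero]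
    · intro h; exact absurd (Finset.mem_univ _) h
  · intro b' _ hb'
    refine Finset.sum_eq_zero (fun c' _ => ?_)
    rw [ConstGrp.e_apply_of_ne (Ne.symm hb'), zero_mul, mul_zero]
  · intro h; exact absurd (Finset.mem_univ _) h

/-- elements of `F ⊗ F` are detected by the functionals `ev2` -/
theorem eq_of_ev2 {t t' : ConstGrp.F k Zn ⊗[k] ConstGrp.F k Zn}
    (h : ∀ b c, ev2 k n b c t = ev2 k n b c t') : t = t' := by
  classical
  have key : ∀ t : ConstGrp.F k Zn ⊗[k] ConstGrp.F k Zn,
      t = ∑ b : Zn, ∑ c : Zn, ev2 k n b c t • (ConstGrp.e k b ⊗ₜ[k] ConstGrp.e k c) := by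
    intro t
    induction t using TensorProduct.induction_on with
    | zero => simp
    | tmul f f' =>
      conv_lhs => rw [ConstGrp.eq_sum_smul_e f, ConstGrp.eq_sum_smul_e f']
      rw [TensorProduct.sum_tmul]
      refine Finset.sum_congr rfl (fun b _ => ?_)
      rw [TensorProduct.tmul_sum]
      refine Finset.sum_congr rfl (fun c _ => ?_)
      rw [ev2_tmul, TensorProduct.smul_tmul_smul]
    | add x y hx hy =>
      conv_lhs => rw [hx, hy]
      rw [← Finset.sum_add_distrib]
      refine Finset.sum_congr rfl (fun b _ => ?_)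
      rw [← Finset.sum_add_distrib]
      refine Finset.sum_congr rfl (fun c _ => ?_)
      rw [map_add, add_smul]
  rw [key t, key t']
  refine Finset.sum_congr rfl (fun b _ => Finset.sum_congr rfl (fun c _ => ?_))
  rw [h b c]

/-- forward direction: a bialgebra isomorphism yields a primitive root of unity -/
theorem exists_primitiveRoot
    (e : ConstGrp.F k Zn ≃ₐc[k] MonoidAlgebra k Zn) : ∃ ζ : k, IsPrimitiveRoot ζ n := by
  classical
  set g : MonoidAlgebra k Zn := MonoidAlgebra.single (Multiplicative.ofAdd (1 : ZMod n)) 1 with hg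
  set χ : ConstGrp.F k Zn := e.symm g with hχ
  have hcomul : Coalgebra.comul (R := k) χ = χ ⊗ₜ[k] χ := by
    have h1 := LinearMap.congr_fun (CoalgHomClass.map_comp_comul e.symm) g
    simp only [LinearMap.comp_apply] at h1
    have h2 : Coalgebra.comul (R := k) g = g ⊗ₜ[k] g := by
      rw [hg, MonoidAlgebra.comul_single, CommSemiring.comul_apply, TensorProduct.map_tmul]
      rfl
    rw [h2, TensorProduct.map_tmul] at h1
    exact h1.symm
  have hcounit : χ 1 = 1 := by
    have h1 := LinearMap.congr_fun (CoalgHomClass.counit_comp e.symm) g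
    simp only [LinearMap.comp_apply] at h1
    have h2 : Coalgebra.counit (R := k) g = 1 := by
      rw [hg, MonoidAlgebra.counit_single]; rfl
    rw [h2] at h1
    exact h1
  have hmul : ∀ b c : Zn, χ (b * c) = χ b * χ c := by
    intro b c
    rw [← ev2_comul k n b c χ, hcomul, ev2_tmul]
  set ζ : k := χ (Multiplicative.ofAdd (1 : ZMod n)) with hζ
  have hpow : ∀ m : ℕ, ζ ^ m = χ (Multiplicative.ofAdd ((m : ZMod n))) := by
    intro m
    induction m with
    | zero => rw [pow_zero, Nat.cast_zero, ofAdd_zero, hcounit]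
    | succ m ih => rw [pow_succ, ih, hζ, ← hmul, ← ofAdd_add, Nat.cast_succ]
  have hχval : ∀ b : Zn, χ b = ζ ^ (Multiplicative.toAdd b).val := by
    intro b
    rw [hpow, ZMod.natCast_zmod_val]
    rfl
  refine ⟨ζ, IsPrimitiveRoot.mk_of_lt ζ (NeZero.pos n) ?_ ?_⟩
  · rw [hpow, ZMod.natCast_self, ofAdd_zero, hcounit]
  · intro l hl0 hln hl1
    have hχl : χ ^ l = 1 := by
      apply ConstGrp.ext
      intro b
      change (χ ^ l) b = 1
      have : (χ ^ l) b = (χ b) ^ l := by
        induction l with
        | zero => rfl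
        | succ l ih => rfl
      rw [this, hχval, ← pow_mul, mul_comm, pow_mul, hl1, one_pow]
    have hgl : g ^ l = 1 := by
      have h1 : e (χ ^ l) = e 1 := by rw [hχl]
      rw [map_pow, map_one] at h1
      have h2 : e χ = g := by
        rw [hχ]
        exact e.toEquiv.apply_symm_apply g
      rw [h2] at h1
      exact h1
    rw [hg, MonoidAlgebra.single_pow, one_pow, MonoidAlgebra.one_def] at hgl
    have h3 := congrArg (fun x : MonoidAlgebra k Zn => x.coeff 1) hgl
    simp only [MonoidAlgebra.coeff_single] at h3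
    rw [Finsupp.single_apply, Finsupp.single_apply, if_pos rfl] at h3
    by_cases h4 : Multiplicative.ofAdd (1 : ZMod n) ^ l = 1
    · have h5 : ((l : ℕ) : ZMod n) = 0 := by
        have : Multiplicative.ofAdd (1 : ZMod n) ^ l = Multiplicative.ofAdd ((l : ZMod n)) := by
          rw [← ofAdd_nsmul, nsmul_eq_mul, mul_one]
        rw [this] at h4
        exact h4
      rw [ZMod.natCast_eq_zero_iff] at h5
      exact absurd (Nat.le_of_dvd hl0 h5) (by omega)
    · rw [if_neg h4] at h3
      exact zero_ne_one h3

section backward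

variable {k n} {ζ : k} (hζ : IsPrimitiveRoot ζ n)

/-- the additive character `x ↦ ζ ^ x` of `ℤ/n` -/
noncomputable def psi : AddChar (ZMod n) k := AddChar.zmodChar n hζ.pow_eq_one

theorem psi_apply (a : ZMod n) : psi hζ a = ζ ^ a.val := AddChar.zmodChar_apply _ a

/-- the character `χ_a : b ↦ ψ(a b)` as an element of `F` -/
noncomputable def chi (a : Zn) : ConstGrp.F k Zn :=
  fun b => psi hζ (Multiplicative.toAdd a * Multiplicative.toAdd b)

theorem chi_apply (a b : Zn) :
    chi hζ a b = psi hζ (Multiplicative.toAdd a * Multiplicative.toAdd b) := rfl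

/-- `a ↦ χ_a` as a monoid homomorphism -/
noncomputable def chiHom : Zn →* ConstGrp.F k Zn where
  toFun := chi hζ
  map_one' := by
    apply ConstGrp.ext
    intro b
    rw [chi_apply, toAdd_one, zero_mul, AddChar.map_zero_eq_one]
    rfl
  map_mul' a a' := by
    apply ConstGrp.ext
    intro b
    rw [ConstGrp.mul_apply, chi_apply, chi_apply, chi_apply, toAdd_mul, add_mul,
      AddChar.map_add_eq_mul]

/-- the algebra map `k[ℤ/n] → Maps(ℤ/n, k)` -/
noncomputable def Phi : MonoidAlgebra k Zn →ₐ[k] ConstGrp.F k Zn :=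
  MonoidAlgebra.lift k (ConstGrp.F k Zn) Zn (chiHom hζ)

theorem Phi_single (a : Zn) (r : k) : Phi hζ (MonoidAlgebra.single a r) = r • chi hζ a := by
  rw [Phi, MonoidAlgebra.lift_single]
  rfl

theorem chi_mul (a b c : Zn) : chi hζ a (b * c) = chi hζ a b * chi hζ a c := by
  rw [chi_apply, chi_apply, chi_apply, toAdd_mul, mul_add, AddChar.map_add_eq_mul]

theorem comul_chi (a : Zn) :
    Coalgebra.comul (R := k) (chi hζ a) = chi hζ a ⊗ₜ[k] chi hζ a := by
  apply eq_of_ev2
  intro b c
  rw [ev2_comul, ev2_tmul, chi_mul]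

/-- the characters as monoid homs to `k` -/
noncomputable def chiMon (a : Zn) : Zn →* k where
  toFun := chi hζ a
  map_one' := by
    rw [chi_apply, toAdd_one, mul_zero, AddChar.map_zero_eq_one]
  map_mul' := chi_mul hζ a

theorem chiMon_injective : Function.Injective (chiMon hζ) := by
  intro a a' h
  have h1 : chi hζ a (Multiplicative.ofAdd 1) = chi hζ a' (Multiplicative.ofAdd 1) :=
    DFunLike.congr_fun h (Multiplicative.ofAdd 1)
  rw [chi_apply, chi_apply, toAdd_ofAdd, mul_one, mul_one, psi_apply, psi_apply] at h1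
  have h2 := hζ.pow_inj (ZMod.val_lt _) (ZMod.val_lt _) h1
  exact Multiplicative.toAdd.injective (ZMod.val_injective n h2)

theorem Phi_injective : Function.Injective (Phi hζ) := by
  classical
  rw [injective_iff_map_eq_zero]
  intro x hx
  have hli := (linearIndependent_monoidHom Zn k).comp (chiMon hζ) (chiMon_injective hζ)
  rw [Fintype.linearIndependent_iff] at hli
  have hx' : x = ∑ a : Zn, MonoidAlgebra.single a (x.coeff a) := by
    have := (MonoidAlgebra.basis Zn k).sum_repr x
    conv_lhs => rw [← this]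
    refine Finset.sum_congr rfl (fun a _ => ?_)
    rw [MonoidAlgebra.basis_apply, MonoidAlgebra.smul_single, smul_eq_mul, mul_one]
    rfl
  have h0 : ∀ a, x.coeff a = 0 := by
    apply hli
    ext b
    rw [hx', map_sum] at hx
    simp only [Phi_single] at hx
    have := congrFun hx b
    exact this
  rw [hx']
  refine Finset.sum_eq_zero (fun a _ => ?_)
  rw [h0 a, MonoidAlgebra.single_zero]

theorem Phi_bijective : Function.Bijective (Phi hζ) := by
  refine ⟨Phi_injective hζ, ?_⟩
  have h1 : Module.finrank k (MonoidAlgebra k Zn) = Module.finrank k (ConstGrp.F k Zn) := by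
    rw [Module.finrank_eq_card_basis (MonoidAlgebra.basis Zn k),
      Module.finrank_eq_card_basis (ConstGrp.basis k Zn)]
  exact (LinearMap.injective_iff_surjective_of_finrank_eq_finrank h1
    (f := (Phi hζ).toLinearMap)).1 (Phi_injective hζ)

/-- the bialgebra equivalence -/
noncomputable def bialgEquiv : MonoidAlgebra k Zn ≃ₐc[k] ConstGrp.F k Zn :=
  BialgEquiv.ofAlgEquiv (AlgEquiv.ofBijective (Phi hζ) (Phi_bijective hζ))
    (by
      refine MonoidAlgebra.algHom_ext (fun a => ?_) (Subsingleton.elim _ _)
      change Coalgebra.counit (R := k) (Phi hζ (MonoidAlgebra.single a 1)) =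
        Coalgebra.counit (R := k) (MonoidAlgebra.single a (1 : k))
      rw [Phi_single, one_smul, MonoidAlgebra.counit_single, ConstGrp.counit_apply, chi_apply,
        toAdd_one, mul_zero, AddChar.map_zero_eq_one]
      rfl)
    (by
      refine MonoidAlgebra.algHom_ext (fun a => ?_) (Subsingleton.elim _ _)
      change Algebra.TensorProduct.map (Phi hζ) (Phi hζ)
          (Coalgebra.comul (R := k) (MonoidAlgebra.single a (1 : k))) =
        Coalgebra.comul (R := k) (Phi hζ (MonoidAlgebra.single a 1))
      rw [Phi_single, one_smul, comul_chi, MonoidAlgebra.comul_single, CommSemiring.comul_apply,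
        TensorProduct.map_tmul, Algebra.TensorProduct.map_tmul]
      change Phi hζ (MonoidAlgebra.single a 1) ⊗ₜ[k] Phi hζ (MonoidAlgebra.single a 1) = _
      rw [Phi_single, one_smul])

end backward

end Groth.Agent.Lib.helper22.SelfDualZn
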