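import Mathlib
import Groth.Agent.Lib.Helper22.InertiaGen
import Groth.Agent.Lib.Helper22.GenBi
import Groth.Agent.Lib.Helper26.RegularNormal

/-!
# The separable part of a finite extension of normal domains, and non-pure-inseparability (helper22)

For a domain `A` integral over an integrally closed subring `R`:

* `sepSub R A`: the subalgebra of elements of `A` separable over `Frac R`.
* `mem_sepSub_iff_separable`, `smul_mem_sepSub`, `div_mem_sepSub`, `isIntegrallyClosed_sepSub`.
* `exists_pow_mem_sepSub`: in characteristic `p`, every element has a `p`-power in `sepSub`.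
* `mem_range_of_pow_mem`: an element of `sepSub` with a `p`-power in `R` lies in `R`.
* `exists_fixed_pow_notMem`: a nontrivial group acting with trivial inertia in codimension ≤ 1 on a
  normal local domain finite over a regular local ring with the same residue field has an
  invariant none of whose `p`-powers lies in the base (Zariski–Nagata purity).
-/

set_option autoImplicit false

namespace Groth.Agent.Lib.helper22.SepSub
universe u v w
open IsLocalRing

section Sub
variable (R : Type u) [CommRing R] [IsDomain R] (A : Type v) [CommRing A] [IsDomain A]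
  [Algebra R A] [FaithfulSMul R A]

noncomputable local instance instAlgKL : Algebra (FractionRing R) (FractionRing A) :=
  FractionRing.liftAlgebra R (FractionRing A)

local instance instTowerKL : IsScalarTower R (FractionRing R) (FractionRing A) :=
  FractionRing.isScalarTower_liftAlgebra R (FractionRing A)

/-- the elements of `A` which are separable over the fraction field of `R` -/
noncomputable def sepSub : Subalgebra R A :=
  ((separableClosure (FractionRing R) (FractionRing A)).toSubalgebra.restrictScalars R).comap
    (IsScalarTower.toAlgHom R A (FractionRing A))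

variable {R A}

theorem mem_sepSub {a : A} :
    a ∈ sepSub R A ↔ algebraMap A (FractionRing A) a ∈
      separableClosure (FractionRing R) (FractionRing A) := Iff.rfl

theorem mem_sepSub_iff_separable [IsIntegrallyClosed R] [Algebra.IsIntegral R A] {a : A} :
    a ∈ sepSub R A ↔ ((minpoly R a).map (algebraMap R (FractionRing R))).Separable := by
  rw [mem_sepSub, mem_separableClosure_iff, IsSeparable,
    minpoly.isIntegrallyClosed_eq_field_fractions (FractionRing R) (FractionRing A)
      (Algebra.IsIntegral.isIntegral (R := R) a)]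

theorem smul_mem_sepSub [IsIntegrallyClosed R] [Algebra.IsIntegral R A] (σ : A ≃ₐ[R] A) {a : A}
    (ha : a ∈ sepSub R A) : σ a ∈ sepSub R A := by
  rw [mem_sepSub_iff_separable] at ha ⊢
  rwa [minpoly.algEquiv_eq]

/-- closed under exact division -/
theorem div_mem_sepSub {a b c : A} (ha : a ∈ sepSub R A) (hb : b ∈ sepSub R A) (hb0 : b ≠ 0)
    (h : a = c * b) : c ∈ sepSub R A := by
  rw [mem_sepSub] at ha hb ⊢
  have hb0' : algebraMap A (FractionRing A) b ≠ 0 := by
    intro h0
    exact hb0 (IsFractionRing.injective A (FractionRing A) (h0.trans (map_zero _).symm))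
  have : algebraMap A (FractionRing A) c =
      algebraMap A (FractionRing A) a / algebraMap A (FractionRing A) b := by
    rw [eq_div_iff hb0', ← map_mul, ← h]
  rw [this]
  exact div_mem ha hb

theorem isIntegrallyClosed_sepSub [IsIntegrallyClosed A] : IsIntegrallyClosed (sepSub R A) := by
  apply InertiaGen.isIntegrallyClosed_of_dvd_closed
  intro a b hb ⟨c, hc⟩
  exact ⟨⟨c, div_mem_sepSub a.2 b.2 hb hc⟩, Subtype.ext hc⟩

section CharP
variable (p : ℕ) [Fact p.Prime] [CharP A p] [Algebra.IsIntegral R A]

include p in
theorem exists_pow_mem_sepSub (a : A) : ∃ e : ℕ, a ^ p ^ e ∈ sepSub R A := by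
  haveI : Algebra.IsAlgebraic (FractionRing R) (FractionRing A) :=
    isAlgebraic_of_isFractionRing R A _ _
  haveI : CharP (FractionRing A) p :=
    charP_of_injective_algebraMap (IsFractionRing.injective A (FractionRing A)) p
  haveI : CharP (separableClosure (FractionRing R) (FractionRing A)) p :=
    (RingHom.charP_iff (algebraMap (separableClosure (FractionRing R) (FractionRing A))
      (FractionRing A)) (FaithfulSMul.algebraMap_injective _ _) p).mpr inferInstance
  haveI : ExpChar (separableClosure (FractionRing R) (FractionRing A)) p :=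
    ExpChar.prime Fact.out
  obtain ⟨e, y, hy⟩ := IsPurelyInseparable.pow_mem
    (separableClosure (FractionRing R) (FractionRing A)) p (algebraMap A (FractionRing A) a)
  refine ⟨e, ?_⟩
  rw [mem_sepSub, map_pow, ← hy]
  exact y.2

include p in
theorem mem_range_of_pow_mem [IsIntegrallyClosed R] {a : A} (ha : a ∈ sepSub R A) {e : ℕ}
    (h : a ^ p ^ e ∈ Set.range (algebraMap R A)) : a ∈ Set.range (algebraMap R A) := by
  haveI : CharP R p :=
    (RingHom.charP_iff (algebraMap R A) (FaithfulSMul.algebraMap_injective R A) p).mpr
      inferInstance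
  haveI : CharP (FractionRing R) p :=
    charP_of_injective_algebraMap (IsFractionRing.injective R (FractionRing R)) p
  haveI : ExpChar (FractionRing R) p := ExpChar.prime Fact.out
  obtain ⟨r, hr⟩ := h
  have hx : algebraMap A (FractionRing A) a ∈ perfectClosure (FractionRing R) (FractionRing A) := by
    rw [mem_perfectClosure_iff_pow_mem p]
    refine ⟨e, algebraMap R (FractionRing R) r, ?_⟩
    rw [← map_pow, ← hr, ← IsScalarTower.algebraMap_apply, ← IsScalarTower.algebraMap_apply]
  have hbot : algebraMap A (FractionRing A) a ∈ (⊥ : IntermediateField (FractionRing R)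
      (FractionRing A)) := by
    rw [← separableClosure_inf_perfectClosure]
    exact ⟨ha, hx⟩
  obtain ⟨x, hx⟩ := IntermediateField.mem_bot.mp hbot
  have hint : IsIntegral R x := by
    have ha_int : IsIntegral R a := Algebra.IsIntegral.isIntegral a
    have h2 : IsIntegral R (algebraMap (FractionRing R) (FractionRing A) x) := by
      rw [hx]; exact ha_int.map (IsScalarTower.toAlgHom R A (FractionRing A))
    exact (isIntegral_algHom_iff (IsScalarTower.toAlgHom R (FractionRing R) (FractionRing A))
      (algebraMap (FractionRing R) (FractionRing A)).injective).mp h2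
  obtain ⟨s, hs⟩ := IsIntegrallyClosed.isIntegral_iff.mp hint
  refine ⟨s, ?_⟩
  apply IsFractionRing.injective A (FractionRing A)
  rw [← hx, ← hs, ← IsScalarTower.algebraMap_apply, ← IsScalarTower.algebraMap_apply]

end CharP

end Sub

section Main
variable (p : ℕ) [Fact p.Prime]
  (R : Type u) [CommRing R] [IsRegularLocalRing R]
  (A : Type v) [CommRing A] [IsDomain A] [IsIntegrallyClosed A] [IsLocalRing A] [CharP A p]
  [Algebra R A] [Module.Finite R A]
  (G : Type w) [Group G] [Finite G] [MulSemiringAction G A] [SMulCommClass G R A]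

omit [IsIntegrallyClosed A] [IsLocalRing A] in
theorem sub_eq_zero_of_pow_eq {a b : A} {e : ℕ} (h : a ^ p ^ e = b ^ p ^ e) : a = b := by
  haveI : ExpChar A p := ExpChar.prime Fact.out
  have h1 : (a - b) ^ p ^ e = 0 := by
    rw [sub_pow_expChar_pow, h, sub_self]
  exact sub_eq_zero.mp (pow_eq_zero_iff (pow_ne_zero _ (Fact.out : p.Prime).ne_zero) |>.mp h1)

/-- **Not purely inseparable.** Let `A` be a normal local domain of characteristic `p`, finite over
a regular local subring `R` with the same residue field, with a nontrivial finite group `G` of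
`R`-automorphisms whose inertia groups at primes of height at most one are trivial. Then some
invariant has no `p`-power in `R`. -/
theorem exists_fixed_pow_notMem (hinj : Function.Injective (algebraMap R A))
    (hres : Function.Surjective (IsLocalRing.residue A ∘ algebraMap R A))
    [Nontrivial G]
    (hram : ∀ P : Ideal A, P.IsPrime → P.height ≤ 1 → P.inertia G = ⊥) :
    ∃ y : A, (∀ σ : G, σ • y = y) ∧ ∀ e : ℕ, y ^ p ^ e ∉ Set.range (algebraMap R A) := by
  classical
  by_contra hcon
  push Not at hcon
  haveI : IsDomain R := Groth.Agent.Lib.helper15.isDomain_of_isRegularLocalRing _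
  haveI : IsIntegrallyClosed R := Groth.Agent.Lib.helper26.RegNormal.isIntegrallyClosed R
  haveI : FaithfulSMul R A := (faithfulSMul_iff_algebraMap_injective R A).mpr hinj
  haveI : Algebra.IsIntegral R A := Algebra.IsIntegral.of_finite R A
  haveI : ExpChar A p := ExpChar.prime Fact.out
  have hstab : ∀ (g : G) (x : A), x ∈ sepSub R A → g • x ∈ sepSub R A := fun g x hx =>
    smul_mem_sepSub (MulSemiringAction.toAlgEquiv R A g) hx
  letI : MulSemiringAction G (sepSub R A) := GenBi.stableAction (sepSub R A) hstab
  have hval : ∀ (g : G) (x : sepSub R A), ((g • x : sepSub R A) : A) = g • (x : A) :=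
    fun g x => rfl
  haveI : SMulCommClass G R (sepSub R A) :=
    ⟨fun g r x => Subtype.ext (smul_comm g r (x : A))⟩
  haveI : IsIntegrallyClosed (sepSub R A) := isIntegrallyClosed_sepSub
  haveI : Module.Finite R (sepSub R A) :=
    Module.Finite.of_injective (sepSub R A).val.toLinearMap Subtype.val_injective
  haveI : Algebra.IsIntegral (sepSub R A) A := Algebra.IsIntegral.tower_top R
  haveI : FaithfulSMul (sepSub R A) A :=
    (faithfulSMul_iff_algebraMap_injective _ _).mpr Subtype.val_injective
  haveI : IsLocalRing (sepSub R A) :=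
    RingHom.domain_isLocalRing (algebraMap (sepSub R A) A)
  have hbot : (⊥ : Ideal A).inertia G = ⊥ := by
    apply hram ⊥ Ideal.isPrime_bot
    rw [Ideal.height_bot]
    exact zero_le
  haveI : FaithfulSMul G (sepSub R A) := by
    refine ⟨fun {g₁ g₂} h => ?_⟩
    have hmem : g₂⁻¹ * g₁ ∈ (⊥ : Ideal A).inertia G := by
      intro a
      obtain ⟨e, he⟩ := exists_pow_mem_sepSub p (R := R) a
      have h1 := congrArg Subtype.val (h ⟨a ^ p ^ e, he⟩)
      rw [hval, hval] at h1
      simp only [smul_pow'] at h1
      have h2 : g₁ • a = g₂ • a := sub_eq_zero_of_pow_eq p A h1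
      show (g₂⁻¹ * g₁) • a - a ∈ (⊥ : Ideal A)
      rw [mul_smul, h2, inv_smul_smul, sub_self]
      exact Ideal.zero_mem _
    rw [hbot, Subgroup.mem_bot] at hmem
    exact (inv_mul_eq_one.mp hmem).symm
  have hinj' : Function.Injective (algebraMap R (sepSub R A)) := by
    intro x y hxy
    exact hinj (congrArg Subtype.val hxy)
  have hres' : Function.Surjective (IsLocalRing.residue (sepSub R A) ∘
      algebraMap R (sepSub R A)) := by
    intro z
    obtain ⟨a', rfl⟩ := IsLocalRing.residue_surjective z
    obtain ⟨r, hr⟩ := hres (IsLocalRing.residue A (a' : A))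
    refine ⟨r, ?_⟩
    have h1 : (a' : A) - algebraMap R A r ∈ maximalIdeal A := by
      rw [← Ideal.Quotient.eq]
      exact hr.symm
    have h2 : a' - algebraMap R (sepSub R A) r ∈ maximalIdeal (sepSub R A) := by
      rw [IsLocalRing.mem_maximalIdeal, mem_nonunits_iff]
      intro hu
      have hu' := hu.map (algebraMap (sepSub R A) A)
      rw [IsLocalRing.mem_maximalIdeal, mem_nonunits_iff] at h1
      exact h1 hu'
    show IsLocalRing.residue (sepSub R A) (algebraMap R (sepSub R A) r) =
      IsLocalRing.residue (sepSub R A) a'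
    symm
    rw [← sub_eq_zero, ← map_sub, IsLocalRing.residue_eq_zero_iff]
    exact h2
  have hfix' : ∀ a' : sepSub R A, (∀ g : G, g • a' = a') →
      a' ∈ Set.range (algebraMap R (sepSub R A)) := by
    intro a' ha'
    obtain ⟨e, he⟩ := hcon (a' : A) (fun σ => by rw [← hval, ha' σ])
    obtain ⟨r, hr⟩ := mem_range_of_pow_mem p a'.2 he
    exact ⟨r, Subtype.ext hr⟩
  have hN : ∀ P' : Ideal (sepSub R A), P'.IsPrime → P'.height ≤ 1 →
      P'.inertia G ≤ (⊥ : Subgroup G) := by
    intro P' hP' hht σ hσ
    haveI := hP'
    obtain ⟨P, -, hPprime, hPP'⟩ := Ideal.exists_ideal_over_prime_of_isIntegral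
      (S := A) P' (⊥ : Ideal A) (by
        rw [← RingHom.ker_eq_comap_bot, (RingHom.injective_iff_ker_eq_bot _).mp
          (FaithfulSMul.algebraMap_injective (sepSub R A) A)]
        exact bot_le)
    haveI := hPprime
    have hPht : P.height ≤ 1 := by
      refine le_trans (InertiaGen.height_le_height_under_of_isIntegral (A' := sepSub R A) P) ?_
      rw [Ideal.under_def, hPP']
      exact hht
    rw [← hram P hPprime hPht]
    intro a
    obtain ⟨e, he⟩ := exists_pow_mem_sepSub p (R := R) a
    have h1 : σ • (⟨a ^ p ^ e, he⟩ : sepSub R A) - ⟨a ^ p ^ e, he⟩ ∈ P' := hσ _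
    rw [← hPP'] at h1
    have h2 : σ • (a ^ p ^ e) - a ^ p ^ e ∈ P := h1
    rw [smul_pow', ← sub_pow_expChar_pow] at h2
    exact hPprime.mem_of_pow_mem _ h2
  have := InertiaGen.eq_top_of_inertia_le R (sepSub R A) hinj' hres' G hfix' ⊥ hN
  exact bot_ne_top this

end Main

end Groth.Agent.Lib.helper22.SepSub
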