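import Mathlib
import Groth.Prelude.Def_W4c2movlemaddchowShuffle

/-!
# Shuffle decompositions (helper22)

Generic lemma: for a strictly monotone "block" `e : Fin a → Fin n` and an extension operator
`E : Perm (Fin a) → Perm (Fin n)` acting as `ρ` on the block and trivially off it, every permutation
`ν` of `Fin n` decomposes uniquely as `τ * E ρ` with `τ` monotone on the block.
-/

namespace Groth.Agent.Lib.Helper22.Shuffle

open Equiv W4c2movlemaddchow

structure BlockExt {a n : ℕ} (e : Fin a → Fin n) (E : Perm (Fin a) → Perm (Fin n)) : Prop where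
  mono : StrictMono e
  on : ∀ ρ i, E ρ (e i) = e (ρ i)
  off : ∀ ρ x, x ∉ Set.range e → E ρ x = x

namespace BlockExt

variable {a n : ℕ} {e : Fin a → Fin n} {E : Perm (Fin a) → Perm (Fin n)}

lemma inv_on (h : BlockExt e E) (ρ : Perm (Fin a)) (i : Fin a) :
    (E ρ)⁻¹ (e i) = e (ρ⁻¹ i) := by
  rw [Perm.inv_eq_iff_eq, h.on]; simp

lemma mul_on (h : BlockExt e E) (τ : Perm (Fin n)) (ρ : Perm (Fin a)) (i : Fin a) :
    (τ * E ρ) (e i) = τ (e (ρ i)) := by
  rw [Perm.mul_apply, h.on]

lemma mul_off (h : BlockExt e E) (τ : Perm (Fin n)) (ρ : Perm (Fin a)) (x : Fin n)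
    (hx : x ∉ Set.range e) : (τ * E ρ) x = τ x := by
  rw [Perm.mul_apply, h.off ρ x hx]

lemma strictMono_of_monotone (h : BlockExt e E) (τ : Perm (Fin n))
    (hm : Monotone (fun i => τ (e i))) : StrictMono (fun i => τ (e i)) :=
  hm.strictMono_of_injective (τ.injective.comp h.mono.injective)

theorem exists_decomp (h : BlockExt e E) (ν : Perm (Fin n)) :
    ∃ (τ : Perm (Fin n)) (ρ : Perm (Fin a)), Monotone (fun i => τ (e i)) ∧ ν = τ * E ρ := by
  set f : Fin a → Fin n := fun i => ν (e i) with hf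
  refine ⟨ν * (E (Tuple.sort f)⁻¹)⁻¹, (Tuple.sort f)⁻¹, ?_, by simp⟩
  have : (fun i => (ν * (E (Tuple.sort f)⁻¹)⁻¹) (e i)) = f ∘ Tuple.sort f := by
    funext i
    rw [Perm.mul_apply, h.inv_on, inv_inv]; rfl
  rw [this]; exact Tuple.monotone_sort f

theorem decomp_unique (h : BlockExt e E) {τ τ' : Perm (Fin n)} {ρ ρ' : Perm (Fin a)}
    (hτ : Monotone (fun i => τ (e i))) (hτ' : Monotone (fun i => τ' (e i)))
    (heq : τ * E ρ = τ' * E ρ') : τ = τ' ∧ ρ = ρ' := by
  have hs := h.strictMono_of_monotone τ hτ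
  have hs' := h.strictMono_of_monotone τ' hτ'
  have h1 : ∀ (τ : Perm (Fin n)) (ρ : Perm (Fin a)),
      Set.range (fun i => τ (e i)) = Set.range (fun i => (τ * E ρ) (e i)) := by
    intro τ ρ
    ext y; constructor
    · rintro ⟨i, rfl⟩; exact ⟨ρ⁻¹ i, by simp [h.mul_on]⟩
    · rintro ⟨i, rfl⟩; exact ⟨ρ i, by simp [h.mul_on]⟩
  have hr : Set.range (fun i => τ (e i)) = Set.range (fun i => τ' (e i)) := by
    rw [h1 τ ρ, h1 τ' ρ', heq]
  have hfe : (fun i => τ (e i)) = (fun i => τ' (e i)) := (hs.range_inj hs').mp hr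
  have hττ : τ = τ' := by
    refine Equiv.ext fun x => ?_
    by_cases hx : x ∈ Set.range e
    · obtain ⟨i, rfl⟩ := hx; exact congrFun hfe i
    · have := congrArg (fun π : Perm (Fin n) => π x) heq
      simp only [h.mul_off _ _ x hx] at this
      exact this
  refine ⟨hττ, ?_⟩
  subst hττ
  have hE : E ρ = E ρ' := mul_left_cancel heq
  refine Equiv.ext fun i => ?_
  have := congrArg (fun π : Perm (Fin n) => π (e i)) hE
  simp only [h.on] at this
  exact h.mono.injective this

end BlockExt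

/-! ### The right block -/

lemma extRight_castAdd (a t : ℕ) (σ : Perm (Fin a)) (i : Fin a) :
    extRight a t σ (Fin.castAdd t i) = Fin.castAdd t (σ i) := by
  simp [extRight]

lemma extRight_natAdd (a t : ℕ) (σ : Perm (Fin a)) (l : Fin t) :
    extRight a t σ (Fin.natAdd a l) = Fin.natAdd a l := by
  simp [extRight]

lemma natAdd_notMem_range_castAdd (a t : ℕ) (l : Fin t) :
    Fin.natAdd a l ∉ Set.range (Fin.castAdd t : Fin a → Fin (a + t)) := by
  rintro ⟨i, hi⟩
  have := congrArg Fin.val hi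
  simp at this
  omega

theorem blockExt_right (a t : ℕ) :
    BlockExt (Fin.castAdd t : Fin a → Fin (a + t)) (extRight a t) where
  mono := Fin.strictMono_castAdd t
  on := extRight_castAdd a t
  off := fun ρ x hx => by
    induction x using Fin.addCases with
    | left i => exact absurd ⟨i, rfl⟩ hx
    | right l => exact extRight_natAdd a t ρ l

theorem bijOn_right (r s t : ℕ) :
    Set.BijOn
      (fun p : Equiv.Perm (Fin (r + s + t)) × Equiv.Perm (Fin (r + s)) =>
        p.1 * W4c2movlemaddchow.extRight (r + s) t p.2)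
      ({τ | W4c2movlemaddchow.IsShuffle₂ (r + s) t τ} ×ˢ {σ | W4c2movlemaddchow.IsShuffle₂ r s σ})
      {ν | W4c2movlemaddchow.IsShuffle₃ r s t ν} := by
  have hB := blockExt_right (r + s) t
  have hoff := natAdd_notMem_range_castAdd (r + s) t
  refine ⟨?_, ?_, ?_⟩
  · rintro ⟨τ, σ⟩ ⟨hτ, hσ⟩
    change IsShuffle₂ (r + s) t τ at hτ
    change IsShuffle₂ r s σ at hσ
    change IsShuffle₃ r s t _
    refine ⟨?_, ?_, ?_⟩
    · intro i i' hii'
      change (τ * extRight (r + s) t σ) (Fin.castAdd t (Fin.castAdd s i)) ≤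
        (τ * extRight (r + s) t σ) (Fin.castAdd t (Fin.castAdd s i'))
      rw [hB.mul_on, hB.mul_on]
      exact hτ.1 (hσ.1 hii')
    · intro i i' hii'
      change (τ * extRight (r + s) t σ) (Fin.castAdd t (Fin.natAdd r i)) ≤
        (τ * extRight (r + s) t σ) (Fin.castAdd t (Fin.natAdd r i'))
      rw [hB.mul_on, hB.mul_on]
      exact hτ.1 (hσ.2 hii')
    · intro l l' hll'
      change (τ * extRight (r + s) t σ) (Fin.natAdd (r + s) l) ≤
        (τ * extRight (r + s) t σ) (Fin.natAdd (r + s) l')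
      rw [hB.mul_off _ _ _ (hoff l), hB.mul_off _ _ _ (hoff l')]
      exact hτ.2 hll'
  · rintro ⟨τ, σ⟩ ⟨hτ, hσ⟩ ⟨τ', σ'⟩ ⟨hτ', hσ'⟩ heq
    obtain ⟨h1, h2⟩ := hB.decomp_unique hτ.1 hτ'.1 heq
    exact Prod.ext h1 h2
  · intro ν hν
    obtain ⟨τ, ρ, hτm, rfl⟩ := hB.exists_decomp ν
    have hsm := hB.strictMono_of_monotone τ hτm
    refine ⟨(τ, ρ), ⟨⟨hτm, ?_⟩, ⟨?_, ?_⟩⟩, rfl⟩
    · intro l l' hll'
      have := hν.2.2 hll'
      change (τ * extRight (r + s) t ρ) (Fin.natAdd (r + s) l) ≤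
        (τ * extRight (r + s) t ρ) (Fin.natAdd (r + s) l') at this
      rwa [hB.mul_off _ _ _ (hoff l), hB.mul_off _ _ _ (hoff l')] at this
    · intro i i' hii'
      have := hν.1 hii'
      change (τ * extRight (r + s) t ρ) (Fin.castAdd t (Fin.castAdd s i)) ≤
        (τ * extRight (r + s) t ρ) (Fin.castAdd t (Fin.castAdd s i')) at this
      rw [hB.mul_on, hB.mul_on] at this
      exact hsm.le_iff_le.mp this
    · intro i i' hii'
      have := hν.2.1 hii'
      change (τ * extRight (r + s) t ρ) (Fin.castAdd t (Fin.natAdd r i)) ≤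
        (τ * extRight (r + s) t ρ) (Fin.castAdd t (Fin.natAdd r i')) at this
      rw [hB.mul_on, hB.mul_on] at this
      exact hsm.le_iff_le.mp this

/-! ### The left block -/

/-- The block of the last `s + t` positions inside `Fin (r + s + t)`. -/
def eL (r s t : ℕ) (j : Fin (s + t)) : Fin (r + s + t) :=
  (finCongr (Nat.add_assoc r s t)).symm (Fin.natAdd r j)

lemma eL_val (r s t : ℕ) (j : Fin (s + t)) : (eL r s t j).val = r + j.val := by
  simp [eL]

lemma extLeft_eL (r s t : ℕ) (σ : Perm (Fin (s + t))) (j : Fin (s + t)) :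
    extLeft r s t σ (eL r s t j) = eL r s t (σ j) := by
  simp [extLeft, eL]

lemma extLeft_off (r s t : ℕ) (σ : Perm (Fin (s + t))) (i : Fin r) :
    extLeft r s t σ ((finCongr (Nat.add_assoc r s t)).symm (Fin.castAdd (s + t) i)) =
      (finCongr (Nat.add_assoc r s t)).symm (Fin.castAdd (s + t) i) := by
  simp [extLeft]

theorem blockExt_left (r s t : ℕ) : BlockExt (eL r s t) (extLeft r s t) where
  mono := by
    intro j j' hjj'
    rw [Fin.lt_def, eL_val, eL_val]
    have := Fin.lt_def.mp hjj'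
    omega
  on := extLeft_eL r s t
  off := fun ρ x hx => by
    obtain ⟨y, rfl⟩ := (finCongr (Nat.add_assoc r s t)).symm.surjective x
    induction y using Fin.addCases with
    | left i => exact extLeft_off r s t ρ i
    | right j => exact absurd ⟨j, rfl⟩ hx

lemma I1 (r s t : ℕ) (i : Fin r) :
    (finCongr (Nat.add_assoc r s t)).symm (Fin.castAdd (s + t) i) =
      Fin.castAdd t (Fin.castAdd s i) := by
  apply Fin.ext; simp

lemma I2 (r s t : ℕ) (j : Fin s) :
    Fin.castAdd t (Fin.natAdd r j) = eL r s t (Fin.castAdd t j) := by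
  apply Fin.ext; rw [eL_val]; simp

lemma I3 (r s t : ℕ) (l : Fin t) :
    Fin.natAdd (r + s) l = eL r s t (Fin.natAdd s l) := by
  apply Fin.ext; rw [eL_val]; simp; omega

lemma I1_notMem (r s t : ℕ) (i : Fin r) :
    Fin.castAdd t (Fin.castAdd s i) ∉ Set.range (eL r s t) := by
  rintro ⟨j, hj⟩
  have := congrArg Fin.val hj
  rw [eL_val] at this
  simp at this
  omega

lemma shuffleL_iff (r s t : ℕ) (τ : Perm (Fin (r + s + t))) :
    IsShuffle₂ r (s + t) ((finCongr (Nat.add_assoc r s t)).permCongr τ) ↔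
      Monotone (fun i : Fin r => τ (Fin.castAdd t (Fin.castAdd s i))) ∧
        Monotone (fun j : Fin (s + t) => τ (eL r s t j)) := by
  have key : ∀ x y : Fin (r + s + t),
      finCongr (Nat.add_assoc r s t) x ≤ finCongr (Nat.add_assoc r s t) y ↔ x ≤ y := by
    intro x y; exact Iff.rfl
  unfold IsShuffle₂
  constructor
  · rintro ⟨h1, h2⟩
    refine ⟨fun i i' hii' => ?_, fun j j' hjj' => ?_⟩
    · have := h1 hii'
      simp only [Equiv.permCongr_apply, key, I1] at this
      exact this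
    · have := h2 hjj'
      simp only [Equiv.permCongr_apply, key] at this
      exact this
  · rintro ⟨h1, h2⟩
    refine ⟨fun i i' hii' => ?_, fun j j' hjj' => ?_⟩
    · have := h1 hii'
      simp only [Equiv.permCongr_apply, key, I1]
      exact this
    · have := h2 hjj'
      simp only [Equiv.permCongr_apply, key]
      exact this

theorem bijOn_left (r s t : ℕ) :
    Set.BijOn
      (fun p : Equiv.Perm (Fin (r + s + t)) × Equiv.Perm (Fin (s + t)) =>
        p.1 * W4c2movlemaddchow.extLeft r s t p.2)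
      ({τ | W4c2movlemaddchow.IsShuffle₂ r (s + t)
          ((finCongr (Nat.add_assoc r s t)).permCongr τ)} ×ˢ
        {σ | W4c2movlemaddchow.IsShuffle₂ s t σ})
      {ν | W4c2movlemaddchow.IsShuffle₃ r s t ν} := by
  have hB := blockExt_left r s t
  have hoff := I1_notMem r s t
  refine ⟨?_, ?_, ?_⟩
  · rintro ⟨τ, σ⟩ ⟨hτ, hσ⟩
    change IsShuffle₂ r (s + t) ((finCongr (Nat.add_assoc r s t)).permCongr τ) at hτ
    rw [shuffleL_iff] at hτ
    change IsShuffle₂ s t σ at hσ
    change IsShuffle₃ r s t _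
    refine ⟨?_, ?_, ?_⟩
    · intro i i' hii'
      change (τ * extLeft r s t σ) (Fin.castAdd t (Fin.castAdd s i)) ≤
        (τ * extLeft r s t σ) (Fin.castAdd t (Fin.castAdd s i'))
      rw [hB.mul_off _ _ _ (hoff i), hB.mul_off _ _ _ (hoff i')]
      exact hτ.1 hii'
    · intro j j' hjj'
      change (τ * extLeft r s t σ) (Fin.castAdd t (Fin.natAdd r j)) ≤
        (τ * extLeft r s t σ) (Fin.castAdd t (Fin.natAdd r j'))
      rw [I2, I2, hB.mul_on, hB.mul_on]
      exact hτ.2 (hσ.1 hjj')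
    · intro l l' hll'
      change (τ * extLeft r s t σ) (Fin.natAdd (r + s) l) ≤
        (τ * extLeft r s t σ) (Fin.natAdd (r + s) l')
      rw [I3, I3, hB.mul_on, hB.mul_on]
      exact hτ.2 (hσ.2 hll')
  · rintro ⟨τ, σ⟩ ⟨hτ, hσ⟩ ⟨τ', σ'⟩ ⟨hτ', hσ'⟩ heq
    change IsShuffle₂ r (s + t) ((finCongr (Nat.add_assoc r s t)).permCongr τ) at hτ
    change IsShuffle₂ r (s + t) ((finCongr (Nat.add_assoc r s t)).permCongr τ') at hτ'
    rw [shuffleL_iff] at hτ hτ'
    obtain ⟨h1, h2⟩ := hB.decomp_unique hτ.2 hτ'.2 heq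
    exact Prod.ext h1 h2
  · intro ν hν
    obtain ⟨τ, ρ, hτm, rfl⟩ := hB.exists_decomp ν
    have hsm := hB.strictMono_of_monotone τ hτm
    change IsShuffle₃ r s t _ at hν
    refine ⟨(τ, ρ), ⟨?_, ⟨?_, ?_⟩⟩, rfl⟩
    · change IsShuffle₂ r (s + t) ((finCongr (Nat.add_assoc r s t)).permCongr τ)
      rw [shuffleL_iff]
      refine ⟨?_, hτm⟩
      intro i i' hii'
      have := hν.1 hii'
      change (τ * extLeft r s t ρ) (Fin.castAdd t (Fin.castAdd s i)) ≤
        (τ * extLeft r s t ρ) (Fin.castAdd t (Fin.castAdd s i')) at this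
      rwa [hB.mul_off _ _ _ (hoff i), hB.mul_off _ _ _ (hoff i')] at this
    · intro j j' hjj'
      have := hν.2.1 hjj'
      change (τ * extLeft r s t ρ) (Fin.castAdd t (Fin.natAdd r j)) ≤
        (τ * extLeft r s t ρ) (Fin.castAdd t (Fin.natAdd r j')) at this
      rw [I2, I2, hB.mul_on, hB.mul_on] at this
      exact hsm.le_iff_le.mp this
    · intro l l' hll'
      have := hν.2.2 hll'
      change (τ * extLeft r s t ρ) (Fin.natAdd (r + s) l) ≤
        (τ * extLeft r s t ρ) (Fin.natAdd (r + s) l') at this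
      rw [I3, I3, hB.mul_on, hB.mul_on] at this
      exact hsm.le_iff_le.mp this

lemma sign_extRight (a t : ℕ) (σ : Perm (Fin a)) :
    Equiv.Perm.sign (extRight a t σ) = Equiv.Perm.sign σ := by
  simp [extRight, Equiv.Perm.sign_permCongr, Equiv.Perm.sign_sumCongr]

lemma sign_extLeft (r s t : ℕ) (σ : Perm (Fin (s + t))) :
    Equiv.Perm.sign (extLeft r s t σ) = Equiv.Perm.sign σ := by
  simp [extLeft, Equiv.Perm.sign_permCongr, Equiv.Perm.sign_sumCongr]

end Groth.Agent.Lib.Helper22.Shuffle
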