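import Mathlib

/-!
# Symmetric structure on a skew group ring from an invariant Frobenius form (helper22)
-/

set_option autoImplicit false

namespace Groth.Agent.Lib.helper22.SkewSym
universe u v w

variable {R : Type u} [CommRing R] {A : Type v} [CommRing A] [Algebra R A]
  {G : Type w} [Group G] [MulSemiringAction G A] [SMulCommClass G R A]

/-- the form `x ↦ lam (x_1)` on the skew group ring -/
noncomputable def phi (lam : A →ₗ[R] R) : SkewMonoidAlgebra A G →ₗ[R] R :=
  lam ∘ₗ (Finsupp.lapply (1 : G)) ∘ₗ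
    (SkewMonoidAlgebra.coeffLinearEquiv (S := R) (k := A) (G := G)).toLinearMap

omit [MulSemiringAction G A] [SMulCommClass G R A] in
theorem phi_apply (lam : A →ₗ[R] R) (x : SkewMonoidAlgebra A G) :
    phi lam x = lam (x.coeff 1) := rfl

open Classical in
theorem phi_single_mul_single (lam : A →ₗ[R] R) (h h' : G) (a a' : A) :
    phi lam (SkewMonoidAlgebra.single h a * SkewMonoidAlgebra.single h' a') =
      if h * h' = 1 then lam (a * h • a') else 0 := by
  classical
  rw [phi_apply, SkewMonoidAlgebra.single_mul_single, SkewMonoidAlgebra.coeff_single_apply]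
  split_ifs <;> simp

theorem phi_comm (lam : A →ₗ[R] R) (hinv : ∀ (h : G) (a : A), lam (h • a) = lam a)
    (x y : SkewMonoidAlgebra A G) : phi lam (x * y) = phi lam (y * x) := by
  induction x using SkewMonoidAlgebra.induction_on with
  | zero => simp
  | add x1 x2 h1 h2 => rw [add_mul, mul_add, map_add, map_add, h1, h2]
  | single h a =>
    induction y using SkewMonoidAlgebra.induction_on with
    | zero => simp
    | add y1 y2 h1 h2 => rw [add_mul, mul_add, map_add, map_add, h1, h2]
    | single h' a' =>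
      rw [phi_single_mul_single, phi_single_mul_single]
      by_cases hh : h * h' = 1
      · have hh' : h' * h = 1 := by
          rw [mul_eq_one_iff_eq_inv] at hh ⊢
          rw [hh, inv_inv]
        rw [if_pos hh, if_pos hh']
        have e : h' = h⁻¹ := by rw [mul_eq_one_iff_eq_inv] at hh'; rw [hh', ]
        rw [← hinv h (a' * h' • a), smul_mul', e, smul_inv_smul, mul_comm]
      · have hh' : ¬ h' * h = 1 := by
          intro h1
          apply hh
          rw [mul_eq_one_iff_eq_inv] at h1 ⊢
          rw [h1, inv_inv]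
        rw [if_neg hh, if_neg hh']

theorem phi_single_mul (lam : A →ₗ[R] R) (h : G) (a : A) (y : SkewMonoidAlgebra A G) :
    phi lam (SkewMonoidAlgebra.single h⁻¹ a * y) = lam (a * h⁻¹ • y.coeff h) := by
  rw [phi_apply, SkewMonoidAlgebra.coeff_single_mul, inv_inv, mul_one]

theorem phi_injective (lam : A →ₗ[R] R)
    (hinj : ∀ y : A, (∀ x, lam (x * y) = 0) → y = 0) :
    Function.Injective (fun y : SkewMonoidAlgebra A G => fun x : SkewMonoidAlgebra A G =>
      phi lam (x * y)) := by
  intro y y' hyy'
  have h0 : ∀ x : SkewMonoidAlgebra A G, phi lam (x * (y - y')) = 0 := by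
    intro x
    rw [mul_sub, map_sub, sub_eq_zero]
    exact congrFun hyy' x
  rw [← sub_eq_zero]
  apply SkewMonoidAlgebra.ext
  intro h
  rw [SkewMonoidAlgebra.coeff_zero, Finsupp.zero_apply]
  have h1 : h⁻¹ • (y - y').coeff h = 0 := by
    apply hinj
    intro a
    rw [← phi_single_mul]
    exact h0 _
  have := congrArg (fun z => h • z) h1
  simpa using this

theorem phi_surjective [Finite G] (lam : A →ₗ[R] R)
    (hsurj : ∀ ψ : A →ₗ[R] R, ∃ y : A, ∀ x, ψ x = lam (x * y))
    (ψ : SkewMonoidAlgebra A G →ₗ[R] R) :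
    ∃ y : SkewMonoidAlgebra A G, ∀ x, ψ x = phi lam (x * y) := by
  classical
  haveI := Fintype.ofFinite G
  have h1 : ∀ h : G, ∃ c : A, ∀ a : A, ψ (SkewMonoidAlgebra.single h⁻¹ a) = lam (a * c) := by
    intro h
    exact hsurj (ψ ∘ₗ SkewMonoidAlgebra.lsingle R h⁻¹)
  choose c hc using h1
  refine ⟨∑ h : G, SkewMonoidAlgebra.single h (h • c h), ?_⟩
  intro x
  induction x using SkewMonoidAlgebra.induction_on with
  | zero => simp
  | add x1 x2 h1 h2 => rw [add_mul, map_add, map_add, h1, h2]
  | single h a =>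
    have e : h = (h⁻¹)⁻¹ := (inv_inv h).symm
    rw [e, hc, phi_single_mul, inv_inv]
    congr 2
    have : (∑ h' : G, SkewMonoidAlgebra.single h' (h' • c h')).coeff h⁻¹ = h⁻¹ • c h⁻¹ := by
      rw [← SkewMonoidAlgebra.coeffAddEquiv_apply, map_sum]
      simp only [SkewMonoidAlgebra.coeffAddEquiv_apply, SkewMonoidAlgebra.coeff_single,
        Finsupp.coe_finsetSum, Finset.sum_apply]
      rw [Finset.sum_eq_single h⁻¹]
      · simp
      · intro b _ hb
        simp [hb]
      · intro hh; exact absurd (Finset.mem_univ _) hh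
    rw [this, smul_inv_smul]

/-- the skew group ring of a finite group acting on a Frobenius algebra with invariant Frobenius
form is symmetric -/
theorem symmetric [Finite G] (lam : A →ₗ[R] R) (hinv : ∀ (h : G) (a : A), lam (h • a) = lam a)
    (hinj : ∀ y : A, (∀ x, lam (x * y) = 0) → y = 0)
    (hsurj : ∀ ψ : A →ₗ[R] R, ∃ y : A, ∀ x, ψ x = lam (x * y)) :
    ∃ φ : SkewMonoidAlgebra A G →ₗ[R] R,
      (∀ x y : SkewMonoidAlgebra A G, φ (x * y) = φ (y * x)) ∧
      Function.Injective (fun y : SkewMonoidAlgebra A G => fun x : SkewMonoidAlgebra A G =>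
        φ (x * y)) ∧
      ∀ ψ : SkewMonoidAlgebra A G →ₗ[R] R, ∃ y : SkewMonoidAlgebra A G, ∀ x, ψ x = φ (x * y) :=
  ⟨phi lam, phi_comm lam hinv, phi_injective lam hinj, phi_surjective lam hsurj⟩

end Groth.Agent.Lib.helper22.SkewSym
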