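import Mathlib
import Groth.Agent.Lib.Helper22.SplitAlgQuot

/-!
# Staircase monomial basis of the universal splitting algebra (helper22)

The universal splitting algebra of a monic polynomial of degree `r` has the basis
`∏ i, b i ^ d i`, `d i < r - i` (Artin's staircase monomials).
-/

open Polynomial

namespace Groth.Agent.Lib.helper22.SplitAlg

universe u

/-- The staircase index type. -/
abbrev Stair (r : ℕ) : Type := Π i : Fin r, Fin (r - (i : ℕ))

/-- `Fin (r+1) × Stair r ≃ Stair (r+1)`. -/
def stairEquiv (r : ℕ) : Fin (r + 1) × Stair r ≃ Stair (r + 1) :=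
  (Equiv.prodCongr (Equiv.refl _)
    (Equiv.piCongrRight fun j : Fin r =>
      finCongr (by simp : r - (j : ℕ) = r + 1 - ((j.succ : Fin (r + 1)) : ℕ)))).trans
    (Fin.consEquiv fun i : Fin (r + 1) => Fin (r + 1 - (i : ℕ)))

theorem stairEquiv_symm_fst (r : ℕ) (d : Stair (r + 1)) :
    (((stairEquiv r).symm d).1 : ℕ) = (d 0 : ℕ) := rfl

theorem stairEquiv_symm_snd (r : ℕ) (d : Stair (r + 1)) (j : Fin r) :
    ((((stairEquiv r).symm d).2 j : Fin (r - (j : ℕ))) : ℕ) = (d j.succ : ℕ) := rfl

/-- Existence of a universal splitting algebra with the staircase monomial basis. -/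
theorem exists_isSplit_stair (r : ℕ) :
    ∀ (A : Type u) [CommRing A] (f : A[X]), f.Monic → f.natDegree = r →
    ∃ (B : Type u) (_ : CommRing B) (_ : Algebra A B) (b : Fin r → B),
      IsSplit f B b ∧ ∃ β : Module.Basis (Stair r) A B, ∀ d, β d = ∏ i, b i ^ ((d i : ℕ)) := by
  induction r with
  | zero =>
    intro A _ f hf hd
    refine ⟨A, inferInstance, inferInstance, Fin.elim0, isSplit_zero f hf hd,
      Module.Basis.singleton (Stair 0) A, fun d => ?_⟩
    simp
  | succ r ih =>
    intro A _ f hf hd
    have hroot : (f.map (AdjoinRoot.of f)).IsRoot (AdjoinRoot.root f) := AdjoinRoot.isRoot_root f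
    set g : (AdjoinRoot f)[X] := f.map (AdjoinRoot.of f) /ₘ (X - C (AdjoinRoot.root f)) with hgdef
    have hg : f.map (AdjoinRoot.of f) = (X - C (AdjoinRoot.root f)) * g :=
      (Polynomial.mul_divByMonic_eq_iff_isRoot.mpr hroot).symm
    have hfm : (f.map (AdjoinRoot.of f)).Monic := hf.map _
    have hgm : g.Monic := by
      refine Polynomial.Monic.of_mul_monic_left (Polynomial.monic_X_sub_C (AdjoinRoot.root f)) ?_
      rw [← hg]; exact hfm
    have hgd : g.natDegree = r := by
      have hntA : Nontrivial A := by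
        by_contra hA
        rw [not_nontrivial_iff_subsingleton] at hA
        rw [Polynomial.natDegree_of_subsingleton] at hd
        exact Nat.succ_ne_zero r hd.symm
      have hnt : Nontrivial (AdjoinRoot f) :=
        nontrivial_of_ne _ _ ((AdjoinRoot.powerBasis' hf).basis.ne_zero
          ⟨0, by simp [hd]⟩)
      rw [hgdef, Polynomial.natDegree_divByMonic _ (Polynomial.monic_X_sub_C _),
        hf.natDegree_map, hd]
      simp
    obtain ⟨B, _, _, b, hB, β, hβ⟩ := ih (AdjoinRoot f) g hgm hgd
    let _ : Algebra A B := ((algebraMap (AdjoinRoot f) B).comp (algebraMap A (AdjoinRoot f))).toAlgebra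
    have htower : IsScalarTower A (AdjoinRoot f) B := IsScalarTower.of_algebraMap_eq fun _ => rfl
    refine ⟨B, inferInstance, inferInstance, _, isSplit_succ f g hg B b hB, ?_⟩
    have hdim : (AdjoinRoot.powerBasis' hf).dim = r + 1 := by simp [hd]
    let β₀ : Module.Basis (Fin (r + 1)) A (AdjoinRoot f) :=
      (AdjoinRoot.powerBasis' hf).basis.reindex (finCongr hdim)
    have hβ₀ : ∀ i : Fin (r + 1), β₀ i = AdjoinRoot.root f ^ (i : ℕ) := by
      intro i
      simp only [β₀, Module.Basis.reindex_apply, PowerBasis.basis_eq_pow]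
      simp
    refine ⟨(β₀.smulTower β).reindex (stairEquiv r), fun d => ?_⟩
    rw [Module.Basis.reindex_apply, Module.Basis.smulTower_apply, hβ₀, hβ, Algebra.smul_def,
      Fin.prod_univ_succ, map_pow]
    simp only [Fin.cons_zero, Fin.cons_succ, stairEquiv_symm_fst, stairEquiv_symm_snd]

/-- The staircase monomials form a basis of `A[U]/(σ_i - a_i)`. -/
theorem exists_stair_basis_quot {A : Type u} [CommRing A] {r : ℕ} (a : Fin r → A) :
    ∃ β : Module.Basis (Stair r) A (MvPolynomial (Fin r) A ⧸ esymmIdeal a),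
      ∀ d, β d = ∏ i, Ideal.Quotient.mk (esymmIdeal a) (MvPolynomial.X i) ^ ((d i : ℕ)) := by
  rcases subsingleton_or_nontrivial A with hA | hA
  · have : Subsingleton (MvPolynomial (Fin r) A ⧸ esymmIdeal a) := Module.subsingleton A _
    exact ⟨Module.Basis.ofRepr (LinearEquiv.ofSubsingleton _ _), fun d => Subsingleton.elim _ _⟩
  · obtain ⟨B, _, _, b, hB, β, hβ⟩ :=
      exists_isSplit_stair r A (vietaPoly a) (vietaPoly_monic a) (vietaPoly_natDegree a)
    obtain ⟨e, he⟩ := (isSplit_quot a).exists_algEquiv hB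
    refine ⟨β.map e.symm.toLinearEquiv, fun d => ?_⟩
    rw [Module.Basis.map_apply, hβ]
    simp only [AlgEquiv.toLinearEquiv_apply, map_prod, map_pow]
    refine Finset.prod_congr rfl fun i _ => ?_
    rw [← he i, AlgEquiv.symm_apply_apply]

end Groth.Agent.Lib.helper22.SplitAlg
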