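import Mathlib
import Groth.Agent.Lib.Helper22.SplitAlgStair

/-!
# Extension of ideals to the universal splitting algebra (helper22)
-/

namespace Groth.Agent.Lib.helper22.SplitAlg

universe u

/-- For an algebra with a finite basis, membership in an extended ideal is coordinatewise. -/
theorem mem_map_algebraMap_iff_repr {R Q ι : Type*} [CommRing R] [CommRing Q] [Algebra R Q]
    [Finite ι] (β : Module.Basis ι R Q) (J : Ideal R) (y : Q) :
    y ∈ J.map (algebraMap R Q) ↔ ∀ d, β.repr y d ∈ J := by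
  have key : y ∈ J.map (algebraMap R Q) ↔ y ∈ J • (⊤ : Submodule R Q) := by
    rw [Ideal.smul_top_eq_map]; rfl
  rw [key]
  constructor
  · intro hy
    rw [← β.span_eq, Submodule.mem_ideal_smul_span_iff_exists_sum] at hy
    obtain ⟨a, ha, rfl⟩ := hy
    intro d
    have : β.repr (a.sum fun i c => c • β i) = a := by
      have h1 : (a.sum fun i c => c • β i) = Finsupp.linearCombination R β a := rfl
      rw [h1, Module.Basis.repr_linearCombination]
    rw [this]
    exact ha d
  · intro h
    have hfin := Fintype.ofFinite ι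
    rw [← β.sum_repr y]
    exact Submodule.sum_mem _ fun d _ => Submodule.smul_mem_smul (h d) trivial

variable {A : Type u} [CommRing A] {r : ℕ} (a : Fin r → A)

theorem mk_sum_stair (β : Module.Basis (Stair r) A (MvPolynomial (Fin r) A ⧸ esymmIdeal a))
    (hβ : ∀ d, β d = ∏ i, Ideal.Quotient.mk (esymmIdeal a) (MvPolynomial.X i) ^ ((d i : ℕ)))
    (c : Stair r → A) :
    Ideal.Quotient.mk (esymmIdeal a)
      (∑ d : Stair r, MvPolynomial.C (c d) * ∏ i : Fin r, MvPolynomial.X i ^ ((d i : ℕ))) =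
      ∑ d : Stair r, c d • β d := by
  rw [map_sum]
  refine Finset.sum_congr rfl fun d _ => ?_
  rw [map_mul, map_prod, hβ]
  simp only [map_pow]
  exact (Algebra.smul_def (c d) _).symm

theorem repr_mk_sum_stair (β : Module.Basis (Stair r) A (MvPolynomial (Fin r) A ⧸ esymmIdeal a))
    (hβ : ∀ d, β d = ∏ i, Ideal.Quotient.mk (esymmIdeal a) (MvPolynomial.X i) ^ ((d i : ℕ)))
    (c : Stair r → A) (d : Stair r) :
    β.repr (Ideal.Quotient.mk (esymmIdeal a)
      (∑ d : Stair r, MvPolynomial.C (c d) * ∏ i : Fin r, MvPolynomial.X i ^ ((d i : ℕ)))) d = c d := by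
  rw [mk_sum_stair a β hβ]
  have : ∑ d : Stair r, c d • β d = β.equivFun.symm c := by
    rw [Module.Basis.equivFun_symm_apply]
  rw [this]
  have h2 : β.repr (β.equivFun.symm c) d = β.equivFun (β.equivFun.symm c) d := rfl
  rw [h2, LinearEquiv.apply_symm_apply]

theorem mem_sup_iff_repr (J : Ideal A)
    (β : Module.Basis (Stair r) A (MvPolynomial (Fin r) A ⧸ esymmIdeal a))
    (x : MvPolynomial (Fin r) A) :
    x ∈ esymmIdeal a ⊔ Ideal.map (MvPolynomial.C : A →+* MvPolynomial (Fin r) A) J ↔
      ∀ d, β.repr (Ideal.Quotient.mk (esymmIdeal a) x) d ∈ J := by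
  rw [sup_comm, ← Ideal.mem_quotient_iff_mem_sup, Ideal.map_map,
    ← mem_map_algebraMap_iff_repr β J]
  rfl

end Groth.Agent.Lib.helper22.SplitAlg
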