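import Mathlib
import Groth.Agent.Lib.Helper22.SplitAlgStair

/-!
# `R[t]` over the elementary symmetric polynomials (helper22)

With `A = R[c_1..c_r]`, the generic splitting algebra `A[t]/(e_i(t) - c_i)` is `R[t]`
(`exists_bijective_generic`), hence `R[t]` is free over `R[e_1..e_r]` on the staircase monomials
(`bijective_staircase_coords`).
-/

namespace Groth.Agent.Lib.helper22.SplitAlg

universe u

theorem bijective_sum_of_basis {A Q S ι : Type*} [Fintype ι] [CommRing A] [CommRing Q] [Algebra A Q]
    [CommRing S] (β : Module.Basis ι A Q) (Fbar : Q →+* S) (σ : A → S)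
    (h : ∀ p, Fbar (algebraMap A Q p) = σ p) (hb : Function.Bijective Fbar) :
    Function.Bijective (fun p : ι → A => ∑ k, σ (p k) * Fbar (β k)) := by
  have : (fun p : ι → A => ∑ k, σ (p k) * Fbar (β k)) = Fbar ∘ β.equivFun.symm := by
    funext p
    simp only [Function.comp_apply, Module.Basis.equivFun_symm_apply, map_sum]
    refine Finset.sum_congr rfl fun k _ => ?_
    rw [Algebra.smul_def, map_mul, h]
  rw [this]
  exact hb.comp β.equivFun.symm.bijective

/-- The generic splitting algebra over `A = R[c]` is `R[t]`. -/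
theorem exists_bijective_generic (R : Type u) [CommRing R] (r : ℕ) :
    ∃ Fbar : (MvPolynomial (Fin r) (MvPolynomial (Fin r) R) ⧸
        esymmIdeal (MvPolynomial.X : Fin r → MvPolynomial (Fin r) R)) →+* MvPolynomial (Fin r) R,
      Function.Bijective Fbar ∧
      (∀ p : MvPolynomial (Fin r) R, Fbar (algebraMap (MvPolynomial (Fin r) R) _ p) =
        MvPolynomial.aeval (fun i : Fin r => MvPolynomial.esymm (Fin r) R ((i : ℕ) + 1)) p) ∧
      ∀ i, Fbar (Ideal.Quotient.mk _ (MvPolynomial.X i)) = MvPolynomial.X i := by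
  classical
  let A := MvPolynomial (Fin r) R
  let a : Fin r → A := MvPolynomial.X
  let σ : A →ₐ[R] MvPolynomial (Fin r) R :=
    MvPolynomial.aeval (fun i : Fin r => MvPolynomial.esymm (Fin r) R ((i : ℕ) + 1))
  let Q := MvPolynomial (Fin r) A ⧸ esymmIdeal a
  have hσ_C : ∀ c : R, σ (MvPolynomial.C c) = MvPolynomial.C c := fun c =>
    (MvPolynomial.aeval_C _ c).trans rfl
  have hσ_X : ∀ i, σ (MvPolynomial.X i) = MvPolynomial.esymm (Fin r) R ((i : ℕ) + 1) := fun i =>
    MvPolynomial.aeval_X _ i
  -- forward map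
  let F : MvPolynomial (Fin r) A →+* MvPolynomial (Fin r) R :=
    MvPolynomial.eval₂Hom (σ : A →+* MvPolynomial (Fin r) R) MvPolynomial.X
  have hF_C : ∀ p : A, F (MvPolynomial.C p) = σ p := fun p => MvPolynomial.eval₂Hom_C _ _ _
  have hF_X : ∀ i, F (MvPolynomial.X i) = MvPolynomial.X i := fun i => MvPolynomial.eval₂Hom_X' _ _ _
  have hFesymm : ∀ k, F (MvPolynomial.esymm (Fin r) A k) = MvPolynomial.esymm (Fin r) R k := by
    intro k
    simp only [MvPolynomial.esymm, map_sum, map_prod, hF_X]
  have hFker : ∀ x ∈ esymmIdeal a, F x = 0 := by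
    intro x hx
    have hle : esymmIdeal a ≤ RingHom.ker F := by
      rw [Ideal.span_le]
      rintro _ ⟨i, rfl⟩
      simp only [SetLike.mem_coe, RingHom.mem_ker, map_sub, hFesymm, hF_C, a, hσ_X, sub_self]
    exact hle hx
  let Fbar : Q →+* MvPolynomial (Fin r) R := Ideal.Quotient.lift (esymmIdeal a) F hFker
  have hFbar_mk : ∀ x, Fbar (Ideal.Quotient.mk (esymmIdeal a) x) = F x := fun x =>
    Ideal.Quotient.lift_mk _ _ _
  -- backward map
  let G : MvPolynomial (Fin r) R →+* Q :=
    MvPolynomial.eval₂Hom ((algebraMap A Q).comp (MvPolynomial.C : R →+* A))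
      (fun i => Ideal.Quotient.mk (esymmIdeal a) (MvPolynomial.X i))
  have hG_C : ∀ c : R, G (MvPolynomial.C c) =
      Ideal.Quotient.mk (esymmIdeal a) (MvPolynomial.C (MvPolynomial.C c)) := fun c =>
    MvPolynomial.eval₂Hom_C _ _ _
  have hG_X : ∀ i, G (MvPolynomial.X i) = Ideal.Quotient.mk (esymmIdeal a) (MvPolynomial.X i) :=
    fun i => MvPolynomial.eval₂Hom_X' _ _ _
  have hGesymm : ∀ k, G (MvPolynomial.esymm (Fin r) R k) =
      Ideal.Quotient.mk (esymmIdeal a) (MvPolynomial.esymm (Fin r) A k) := by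
    intro k
    simp only [MvPolynomial.esymm, map_sum, map_prod, hG_X]
  have hFG : Fbar.comp G = RingHom.id _ := by
    apply MvPolynomial.ringHom_ext
    · intro c
      simp only [RingHom.comp_apply, hG_C, hFbar_mk, hF_C, hσ_C, RingHom.id_apply]
    · intro i
      simp only [RingHom.comp_apply, hG_X, hFbar_mk, hF_X, RingHom.id_apply]
  have hGF : G.comp Fbar = RingHom.id _ := by
    apply Ideal.Quotient.ringHom_ext
    apply MvPolynomial.ringHom_ext
    · intro p
      have : (G.comp ((σ : A →+* MvPolynomial (Fin r) R))) =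
          (Ideal.Quotient.mk (esymmIdeal a)).comp (MvPolynomial.C : A →+* MvPolynomial (Fin r) A) := by
        apply MvPolynomial.ringHom_ext
        · intro c
          simp only [RingHom.comp_apply, RingHom.coe_coe, hσ_C, hG_C]
        · intro i
          simp only [RingHom.comp_apply, RingHom.coe_coe, hσ_X, hGesymm]
          exact Ideal.Quotient.eq.mpr (Ideal.subset_span ⟨i, rfl⟩)
      have h2 := congrArg (fun f : A →+* Q => f p) this
      simp only [RingHom.comp_apply, RingHom.coe_coe] at h2
      rw [RingHom.comp_apply, RingHom.comp_apply, hFbar_mk, hF_C, h2]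
      rfl
    · intro i
      rw [RingHom.comp_apply, RingHom.comp_apply, hFbar_mk, hF_X, hG_X]
      rfl
  have hFbij : Function.Bijective Fbar := by
    refine ⟨Function.LeftInverse.injective (g := G) fun x => ?_,
      Function.RightInverse.surjective (g := G) fun x => ?_⟩
    · exact congrArg (fun f : Q →+* Q => f x) hGF
    · exact congrArg (fun f : MvPolynomial (Fin r) R →+* MvPolynomial (Fin r) R => f x) hFG
  have hFalg : ∀ p : A, Fbar (algebraMap A Q p) = σ p := by
    intro p
    change Fbar (Ideal.Quotient.mk _ (MvPolynomial.C p)) = _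
    rw [hFbar_mk, hF_C]
  exact ⟨Fbar, hFbij, hFalg, fun i => by rw [hFbar_mk, hF_X]⟩

/-- `R[t]` is free over `R[e_1..e_r]` on the staircase monomials. -/
theorem bijective_staircase_coords (R : Type u) [CommRing R] (r : ℕ) :
    Function.Bijective (fun p : Stair r → MvPolynomial (Fin r) R =>
      ∑ d : Stair r,
        (MvPolynomial.aeval (fun i : Fin r => MvPolynomial.esymm (Fin r) R ((i : ℕ) + 1))) (p d) *
          ∏ i : Fin r, MvPolynomial.X i ^ ((d i : ℕ))) := by
  obtain ⟨Fbar, hbij, halg, hX⟩ := exists_bijective_generic R r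
  obtain ⟨β, hβ⟩ := exists_stair_basis_quot (MvPolynomial.X : Fin r → MvPolynomial (Fin r) R)
  have h := bijective_sum_of_basis β Fbar _ halg hbij
  have hb : ∀ d, Fbar (β d) = ∏ i : Fin r, MvPolynomial.X i ^ ((d i : ℕ)) := by
    intro d
    rw [hβ, map_prod]
    refine Finset.prod_congr rfl fun i _ => ?_
    rw [map_pow, hX]
  simpa only [hb] using h

end Groth.Agent.Lib.helper22.SplitAlg
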