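import Groth.Agent.Lib.Helper22.Orbit
import Groth.Agent.Lib.Helper22.LinRed
import Mathlib

/-!
Strongly etale equivariant maps and closed invariant subschemes (helper22).

* `etale_quotient_map`: `A → B` etale implies `A/I → B/IB` etale.
* `etale_of_ringEquiv_square`: transport of etaleness along a commutative square of ring isomorphisms.
* `etale_of_surjective_square`: `A → B` etale, `A ↠ A'`, `B ↠ B'` with `ker = (ker) B`: `A' → B'` etale.
* `exists_algHom_comp_eq`: factor an algebra map through an injective one with larger range.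
* `exists_invariant_lift`: for a semisimple comodule, invariants lift along surjective comodule maps.
* `invariant_mem_span_of_mem_map`: invariant elements of `J R` (`J` a stable ideal of `S`, `R` generated
  over `R^G` by the image of `S`) lie in the `R^G`-span of the image of `J ∩ S^G`.
-/

set_option autoImplicit false
universe u v w
open scoped TensorProduct

namespace Groth.Agent.Lib.helper22.StrEtale

section Etale

theorem etale_quotient_map {A B : Type*} [CommRing A] [CommRing B] [Algebra A B] [Algebra.Etale A B]
    (I : Ideal A) : Algebra.Etale (A ⧸ I) (B ⧸ I.map (algebraMap A B)) := by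
  have : Algebra.Etale (A ⧸ I) ((A ⧸ I) ⊗[A] B) := Algebra.Etale.baseChange A B (A ⧸ I)
  exact Algebra.Etale.of_equiv (Algebra.TensorProduct.quotIdealMapEquivQuotTensor B I).symm

theorem etale_of_ringEquiv_square {A B A' B' : Type u} [CommRing A] [CommRing B] [CommRing A']
    [CommRing B'] [Algebra A B] [Algebra A' B'] [Algebra.Etale A B]
    (e₁ : A ≃+* A') (e₂ : B ≃+* B')
    (h : ∀ a, e₂ (algebraMap A B a) = algebraMap A' B' (e₁ a)) : Algebra.Etale A' B' := by
  rw [← RingHom.etale_algebraMap]
  have h0 : (algebraMap A B).Etale := RingHom.etale_algebraMap.mpr inferInstance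
  have h1 : (e₂.toRingHom.comp (algebraMap A B)).Etale :=
    RingHom.Etale.respectsIso.1 (algebraMap A B) e₂ h0
  have h2 : ((e₂.toRingHom.comp (algebraMap A B)).comp e₁.symm.toRingHom).Etale :=
    RingHom.Etale.respectsIso.2 (e₂.toRingHom.comp (algebraMap A B)) e₁.symm h1
  convert h2 using 1
  apply RingHom.ext
  intro a'
  simp only [RingHom.comp_apply, RingEquiv.toRingHom_eq_coe, RingEquiv.coe_toRingHom]
  rw [h, RingEquiv.apply_symm_apply]

theorem etale_of_surjective_square {A B A' B' : Type u} [CommRing A] [CommRing B] [CommRing A']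
    [CommRing B'] [Algebra A B] [Algebra A' B'] [Algebra.Etale A B]
    (p : A →+* A') (q : B →+* B') (hp : Function.Surjective p) (hq : Function.Surjective q)
    (h : ∀ a, q (algebraMap A B a) = algebraMap A' B' (p a))
    (hker : RingHom.ker q ≤ (RingHom.ker p).map (algebraMap A B)) : Algebra.Etale A' B' := by
  have : Algebra.Etale (A ⧸ RingHom.ker p) (B ⧸ (RingHom.ker p).map (algebraMap A B)) :=
    etale_quotient_map _
  have hkerq : RingHom.ker q = (RingHom.ker p).map (algebraMap A B) := by
    refine le_antisymm hker ?_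
    rw [Ideal.map_le_iff_le_comap]
    intro a ha
    rw [Ideal.mem_comap, RingHom.mem_ker, h, (RingHom.mem_ker).mp ha, map_zero]
  let e₁ : A ⧸ RingHom.ker p ≃+* A' := RingHom.quotientKerEquivOfSurjective hp
  let e₂ : B ⧸ (RingHom.ker p).map (algebraMap A B) ≃+* B' :=
    (Ideal.quotEquivOfEq hkerq.symm).trans (RingHom.quotientKerEquivOfSurjective hq)
  refine etale_of_ringEquiv_square e₁ e₂ ?_
  intro a
  obtain ⟨a, rfl⟩ := Ideal.Quotient.mk_surjective a
  change e₂ (Ideal.Quotient.mk _ (algebraMap A B a)) = _
  simp only [e₁, e₂, RingEquiv.trans_apply, Ideal.quotEquivOfEq_mk,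
    RingHom.quotientKerEquivOfSurjective_apply_mk]
  exact h a

end Etale

section Lift

theorem exists_algHom_comp_eq {k : Type*} [CommSemiring k] {P Q T : Type*} [Semiring P] [Semiring Q]
    [Semiring T] [Algebra k P] [Algebra k Q] [Algebra k T] (j : Q →ₐ[k] T) (hj : Function.Injective j)
    (h : P →ₐ[k] T) (hr : ∀ x, h x ∈ j.range) : ∃ θ : P →ₐ[k] Q, j.comp θ = h := by
  let e : Q ≃ₐ[k] j.range := AlgEquiv.ofInjective j hj
  let h' : P →ₐ[k] j.range := h.codRestrict j.range hr
  refine ⟨e.symm.toAlgHom.comp h', ?_⟩
  apply AlgHom.ext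
  intro x
  have h1 : ((e (e.symm (h' x)) : j.range) : T) = h x := by
    rw [AlgEquiv.apply_symm_apply]; rfl
  rw [← h1]
  rfl

end Lift

section Comod

variable {k : Type u} [Field k] {A : Type v} [CommRing A] [Bialgebra k A]
variable {S : Type w} [CommRing S] [Algebra k S] [HopfRep.Comod k A S] [GLin.IsCoactAlg k A S]
variable {R : Type w} [CommRing R] [Algebra k R] [HopfRep.Comod k A R] [GLin.IsCoactAlg k A R]

omit [GLin.IsCoactAlg k A S] [GLin.IsCoactAlg k A R] in
/-- an equivariant algebra map is a comodule map -/
theorem isComodHom_of_equivariant (f : S →ₐ[k] R)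
    (h : ∀ s : S, HopfRep.Comod.coact (k := k) (A := A) (f s) =
      Algebra.TensorProduct.map f (AlgHom.id k A) (HopfRep.Comod.coact (k := k) (A := A) s)) :
    Hoch.IsComodHom A f.toLinearMap := by
  apply LinearMap.ext
  intro s
  simp only [LinearMap.comp_apply, AlgHom.toLinearMap_apply]
  rw [h]
  generalize HopfRep.Comod.coact (k := k) (A := A) s = t
  induction t using TensorProduct.induction_on with
  | zero => simp
  | tmul r a => simp
  | add t₁ t₂ h₁ h₂ => simp only [map_add, h₁, h₂]

omit [GLin.IsCoactAlg k A S] [GLin.IsCoactAlg k A R] in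
/-- invariants lift along surjective comodule maps between semisimple comodules -/
theorem exists_invariant_lift (hssS : HopfRep.IsSemisimpleComod k A S)
    (hssR : HopfRep.IsSemisimpleComod k A R) (f : S →ₗ[k] R) (hf : Hoch.IsComodHom A f)
    (hsurj : Function.Surjective f) (y : R) (hy : y ∈ HopfRep.fixedPts k A R) :
    ∃ x ∈ HopfRep.fixedPts k A S, f x = y := by
  obtain ⟨E, hE⟩ := exists_isReynolds (k := k) (A := A) (V := S) hssS
  obtain ⟨E', hE'⟩ := exists_isReynolds (k := k) (A := A) (V := R) hssR
  obtain ⟨s, rfl⟩ := hsurj y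
  refine ⟨E s, hE.mem_fixedPts s, ?_⟩
  rw [← hE.natural hssS hE' f hf s]
  exact (hE'.fix _).mpr hy

/-- the key computation: invariant elements of `J R` come from invariant elements of `J` -/
theorem invariant_mem_span_of_mem_map (hssS : HopfRep.IsSemisimpleComod k A S)
    (hssR : HopfRep.IsSemisimpleComod k A R) (f : S →ₐ[k] R) (hf : Hoch.IsComodHom A f.toLinearMap)
    (hgen : Submodule.span (GLin.invariants k A R) (Set.range f) = ⊤)
    (J : Ideal S) (hJ : HopfRep.IsSubcomod (k := k) (A := A) (J.restrictScalars k))
    (y : R) (hy : y ∈ J.map (f : S →+* R)) (hyinv : y ∈ GLin.invariants k A R) :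
    y ∈ Submodule.span (GLin.invariants k A R)
      (f '' {s | s ∈ J ∧ s ∈ GLin.invariants k A S}) := by
  obtain ⟨E, hE⟩ := exists_isReynolds (k := k) (A := A) (V := S) hssS
  obtain ⟨E', hE'⟩ := exists_isReynolds (k := k) (A := A) (V := R) hssR
  set N := Submodule.span (GLin.invariants k A R)
      (f '' {s | s ∈ J ∧ s ∈ GLin.invariants k A S}) with hN
  have key : ∀ y ∈ J.map (f : S →+* R), ∀ b : R, E' (b * y) ∈ N := by
    intro y hy
    induction hy using Submodule.span_induction with
    | mem y hy =>
      obtain ⟨j, hj, rfl⟩ := hy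
      intro b
      have hb : b ∈ Submodule.span (GLin.invariants k A R) (Set.range f) := by
        rw [hgen]; exact Submodule.mem_top
      induction hb using Submodule.span_induction with
      | mem b hb =>
        obtain ⟨s, rfl⟩ := hb
        have h1 : E' (f s * f j) = f (E (s * j)) := by
          rw [← map_mul]
          exact hE.natural hssS hE' f.toLinearMap hf (s * j)
        change E' (f s * f j) ∈ N
        rw [h1]
        apply Submodule.subset_span
        refine ⟨E (s * j), ⟨?_, hE.mem_fixedPts _⟩, rfl⟩
        exact hE.mem_of_isSubcomod hssS _ hJ (s * j) (J.mul_mem_left s hj)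
      | zero => simp
      | add b₁ b₂ _ _ h₁ h₂ =>
        rw [add_mul, map_add]
        exact N.add_mem h₁ h₂
      | smul c b' _ h' =>
        have h2 : E' (c • b' * (f : S →+* R) j) = c • E' (b' * (f : S →+* R) j) := by
          have h3 : c • b' * (f : S →+* R) j = (b' * (f : S →+* R) j) * (c : R) := by
            rw [Algebra.smul_def]
            change (c : R) * b' * _ = _
            ring
          rw [h3, hE'.map_mul hssR _ _ c.2, Algebra.smul_def]
          change _ = (c : R) * _
          ring
        rw [h2]
        exact N.smul_mem c h'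
    | zero => intro b; simp
    | add y₁ y₂ _ _ h₁ h₂ =>
      intro b
      rw [mul_add, map_add]
      exact N.add_mem (h₁ b) (h₂ b)
    | smul a y' _ h' =>
      intro b
      rw [smul_eq_mul, ← mul_assoc]
      exact h' (b * a)
  have := key y hy 1
  rw [one_mul, (hE'.fix y).mpr hyinv] at this
  exact this

end Comod

end Groth.Agent.Lib.helper22.StrEtale
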