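import Mathlib
import Groth.Prelude
import Groth.Agent.S9460
import Groth.Agent.S13198
import Groth.Agent.Lib.Helper24.IntegralHensel
import Groth.Agent.Lib.Helper24.QuasiFiniteLocal

/-!
# Strict henselizations and tensor products (integral/quasi-finite-colimit case)

General form of Stacks-style statement: `B^sh ⊗_{A^sh} C^sh → D^sh` is bijective as soon as
the local ring `(A^sh ⊗_A B)_Q` is integral over `A^sh`.
-/

set_option autoImplicit false
universe u
open Hensel
open scoped TensorProduct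

namespace Groth.Agent.Lib.Helper22.StrictHensTensor

open IsLocalRing TensorProduct

open IsLocalRing TensorProduct

theorem comap_maximalIdeal_of_isLocalHom {A B : Type*} [CommRing A] [CommRing B] [IsLocalRing A]
    [IsLocalRing B] (f : A →+* B) [IsLocalHom f] :
    (IsLocalRing.maximalIdeal B).comap f = IsLocalRing.maximalIdeal A := by
  ext x
  rw [Ideal.mem_comap, IsLocalRing.mem_maximalIdeal, IsLocalRing.mem_maximalIdeal,
    mem_nonunits_iff, mem_nonunits_iff, isUnit_map_iff]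

/-- A strictly henselian local ring is its own strict henselization. -/
theorem isStrictHenselization_self (E : Type u) [CommRing E] [HenselianLocalRing E]
    [IsSepClosed (IsLocalRing.ResidueField E)] :
    @Hensel.IsStrictHenselization E E _ _ _ _ (Algebra.id E) ⟨fun _ ha => ha⟩ :=
  @Hensel.IsStrictHenselization.mk E E _ _ _ _ (Algebra.id E) ⟨fun _ ha => ha⟩
    inferInstance
    (by
      refine @IsSepClosure.mk _ _ _ _ IsLocalRing.ResidueField.instAlgebra inferInstance
        (@Algebra.IsSeparable.mk _ _ _ _ IsLocalRing.ResidueField.instAlgebra (fun x => ?_))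
      obtain ⟨y, rfl⟩ := IsLocalRing.residue_surjective x
      exact @isSeparable_algebraMap _ _ _ _ IsLocalRing.ResidueField.instAlgebra
        (IsLocalRing.residue _ y))
    (fun T _ _ f _ τ hτ => ⟨f, ⟨RingHom.ext fun x => rfl, fun x => by
          have := RingHom.congr_fun hτ (IsLocalRing.residue _ x)
          exact this.symm⟩, fun g hg => by
        rw [← hg.1]
        exact RingHom.ext fun x => rfl⟩)

/-- integral case: `(R^sh ⊗_R S)_Q ≅ S^sh` when `(R^sh ⊗_R S)_Q` is integral over `R^sh`. -/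
theorem exists_equiv_loc_of_isIntegral (R : Type u) [CommRing R] (S : Type u)
    [CommRing S] [Algebra R S] (p : Ideal R) [p.IsPrime] (q : Ideal S)
    [q.IsPrime] [q.LiesOver p]
    (Rh : Type u) [CommRing Rh] [IsLocalRing Rh] [Algebra (Localization.AtPrime p) Rh]
    [IsLocalHom (algebraMap (Localization.AtPrime p) Rh)]
    [Hensel.IsStrictHenselization (Localization.AtPrime p) Rh] [Algebra R Rh]
    [IsScalarTower R (Localization.AtPrime p) Rh]
    (Sh : Type u) [CommRing Sh] [IsLocalRing Sh] [Algebra (Localization.AtPrime q) Sh]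
    [IsLocalHom (algebraMap (Localization.AtPrime q) Sh)]
    [Hensel.IsStrictHenselization (Localization.AtPrime q) Sh] [Algebra S Sh]
    [IsScalarTower S (Localization.AtPrime q) Sh] [Algebra R Sh] [IsScalarTower R S Sh]
    [Algebra Rh Sh] [IsScalarTower R Rh Sh] [IsLocalHom (algebraMap Rh Sh)]
    (hint : Algebra.IsIntegral Rh (Localization.AtPrime (Ideal.comap (Algebra.TensorProduct.lift
        (IsScalarTower.toAlgHom R Rh Sh) (IsScalarTower.toAlgHom R S Sh)
        (fun _ _ => Commute.all _ _)) (IsLocalRing.maximalIdeal Sh)))) :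
    ∃ e : Localization.AtPrime (Ideal.comap (Algebra.TensorProduct.lift
        (IsScalarTower.toAlgHom R Rh Sh) (IsScalarTower.toAlgHom R S Sh)
        (fun _ _ => Commute.all _ _)) (IsLocalRing.maximalIdeal Sh)) ≃+* Sh,
      ∀ d : Rh ⊗[R] S, e (algebraMap (Rh ⊗[R] S) _ d) =
        (Algebra.TensorProduct.lift (IsScalarTower.toAlgHom R Rh Sh)
          (IsScalarTower.toAlgHom R S Sh) (fun _ _ => Commute.all _ _)) d := by
  classical
  haveI hRhH : HenselianLocalRing Rh :=
    Hensel.IsStrictHenselization.henselian (R := Localization.AtPrime p)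
  have hsc : IsSepClosure (IsLocalRing.ResidueField (Localization.AtPrime p))
      (IsLocalRing.ResidueField Rh) :=
    Hensel.IsStrictHenselization.isSepClosure
  haveI hscRh : IsSepClosed (IsLocalRing.ResidueField Rh) := hsc.sep_closed
  have hcomapS : (IsLocalRing.maximalIdeal Sh).comap (algebraMap S Sh) = q := by
    rw [IsScalarTower.algebraMap_eq S (Localization.AtPrime q) Sh, ← Ideal.comap_comap,
      comap_maximalIdeal_of_isLocalHom]
    exact IsLocalization.AtPrime.under_maximalIdeal (Localization.AtPrime q) q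
  set φ : TensorProduct R Rh S →ₐ[R] Sh :=
    Algebra.TensorProduct.lift (IsScalarTower.toAlgHom R Rh Sh) (IsScalarTower.toAlgHom R S Sh)
      (fun _ _ => Commute.all _ _) with hφ
  have hφl : ∀ r : Rh, φ (algebraMap Rh (TensorProduct R Rh S) r) = algebraMap Rh Sh r := by
    intro r
    rw [Algebra.TensorProduct.algebraMap_apply, hφ, Algebra.TensorProduct.lift_tmul, map_one,
      mul_one]
    rfl
  have hφr : ∀ s : S, φ (Algebra.TensorProduct.includeRight s) = algebraMap S Sh s := by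
    intro s
    rw [Algebra.TensorProduct.includeRight_apply, hφ, Algebra.TensorProduct.lift_tmul, map_one,
      one_mul]
    rfl
  haveI hQlies : (Ideal.comap φ (IsLocalRing.maximalIdeal Sh)).LiesOver
      (IsLocalRing.maximalIdeal Rh) := by
    refine ⟨?_⟩
    ext r
    rw [Ideal.under_def, Ideal.mem_comap, Ideal.mem_comap, hφl,
      ← comap_maximalIdeal_of_isLocalHom (algebraMap Rh Sh), Ideal.mem_comap]
  haveI := hint
  haveI hDQh : HenselianLocalRing
      (Localization.AtPrime (Ideal.comap φ (IsLocalRing.maximalIdeal Sh))) :=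
    Groth.Agent.Lib.Helper24.IntegralHensel.henselian_of_isIntegral Rh _
  haveI hlocRhB : IsLocalHom (algebraMap Rh
      (Localization.AtPrime (Ideal.comap φ (IsLocalRing.maximalIdeal Sh)))) := by
    constructor
    intro a ha
    by_contra hnu
    have h1 : a ∈ IsLocalRing.maximalIdeal Rh := (IsLocalRing.mem_maximalIdeal _).2 hnu
    have h2 : algebraMap Rh (TensorProduct R Rh S) a ∈
        Ideal.comap φ (IsLocalRing.maximalIdeal Sh) := by
      have := hQlies.over
      rw [this] at h1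
      exact h1
    have h3 : algebraMap (TensorProduct R Rh S)
        (Localization.AtPrime (Ideal.comap φ (IsLocalRing.maximalIdeal Sh)))
        (algebraMap Rh (TensorProduct R Rh S) a) ∈ IsLocalRing.maximalIdeal _ :=
      (IsLocalization.AtPrime.to_map_mem_maximal_iff _
        (Ideal.comap φ (IsLocalRing.maximalIdeal Sh)) _).mpr h2
    rw [← IsScalarTower.algebraMap_apply] at h3
    exact (IsLocalRing.mem_maximalIdeal _).1 h3 ha
  haveI hscB : IsSepClosed (IsLocalRing.ResidueField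
      (Localization.AtPrime (Ideal.comap φ (IsLocalRing.maximalIdeal Sh)))) :=
    (Groth.Agent.Lib.Helper24.IntegralHensel.residueField_of_isSepClosed Rh _).1
  haveI hidloc : IsLocalHom (algebraMap
      (Localization.AtPrime (Ideal.comap φ (IsLocalRing.maximalIdeal Sh)))
      (Localization.AtPrime (Ideal.comap φ (IsLocalRing.maximalIdeal Sh)))) := ⟨fun _ ha => ha⟩
  haveI hself : Hensel.IsStrictHenselization
      (Localization.AtPrime (Ideal.comap φ (IsLocalRing.maximalIdeal Sh)))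
      (Localization.AtPrime (Ideal.comap φ (IsLocalRing.maximalIdeal Sh))) :=
    isStrictHenselization_self _
  obtain ⟨e, he⟩ := Groth.Agent.S9460.result R S p q Rh Sh
    (Localization.AtPrime (Ideal.comap φ (IsLocalRing.maximalIdeal Sh)))
  exact ⟨e, he⟩

/-- `R^sh → (R^sh ⊗_R S)_Q` is a local homomorphism. -/
theorem isLocalHom_loc (R : Type u) [CommRing R] (S : Type u)
    [CommRing S] [Algebra R S] (p : Ideal R) [p.IsPrime] (q : Ideal S)
    [q.IsPrime] [q.LiesOver p]
    (Rh : Type u) [CommRing Rh] [IsLocalRing Rh] [Algebra (Localization.AtPrime p) Rh]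
    [IsLocalHom (algebraMap (Localization.AtPrime p) Rh)]
    [Hensel.IsStrictHenselization (Localization.AtPrime p) Rh] [Algebra R Rh]
    [IsScalarTower R (Localization.AtPrime p) Rh]
    (Sh : Type u) [CommRing Sh] [IsLocalRing Sh] [Algebra (Localization.AtPrime q) Sh]
    [IsLocalHom (algebraMap (Localization.AtPrime q) Sh)]
    [Hensel.IsStrictHenselization (Localization.AtPrime q) Sh] [Algebra S Sh]
    [IsScalarTower S (Localization.AtPrime q) Sh] [Algebra R Sh] [IsScalarTower R S Sh]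
    [Algebra Rh Sh] [IsScalarTower R Rh Sh] [IsLocalHom (algebraMap Rh Sh)] :
    IsLocalHom (algebraMap Rh (Localization.AtPrime (Ideal.comap (Algebra.TensorProduct.lift
        (IsScalarTower.toAlgHom R Rh Sh) (IsScalarTower.toAlgHom R S Sh)
        (fun _ _ => Commute.all _ _)) (IsLocalRing.maximalIdeal Sh)))) := by
  set φ : TensorProduct R Rh S →ₐ[R] Sh :=
    Algebra.TensorProduct.lift (IsScalarTower.toAlgHom R Rh Sh) (IsScalarTower.toAlgHom R S Sh)
      (fun _ _ => Commute.all _ _) with hφ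
  have hφl : ∀ r : Rh, φ (algebraMap Rh (TensorProduct R Rh S) r) = algebraMap Rh Sh r := by
    intro r
    rw [Algebra.TensorProduct.algebraMap_apply, hφ, Algebra.TensorProduct.lift_tmul, map_one,
      mul_one]
    rfl
  constructor
  intro a ha
  by_contra hnu
  have h1 : a ∈ IsLocalRing.maximalIdeal Rh := (IsLocalRing.mem_maximalIdeal _).2 hnu
  have h2 : algebraMap Rh (TensorProduct R Rh S) a ∈
      Ideal.comap φ (IsLocalRing.maximalIdeal Sh) := by
    rw [Ideal.mem_comap, hφl]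
    rw [← comap_maximalIdeal_of_isLocalHom (algebraMap Rh Sh), Ideal.mem_comap] at h1
    exact h1
  have h3 : algebraMap (TensorProduct R Rh S)
      (Localization.AtPrime (Ideal.comap φ (IsLocalRing.maximalIdeal Sh)))
      (algebraMap Rh (TensorProduct R Rh S) a) ∈ IsLocalRing.maximalIdeal _ :=
    (IsLocalization.AtPrime.to_map_mem_maximal_iff _
      (Ideal.comap φ (IsLocalRing.maximalIdeal Sh)) _).mpr h2
  rw [← IsScalarTower.algebraMap_apply] at h3
  exact (IsLocalRing.mem_maximalIdeal _).1 h3 ha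

/-- Integrality criterion over a henselian local ring: an element of a local `H`-algebra `L`
which is a quotient `ρ t / ρ s` of two elements in the image of a quasi-finite `H`-algebra of
finite type is integral over `H`. -/
theorem isIntegral_of_quasiFinite_range (H : Type u) [CommRing H] [HenselianLocalRing H]
    (L : Type u) [CommRing L] [IsLocalRing L] [Algebra H L] [IsLocalHom (algebraMap H L)]
    (T : Type u) [CommRing T] [Algebra H T] [Algebra.FiniteType H T] [Algebra.QuasiFinite H T]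
    (ρ : T →ₐ[H] L) (t s : T) (x : L) (hs : IsUnit (ρ s)) (hx : x * ρ s = ρ t) :
    IsIntegral H x := by
  set Q : Ideal T := Ideal.comap ρ.toRingHom (maximalIdeal L) with hQ
  haveI : Q.IsPrime := Ideal.comap_isPrime _ _
  haveI : Q.LiesOver (maximalIdeal H) := by
    refine ⟨?_⟩
    ext h
    rw [Ideal.under_def, Ideal.mem_comap, hQ, Ideal.mem_comap]
    have : ρ.toRingHom (algebraMap H T h) = algebraMap H L h := ρ.commutes h
    rw [this, ← comap_maximalIdeal_of_isLocalHom (algebraMap H L), Ideal.mem_comap]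
  obtain ⟨hfin, -⟩ :=
    Groth.Agent.Lib.Helper24.QuasiFiniteLocal.finite_atPrime_of_quasiFiniteAt H T Q
  haveI := hfin
  have hunit : ∀ y : Q.primeCompl, IsUnit (ρ.toRingHom y) := by
    intro y
    by_contra h
    exact y.2 h
  let ρ' : Localization.AtPrime Q →+* L := IsLocalization.lift hunit
  have hρ' : ∀ d, ρ' (algebraMap T _ d) = ρ d := fun d => IsLocalization.lift_eq hunit d
  have hsQ : s ∈ Q.primeCompl := fun h => h hs
  have hx' : x = ρ' (IsLocalization.mk' _ t ⟨s, hsQ⟩) := by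
    apply hs.mul_left_injective
    show x * ρ s = ρ' (IsLocalization.mk' _ t ⟨s, hsQ⟩) * ρ s
    rw [hx, ← hρ' s, ← map_mul]
    have := IsLocalization.mk'_spec (Localization.AtPrime Q) t ⟨s, hsQ⟩
    rw [this, hρ']
  rw [hx']
  have hint : IsIntegral H (IsLocalization.mk' (Localization.AtPrime Q) t ⟨s, hsQ⟩) :=
    Algebra.IsIntegral.isIntegral _
  refine hint.map_of_comp_eq (RingHom.id H) ρ' ?_
  refine RingHom.ext (fun r => ?_)
  simp only [RingHom.comp_apply, RingHom.id_apply]
  rw [IsScalarTower.algebraMap_apply H T (Localization.AtPrime Q), hρ', ρ.commutes]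

/-- every element of `S ⊗_R B` comes from `S ⊗_R B₀` for `B₀` containing a suitable finite set. -/
theorem exists_finset_range {R S B : Type*} [CommRing R] [CommRing S] [CommRing B] [Algebra R S]
    [Algebra R B] (t : S ⊗[R] B) :
    ∃ F : Finset B, ∀ B₀ : Subalgebra R B, (↑F : Set B) ⊆ ↑B₀ →
      t ∈ Set.range (Algebra.TensorProduct.map (AlgHom.id S S) B₀.val) := by
  classical
  induction t using TensorProduct.induction_on with
  | zero => exact ⟨∅, fun B₀ _ => ⟨0, map_zero _⟩⟩
  | tmul a b =>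
    refine ⟨{b}, fun B₀ h => ⟨a ⊗ₜ[R] (⟨b, h (by simp)⟩ : B₀), ?_⟩⟩
    simp
  | add x y hx hy =>
    obtain ⟨F₁, h₁⟩ := hx
    obtain ⟨F₂, h₂⟩ := hy
    refine ⟨F₁ ∪ F₂, fun B₀ h => ?_⟩
    obtain ⟨x', hx'⟩ := h₁ B₀ (fun z hz => h (by simp [hz]))
    obtain ⟨y', hy'⟩ := h₂ B₀ (fun z hz => h (by simp [hz]))
    exact ⟨x' + y', by rw [map_add, hx', hy']⟩

theorem tensor_bijective_of_isIntegral (A B C : Type u) [CommRing A] [CommRing B]
    [CommRing C] [Algebra A B] [Algebra A C]
    (pA : Ideal A) [pA.IsPrime] (pB : Ideal B) [pB.IsPrime] [pB.LiesOver pA]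
    (pC : Ideal C) [pC.IsPrime] [pC.LiesOver pA]
    (pD : Ideal (B ⊗[A] C)) [pD.IsPrime] [pD.LiesOver pB]
    (hDC : pD.comap (Algebra.TensorProduct.includeRight : C →ₐ[A] B ⊗[A] C).toRingHom = pC)
    (Ash : Type u) [CommRing Ash] [IsLocalRing Ash] [Algebra (Localization.AtPrime pA) Ash]
    [IsLocalHom (algebraMap (Localization.AtPrime pA) Ash)]
    [Hensel.IsStrictHenselization (Localization.AtPrime pA) Ash] [Algebra A Ash]
    [IsScalarTower A (Localization.AtPrime pA) Ash]
    (Bsh : Type u) [CommRing Bsh] [IsLocalRing Bsh] [Algebra (Localization.AtPrime pB) Bsh]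
    [IsLocalHom (algebraMap (Localization.AtPrime pB) Bsh)]
    [Hensel.IsStrictHenselization (Localization.AtPrime pB) Bsh] [Algebra B Bsh]
    [IsScalarTower B (Localization.AtPrime pB) Bsh] [Algebra A Bsh] [IsScalarTower A B Bsh]
    [Algebra Ash Bsh] [IsScalarTower A Ash Bsh] [IsLocalHom (algebraMap Ash Bsh)]
    (Csh : Type u) [CommRing Csh] [IsLocalRing Csh] [Algebra (Localization.AtPrime pC) Csh]
    [IsLocalHom (algebraMap (Localization.AtPrime pC) Csh)]
    [Hensel.IsStrictHenselization (Localization.AtPrime pC) Csh] [Algebra C Csh]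
    [IsScalarTower C (Localization.AtPrime pC) Csh] [Algebra A Csh] [IsScalarTower A C Csh]
    [Algebra Ash Csh] [IsScalarTower A Ash Csh] [IsLocalHom (algebraMap Ash Csh)]
    (Dsh : Type u) [CommRing Dsh] [IsLocalRing Dsh] [Algebra (Localization.AtPrime pD) Dsh]
    [IsLocalHom (algebraMap (Localization.AtPrime pD) Dsh)]
    [Hensel.IsStrictHenselization (Localization.AtPrime pD) Dsh] [Algebra (B ⊗[A] C) Dsh]
    [IsScalarTower (B ⊗[A] C) (Localization.AtPrime pD) Dsh]
    [Algebra Bsh Dsh] [IsLocalHom (algebraMap Bsh Dsh)] [Algebra B Dsh] [IsScalarTower B Bsh Dsh]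
    [IsScalarTower B (B ⊗[A] C) Dsh]
    [Algebra Csh Dsh] [IsLocalHom (algebraMap Csh Dsh)]
    (hC : ∀ c : C, algebraMap Csh Dsh (algebraMap C Csh c) = algebraMap (B ⊗[A] C) Dsh (1 ⊗ₜ[A] c))
    [Algebra Ash Dsh] [IsScalarTower Ash Bsh Dsh] [IsScalarTower Ash Csh Dsh]
    (hint : Algebra.IsIntegral Ash (Localization.AtPrime (Ideal.comap (Algebra.TensorProduct.lift
        (IsScalarTower.toAlgHom A Ash Bsh) (IsScalarTower.toAlgHom A B Bsh)
        (fun _ _ => Commute.all _ _)) (IsLocalRing.maximalIdeal Bsh)))) :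
    Function.Bijective (Algebra.TensorProduct.lift (IsScalarTower.toAlgHom Ash Bsh Dsh)
      (IsScalarTower.toAlgHom Ash Csh Dsh) (fun _ _ => Commute.all _ _)) := by
  classical
  haveI hAshH : HenselianLocalRing Ash :=
    Hensel.IsStrictHenselization.henselian (R := Localization.AtPrime pA)
  haveI hscA : IsSepClosed (IsLocalRing.ResidueField Ash) :=
    (Hensel.IsStrictHenselization.isSepClosure (R := Localization.AtPrime pA) (S := Ash)).sep_closed
  haveI hCshH : HenselianLocalRing Csh :=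
    Hensel.IsStrictHenselization.henselian (R := Localization.AtPrime pC)
  haveI hscC : IsSepClosed (IsLocalRing.ResidueField Csh) :=
    (Hensel.IsStrictHenselization.isSepClosure (R := Localization.AtPrime pC) (S := Csh)).sep_closed
  set φ : Ash ⊗[A] B →ₐ[A] Bsh :=
    Algebra.TensorProduct.lift (IsScalarTower.toAlgHom A Ash Bsh) (IsScalarTower.toAlgHom A B Bsh)
      (fun _ _ => Commute.all _ _) with hφ
  set Q : Ideal (Ash ⊗[A] B) := Ideal.comap φ (IsLocalRing.maximalIdeal Bsh) with hQ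
  have hφl : ∀ r : Ash, φ (algebraMap Ash (Ash ⊗[A] B) r) = algebraMap Ash Bsh r := by
    intro r
    rw [Algebra.TensorProduct.algebraMap_apply, hφ, Algebra.TensorProduct.lift_tmul, map_one,
      mul_one]
    rfl
  have hφr : ∀ s : B, φ ((1 : Ash) ⊗ₜ[A] s) = algebraMap B Bsh s := by
    intro s
    rw [hφ, Algebra.TensorProduct.lift_tmul, map_one, one_mul]
    rfl
  obtain ⟨e₁, he₁⟩ : ∃ e : Localization.AtPrime Q ≃+* Bsh,
      ∀ d : Ash ⊗[A] B, e (algebraMap (Ash ⊗[A] B) _ d) = φ d :=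
    exists_equiv_loc_of_isIntegral A B pA pB Ash Bsh hint
  haveI hintB : Algebra.IsIntegral Ash Bsh := by
    refine ⟨fun x => ?_⟩
    obtain ⟨y, rfl⟩ := e₁.surjective x
    have hy : IsIntegral Ash y := hint.isIntegral y
    refine hy.map_of_comp_eq (RingHom.id Ash) e₁.toRingHom ?_
    refine RingHom.ext (fun r => ?_)
    simp only [RingHom.comp_apply, RingHom.id_apply, RingEquiv.toRingHom_eq_coe, RingHom.coe_coe]
    rw [IsScalarTower.algebraMap_apply Ash (Ash ⊗[A] B) (Localization.AtPrime Q), he₁, hφl]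
  haveI hpi : IsPurelyInseparable (IsLocalRing.ResidueField Ash) (IsLocalRing.ResidueField Bsh) := by
    have h := (Groth.Agent.Lib.Helper24.IntegralHensel.residueField_of_isSepClosed Ash Bsh).2
    have heq : (IsLocalRing.ResidueField.map (algebraMap Ash Bsh)).toAlgebra =
        (IsLocalRing.ResidueField.instAlgebra :
          Algebra (IsLocalRing.ResidueField Ash) (IsLocalRing.ResidueField Bsh)) := by
      apply Algebra.algebra_ext
      intro r
      obtain ⟨r, rfl⟩ := IsLocalRing.residue_surjective r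
      rfl
    exact heq ▸ h
  obtain ⟨hEloc, hErloc, -⟩ := Groth.Agent.S13198.result Ash Bsh Csh
  haveI := hEloc
  letI algTB : Algebra (Ash ⊗[A] B) Bsh := φ.toRingHom.toAlgebra
  have halgTB : ∀ t, algebraMap (Ash ⊗[A] B) Bsh t = φ t := fun t => rfl
  haveI towAshTB : IsScalarTower Ash (Ash ⊗[A] B) Bsh :=
    IsScalarTower.of_algebraMap_eq (fun r => (hφl r).symm)
  haveI hlocB : IsLocalization.AtPrime Bsh Q :=
    IsLocalization.isLocalization_of_algEquiv Q.primeCompl
      (AlgEquiv.ofRingEquiv (f := e₁) (fun t => he₁ t))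
  let ψ : Ash ⊗[A] B →ₐ[Ash] Bsh := IsScalarTower.toAlgHom Ash (Ash ⊗[A] B) Bsh
  have hψ : ∀ t, ψ t = φ t := fun t => rfl
  let μ : (Ash ⊗[A] B) ⊗[Ash] Csh →ₐ[Ash] Bsh ⊗[Ash] Csh :=
    Algebra.TensorProduct.map ψ (AlgHom.id Ash Csh)
  have hμ : ∀ t c, μ (t ⊗ₜ[Ash] c) = φ t ⊗ₜ[Ash] c := fun t c => by
    simp [μ, hψ]
  letI algT'E : Algebra ((Ash ⊗[A] B) ⊗[Ash] Csh) (Bsh ⊗[Ash] Csh) := μ.toRingHom.toAlgebra
  have halgT'E : ∀ x, algebraMap ((Ash ⊗[A] B) ⊗[Ash] Csh) (Bsh ⊗[Ash] Csh) x = μ x := fun x => rfl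
  haveI towTT'E : IsScalarTower (Ash ⊗[A] B) ((Ash ⊗[A] B) ⊗[Ash] Csh) (Bsh ⊗[Ash] Csh) :=
    by
      refine IsScalarTower.of_algebraMap_eq (R := Ash ⊗[A] B) (S := (Ash ⊗[A] B) ⊗[Ash] Csh)
        (A := Bsh ⊗[Ash] Csh) (fun t => ?_)
      have h1 : algebraMap (Ash ⊗[A] B) ((Ash ⊗[A] B) ⊗[Ash] Csh) t = t ⊗ₜ[Ash] (1 : Csh) := rfl
      have h2 : algebraMap (Ash ⊗[A] B) (Bsh ⊗[Ash] Csh) t =
          (algebraMap (Ash ⊗[A] B) Bsh t) ⊗ₜ[Ash] (1 : Csh) := rfl
      rw [h1, h2, halgT'E, hμ, halgTB]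
  haveI hlocE : IsLocalization (Algebra.algebraMapSubmonoid ((Ash ⊗[A] B) ⊗[Ash] Csh) Q.primeCompl)
      (Bsh ⊗[Ash] Csh) :=
    IsLocalization.tensorProduct_tensorProduct Ash Csh Q.primeCompl Bsh (by
      ext c
      simp only [RingHom.comp_apply, AlgHom.toRingHom_eq_coe, RingHom.coe_coe,
        Algebra.TensorProduct.includeRight_apply, halgT'E]
      rw [hμ, map_one])
  -- `E` is finite over `Csh`, hence strictly henselian
  letI algCE : Algebra Csh (Bsh ⊗[Ash] Csh) := Algebra.TensorProduct.rightAlgebra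
  have halgCE : ∀ c, algebraMap Csh (Bsh ⊗[Ash] Csh) c = (1 : Bsh) ⊗ₜ[Ash] c := fun c => rfl
  haveI hintCE : Algebra.IsIntegral Csh (Bsh ⊗[Ash] Csh) := by
    haveI : Algebra.IsIntegral Csh (Csh ⊗[Ash] Bsh) := Algebra.IsIntegral.tensorProduct Ash Csh Bsh
    let l : Csh ⊗[Ash] Bsh →ₐ[Csh] Bsh ⊗[Ash] Csh :=
      { toRingHom := (Algebra.TensorProduct.comm Ash Csh Bsh).toAlgHom.toRingHom
        commutes' := fun c => rfl }
    exact Algebra.IsIntegral.of_surjective l (Algebra.TensorProduct.comm Ash Csh Bsh).surjective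
  haveI hlocCE : IsLocalHom (algebraMap Csh (Bsh ⊗[Ash] Csh)) := hErloc
  haveI hEH : HenselianLocalRing (Bsh ⊗[Ash] Csh) :=
    Groth.Agent.Lib.Helper24.IntegralHensel.henselian_of_isIntegral Csh _
  haveI hscE : IsSepClosed (IsLocalRing.ResidueField (Bsh ⊗[Ash] Csh)) :=
    (Groth.Agent.Lib.Helper24.IntegralHensel.residueField_of_isSepClosed Csh _).1
  -- the map `Λ`
  set Λ : Bsh ⊗[Ash] Csh →ₐ[Ash] Dsh := Algebra.TensorProduct.lift (IsScalarTower.toAlgHom Ash Bsh Dsh)
      (IsScalarTower.toAlgHom Ash Csh Dsh) (fun _ _ => Commute.all _ _) with hΛ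
  have hΛt : ∀ b c, Λ (b ⊗ₜ[Ash] c) = algebraMap Bsh Dsh b * algebraMap Csh Dsh c := by
    intro b c
    rw [hΛ, Algebra.TensorProduct.lift_tmul]
    rfl
  have hΛloc : IsLocalHom Λ.toRingHom := by
    have hcomp : Λ.toRingHom.comp (algebraMap Csh (Bsh ⊗[Ash] Csh)) = algebraMap Csh Dsh := by
      ext c
      simp only [RingHom.comp_apply, halgCE, AlgHom.toRingHom_eq_coe, RingHom.coe_coe, hΛt, map_one,
        one_mul]
    have hcomap : ((IsLocalRing.maximalIdeal Dsh).comap Λ.toRingHom).comap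
        (algebraMap Csh (Bsh ⊗[Ash] Csh)) = IsLocalRing.maximalIdeal Csh := by
      rw [Ideal.comap_comap, hcomp, comap_maximalIdeal_of_isLocalHom]
    haveI : ((IsLocalRing.maximalIdeal Dsh).comap Λ.toRingHom).IsPrime := Ideal.comap_isPrime _ _
    have hmax : ((IsLocalRing.maximalIdeal Dsh).comap Λ.toRingHom).IsMaximal :=
      Ideal.isMaximal_of_isIntegral_of_isMaximal_comap _
        (by rw [hcomap]; exact IsLocalRing.maximalIdeal.isMaximal _)
    have heq := IsLocalRing.eq_maximalIdeal hmax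
    constructor
    intro x hx
    by_contra hnu
    have h1 : x ∈ IsLocalRing.maximalIdeal (Bsh ⊗[Ash] Csh) := hnu
    rw [← heq, Ideal.mem_comap] at h1
    exact h1 hx
  set Φ : (Ash ⊗[A] B) ⊗[Ash] Csh →+* Dsh :=
    Λ.toRingHom.comp (algebraMap ((Ash ⊗[A] B) ⊗[Ash] Csh) (Bsh ⊗[Ash] Csh)) with hΦ
  have hΦt : ∀ t c, Φ (t ⊗ₜ[Ash] c) = algebraMap Bsh Dsh (φ t) * algebraMap Csh Dsh c := by
    intro t c
    rw [hΦ, RingHom.comp_apply, halgT'E, hμ]
    exact hΛt _ _
  set Q' : Ideal ((Ash ⊗[A] B) ⊗[Ash] Csh) := Ideal.comap Φ (IsLocalRing.maximalIdeal Dsh) with hQ'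
  haveI hlocE' : IsLocalization.AtPrime (Bsh ⊗[Ash] Csh) Q' := by
    refine IsLocalization.of_le (M := Algebra.algebraMapSubmonoid ((Ash ⊗[A] B) ⊗[Ash] Csh)
      Q.primeCompl) Q'.primeCompl ?_ ?_
    · rintro _ ⟨t, ht, rfl⟩
      have h1 : algebraMap (Ash ⊗[A] B) ((Ash ⊗[A] B) ⊗[Ash] Csh) t = t ⊗ₜ[Ash] (1 : Csh) := rfl
      have h2 : IsUnit (φ t) := by
        by_contra hnu
        exact ht hnu
      intro h3
      have h4 : Φ (algebraMap (Ash ⊗[A] B) ((Ash ⊗[A] B) ⊗[Ash] Csh) t) ∈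
          IsLocalRing.maximalIdeal Dsh := h3
      rw [h1, hΦt, map_one, mul_one] at h4
      exact h4 (h2.map _)
    · intro r hr
      have h1 : IsUnit (Φ r) := by
        by_contra hnu
        exact hr hnu
      exact hΛloc.map_nonunit _ h1
  -- the maps `i₁`, `i₂`
  let i₁ : Csh →+* (Ash ⊗[A] B) ⊗[Ash] Csh :=
    (Algebra.TensorProduct.includeRight : Csh →ₐ[Ash] (Ash ⊗[A] B) ⊗[Ash] Csh).toRingHom
  have hi₁ : ∀ c, i₁ c = (1 : Ash ⊗[A] B) ⊗ₜ[Ash] c := fun c => rfl
  letI algAT' : Algebra A ((Ash ⊗[A] B) ⊗[Ash] Csh) :=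
    ((algebraMap Ash ((Ash ⊗[A] B) ⊗[Ash] Csh)).comp (algebraMap A Ash)).toAlgebra
  have halgAT' : ∀ a, algebraMap A ((Ash ⊗[A] B) ⊗[Ash] Csh) a =
      ((algebraMap A Ash a) ⊗ₜ[A] (1 : B)) ⊗ₜ[Ash] (1 : Csh) := fun a => rfl
  let f : B →ₐ[A] (Ash ⊗[A] B) ⊗[Ash] Csh :=
    { toRingHom := (Algebra.TensorProduct.includeLeftRingHom :
          (Ash ⊗[A] B) →+* (Ash ⊗[A] B) ⊗[Ash] Csh).comp
        (Algebra.TensorProduct.includeRight : B →ₐ[A] Ash ⊗[A] B).toRingHom
      commutes' := fun a => by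
        rw [halgAT']
        show ((1 : Ash) ⊗ₜ[A] (algebraMap A B a)) ⊗ₜ[Ash] (1 : Csh) = _
        rw [Algebra.algebraMap_eq_smul_one, Algebra.algebraMap_eq_smul_one, TensorProduct.smul_tmul] }
  have hf : ∀ b, f b = ((1 : Ash) ⊗ₜ[A] b) ⊗ₜ[Ash] (1 : Csh) := fun b => rfl
  let g : C →ₐ[A] (Ash ⊗[A] B) ⊗[Ash] Csh :=
    { toRingHom := i₁.comp (algebraMap C Csh)
      commutes' := fun a => by
        rw [halgAT']
        show (1 : Ash ⊗[A] B) ⊗ₜ[Ash] (algebraMap C Csh (algebraMap A C a)) = _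
        rw [← IsScalarTower.algebraMap_apply A C Csh, IsScalarTower.algebraMap_apply A Ash Csh,
          Algebra.algebraMap_eq_smul_one (algebraMap A Ash a), ← TensorProduct.smul_tmul,
          Algebra.TensorProduct.one_def, TensorProduct.smul_tmul', smul_eq_mul, mul_one] }
  have hg : ∀ c, g c = (1 : Ash ⊗[A] B) ⊗ₜ[Ash] (algebraMap C Csh c) := fun c => rfl
  let i₂ : B ⊗[A] C →+* (Ash ⊗[A] B) ⊗[Ash] Csh :=
    (Algebra.TensorProduct.productMap f g).toRingHom
  have hi₂ : ∀ b c, i₂ (b ⊗ₜ[A] c) =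
      ((1 : Ash) ⊗ₜ[A] b) ⊗ₜ[Ash] (algebraMap C Csh c) := by
    intro b c
    show (Algebra.TensorProduct.productMap f g) (b ⊗ₜ[A] c) = _
    rw [Algebra.TensorProduct.productMap_apply_tmul, hf, hg, Algebra.TensorProduct.tmul_mul_tmul, mul_one,
      one_mul]
  have h1 : ∀ s : B ⊗[A] C, Φ (i₂ s) = algebraMap (Localization.AtPrime pD) Dsh
      (algebraMap (B ⊗[A] C) (Localization.AtPrime pD) s) := by
    intro s
    rw [← IsScalarTower.algebraMap_apply (B ⊗[A] C) (Localization.AtPrime pD) Dsh]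
    induction s using TensorProduct.induction_on with
    | zero => simp
    | tmul b c =>
      rw [hi₂, hΦt, hφr, ← IsScalarTower.algebraMap_apply B Bsh Dsh, hC,
        IsScalarTower.algebraMap_apply B (B ⊗[A] C) Dsh, ← map_mul]
      congr 1
      rw [Algebra.TensorProduct.algebraMap_apply, Algebra.algebraMap_self, RingHom.id_apply,
        Algebra.TensorProduct.tmul_mul_tmul, mul_one, one_mul]
    | add x y hx hy => rw [map_add, map_add, map_add, hx, hy]
  have h3 : ∀ r : C, i₁ (algebraMap (Localization.AtPrime pC) Csh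
      (algebraMap C (Localization.AtPrime pC) r)) =
      i₂ ((Algebra.TensorProduct.includeRight : C →ₐ[A] B ⊗[A] C).toRingHom r) := by
    intro r
    rw [← IsScalarTower.algebraMap_apply C (Localization.AtPrime pC) Csh, hi₁]
    show _ = i₂ ((1 : B) ⊗ₜ[A] r)
    rw [hi₂]
    rfl
  have h5 : ∀ (D' : Type u) [CommRing D'] (g₁ g₂ : (Ash ⊗[A] B) ⊗[Ash] Csh →+* D'),
      g₁.comp i₁ = g₂.comp i₁ → g₁.comp i₂ = g₂.comp i₂ → g₁ = g₂ := by
    intro D' _ g₁ g₂ e₁' e₂'
    apply RingHom.ext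
    intro x
    induction x using TensorProduct.induction_on with
    | zero => simp
    | tmul t c =>
      induction t using TensorProduct.induction_on with
      | zero => simp
      | tmul a b =>
        have e : (a ⊗ₜ[A] b) ⊗ₜ[Ash] c = i₂ (b ⊗ₜ[A] (1 : C)) * i₁ (a • c) := by
          rw [hi₂, hi₁, map_one, Algebra.TensorProduct.tmul_mul_tmul, mul_one, one_mul,
            ← TensorProduct.smul_tmul, TensorProduct.smul_tmul', smul_eq_mul, mul_one]
        rw [e, map_mul, map_mul]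
        have e1 := RingHom.congr_fun e₁' (a • c)
        have e2 := RingHom.congr_fun e₂' (b ⊗ₜ[A] (1 : C))
        simp only [RingHom.comp_apply] at e1 e2
        rw [e1, e2]
      | add x y hx hy => rw [TensorProduct.add_tmul, map_add, map_add, hx, hy]
    | add x y hx hy => rw [map_add, map_add, hx, hy]
  haveI hidE : IsLocalHom (algebraMap (Bsh ⊗[Ash] Csh) (Bsh ⊗[Ash] Csh)) := ⟨fun _ ha => ha⟩
  haveI hselfE : Hensel.IsStrictHenselization (Bsh ⊗[Ash] Csh) (Bsh ⊗[Ash] Csh) :=
    isStrictHenselization_self _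
  obtain ⟨e, he⟩ := Groth.Agent.S9460.exists_ringEquiv_strict C pC (Localization.AtPrime pC) Csh
    (B ⊗[A] C) pD (Localization.AtPrime pD) Dsh
    (Algebra.TensorProduct.includeRight : C →ₐ[A] B ⊗[A] C).toRingHom hDC.ge
    ((Ash ⊗[A] B) ⊗[Ash] Csh) Φ i₁ i₂ h1 h3 h5 (Bsh ⊗[Ash] Csh) (Bsh ⊗[Ash] Csh)
  have hfinal : Λ.toRingHom = e.toRingHom := by
    apply IsLocalization.ringHom_ext Q'.primeCompl
    refine RingHom.ext (fun d => ?_)
    have := he d
    rw [Algebra.algebraMap_self, RingHom.id_apply] at this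
    simp only [RingHom.comp_apply, RingEquiv.toRingHom_eq_coe, RingHom.coe_coe]
    rw [this]
    rfl
  have hfun : ∀ x, Λ x = e x := fun x => RingHom.congr_fun hfinal x
  refine ⟨fun x y hxy => e.injective (by rw [← hfun, ← hfun, hxy]), fun y => ?_⟩
  obtain ⟨x, hx⟩ := e.surjective y
  exact ⟨x, by rw [hfun, hx]⟩


end Groth.Agent.Lib.Helper22.StrictHensTensor
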