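import Mathlib
import Groth.Prelude.Def_SymTen
import Groth.Agent.Lib.Helper22.Polar

/-!
# Symmetric tensors are spanned by powers when `n!` is invertible
-/

namespace Groth.Agent.Lib.Helper22.SymSpan
open scoped TensorProduct
universe u

variable (A : Type u) [CommRing A] (R : Type u) [CommRing R] [Algebra A R] (n : ℕ)

/-- The span of the pure powers `r ⊗ ⋯ ⊗ r` in the tensor power. -/
noncomputable def W : Submodule A (⨂[A] _ : Fin n, R) :=
  Submodule.span A (Set.range fun r : R => PiTensorProduct.tprod A (fun _ : Fin n => r))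

/-- The sum over all permutations of a pure tensor is an integer combination of powers. -/
lemma symz_tprod_eq (f : Fin n → R) :
    ∑ σ : Equiv.Perm (Fin n),
      PiTensorProduct.reindex A (fun _ : Fin n => R) σ (PiTensorProduct.tprod A f) =
    ∑ I : Finset (Fin n), ((-1 : ℤ) ^ n * (-1) ^ I.card) •
      PiTensorProduct.tprod A (fun _ : Fin n => ∑ i ∈ I, f i) := by
  rw [← Groth.Agent.Lib.Helper22.Polar.polarization (PiTensorProduct.tprod A) f]
  refine Fintype.sum_equiv (Equiv.inv (Equiv.Perm (Fin n))) _ _ fun σ => ?_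
  rw [PiTensorProduct.reindex_tprod]
  rfl

lemma symz_tprod_mem (f : Fin n → R) :
    ∑ σ : Equiv.Perm (Fin n),
      PiTensorProduct.reindex A (fun _ : Fin n => R) σ (PiTensorProduct.tprod A f) ∈ W A R n := by
  rw [symz_tprod_eq]
  refine Submodule.sum_mem _ fun I _ => ?_
  have hm : PiTensorProduct.tprod A (fun _ : Fin n => ∑ i ∈ I, f i) ∈ W A R n :=
    Submodule.subset_span ⟨∑ i ∈ I, f i, rfl⟩
  exact zsmul_mem hm _

lemma symz_mem (x : ⨂[A] _ : Fin n, R) :
    ∑ σ : Equiv.Perm (Fin n), PiTensorProduct.reindex A (fun _ : Fin n => R) σ x ∈ W A R n := by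
  have hx : x ∈ Submodule.span A (Set.range (PiTensorProduct.tprod A (s := fun _ : Fin n => R))) := by
    rw [PiTensorProduct.span_tprod_eq_top]; trivial
  induction hx using Submodule.span_induction with
  | mem x hx => obtain ⟨f, rfl⟩ := hx; exact symz_tprod_mem A R n f
  | zero => simp
  | add x y _ _ hx hy =>
    simp only [map_add, Finset.sum_add_distrib]
    exact Submodule.add_mem _ hx hy
  | smul a x _ hx =>
    simp only [map_smul, ← Finset.smul_sum]
    exact Submodule.smul_mem _ a hx

/-- When `n!` is invertible, a symmetric tensor lies in the span of the powers. -/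
theorem TS_mem_W (hfact : IsUnit ((Nat.factorial n : ℕ) : A)) (t : ⨂[A] _ : Fin n, R)
    (ht : t ∈ SymTen.TS A R n) : t ∈ W A R n := by
  have hsym : ∑ σ : Equiv.Perm (Fin n), PiTensorProduct.reindex A (fun _ : Fin n => R) σ t =
      ((Nat.factorial n : ℕ) : A) • t := by
    rw [Finset.sum_congr rfl (fun σ _ => ht σ), Finset.sum_const, Finset.card_univ,
      Fintype.card_perm, Fintype.card_fin, Nat.cast_smul_eq_nsmul]
  obtain ⟨u, hu⟩ := hfact
  have h2 : t = ((u⁻¹ : Aˣ) : A) •
      ∑ σ : Equiv.Perm (Fin n), PiTensorProduct.reindex A (fun _ : Fin n => R) σ t := by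
    rw [hsym, smul_smul, ← hu, Units.inv_mul, one_smul]
  rw [h2]
  exact Submodule.smul_mem _ _ (symz_mem A R n t)

/-- The same inside `TS`: every symmetric tensor is a combination of `tpow r`. -/
theorem TS_mem_span_tpow (hfact : IsUnit ((Nat.factorial n : ℕ) : A)) (t : SymTen.TS A R n) :
    t ∈ Submodule.span A (Set.range fun r : R => SymTen.tpow A R n r) := by
  have h := TS_mem_W A R n hfact t.1 t.2
  have hrange : (Set.range fun r : R => PiTensorProduct.tprod A (fun _ : Fin n => r)) =
      (SymTen.TS A R n).val.toLinearMap '' (Set.range fun r : R => SymTen.tpow A R n r) := by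
    ext x
    constructor
    · rintro ⟨r, rfl⟩
      exact ⟨SymTen.tpow A R n r, ⟨r, rfl⟩, rfl⟩
    · rintro ⟨_, ⟨r, rfl⟩, rfl⟩
      exact ⟨r, rfl⟩
  rw [W, hrange, Submodule.span_image] at h
  obtain ⟨t', ht', hEq⟩ := h
  have : t' = t := Subtype.ext hEq
  rwa [← this]

end Groth.Agent.Lib.Helper22.SymSpan
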