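import Mathlib
import Groth.Prelude.Def_RegImm
import Groth.Agent.LibSyntSmoothQuot29
import Groth.Agent.LibFibReg3_29
import Groth.Agent.LibQuotLoc29
import Groth.Agent.LibSyntTransport29

/-!
# helper22: quotients of syntomic algebras by regular sequences with flat quotients

* `isCIOver_quotient`: a complete intersection local ring modulo a regular sequence is one.
* `isLCIOver_quotient`: an lci algebra over a field modulo a weakly regular sequence is lci.
* `isSyntomic_quotient_regFlat`: a syntomic algebra modulo a sequence which is weakly regular with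
  flat successive quotients (`RegFlat`) is syntomic.
-/

set_option autoImplicit false
set_option linter.style.haveILetI false
universe u
open RingTheory.Sequence IsLocalRing TensorProduct

namespace Groth.Agent.Lib.helper22.SyntLiftA

/-- weak regularity of a concatenation, along a surjection. -/
theorem isWeaklyRegular_append_of_surjective {A B : Type u} [CommRing A] [CommRing B]
    (π : A →+* B) (hπ : Function.Surjective π) (fs gs : List A)
    (hker : RingHom.ker π = Ideal.ofList fs) (hfs : IsWeaklyRegular A fs)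
    (hgs : IsWeaklyRegular B (gs.map π)) : IsWeaklyRegular A (fs ++ gs) := by
  rw [isWeaklyRegular_append_iff]
  refine ⟨hfs, ?_⟩
  letI := π.toAlgebra
  have h1 : IsWeaklyRegular B gs :=
    (isWeaklyRegular_map_algebraMap_iff (R := A) (S := B) (M := B) gs).mp hgs
  have hk : (Ideal.ofList fs • ⊤ : Submodule A A) = LinearMap.ker (Algebra.linearMap A B) := by
    rw [smul_eq_mul, Ideal.mul_top, ← hker]
    ext x
    simp [RingHom.mem_ker, RingHom.algebraMap_toAlgebra]
  let e : (A ⧸ (Ideal.ofList fs • ⊤ : Submodule A A)) ≃ₗ[A] B :=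
    (Submodule.quotEquivOfEq _ _ hk).trans
      (LinearMap.quotKerEquivOfSurjective (Algebra.linearMap A B) hπ)
  exact (e.isWeaklyRegular_congr gs).mpr h1

/-- a complete intersection local ring modulo a weakly regular sequence in the maximal ideal is a
complete intersection. -/
theorem isCIOver_quotient (k S : Type u) [Field k] [CommRing S] [IsLocalRing S] [Algebra k S]
    (h : Synt.IsCIOver k S) (zs : List S) (hz : ∀ z ∈ zs, z ∈ maximalIdeal S)
    (hreg : IsWeaklyRegular S zs) [IsLocalRing (S ⧸ Ideal.ofList zs)] :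
    Synt.IsCIOver k (S ⧸ Ideal.ofList zs) := by
  obtain ⟨R', _, _, _, hess, rs', hmem, hreg', ⟨e⟩⟩ := h
  let π : R' →ₐ[k] S := e.symm.toAlgHom.comp (Ideal.Quotient.mkₐ k (Ideal.ofList rs'))
  have hπ : Function.Surjective π :=
    e.symm.surjective.comp (Ideal.Quotient.mkₐ_surjective k _)
  have hker : RingHom.ker π.toRingHom = Ideal.ofList rs' := by
    ext x
    rw [RingHom.mem_ker]
    change e.symm (Ideal.Quotient.mk _ x) = 0 ↔ _
    rw [map_eq_zero_iff _ e.symm.injective, Ideal.Quotient.eq_zero_iff_mem]
  obtain ⟨zt, hzt⟩ := (List.map_surjective_iff.mpr hπ) zs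
  have h1 : IsWeaklyRegular R' (rs' ++ zt) :=
    isWeaklyRegular_append_of_surjective π.toRingHom hπ rs' zt hker hreg'.toIsWeaklyRegular
      (by change IsWeaklyRegular S (zt.map π); rw [hzt]; exact hreg)
  have hmem' : ∀ r ∈ rs' ++ zt, r ∈ maximalIdeal R' := by
    intro r hr
    rcases List.mem_append.mp hr with hr | hr
    · exact hmem r hr
    · rw [mem_maximalIdeal, mem_nonunits_iff]
      intro hu
      have h2 : π r ∈ zs := by rw [← hzt]; exact List.mem_map_of_mem hr
      have h3 := hz _ h2
      rw [mem_maximalIdeal, mem_nonunits_iff] at h3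
      exact h3 (hu.map π)
  have hreg2 : IsRegular R' (rs' ++ zt) :=
    IsRegular.of_isWeaklyRegular_of_mem_maximalIdeal R' hmem' h1
  let π2 : R' →ₐ[k] S ⧸ Ideal.ofList zs := (Ideal.Quotient.mkₐ k (Ideal.ofList zs)).comp π
  have hπ2 : Function.Surjective π2 := (Ideal.Quotient.mkₐ_surjective k _).comp hπ
  have hker2 : RingHom.ker π2.toRingHom = Ideal.ofList (rs' ++ zt) := by
    ext x
    rw [RingHom.mem_ker]
    change Ideal.Quotient.mk _ (π x) = 0 ↔ _
    rw [Ideal.Quotient.eq_zero_iff_mem, Ideal.ofList_append, ← hker]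
    have hmap : Ideal.ofList zs = (Ideal.ofList zt).map π.toRingHom := by
      rw [Ideal.map_ofList]
      change _ = Ideal.ofList (zt.map π)
      rw [hzt]
    rw [hmap]
    constructor
    · intro hx
      obtain ⟨y, hy, hxy⟩ := (Ideal.mem_map_iff_of_surjective π.toRingHom hπ).mp hx
      have : x - y ∈ RingHom.ker π.toRingHom := by
        rw [RingHom.mem_ker, map_sub, sub_eq_zero]
        exact hxy.symm
      have e2 : x = (x - y) + y := by ring
      rw [e2]
      exact Submodule.add_mem_sup this hy
    · intro hx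
      obtain ⟨a, ha, b, hb, rfl⟩ := Submodule.mem_sup.mp hx
      have ha' : π a = 0 := RingHom.mem_ker.mp ha
      change π (a + b) ∈ _
      rw [map_add, ha', zero_add]
      exact Ideal.mem_map_of_mem _ hb
  refine ⟨R', inferInstance, inferInstance, inferInstance, hess, rs' ++ zt, hmem', hreg2, ⟨?_⟩⟩
  exact (Ideal.quotientKerAlgEquivOfSurjective hπ2).symm.trans
    (Ideal.quotientEquivAlgOfEq k hker2)

open Groth.Agent.Lib.helper17.CIField Groth.Agent.LibQuotLoc29 in
/-- a local complete intersection algebra over a field modulo a weakly regular sequence is a local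
complete intersection. -/
theorem isLCIOver_quotient (k D : Type u) [Field k] [CommRing D] [Algebra k D]
    (h : Synt.IsLCIOver k D) (zs : List D) (hreg : IsWeaklyRegular D zs) :
    Synt.IsLCIOver k (D ⧸ Ideal.ofList zs) := by
  haveI : Algebra.FiniteType k D := h.1
  haveI : Algebra.FiniteType k (D ⧸ Ideal.ofList zs) :=
    Algebra.FiniteType.of_surjective (Ideal.Quotient.mkₐ k (Ideal.ofList zs))
      (Ideal.Quotient.mkₐ_surjective k _)
  rw [isLCIOver_iff_forall_isCIOver]
  intro Qb
  obtain ⟨Q, hQ⟩ : ∃ Q : Ideal D, Q = Qb.asIdeal.comap (Ideal.Quotient.mk (Ideal.ofList zs)) :=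
    ⟨_, rfl⟩
  haveI : Q.IsPrime := by rw [hQ]; exact Ideal.comap_isPrime _ _
  have hIQ : Ideal.ofList zs ≤ Q := by
    intro x hx
    rw [hQ, Ideal.mem_comap, Ideal.Quotient.eq_zero_iff_mem.mpr hx]
    exact Ideal.zero_mem _
  have hmap : Q.map (Ideal.Quotient.mk (Ideal.ofList zs)) = Qb.asIdeal := by
    rw [hQ]
    exact Ideal.map_comap_of_surjective _ Ideal.Quotient.mk_surjective _
  haveI hprime := isPrime_map_mk D (Ideal.ofList zs) Q hIQ
  refine (isCIOver_atPrime_congr k hmap).mp ?_
  haveI hloc := isLocalization_atPrime_quotient D (Ideal.ofList zs) Q hIQ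
  -- the target local ring
  have hmapI : (Ideal.ofList zs).map (algebraMap D (Localization.AtPrime Q)) =
      Ideal.ofList (zs.map (algebraMap D (Localization.AtPrime Q))) := Ideal.map_ofList _ _
  have hmem : ∀ z ∈ zs.map (algebraMap D (Localization.AtPrime Q)),
      z ∈ maximalIdeal (Localization.AtPrime Q) := by
    intro z hz
    obtain ⟨x, hx, rfl⟩ := List.mem_map.mp hz
    rw [IsLocalization.AtPrime.to_map_mem_maximal_iff (Localization.AtPrime Q) Q]
    exact hIQ (Ideal.subset_span hx)
  have hne : Ideal.ofList (zs.map (algebraMap D (Localization.AtPrime Q))) ≠ ⊤ := by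
    intro htop
    have : Ideal.ofList (zs.map (algebraMap D (Localization.AtPrime Q))) ≤
        maximalIdeal (Localization.AtPrime Q) := Ideal.span_le.mpr hmem
    rw [htop] at this
    exact (maximalIdeal.isMaximal (Localization.AtPrime Q)).ne_top (top_le_iff.mp this)
  haveI : Nontrivial (Localization.AtPrime Q ⧸
      Ideal.ofList (zs.map (algebraMap D (Localization.AtPrime Q)))) :=
    Ideal.Quotient.nontrivial_iff.mpr hne
  haveI : IsLocalRing (Localization.AtPrime Q ⧸
      Ideal.ofList (zs.map (algebraMap D (Localization.AtPrime Q)))) :=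
    .of_surjective' _ Ideal.Quotient.mk_surjective
  have hci := isCIOver_quotient k (Localization.AtPrime Q)
    (isCIOver_atPrime_of_isLCIOver k h Q) (zs.map (algebraMap D (Localization.AtPrime Q))) hmem
    (hreg.of_isLocalization (Localization.AtPrime Q) Q.primeCompl)
  haveI : IsScalarTower k (D ⧸ Ideal.ofList zs)
      (Localization.AtPrime Q ⧸ (Ideal.ofList zs).map (algebraMap D (Localization.AtPrime Q))) :=
    IsScalarTower.of_algebraMap_eq fun x => rfl
  let e1 : Localization.AtPrime (Q.map (Ideal.Quotient.mk (Ideal.ofList zs))) ≃ₐ[k]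
      (Localization.AtPrime Q ⧸ (Ideal.ofList zs).map (algebraMap D (Localization.AtPrime Q))) :=
    (IsLocalization.algEquiv (Q.map (Ideal.Quotient.mk (Ideal.ofList zs))).primeCompl
      (Localization.AtPrime (Q.map (Ideal.Quotient.mk (Ideal.ofList zs))))
      (Localization.AtPrime Q ⧸ (Ideal.ofList zs).map (algebraMap D (Localization.AtPrime Q)))).restrictScalars k
  let e2 : (Localization.AtPrime Q ⧸ (Ideal.ofList zs).map (algebraMap D (Localization.AtPrime Q))) ≃ₐ[k]
      (Localization.AtPrime Q ⧸
        Ideal.ofList (zs.map (algebraMap D (Localization.AtPrime Q)))) :=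
    Ideal.quotientEquivAlgOfEq k hmapI
  exact isCIOver_of_algEquiv k _ _ (e1.trans e2).symm hci

open Groth.Agent.LibFibReg29 Groth.Agent.LibSyntSmoothQuot29 in
/-- a syntomic algebra modulo a regular sequence with flat quotients is syntomic. -/
theorem isSyntomic_quotient_regFlat {R B : Type u} [CommRing R] [CommRing B] [Algebra R B]
    (hB : Synt.IsSyntomic R B) (zs : List B) (h : RegFlat R B zs) :
    Synt.IsSyntomic R (B ⧸ Ideal.ofList zs) := by
  classical
  haveI : Algebra.FinitePresentation R B := hB.2.1
  have hfg : (Ideal.ofList zs).FG :=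
    ⟨zs.toFinset, by rw [Ideal.ofList]; congr 1; ext x; simp⟩
  haveI : Algebra.FinitePresentation R (B ⧸ Ideal.ofList zs) :=
    Algebra.FinitePresentation.quotient hfg
  refine ⟨h.flat_quotient, inferInstance, fun p => ?_⟩
  have hφs := fibQuot_surjective R B (Ideal.ofList zs) p.asIdeal
  have hker := ker_fibQuot R B (Ideal.ofList zs) p.asIdeal
  have hmap : (Ideal.ofList zs).map
      (Algebra.TensorProduct.includeRight : B →ₐ[R] p.asIdeal.Fiber B).toRingHom =
      Ideal.ofList (zs.map (Algebra.TensorProduct.includeRight : B →ₐ[R] p.asIdeal.Fiber B)) :=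
    Ideal.map_ofList _ _
  have hbc := regFlat_baseChange R p.asIdeal.ResidueField B zs h
  have hlci := isLCIOver_quotient p.asIdeal.ResidueField (p.asIdeal.Fiber B) (hB.2.2 p) _ hbc.1
  exact Groth.Agent.LibSyntTransport29.isLCIOver_of_algEquiv
    ((Ideal.quotientEquivAlgOfEq p.asIdeal.ResidueField (hker.trans hmap)).symm.trans
      (Ideal.quotientKerAlgEquivOfSurjective hφs)) hlci

end Groth.Agent.Lib.helper22.SyntLiftA
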