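import Mathlib
import Groth.Prelude.Def_CAlgX
import Groth.Agent.Lib.Helper17.H1Reg
import Groth.Agent.Lib.Helper7.RegSection

set_option autoImplicit false
universe u
open RingTheory.Sequence IsLocalRing Matrix

namespace Groth.Agent.Lib.helper22.SyntLiftB

/-- `H_1`-regularity is invariant under an invertible linear change of the sequence. -/
theorem isH1Regular_of_matrix {R : Type u} [CommRing R] {c : ℕ} (f f' : Fin c → R)
    (M M' : Matrix (Fin c) (Fin c) R) (hf' : f' = M *ᵥ f) (hf : f = M' *ᵥ f')
    (hMM' : M * M' = 1) (h : CAlgX.IsH1Regular f) : CAlgX.IsH1Regular f' := by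
  classical
  intro a' ha'
  -- the relation on `f`
  have ha : ∑ j, (a' ᵥ* M) j * f j = 0 := by
    have : ∑ j, (a' ᵥ* M) j * f j = (a' ᵥ* M) ⬝ᵥ f := rfl
    rw [this, ← dotProduct_mulVec, ← hf']
    exact ha'
  have h1 := h (a' ᵥ* M) ha
  -- apply `v ↦ v ᵥ* M'`
  let Φ : (Fin c → R) →ₗ[R] (Fin c → R) := Matrix.vecMulLinear M'
  have hΦ : ∀ v, Φ v = v ᵥ* M' := fun v => rfl
  have h2 : Φ (a' ᵥ* M) = a' := by
    rw [hΦ, vecMul_vecMul, hMM', vecMul_one]
  rw [← h2]
  have h3 : Submodule.span R {v : Fin c → R | ∃ i j : Fin c,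
      v = Pi.single i (f j) - Pi.single j (f i)} ≤
      (Submodule.span R {v : Fin c → R | ∃ i j : Fin c,
        v = Pi.single i (f' j) - Pi.single j (f' i)}).comap Φ := by
    rw [Submodule.span_le]
    rintro _ ⟨i, j, rfl⟩
    rw [SetLike.mem_coe, Submodule.mem_comap]
    have key : Φ (Pi.single i (f j) - Pi.single j (f i)) =
        ∑ n', ∑ l, (M' i n' * M' j l) •
          ((Pi.single n' (f' l) : Fin c → R) - Pi.single l (f' n')) := by
      rw [hΦ, sub_vecMul, single_vecMul, single_vecMul]
      funext n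
      have e1 : f j = ∑ l, M' j l * f' l := by rw [hf]; rfl
      have e2 : f i = ∑ l, M' i l * f' l := by rw [hf]; rfl
      simp only [Pi.sub_apply, Pi.smul_apply, smul_eq_mul, Finset.sum_apply, Pi.single_apply,
        mul_sub, Finset.sum_sub_distrib, mul_ite, mul_zero]
      have s1 : (∑ x, ∑ l, if n = x then M' i x * M' j l * f' l else 0) =
          ∑ l, M' i n * M' j l * f' l := by
        rw [Finset.sum_eq_single n]
        · simp
        · intro b _ hb
          simp [Ne.symm hb]
        · simp
      have s2 : (∑ x, ∑ l, if n = l then M' i x * M' j l * f' x else 0) =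
          ∑ x, M' i x * M' j n * f' x := by
        refine Finset.sum_congr rfl fun x _ => ?_
        simp
      rw [s1, s2, e1, e2, Finset.sum_mul, Finset.sum_mul]
      change ∑ l, M' j l * f' l * M' i n - ∑ l, M' i l * f' l * M' j n = _
      congr 1
      · exact Finset.sum_congr rfl fun l _ => by ring
      · exact Finset.sum_congr rfl fun l _ => by ring
    rw [key]
    refine Submodule.sum_mem _ fun n' _ => Submodule.sum_mem _ fun l _ => ?_
    exact Submodule.smul_mem _ _ (Submodule.subset_span ⟨n', l, rfl⟩)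
  exact h3 h1

/-- in a Noetherian local ring, a sequence obtained from a weakly regular sequence in the maximal ideal
by an invertible matrix is weakly regular. -/
theorem isWeaklyRegular_of_matrix {L : Type u} [CommRing L] [IsNoetherianRing L] [IsLocalRing L]
    {c : ℕ} (f f' : Fin c → L) (M M' : Matrix (Fin c) (Fin c) L) (hf' : f' = M *ᵥ f)
    (hf : f = M' *ᵥ f') (hMM' : M * M' = 1) (hmem : ∀ i, f i ∈ maximalIdeal L)
    (h : IsWeaklyRegular L (List.ofFn f)) : IsWeaklyRegular L (List.ofFn f') := by
  have h1 := Groth.Agent.Lib.helper7.RegSection.isH1Regular_of_isWeaklyRegular f h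
  have h2 := isH1Regular_of_matrix f f' M M' hf' hf hMM' h1
  refine Groth.Agent.Lib.helper17.H1Reg.isWeaklyRegular_of_isH1Regular f' (fun i => ?_) h2
  rw [IsLocalRing.jacobson_eq_maximalIdeal _ bot_ne_top, hf']
  change ∑ j, M i j * f j ∈ _
  exact Ideal.sum_mem _ fun j _ => Ideal.mul_mem_left _ _ (hmem j)

/-- perturbation by a matrix with entries in the maximal ideal. -/
theorem isWeaklyRegular_of_perturb {L : Type u} [CommRing L] [IsNoetherianRing L] [IsLocalRing L]
    {c : ℕ} (f f' : Fin c → L) (A : Matrix (Fin c) (Fin c) L)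
    (hA : ∀ i j, A i j ∈ maximalIdeal L) (hf' : ∀ i, f' i = f i + ∑ j, A i j * f j)
    (hmem : ∀ i, f i ∈ maximalIdeal L)
    (h : IsWeaklyRegular L (List.ofFn f)) : IsWeaklyRegular L (List.ofFn f') := by
  classical
  let M : Matrix (Fin c) (Fin c) L := 1 + A
  have hdet : IsUnit M.det := by
    have h1 : (residue L) M.det = 1 := by
      rw [RingHom.map_det]
      have : (residue L).mapMatrix M = 1 := by
        ext i j
        simp only [RingHom.mapMatrix_apply, Matrix.map_apply, M, Matrix.add_apply, map_add]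
        rw [(residue_eq_zero_iff _).mpr (hA i j), add_zero]
        by_cases hij : i = j
        · subst hij; simp
        · simp [Matrix.one_apply_ne hij]
      rw [this, Matrix.det_one]
    by_contra hu
    have h2 : M.det ∈ maximalIdeal L := (mem_maximalIdeal _).mpr hu
    rw [(residue_eq_zero_iff _).mpr h2] at h1
    exact zero_ne_one h1
  have hM1 : M * M⁻¹ = 1 := Matrix.mul_nonsing_inv M hdet
  have hM2 : M⁻¹ * M = 1 := Matrix.nonsing_inv_mul M hdet
  have e1 : f' = M *ᵥ f := by
    funext i
    rw [hf' i]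
    simp only [M, Matrix.add_mulVec, Matrix.one_mulVec, Pi.add_apply]
    rfl
  have e2 : f = M⁻¹ *ᵥ f' := by
    rw [e1, Matrix.mulVec_mulVec, hM2, Matrix.one_mulVec]
  exact isWeaklyRegular_of_matrix f f' M M⁻¹ e1 e2 hM1 hmem h

end Groth.Agent.Lib.helper22.SyntLiftB
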