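import Mathlib
import Groth.Agent.Lib.Helper28.SymLoc
import Groth.Agent.LibSecReg29

/-!
# helper22: local regularity of the zero section of the symmetric algebra of a projective module

* `isLocalization_symAway`: `Sym_{A_a}(M_a)` is the localization of `Sym_A(M)` at `a`
  (standard-instance form of helper28's `SymLoc.isLocalization_symMap`).
* `flat_quotient_map`: `B/𝔟B` is flat over `A/𝔟` if `B` is flat over `A`.
* `exists_basis_away`: local bases of a finite projective module by elements of the module.
* `exists_weaklyRegular_sym`: the zero section of `Sym_A(M)` is locally cut out by a sequence which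
  stays weakly regular in `T/𝔟T` for flat `Sym_A(M)`-algebras `T`.
-/

set_option autoImplicit false
set_option linter.style.haveILetI false
universe u
open RingTheory.Sequence IsLocalRing TensorProduct

namespace Groth.Agent.Lib.helper22.SyntLiftC

open Groth.Agent.Lib.helper28.SymLoc

section SymAway

variable (A : Type u) [CommRing A] (M : Type u) [AddCommGroup M] [Module A M] (a : A)

theorem mk_smul' (c : A) (m : M) :
    (LocalizedModule.mkLinearMap (Submonoid.powers a) M).toAddMonoidHom (c • m) =
      algebraMap A (Localization.Away a) c •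
        (LocalizedModule.mkLinearMap (Submonoid.powers a) M).toAddMonoidHom m := by
  change LocalizedModule.mkLinearMap (Submonoid.powers a) M (c • m) = _
  rw [map_smul, algebraMap_smul]
  rfl

noncomputable def symAway : SymmetricAlgebra A M →+*
    SymmetricAlgebra (Localization.Away a) (LocalizedModule (Submonoid.powers a) M) :=
  symMap (algebraMap A (Localization.Away a))
    (LocalizedModule.mkLinearMap (Submonoid.powers a) M).toAddMonoidHom (mk_smul' A M a)

theorem symAway_algebraMap (c : A) :
    symAway A M a (algebraMap A _ c) = algebraMap (Localization.Away a) _ (algebraMap A _ c) :=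
  symMap_algebraMap _ _ _ c

theorem symAway_ι (m : M) :
    symAway A M a (SymmetricAlgebra.ι A M m) =
      SymmetricAlgebra.ι _ _ (LocalizedModule.mkLinearMap (Submonoid.powers a) M m) :=
  symMap_ι _ _ _ m

theorem isLocalization_symAway :
    letI := (symAway A M a).toAlgebra
    IsLocalization.Away (algebraMap A (SymmetricAlgebra A M) a)
      (SymmetricAlgebra (Localization.Away a) (LocalizedModule (Submonoid.powers a) M)) := by
  refine isLocalization_symMap (algebraMap A (Localization.Away a))
    (LocalizedModule.mkLinearMap (Submonoid.powers a) M).toAddMonoidHom (mk_smul' A M a) a ?_ ?_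
  · have : (algebraMap A (Localization.Away a)).toAlgebra =
        (inferInstance : Algebra A (Localization.Away a)) :=
      Algebra.algebra_ext _ _ (fun r => rfl)
    rw [this]
    infer_instance
  · have : Module.compHom (LocalizedModule (Submonoid.powers a) M)
        (algebraMap A (Localization.Away a)) =
        (inferInstance : Module A (LocalizedModule (Submonoid.powers a) M)) := by
      refine Module.ext' _ _ (fun r m => ?_)
      change algebraMap A (Localization.Away a) r • m = r • m
      rw [algebraMap_smul]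
    convert (inferInstance : IsLocalizedModule (Submonoid.powers a)
      (LocalizedModule.mkLinearMap (Submonoid.powers a) M))
    · rfl
    · rfl

end SymAway

/-- flatness passes to quotients by an extended ideal. -/
theorem flat_quotient_map {A B : Type u} [CommRing A] [CommRing B] [Algebra A B] [Module.Flat A B]
    (𝔟 : Ideal A) : Module.Flat (A ⧸ 𝔟) (B ⧸ 𝔟.map (algebraMap A B)) := by
  let e : (B ⧸ 𝔟.map (algebraMap A B)) ≃ₐ[B] B ⊗[A] (A ⧸ 𝔟) :=
    Algebra.TensorProduct.quotIdealMapEquivTensorQuot B 𝔟
  let c : B ⊗[A] (A ⧸ 𝔟) ≃ₐ[A] (A ⧸ 𝔟) ⊗[A] B := Algebra.TensorProduct.comm A B (A ⧸ 𝔟)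
  let l : (A ⧸ 𝔟) ⊗[A] B ≃ₗ[A] (B ⧸ 𝔟.map (algebraMap A B)) :=
    ((e.restrictScalars A).trans c).symm.toLinearEquiv
  exact Module.Flat.of_linearEquiv
    (l.extendScalarsOfSurjective (Ideal.Quotient.mk_surjective (I := 𝔟))).symm

lemma isWeaklyRegular_map_ringEquiv {A B : Type u} [CommRing A] [CommRing B] (e : A ≃+* B)
    (rs : List A) : IsWeaklyRegular A rs ↔ IsWeaklyRegular B (rs.map e) :=
  e.toAddEquiv.isWeaklyRegular_congr <| List.forall₂_map_right_iff.mpr <|
    List.forall₂_same.mpr fun r _ x => map_mul e r x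

/-- weak regularity modulo an ideal passes to flat algebras. -/
theorem isWeaklyRegular_of_flat_quotient {D T : Type u} [CommRing D] [CommRing T] [Algebra D T]
    [Module.Flat D T] (𝔡 : Ideal D) {r : ℕ} (v : Fin r → D)
    (h : IsWeaklyRegular (D ⧸ 𝔡) (List.ofFn fun i => Ideal.Quotient.mk 𝔡 (v i))) :
    IsWeaklyRegular (T ⧸ 𝔡.map (algebraMap D T))
      (List.ofFn fun i => Ideal.Quotient.mk (𝔡.map (algebraMap D T)) (algebraMap D T (v i))) := by
  haveI := flat_quotient_map (B := T) 𝔡
  have h2 := h.of_flat (S := T ⧸ 𝔡.map (algebraMap D T))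
  rw [List.map_ofFn] at h2
  exact h2

section Basis

variable {A : Type u} [CommRing A] (M : Type u) [AddCommGroup M] [Module A M]
  [Module.Finite A M] [Module.Projective A M]

/-- a finite projective module has, near every prime, a basis coming from elements of the module. -/
theorem exists_basis_away (𝔫 : Ideal A) [𝔫.IsPrime] :
    ∃ (a : A) (r : ℕ) (m : Fin r → M)
      (b : Module.Basis (Fin r) (Localization.Away a) (LocalizedModule (Submonoid.powers a) M)),
      a ∉ 𝔫 ∧ (∀ i, b i = LocalizedModule.mkLinearMap (Submonoid.powers a) M (m i)) ∧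
      ∃ n : ℕ, ∀ x : M, a ^ n • x ∈ Submodule.span A (Set.range m) := by
  classical
  haveI : Module.FinitePresentation A M := Module.finitePresentation_of_projective A M
  have hfree : Module.Free (Localization.AtPrime 𝔫) (LocalizedModule 𝔫.primeCompl M) := by
    have h1 := Module.freeLocus_eq_univ (R := A) (M := M)
    have h2 : (⟨𝔫, inferInstance⟩ : PrimeSpectrum A) ∈ Module.freeLocus A M := by
      rw [h1]; trivial
    exact h2
  haveI : Module.Finite (Localization.AtPrime 𝔫) (LocalizedModule 𝔫.primeCompl M) :=
    Module.Finite.of_isLocalizedModule 𝔫.primeCompl (LocalizedModule.mkLinearMap 𝔫.primeCompl M)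
  let b₀ := Module.Free.chooseBasis (Localization.AtPrime 𝔫) (LocalizedModule 𝔫.primeCompl M)
  obtain ⟨a, ha, b', -⟩ := Module.FinitePresentation.exists_basis_localizedModule_powers
    𝔫.primeCompl (LocalizedModule.mkLinearMap 𝔫.primeCompl M) (Localization.AtPrime 𝔫) b₀
  let b₁ : Module.Basis (Fin (Fintype.card (Module.Free.ChooseBasisIndex (Localization.AtPrime 𝔫)
      (LocalizedModule 𝔫.primeCompl M)))) (Localization.Away a)
      (LocalizedModule (Submonoid.powers a) M) := b'.reindex (Fintype.equivFin _)
  have hs : ∀ i, ∃ x : M × Submonoid.powers a,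
      x.2 • b₁ i = LocalizedModule.mkLinearMap (Submonoid.powers a) M x.1 := fun i =>
    IsLocalizedModule.surj (Submonoid.powers a) (LocalizedModule.mkLinearMap (Submonoid.powers a) M)
      (b₁ i)
  choose x hx using hs
  let u : Fin _ → (Localization.Away a)ˣ := fun i =>
    (IsLocalization.map_units (Localization.Away a) (x i).2).unit
  let b := b₁.unitsSMul u
  have hb : ∀ i, b i = LocalizedModule.mkLinearMap (Submonoid.powers a) M (x i).1 := by
    intro i
    rw [← hx i]
    change (b₁.unitsSMul u) i = _
    rw [Module.Basis.unitsSMul_apply]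
    change (algebraMap A (Localization.Away a) ((x i).2 : A)) • b₁ i = _
    rw [algebraMap_smul]
    rfl
  refine ⟨a, _, fun i => (x i).1, b, ha, hb, ?_⟩
  -- the span property
  have hloc : (Submodule.span A (Set.range fun i => (x i).1)).localized' (Localization.Away a)
      (Submonoid.powers a) (LocalizedModule.mkLinearMap (Submonoid.powers a) M) = ⊤ := by
    rw [Submodule.localized'_span, ← Set.range_comp]
    have : ((LocalizedModule.mkLinearMap (Submonoid.powers a) M) ∘ fun i => (x i).1) = b := by
      funext i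
      exact (hb i).symm
    rw [this]
    exact b.span_eq
  have h1 : ∀ y : M, ∃ k : ℕ, a ^ k • y ∈ Submodule.span A (Set.range fun i => (x i).1) := by
    intro y
    have hy : LocalizedModule.mkLinearMap (Submonoid.powers a) M y ∈
        (Submodule.span A (Set.range fun i => (x i).1)).localized' (Localization.Away a)
          (Submonoid.powers a) (LocalizedModule.mkLinearMap (Submonoid.powers a) M) := by
      rw [hloc]; trivial
    obtain ⟨z, hz, s, hzs⟩ := hy
    have h2 : LocalizedModule.mkLinearMap (Submonoid.powers a) M ((s : A) • y - z) = 0 := by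
      rw [map_sub, map_smul, ← hzs, sub_eq_zero]
      exact IsLocalizedModule.mk'_cancel' (LocalizedModule.mkLinearMap (Submonoid.powers a) M) z s
    obtain ⟨t, ht⟩ := (IsLocalizedModule.eq_zero_iff (Submonoid.powers a)
      (LocalizedModule.mkLinearMap (Submonoid.powers a) M)).mp h2
    obtain ⟨k₁, hk₁⟩ := t.2
    obtain ⟨k₂, hk₂⟩ := s.2
    have ht' : (t : A) • ((s : A) • y - z) = 0 := ht
    rw [← hk₁, ← hk₂] at ht'
    refine ⟨k₁ + k₂, ?_⟩
    have h3 : a ^ (k₁ + k₂) • y = a ^ k₁ • z := by
      rw [smul_sub, sub_eq_zero] at ht'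
      rw [pow_add, mul_smul, ht']
    rw [h3]
    exact Submodule.smul_mem _ _ hz
  obtain ⟨gens, hgens⟩ := (Module.Finite.fg_top : (⊤ : Submodule A M).FG)
  choose k hk using h1
  refine ⟨gens.sup k, fun y => ?_⟩
  have hy : y ∈ Submodule.span A (gens : Set M) := by rw [hgens]; trivial
  refine Submodule.span_induction (p := fun y _ => a ^ (gens.sup k) • y ∈
    Submodule.span A (Set.range fun i => (x i).1)) ?_ ?_ ?_ ?_ hy
  · intro g hg
    have hle : k g ≤ gens.sup k := Finset.le_sup hg
    obtain ⟨d, hd⟩ := Nat.exists_eq_add_of_le hle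
    rw [hd, pow_add, mul_comm, mul_smul]
    exact Submodule.smul_mem _ _ (hk g)
  · rw [smul_zero]; exact Submodule.zero_mem _
  · intro y z _ _ hy hz
    rw [smul_add]; exact Submodule.add_mem _ hy hz
  · intro c y _ hy
    rw [smul_comm]; exact Submodule.smul_mem _ _ hy

/-- the variables of the symmetric algebra of a free module form a weakly regular sequence modulo
any ideal of the base. -/
theorem isWeaklyRegular_sym_basis {Aa : Type u} [CommRing Aa] {Ma : Type u} [AddCommGroup Ma]
    [Module Aa Ma] {r : ℕ} (b : Module.Basis (Fin r) Aa Ma) (𝔟a : Ideal Aa) :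
    IsWeaklyRegular (SymmetricAlgebra Aa Ma ⧸ 𝔟a.map (algebraMap Aa (SymmetricAlgebra Aa Ma)))
      (List.ofFn fun i => Ideal.Quotient.mk (𝔟a.map (algebraMap Aa (SymmetricAlgebra Aa Ma)))
        (SymmetricAlgebra.ι Aa Ma (b i))) := by
  let E : SymmetricAlgebra Aa Ma ≃ₐ[Aa] MvPolynomial (Fin r) Aa :=
    SymmetricAlgebra.equivMvPolynomial b
  have hE : (𝔟a.map (algebraMap Aa (SymmetricAlgebra Aa Ma))).map
      (E.toRingEquiv : SymmetricAlgebra Aa Ma →+* MvPolynomial (Fin r) Aa) =
      𝔟a.map (MvPolynomial.C : Aa →+* MvPolynomial (Fin r) Aa) := by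
    rw [Ideal.map_map]
    congr 1
    exact RingHom.ext fun x => E.commutes x
  let E' : (SymmetricAlgebra Aa Ma ⧸ 𝔟a.map (algebraMap Aa (SymmetricAlgebra Aa Ma))) ≃+*
      (MvPolynomial (Fin r) Aa ⧸ 𝔟a.map (MvPolynomial.C : Aa →+* MvPolynomial (Fin r) Aa)) :=
    Ideal.quotientEquiv _ _ E.toRingEquiv hE.symm
  let Q := MvPolynomial.quotientEquivQuotientMvPolynomial (σ := Fin r) 𝔟a
  have h0 := Groth.Agent.LibSecReg29.isWeaklyRegular_X (Aa ⧸ 𝔟a) r
  have h1 := (isWeaklyRegular_map_ringEquiv (Q.toRingEquiv.trans E'.symm) _).mp h0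
  rw [List.map_ofFn] at h1
  have hl : (List.ofFn fun i => Ideal.Quotient.mk (𝔟a.map (algebraMap Aa (SymmetricAlgebra Aa Ma)))
      (SymmetricAlgebra.ι Aa Ma (b i))) =
      List.ofFn (⇑(Q.toRingEquiv.trans E'.symm) ∘ fun i => MvPolynomial.X i) := by
    congr 1
    funext i
    change _ = E'.symm (Q (MvPolynomial.X i))
    have hQ : Q (MvPolynomial.X i) = Ideal.Quotient.mk _ (MvPolynomial.X i) := by
      change MvPolynomial.eval₂Hom _ _ (MvPolynomial.X i) = _
      rw [MvPolynomial.eval₂Hom_X']
    rw [hQ, RingEquiv.eq_symm_apply]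
    change Ideal.Quotient.mk _ (E (SymmetricAlgebra.ι Aa Ma (b i))) = _
    rw [SymmetricAlgebra.equivMvPolynomial_ι_apply]
  rw [hl]
  exact h1

/-- **local regularity of the zero section of a vector bundle**: for a finite projective `A`-module
`M`, a flat `Sym_A(M)`-algebra `T` in which the complement of a prime `𝔫` of `A` becomes invertible,
and any ideal `𝔟` of `A`: there are `m_1..m_r ∈ M` generating `M` near `𝔫` whose images form a weakly
regular sequence in `T/𝔟T`. -/
theorem exists_weaklyRegular_sym (T : Type u) [CommRing T] [Algebra (SymmetricAlgebra A M) T]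
    [Algebra A T] [IsScalarTower A (SymmetricAlgebra A M) T]
    [Module.Flat (SymmetricAlgebra A M) T] (𝔫 : Ideal A) [𝔫.IsPrime]
    (hu : ∀ a : A, a ∉ 𝔫 → IsUnit (algebraMap A T a)) (𝔟 : Ideal A) :
    ∃ (r : ℕ) (m : Fin r → M) (a : A) (n : ℕ), a ∉ 𝔫 ∧
      (∀ x : M, a ^ n • x ∈ Submodule.span A (Set.range m)) ∧
      IsWeaklyRegular (T ⧸ 𝔟.map (algebraMap A T))
        (List.ofFn fun i => Ideal.Quotient.mk (𝔟.map (algebraMap A T))
          (algebraMap (SymmetricAlgebra A M) T (SymmetricAlgebra.ι A M (m i)))) := by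
  obtain ⟨a, r, m, b, ha, hb, n, hn⟩ := exists_basis_away M 𝔫
  refine ⟨r, m, a, n, ha, hn, ?_⟩
  letI algCD : Algebra (SymmetricAlgebra A M)
      (SymmetricAlgebra (Localization.Away a) (LocalizedModule (Submonoid.powers a) M)) :=
    (symAway A M a).toAlgebra
  haveI hloc : IsLocalization.Away (algebraMap A (SymmetricAlgebra A M) a)
      (SymmetricAlgebra (Localization.Away a) (LocalizedModule (Submonoid.powers a) M)) :=
    isLocalization_symAway A M a
  have hunit : IsUnit (algebraMap (SymmetricAlgebra A M) T
      (algebraMap A (SymmetricAlgebra A M) a)) := by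
    rw [← IsScalarTower.algebraMap_apply]
    exact hu a ha
  let θ : SymmetricAlgebra (Localization.Away a) (LocalizedModule (Submonoid.powers a) M) →+* T :=
    IsLocalization.Away.lift (algebraMap A (SymmetricAlgebra A M) a) hunit
  have hθ : ∀ x, θ (symAway A M a x) = algebraMap (SymmetricAlgebra A M) T x := fun x =>
    IsLocalization.Away.lift_eq (algebraMap A (SymmetricAlgebra A M) a) hunit x
  letI algDT : Algebra (SymmetricAlgebra (Localization.Away a)
      (LocalizedModule (Submonoid.powers a) M)) T := θ.toAlgebra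
  haveI : IsScalarTower (SymmetricAlgebra A M)
      (SymmetricAlgebra (Localization.Away a) (LocalizedModule (Submonoid.powers a) M)) T :=
    IsScalarTower.of_algebraMap_eq (fun x => (hθ x).symm)
  haveI flatDT : Module.Flat (SymmetricAlgebra (Localization.Away a)
      (LocalizedModule (Submonoid.powers a) M)) T :=
    (Module.flat_iff_of_isLocalization (SymmetricAlgebra (Localization.Away a)
      (LocalizedModule (Submonoid.powers a) M))
      (Submonoid.powers (algebraMap A (SymmetricAlgebra A M) a)) T).mpr inferInstance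
  -- the ideals
  obtain ⟨𝔟a, h𝔟a⟩ : ∃ 𝔟a : Ideal (Localization.Away a),
      𝔟a = 𝔟.map (algebraMap A (Localization.Away a)) := ⟨_, rfl⟩
  have h𝔟 : (𝔟a.map (algebraMap (Localization.Away a) (SymmetricAlgebra (Localization.Away a)
      (LocalizedModule (Submonoid.powers a) M)))).map (algebraMap _ T) =
      𝔟.map (algebraMap A T) := by
    rw [h𝔟a, Ideal.map_map, Ideal.map_map]
    congr 1
    refine RingHom.ext fun x => ?_
    change θ (algebraMap (Localization.Away a) _ (algebraMap A (Localization.Away a) x)) = _
    rw [← symAway_algebraMap, hθ, ← IsScalarTower.algebraMap_apply]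
  have h1 := isWeaklyRegular_sym_basis b 𝔟a
  have h2 := isWeaklyRegular_of_flat_quotient (T := T) _ _ h1
  have hl : ∀ i, algebraMap (SymmetricAlgebra (Localization.Away a)
      (LocalizedModule (Submonoid.powers a) M)) T (SymmetricAlgebra.ι _ _ (b i)) =
      algebraMap (SymmetricAlgebra A M) T (SymmetricAlgebra.ι A M (m i)) := by
    intro i
    rw [hb i, ← symAway_ι]
    exact hθ _
  simp only [hl] at h2
  exact h𝔟 ▸ h2

end Basis

end Groth.Agent.Lib.helper22.SyntLiftC
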