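import Mathlib
import Groth.Prelude.Def_RegImm
import Groth.Agent.LibFibReg8_29
import Groth.Agent.LibSyntHomProp29
import Groth.Agent.LibSyntTransport29
import Groth.Agent.S9146
import Groth.Agent.Lib.Helper22.SyntLiftA
import Groth.Agent.Lib.Helper22.SyntLiftB

/-!
# helper22: quotients of syntomic algebras which are syntomic near a closed subset

* `isNoetherianRing_isLocalRing_of_fibre`: abstract fibre local rings are Noetherian local.
* `exists_away_syntomic_quotient`: the local step (fibrewise regular sequence criterion).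
* `exists_smul_mem_of_smul_mem_sup`, `exists_coeff_of_mem_mul`: Nakayama-type auxiliaries.
* `exists_away_syntomic_of_forall`: from syntomic near every prime of `V(𝔠)` to syntomic on some
  `D(h)`, `h ≡ 1` modulo `𝔠`.
-/

set_option autoImplicit false
set_option linter.style.haveILetI false
universe u
open RingTheory.Sequence IsLocalRing TensorProduct KaehlerDifferential

namespace Groth.Agent.Lib.helper22.SyntLiftD

open Groth.Agent.LibFibReg29


section FibLocal

variable {R B : Type u} [CommRing R] [CommRing B] [Algebra R B] [Algebra.FiniteType R B]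

/-- the local ring of a fibre, given abstractly, is Noetherian and local. -/
theorem isNoetherianRing_isLocalRing_of_fibre (p : Ideal R) [p.IsPrime] (q : Ideal B) [q.IsPrime]
    [q.LiesOver p]
    (L : Type u) [CommRing L] (ψ : Localization.AtPrime q →+* L) (hψ : Function.Surjective ψ)
    (hker : RingHom.ker ψ = (p.map (algebraMap R B)).map
      (algebraMap B (Localization.AtPrime q))) :
    IsNoetherianRing L ∧ IsLocalRing L := by
  obtain ⟨Q, hQprime, hQ⟩ :=
    Groth.Agent.Lib.Helper24.FibreRegular.exists_fiber_prime R B p q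
  subst hQ
  haveI : Algebra.FiniteType p.ResidueField (p.Fiber B) := inferInstance
  haveI : IsNoetherianRing (p.Fiber B) := Algebra.FiniteType.isNoetherianRing p.ResidueField _
  haveI : IsNoetherianRing (Localization.AtPrime Q) :=
    IsLocalization.isNoetherianRing Q.primeCompl _ inferInstance
  let θ := Ideal.Fiber.algEquivAux₂ p Q
  let e1 : (Localization.AtPrime (Q.comap (Algebra.TensorProduct.includeRight : B →ₐ[R] p.Fiber B))
      ⧸ RingHom.ker ψ) ≃+* L := RingHom.quotientKerEquivOfSurjective hψ
  let e2 := Ideal.quotEquivOfEq hker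
  have hN : IsNoetherianRing L :=
    isNoetherianRing_of_ringEquiv _ ((θ.toRingEquiv.trans e2.symm).trans e1)
  refine ⟨hN, ?_⟩
  haveI : Nontrivial L := by
    have h1 : RingHom.ker ψ ≠ ⊤ := by
      rw [hker]
      intro htop
      have hle : (p.map (algebraMap R B)).map (algebraMap B (Localization.AtPrime
          (Q.comap (Algebra.TensorProduct.includeRight : B →ₐ[R] p.Fiber B)))) ≤
          maximalIdeal _ := by
        rw [← Localization.AtPrime.map_eq_maximalIdeal]
        apply Ideal.map_mono
        rw [Ideal.map_le_iff_le_comap, ← Ideal.under_def, ← Ideal.over_def _ p]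
      rw [htop] at hle
      exact (maximalIdeal.isMaximal _).ne_top (top_le_iff.mp hle)
    exact nontrivial_of_ne (1 : L) 0 (fun h => h1 ((Ideal.eq_top_iff_one _).mpr (by
      rw [RingHom.mem_ker, map_one]; exact h)))
  exact .of_surjective' ψ hψ

end FibLocal



section LocalStep

variable {R B : Type u} [CommRing R] [CommRing B] [Algebra R B]

/-- localization of a quotient at an element, as a quotient of the localization. -/
theorem nonempty_away_quotient_equiv (K : Ideal B) (G : B) :
    Nonempty (Localization.Away (Ideal.Quotient.mk K G) ≃ₐ[R]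
      (Localization.Away G ⧸ K.map (algebraMap B (Localization.Away G)))) := by
  have hloc : IsLocalization (Algebra.algebraMapSubmonoid (B ⧸ K) (Submonoid.powers G))
      (Localization.Away G ⧸ K.map (algebraMap B (Localization.Away G))) := inferInstance
  have hsub : Algebra.algebraMapSubmonoid (B ⧸ K) (Submonoid.powers G) =
      Submonoid.powers (Ideal.Quotient.mk K G) := by
    rw [Algebra.algebraMapSubmonoid, Submonoid.map_powers]
    rfl
  rw [hsub] at hloc
  haveI := hloc
  haveI : IsScalarTower R (B ⧸ K)
      (Localization.Away G ⧸ K.map (algebraMap B (Localization.Away G))) :=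
    IsScalarTower.of_algebraMap_eq fun x => rfl
  exact ⟨(IsLocalization.algEquiv (Submonoid.powers (Ideal.Quotient.mk K G))
    (Localization.Away (Ideal.Quotient.mk K G))
    (Localization.Away G ⧸ K.map (algebraMap B (Localization.Away G)))).restrictScalars R⟩

/-- **local step**: if `K = φ(P)` with `P` generated near `q` by `e_1..e_r` and the images of the
`φ(e_i)` form a weakly regular sequence in the local ring of the fibre at `q`, then `B/K` is
syntomic near `q`. -/
theorem exists_away_syntomic_quotient (hB : Synt.IsSyntomic R B) {P : Type u} [AddCommGroup P]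
    [Module B P] (φ : P →ₗ[B] B) (K : Ideal B) (hK : ∀ x, x ∈ K ↔ ∃ y, φ y = x)
    (p : Ideal R) [p.IsPrime] (q : Ideal B) [q.IsPrime]
    [q.LiesOver p] {r : ℕ} (e : Fin r → P) (g' : B) (hg' : g' ∉ q)
    (hgen : ∀ x : P, g' • x ∈ Submodule.span B (Set.range e))
    (L : Type u) [CommRing L] (ψ : Localization.AtPrime q →+* L) (hψ : Function.Surjective ψ)
    (hker : RingHom.ker ψ = (p.map (algebraMap R B)).map (algebraMap B (Localization.AtPrime q)))
    (hreg : IsWeaklyRegular L
      (List.ofFn fun i => ψ (algebraMap B (Localization.AtPrime q) (φ (e i))))) :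
    ∃ g : B, g ∉ q ∧ Synt.IsSyntomic R (Localization.Away (Ideal.Quotient.mk K g)) := by
  haveI : Module.Flat R B := hB.1
  haveI : Algebra.FinitePresentation R B := hB.2.1
  obtain ⟨ys, hys⟩ : ∃ ys : List B, ys = List.ofFn fun i => φ (e i) := ⟨_, rfl⟩
  have h : IsWeaklyRegular L (ys.map (ψ.comp (algebraMap B (Localization.AtPrime q)))) := by
    rw [hys, List.map_ofFn]
    exact hreg
  obtain ⟨g₂, hg₂, H₂⟩ :=
    exists_away_regFlat_of_surjective p q (Localization.AtPrime q) L ψ hψ hker ys h
  refine ⟨g₂ * g', q.primeCompl.mul_mem hg₂ hg', ?_⟩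
  -- `RegFlat` on `B_{g₂ g'}`
  have hRF : RegFlat R (Localization.Away (g₂ * g'))
      (ys.map (algebraMap B (Localization.Away (g₂ * g')))) := by
    have h2 := H₂ (Localization.Away g₂)
    have h3 := RegFlat.of_isLocalization (R := R)
      (Submonoid.powers (algebraMap B (Localization.Away g₂) g'))
      (Localization.Away (algebraMap B (Localization.Away g₂) g')) h2
    rw [List.map_map] at h3
    have h4 : ((algebraMap (Localization.Away g₂)
        (Localization.Away (algebraMap B (Localization.Away g₂) g'))) ∘
        (algebraMap B (Localization.Away g₂))) =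
        algebraMap B (Localization.Away (algebraMap B (Localization.Away g₂) g')) := by
      funext b
      exact (IsScalarTower.algebraMap_apply B (Localization.Away g₂) _ b).symm
    rw [h4] at h3
    let e' : Localization.Away (algebraMap B (Localization.Away g₂) g') ≃ₐ[B]
        Localization.Away (g₂ * g') :=
      IsLocalization.algEquiv (Submonoid.powers (g₂ * g')) _ _
    exact RegFlat.of_algEquiv e' ys h3
  have hsyn : Synt.IsSyntomic R (Localization.Away (g₂ * g')) :=
    Groth.Agent.LibSyntHomProp29.isSyntomic_of_isLocalization_away (g₂ * g') hB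
  have hsynt := Groth.Agent.Lib.helper22.SyntLiftA.isSyntomic_quotient_regFlat hsyn _ hRF
  -- the ideal
  have hu : IsUnit (algebraMap B (Localization.Away (g₂ * g')) g') :=
    isUnit_of_mul_isUnit_right (by
      rw [← map_mul]; exact IsLocalization.Away.algebraMap_isUnit (g₂ * g'))
  have hKmap : K.map (algebraMap B (Localization.Away (g₂ * g'))) =
      Ideal.ofList (ys.map (algebraMap B (Localization.Away (g₂ * g')))) := by
    rw [← Ideal.map_ofList]
    apply le_antisymm
    · rw [Ideal.map_le_iff_le_comap]
      intro x hx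
      obtain ⟨y, rfl⟩ := (hK x).mp hx
      rw [Ideal.mem_comap]
      have h1 : g' * φ y ∈ Ideal.ofList ys := by
        have h2 := hgen y
        have h3 : φ (g' • y) ∈ Submodule.map φ (Submodule.span B (Set.range e)) :=
          Submodule.mem_map_of_mem h2
        rw [Submodule.map_span, ← Set.range_comp, map_smul, smul_eq_mul] at h3
        have h4 : Ideal.ofList ys = Submodule.span B (Set.range (φ ∘ e)) := by
          rw [hys, Ideal.ofList]
          congr 1
          ext z
          simp [List.mem_ofFn]
        rw [h4]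
        exact h3
      obtain ⟨gi, hgi⟩ := hu.exists_left_inv
      have h2 : algebraMap B (Localization.Away (g₂ * g')) (φ y) =
          gi * algebraMap B (Localization.Away (g₂ * g')) (g' * φ y) := by
        rw [map_mul, ← mul_assoc, hgi, one_mul]
      rw [h2]
      exact Ideal.mul_mem_left _ _ (Ideal.mem_map_of_mem _ h1)
    · apply Ideal.map_mono
      rw [Ideal.ofList, Ideal.span_le]
      intro z hz
      rw [hys] at hz
      obtain ⟨i, rfl⟩ := (List.mem_ofFn' _ _).mp hz
      exact (hK _).mpr ⟨e i, rfl⟩
  obtain ⟨E⟩ := nonempty_away_quotient_equiv (R := R) K (g₂ * g')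
  exact Groth.Agent.LibSyntTransport29.isSyntomic_of_algEquiv
    ((E.trans (Ideal.quotientEquivAlgOfEq R hKmap)).symm) hsynt

end LocalStep



section Aux

open Polynomial in
/-- Nakayama via Cayley–Hamilton: if `g P ⊆ N' + K₁ P` for a finite module `P`, then
`g' P ⊆ N'` for some `g' ≡ g^n` modulo `K₁`. -/
theorem exists_smul_mem_of_smul_mem_sup {B P : Type u} [CommRing B] [AddCommGroup P] [Module B P]
    [Module.Finite B P] (K₁ : Ideal B) (N' : Submodule B P) (g : B)
    (h : ∀ x : P, g • x ∈ N' ⊔ K₁ • (⊤ : Submodule B P)) :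
    ∃ (n : ℕ) (g' : B), g' - g ^ n ∈ K₁ ∧ ∀ x : P, g' • x ∈ N' := by
  classical
  let f : Module.End B (P ⧸ N') := g • LinearMap.id
  have hf : LinearMap.range f ≤ K₁ • (⊤ : Submodule B (P ⧸ N')) := by
    rintro _ ⟨m, rfl⟩
    obtain ⟨x, rfl⟩ := N'.mkQ_surjective m
    change g • N'.mkQ x ∈ _
    rw [← map_smul]
    obtain ⟨a, ha, b, hb, hab⟩ := Submodule.mem_sup.mp (h x)
    have ha0 : N'.mkQ a = 0 := (Submodule.Quotient.mk_eq_zero N').mpr ha
    rw [← hab, map_add, ha0, zero_add]
    have := Submodule.mem_map_of_mem (f := N'.mkQ) hb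
    rwa [Submodule.map_smul'', Submodule.map_top, Submodule.range_mkQ] at this
  obtain ⟨p, hp, -, hcoef, hpf⟩ :=
    LinearMap.exists_monic_and_natDegree_eq_and_coeff_mem_pow_and_aeval_eq_zero B f K₁ hf
  have hfalg : f = algebraMap B (Module.End B (P ⧸ N')) g := by
    ext m
    simp [f, Module.algebraMap_end_apply]
  rw [hfalg, aeval_algebraMap_apply_eq_algebraMap_eval] at hpf
  refine ⟨p.natDegree, p.eval g, ?_, fun x => ?_⟩
  · rw [eval_eq_sum_range, Finset.sum_range_succ, hp.coeff_natDegree, one_mul,
      add_sub_cancel_right]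
    refine Ideal.sum_mem _ fun i hi => ?_
    have := hcoef i
    refine Ideal.mul_mem_right _ _ (Ideal.pow_le_self ?_ this)
    have := Finset.mem_range.mp hi
    omega
  · have h1 : algebraMap B (Module.End B (P ⧸ N')) (p.eval g) (N'.mkQ x) = 0 := by
      rw [hpf]; rfl
    rw [Module.algebraMap_end_apply, ← map_smul] at h1
    exact (Submodule.Quotient.mk_eq_zero N').mp h1

/-- elements of `𝔞 * span(range f)` as combinations with coefficients in `𝔞`. -/
theorem exists_coeff_of_mem_mul {L : Type u} [CommRing L] {r : ℕ} (𝔞 : Ideal L) (f : Fin r → L)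
    (x : L) (hx : x ∈ 𝔞 * Ideal.span (Set.range f)) :
    ∃ a : Fin r → L, (∀ j, a j ∈ 𝔞) ∧ x = ∑ j, a j * f j := by
  refine Submodule.mul_induction_on hx ?_ ?_
  · intro m hm n hn
    obtain ⟨c, rfl⟩ := Ideal.mem_span_range_iff_exists_fun.mp hn
    refine ⟨fun j => m * c j, fun j => 𝔞.mul_mem_right _ hm, ?_⟩
    rw [Finset.mul_sum]
    exact Finset.sum_congr rfl fun j _ => by ring
  · rintro x y ⟨a, ha, rfl⟩ ⟨b, hb, rfl⟩
    refine ⟨fun j => a j + b j, fun j => 𝔞.add_mem (ha j) (hb j), ?_⟩
    rw [← Finset.sum_add_distrib]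
    exact Finset.sum_congr rfl fun j _ => by ring

end Aux


section Glob

variable {R S : Type u} [CommRing R] [CommRing S] [Algebra R S]

/-- a double localization is syntomic if the inner one is. -/
theorem isSyntomic_away_away (g h₀ : S) (hg : Synt.IsSyntomic R (Localization.Away g)) :
    Synt.IsSyntomic R (Localization.Away (algebraMap S (Localization.Away h₀) g)) := by
  have h1 : Synt.IsSyntomic R (Localization.Away (algebraMap S (Localization.Away g) h₀)) :=
    Groth.Agent.LibSyntHomProp29.isSyntomic_of_isLocalization_away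
      (algebraMap S (Localization.Away g) h₀) hg
  haveI h2 : IsLocalization (Submonoid.powers (g * h₀))
      (Localization.Away (algebraMap S (Localization.Away h₀) g)) := by
    rw [mul_comm]
    infer_instance
  let e : Localization.Away (algebraMap S (Localization.Away g) h₀) ≃ₐ[S]
      Localization.Away (algebraMap S (Localization.Away h₀) g) :=
    IsLocalization.algEquiv (Submonoid.powers (g * h₀)) _ _
  exact Groth.Agent.LibSyntTransport29.isSyntomic_of_algEquiv (e.restrictScalars R) h1

/-- if `S` is syntomic over `R` near every prime containing `𝔠`, then `S_h` is syntomic for some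
`h ≡ 1` modulo `𝔠`. -/
theorem exists_away_syntomic_of_forall (𝔠 : Ideal S)
    (h : ∀ (q : Ideal S) [q.IsPrime], 𝔠 ≤ q →
      ∃ g : S, g ∉ q ∧ Synt.IsSyntomic R (Localization.Away g)) :
    ∃ h₀ : S, h₀ - 1 ∈ 𝔠 ∧ Synt.IsSyntomic R (Localization.Away h₀) := by
  classical
  have htop : Ideal.span {g : S | Synt.IsSyntomic R (Localization.Away g)} ⊔ 𝔠 = ⊤ := by
    by_contra hne
    obtain ⟨m, hm, hle⟩ := Ideal.exists_le_maximal _ hne
    haveI := hm.isPrime
    obtain ⟨g, hgm, hg⟩ := h m (le_sup_right.trans hle)
    exact hgm (hle (Ideal.mem_sup_left (Ideal.subset_span hg)))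
  have h1 : (1 : S) ∈ Ideal.span {g : S | Synt.IsSyntomic R (Localization.Away g)} ⊔ 𝔠 := by
    rw [htop]; trivial
  obtain ⟨x, hx, c, hc, hxc⟩ := Submodule.mem_sup.mp h1
  obtain ⟨t, ht, hxt⟩ := Submodule.mem_span_finite_of_mem_span hx
  refine ⟨x, ?_, ?_⟩
  · have : x - 1 = -c := by rw [← hxc]; ring
    rw [this]
    exact 𝔠.neg_mem hc
  · refine Groth.Agent.S9146.result R (Localization.Away x)
      (t.image (algebraMap S (Localization.Away x))) ?_ ?_
    · have hmem : algebraMap S (Localization.Away x) x ∈
          Ideal.span ((t.image (algebraMap S (Localization.Away x)) : Finset _) : Set _) := by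
        have h2 : x ∈ Ideal.span (t : Set S) := hxt
        have h3 := Ideal.mem_map_of_mem (algebraMap S (Localization.Away x)) h2
        rw [Ideal.map_span] at h3
        rwa [Finset.coe_image]
      exact Ideal.eq_top_of_isUnit_mem _ hmem (IsLocalization.Away.algebraMap_isUnit x)
    · intro g' hg'
      obtain ⟨g, hg, rfl⟩ := Finset.mem_image.mp hg'
      exact isSyntomic_away_away g x (ht hg)

end Glob

end Groth.Agent.Lib.helper22.SyntLiftD
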