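import Mathlib
import Groth.Prelude.Def_RegImm
import Groth.Agent.Lib.Helper22.SyntLiftD
import Groth.Agent.Lib.Helper22.SmoothLiftCore

/-!
# helper22: the syntomic lifting core

`exists_syntomic_of_data`: `B` syntomic over `R`, `K₁ ⊇ IB` an ideal, `P` a finite projective
`B`-module lifting the conormal module `N = K₁/(K₁² + IB)`, and local generators of `K₁` modulo `I`
which form regular sequences in the local rings of the fibres: then some localization of `B/φ(P)`
is a syntomic `R`-algebra `A` with `A/IA = B/K₁`.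
-/

set_option autoImplicit false
set_option linter.style.haveILetI false
universe u
open RingTheory.Sequence IsLocalRing TensorProduct KaehlerDifferential

namespace Groth.Agent.Lib.helper22.SyntLiftE

open Groth.Agent.Lib.helper22.SyntLiftD Groth.Agent.Lib.helper22.SyntLiftB

/-- the per-prime step of the construction. -/
theorem exists_away_syntomic_at {R B : Type u} [CommRing R] [CommRing B] [Algebra R B]
    (hB : Synt.IsSyntomic R B) (I : Ideal R) (K K₁ : Ideal B)
    (hIK₁ : I.map (algebraMap R B) ≤ K₁)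
    {P : Type u} [AddCommGroup P] [Module B P] [Module.Finite B P]
    {N : Type u} [AddCommGroup N] [Module B N]
    (e : P →ₗ[B] N) (he : Function.Surjective e) (hker : LinearMap.ker e = K₁ • ⊤)
    (d₀ : Ω[B⁄R] →ₗ[B] N)
    (hc1 : ∀ n : N, ∃ k ∈ K₁, d₀ (D R B k) = n)
    (hc2 : ∀ k ∈ K₁, d₀ (D R B k) = 0 → k ∈ K₁ ^ 2 ⊔ I.map (algebraMap R B))
    (φ : P →ₗ[B] B) (hφ1 : ∀ p, φ p ∈ K₁) (hφ2 : ∀ p, d₀ (D R B (φ p)) = e p)
    (hK : ∀ x, x ∈ K ↔ ∃ y, φ y = x)
    (q : Ideal B) [q.IsPrime] (hq : K₁ ≤ q)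
    (r : ℕ) (k : Fin r → B) (g : B) (hgq : g ∉ q) (hk : ∀ i, k i ∈ K₁)
    (hgk : ∀ x ∈ K₁, g * x ∈ Ideal.span (Set.range k) ⊔ I.map (algebraMap R B))
    (L : Type u) [CommRing L] (ψ : Localization.AtPrime q →+* L) (hψ : Function.Surjective ψ)
    (hkerψ : RingHom.ker ψ = ((q.under R).map (algebraMap R B)).map
      (algebraMap B (Localization.AtPrime q)))
    (hregk : IsWeaklyRegular L
      (List.ofFn fun i => ψ (algebraMap B (Localization.AtPrime q) (k i)))) :
    ∃ g₀ : B, g₀ ∉ q ∧ Synt.IsSyntomic R (Localization.Away (Ideal.Quotient.mk K g₀)) := by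
  classical
  haveI : Algebra.FinitePresentation R B := hB.2.1
  haveI : Algebra.FiniteType R B := inferInstance
  haveI hlies : q.LiesOver (q.under R) := ⟨rfl⟩
  obtain ⟨hNoeth, hLocal⟩ := isNoetherianRing_isLocalRing_of_fibre (q.under R) q L ψ hψ hkerψ
  -- `K₁` kills `N`
  have hKN : ∀ k ∈ K₁, ∀ n : N, k • n = 0 := by
    intro k hk n
    obtain ⟨p, rfl⟩ := he n
    rw [← map_smul, ← LinearMap.mem_ker, hker]
    exact Submodule.smul_mem_smul hk Submodule.mem_top
  -- `d₀ ∘ D` vanishes on `IB`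
  have hI0 : ∀ z ∈ I.map (algebraMap R B), d₀ (D R B z) = 0 := by
    intro z hz
    refine Submodule.span_induction (p := fun z _ => d₀ (D R B z) = 0) ?_ ?_ ?_ ?_ hz
    · rintro _ ⟨a, -, rfl⟩
      rw [Derivation.map_algebraMap, map_zero]
    · rw [map_zero, map_zero]
    · intro x y _ _ hx hy
      rw [map_add, map_add, hx, hy, add_zero]
    · intro b x hx' hx
      rw [smul_eq_mul, Derivation.leibniz, map_add, map_smul, map_smul, hx, smul_zero, zero_add]
      exact hKN x (hIK₁ hx') _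
  -- lifts
  choose ε hε using fun i => he (d₀ (D R B (k i)))
  have hy : ∀ i, φ (ε i) - k i ∈ K₁ ^ 2 ⊔ I.map (algebraMap R B) := fun i =>
    hc2 _ (K₁.sub_mem (hφ1 _) (hk i)) (by rw [map_sub, map_sub, hφ2, hε, sub_self])
  -- generation
  have hgen0 : ∀ x : P, g • x ∈ Submodule.span B (Set.range ε) ⊔ K₁ • (⊤ : Submodule B P) := by
    intro x
    obtain ⟨k', hk', hk'x⟩ := hc1 (e x)
    obtain ⟨u, hu, ι, hι, huι⟩ := Submodule.mem_sup.mp (hgk k' hk')
    obtain ⟨β, rfl⟩ := Ideal.mem_span_range_iff_exists_fun.mp hu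
    have h1 : e (g • x - ∑ i, β i • ε i) = 0 := by
      rw [map_sub, map_smul, map_sum, ← hk'x]
      have h2 : g • d₀ (D R B k') = d₀ (D R B (g * k')) := by
        rw [Derivation.leibniz, map_add, map_smul, map_smul, hKN k' hk', add_zero]
      rw [h2, ← huι, map_add, map_add, hI0 ι hι, add_zero, map_sum, map_sum, sub_eq_zero]
      refine Finset.sum_congr rfl fun i _ => ?_
      rw [Derivation.leibniz, map_add, map_smul, map_smul, hKN (k i) (hk i), add_zero, map_smul,
        hε]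
    have h3 : g • x - ∑ i, β i • ε i ∈ K₁ • (⊤ : Submodule B P) := by
      rw [← hker]; exact h1
    have h4 : g • x = ∑ i, β i • ε i + (g • x - ∑ i, β i • ε i) := by abel
    rw [h4]
    exact Submodule.add_mem_sup (Submodule.sum_mem _ fun i _ =>
      Submodule.smul_mem _ _ (Submodule.subset_span ⟨i, rfl⟩)) h3
  obtain ⟨n, g', hg'1, hg'2⟩ := exists_smul_mem_of_smul_mem_sup K₁ _ g hgen0
  have hg'q : g' ∉ q := by
    intro hmem
    have h1 : g ^ n ∈ q := by
      have h2 := q.sub_mem hmem (hq hg'1)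
      rwa [sub_sub_cancel] at h2
    exact hgq (Ideal.IsPrime.mem_of_pow_mem inferInstance n h1)
  -- the sequences in `L`
  let Ψ : B →+* L := ψ.comp (algebraMap B (Localization.AtPrime q))
  have hΨ : ∀ b, Ψ b = ψ (algebraMap B (Localization.AtPrime q) b) := fun _ => rfl
  have hIle : I ≤ q.under R := by
    intro a ha
    exact hq (hIK₁ (Ideal.mem_map_of_mem _ ha))
  have hΨI : ∀ z ∈ I.map (algebraMap R B), Ψ z = 0 := by
    intro z hz
    rw [hΨ, ← RingHom.mem_ker, hkerψ]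
    exact Ideal.mem_map_of_mem _ (Ideal.map_mono hIle hz)
  have hΨg : IsUnit (Ψ g) :=
    (IsLocalization.map_units (Localization.AtPrime q) (⟨g, hgq⟩ : q.primeCompl)).map ψ
  obtain ⟨f, hf⟩ : ∃ f : Fin r → L, f = fun i => Ψ (k i) := ⟨_, rfl⟩
  obtain ⟨f', hf'⟩ : ∃ f' : Fin r → L, f' = fun i => Ψ (φ (ε i)) := ⟨_, rfl⟩
  have hspan : ∀ u ∈ Ideal.span (Set.range k), Ψ u ∈ Ideal.span (Set.range f) := by
    intro u hu
    have h1 := Ideal.mem_map_of_mem Ψ hu
    rw [Ideal.map_span, ← Set.range_comp] at h1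
    rw [hf]
    exact h1
  have hK₁𝔞 : ∀ x ∈ K₁, Ψ x ∈ Ideal.span (Set.range f) := by
    intro x hx
    obtain ⟨u, hu, ι, hι, huι⟩ := Submodule.mem_sup.mp (hgk x hx)
    have h1 : Ψ g * Ψ x = Ψ u := by
      rw [← map_mul, ← huι, map_add, hΨI ι hι, add_zero]
    have h2 : Ψ g * Ψ x ∈ Ideal.span (Set.range f) := by rw [h1]; exact hspan u hu
    exact (Ideal.unit_mul_mem_iff_mem _ hΨg).mp h2
  have hsq : ∀ z ∈ K₁ ^ 2, Ψ z ∈ Ideal.span (Set.range f) * Ideal.span (Set.range f) := by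
    intro z hz
    rw [pow_two] at hz
    refine Submodule.mul_induction_on hz ?_ ?_
    · intro a ha b hb
      rw [map_mul]
      exact Ideal.mul_mem_mul (hK₁𝔞 a ha) (hK₁𝔞 b hb)
    · intro x y hx hy
      rw [map_add]
      exact Ideal.add_mem _ hx hy
  have hdiff : ∀ i, f' i - f i ∈ Ideal.span (Set.range f) * Ideal.span (Set.range f) := by
    intro i
    obtain ⟨z, hz, ι, hι, hzι⟩ := Submodule.mem_sup.mp (hy i)
    have h1 : f' i - f i = Ψ z := by
      rw [hf, hf']
      change Ψ (φ (ε i)) - Ψ (k i) = _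
      rw [← map_sub, ← hzι, map_add, hΨI ι hι, add_zero]
    rw [h1]
    exact hsq z hz
  choose A hA1 hA2 using fun i =>
    exists_coeff_of_mem_mul (Ideal.span (Set.range f)) f (f' i - f i) (hdiff i)
  haveI : IsLocalHom ψ := IsLocalHom.of_surjective ψ hψ
  have hmemf : ∀ i, f i ∈ maximalIdeal L := by
    intro i
    rw [hf]
    change ψ (algebraMap B (Localization.AtPrime q) (k i)) ∈ _
    rw [mem_maximalIdeal, mem_nonunits_iff]
    intro hu
    have h1 := (isUnit_map_iff ψ _).mp hu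
    have h2 : algebraMap B (Localization.AtPrime q) (k i) ∈
        maximalIdeal (Localization.AtPrime q) :=
      (IsLocalization.AtPrime.to_map_mem_maximal_iff (Localization.AtPrime q) q (k i)).mpr
        (hq (hk i))
    rw [mem_maximalIdeal, mem_nonunits_iff] at h2
    exact h2 h1
  have h𝔞m : Ideal.span (Set.range f) ≤ maximalIdeal L := by
    rw [Ideal.span_le]
    rintro _ ⟨i, rfl⟩
    exact hmemf i
  have hreg' : IsWeaklyRegular L (List.ofFn f') := by
    refine isWeaklyRegular_of_perturb f f' (Matrix.of A) (fun i j => h𝔞m (hA1 i j))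
      (fun i => ?_) hmemf (by rw [hf]; exact hregk)
    simp only [Matrix.of_apply]
    rw [← hA2 i]
    ring
  have hreg'' : IsWeaklyRegular L
      (List.ofFn fun i => ψ (algebraMap B (Localization.AtPrime q) (φ (ε i)))) := by
    rw [hf'] at hreg'
    exact hreg'
  exact exists_away_syntomic_quotient hB φ K hK (q.under R) q ε g' hg'q hg'2 L ψ hψ hkerψ hreg''

/-- localizing a syntomic localization further. -/
theorem isSyntomic_away_mul {R S : Type u} [CommRing R] [CommRing S] [Algebra R S] (x y : S)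
    (hx : Synt.IsSyntomic R (Localization.Away x)) :
    Synt.IsSyntomic R (Localization.Away (x * y)) := by
  have h1 : Synt.IsSyntomic R (Localization.Away (algebraMap S (Localization.Away x) y)) :=
    Groth.Agent.LibSyntHomProp29.isSyntomic_of_isLocalization_away
      (algebraMap S (Localization.Away x) y) hx
  let e : Localization.Away (algebraMap S (Localization.Away x) y) ≃ₐ[S]
      Localization.Away (x * y) :=
    IsLocalization.algEquiv (Submonoid.powers (x * y)) _ _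
  exact Groth.Agent.LibSyntTransport29.isSyntomic_of_algEquiv (e.restrictScalars R) h1

/-- **the syntomic lifting core**: the analogue of `SmoothLiftCore.exists_smooth_of_data`, with the
Jacobian input replaced by fibrewise regularity of local generators of `K₁` modulo `I`. -/
theorem exists_syntomic_of_data {R B : Type u} [CommRing R] [CommRing B] [Algebra R B]
    (hB : Synt.IsSyntomic R B)
    (I : Ideal R) (K₁ K₁'' : Ideal B) (hK₁fg : K₁''.FG)
    (hK₁ : K₁ = K₁'' ⊔ I.map (algebraMap R B))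
    {P : Type u} [AddCommGroup P] [Module B P] [Module.Finite B P] [Module.Projective B P]
    {N : Type u} [AddCommGroup N] [Module B N]
    (e : P →ₗ[B] N) (he : Function.Surjective e) (hker : LinearMap.ker e = K₁ • ⊤)
    (d₀ : Ω[B⁄R] →ₗ[B] N)
    (hc1 : ∀ n : N, ∃ k ∈ K₁, d₀ (D R B k) = n)
    (hc2 : ∀ k ∈ K₁, d₀ (D R B k) = 0 → k ∈ K₁ ^ 2 ⊔ I.map (algebraMap R B))
    (hreg : ∀ (q : Ideal B) [q.IsPrime], K₁ ≤ q → ∃ (r : ℕ) (k : Fin r → B) (g : B), g ∉ q ∧
      (∀ i, k i ∈ K₁) ∧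
      (∀ x ∈ K₁, g * x ∈ Ideal.span (Set.range k) ⊔ I.map (algebraMap R B)) ∧
      ∃ (L : Type u) (_ : CommRing L) (ψ : Localization.AtPrime q →+* L),
        Function.Surjective ψ ∧
        RingHom.ker ψ = ((q.under R).map (algebraMap R B)).map
          (algebraMap B (Localization.AtPrime q)) ∧
        IsWeaklyRegular L
          (List.ofFn fun i => ψ (algebraMap B (Localization.AtPrime q) (k i)))) :
    ∃ (A : Type u) (_ : CommRing A) (_ : Algebra R A), Synt.IsSyntomic R A ∧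
      ∃ χ : A →+* B ⧸ K₁, (∀ r, χ (algebraMap R A r) = algebraMap R (B ⧸ K₁) r) ∧
        Function.Surjective χ ∧ RingHom.ker χ = I.map (algebraMap R A) := by
  classical
  have hIK₁ : I.map (algebraMap R B) ≤ K₁ := hK₁ ▸ le_sup_right
  have hKN : ∀ k ∈ K₁, ∀ n : N, k • n = 0 := by
    intro k hk n
    obtain ⟨p, rfl⟩ := he n
    rw [← map_smul, ← LinearMap.mem_ker, hker]
    exact Submodule.smul_mem_smul hk Submodule.mem_top
  let c : K₁ →ₗ[B] N :=
    { toFun := fun k => d₀ (D R B (k : B))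
      map_add' := fun x y => by simp
      map_smul' := fun b k => by
        simp only [Submodule.coe_smul_of_tower, smul_eq_mul, Derivation.leibniz, map_add, map_smul,
          RingHom.id_apply]
        rw [hKN _ k.2, add_zero] }
  have csurj : Function.Surjective c := by
    intro n
    obtain ⟨k, hk, hkn⟩ := hc1 n
    exact ⟨⟨k, hk⟩, hkn⟩
  obtain ⟨φ₀, hφ₀⟩ := Module.projective_lifting_property c e csurj
  let φ : P →ₗ[B] B := (Submodule.subtype K₁) ∘ₗ φ₀
  have hφ1 : ∀ p, φ p ∈ K₁ := fun p => (φ₀ p).2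
  have hφ2 : ∀ p, d₀ (D R B (φ p)) = e p := fun p => LinearMap.congr_fun hφ₀ p
  let K : Ideal B := LinearMap.range φ
  have hKmem : ∀ p, φ p ∈ K := fun p => LinearMap.mem_range_self φ p
  have hKK₁ : K ≤ K₁ := by rintro _ ⟨p, rfl⟩; exact hφ1 p
  have hle : K₁ ≤ (K ⊔ I.map (algebraMap R B)) ⊔ K₁ • K₁'' := by
    intro k hk
    obtain ⟨p, hp⟩ := he (d₀ (D R B k))
    have h0 : d₀ (D R B (k - φ p)) = 0 := by
      rw [map_sub, map_sub, hφ2, hp, sub_self]
    have h1 := hc2 (k - φ p) (K₁.sub_mem hk (hφ1 p)) h0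
    have h2 : K₁ ^ 2 ≤ K₁ • K₁'' ⊔ I.map (algebraMap R B) := by
      rw [pow_two]
      calc K₁ * K₁ = K₁ * (K₁'' ⊔ I.map (algebraMap R B)) := congrArg (K₁ * ·) hK₁
        _ = K₁ * K₁'' ⊔ K₁ * I.map (algebraMap R B) := Ideal.mul_sup _ _ _
        _ ≤ _ := sup_le_sup le_rfl Ideal.mul_le_right
    have h3 : k - φ p ∈ (K ⊔ I.map (algebraMap R B)) ⊔ K₁ • K₁'' := by
      have h5 : K₁ ^ 2 ⊔ I.map (algebraMap R B) ≤ (K ⊔ I.map (algebraMap R B)) ⊔ K₁ • K₁'' := by
        refine sup_le (h2.trans (sup_le le_sup_right ?_)) ?_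
        · exact le_sup_right.trans le_sup_left
        · exact le_sup_right.trans le_sup_left
      exact h5 h1
    have h4 : φ p ∈ (K ⊔ I.map (algebraMap R B)) ⊔ K₁ • K₁'' :=
      (le_sup_left.trans le_sup_left : K ≤ _) (hKmem p)
    have := Ideal.add_mem _ h3 h4
    rwa [sub_add_cancel] at this
  obtain ⟨h₁, hh₁1, hh₁2⟩ := Submodule.exists_sub_one_mem_and_smul_le_of_fg_of_le_sup
    (I := K₁) (N := K ⊔ I.map (algebraMap R B)) (N' := K₁'') (P := K₁) hK₁fg
    (hK₁ ▸ le_sup_left) hle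
  have hh₁3 : ∀ x ∈ K₁, h₁ * x ∈ K ⊔ I.map (algebraMap R B) := fun x hx =>
    hh₁2 (Submodule.smul_mem_pointwise_smul x h₁ K₁ hx)
  -- per prime
  have hloc : ∀ (q : Ideal B) [q.IsPrime], K₁ ≤ q →
      ∃ g₀ : B, g₀ ∉ q ∧ Synt.IsSyntomic R (Localization.Away (Ideal.Quotient.mk K g₀)) := by
    intro q _ hq
    obtain ⟨r, k, g, hgq, hk, hgk, L, _, ψ, hψ, hkerψ, hregk⟩ := hreg q hq
    exact exists_away_syntomic_at hB I K K₁ hIK₁ e he hker d₀ hc1 hc2 φ hφ1 hφ2
      (fun x => Iff.rfl) q hq r k g hgq hk hgk L ψ hψ hkerψ hregk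
  obtain ⟨h₀, hh₀1, hh₀2⟩ := exists_away_syntomic_of_forall (R := R) (S := B ⧸ K)
    (K₁.map (Ideal.Quotient.mk K)) (by
      intro q' _ hq'
      have hq : K₁ ≤ q'.comap (Ideal.Quotient.mk K) := Ideal.map_le_iff_le_comap.mp hq'
      obtain ⟨g₀, hg₀, hs⟩ := hloc (q'.comap (Ideal.Quotient.mk K)) hq
      exact ⟨Ideal.Quotient.mk K g₀, hg₀, hs⟩)
  obtain ⟨h₂, rfl⟩ := Ideal.Quotient.mk_surjective h₀
  have hh₂ : h₂ - 1 ∈ K₁ := by
    have h5 : Ideal.Quotient.mk K (h₂ - 1) ∈ K₁.map (Ideal.Quotient.mk K) := by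
      rwa [map_sub, map_one]
    obtain ⟨z, hz, hzz⟩ := (Ideal.mem_map_iff_of_surjective _ Ideal.Quotient.mk_surjective).mp h5
    have h6 : z - (h₂ - 1) ∈ K := Ideal.Quotient.eq.mp hzz
    have h7 : h₂ - 1 = z - (z - (h₂ - 1)) := by ring
    rw [h7]
    exact K₁.sub_mem hz (hKK₁ h6)
  have hh1 : h₁ * h₂ - 1 ∈ K₁ := by
    have : h₁ * h₂ - 1 = (h₁ - 1) * h₂ + (h₂ - 1) := by ring
    rw [this]
    exact K₁.add_mem (K₁.mul_mem_right _ hh₁1) hh₂
  have hsyn : Synt.IsSyntomic R (Localization.Away (Ideal.Quotient.mk K (h₁ * h₂))) := by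
    rw [map_mul, mul_comm]
    exact isSyntomic_away_mul _ _ hh₀2
  obtain ⟨χ, hχ1, hχ2, hχ3⟩ :=
    Groth.Agent.Lib.helper22.SmoothLiftCore.exists_quotient_map I K K₁ hKK₁ hIK₁ (h₁ * h₂) h₁ h₂
      rfl hh1 hh₁3
  exact ⟨Localization.Away (Ideal.Quotient.mk K (h₁ * h₂)), inferInstance, inferInstance,
    hsyn, χ, hχ1, hχ2, hχ3⟩

end Groth.Agent.Lib.helper22.SyntLiftE
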