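import Mathlib
import Groth.Prelude.Def_RegImm
import Groth.Agent.S9172
import Groth.Agent.S9147
import Groth.Agent.LibSyntTransport29

set_option autoImplicit false
set_option linter.style.haveILetI false
universe u
open MvPolynomial

namespace Groth.Agent.Lib.helper22.SyntLiftF

/-- relative global complete intersections lift along `R → R/I`, up to a localization. -/
theorem exists_syntomic_lift_relGCI {R : Type u} [CommRing R] (I : Ideal R) (N c : ℕ)
    (Fb : Fin c → MvPolynomial (Fin N) (R ⧸ I)) (hrel : Synt.IsRelGCI (R ⧸ I) N c Fb) :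
    ∃ (B₁ : Type u) (_ : CommRing B₁) (_ : Algebra R B₁), Synt.IsSyntomic R B₁ ∧
      ∃ ψ : B₁ →+* Synt.RelGCIRing (R ⧸ I) N c Fb,
        (∀ a, ψ (algebraMap R B₁ a) =
          algebraMap (R ⧸ I) (Synt.RelGCIRing (R ⧸ I) N c Fb) (Ideal.Quotient.mk I a)) ∧
        Function.Surjective ψ ∧ RingHom.ker ψ = I.map (algebraMap R B₁) := by
  classical
  have hlift : ∀ j : Fin c, ∃ q : MvPolynomial (Fin N) R, map (Ideal.Quotient.mk I) q = Fb j :=
    fun j => map_surjective _ Ideal.Quotient.mk_surjective _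
  choose F hF using hlift
  have hI : Synt.IsRelGCI (R ⧸ I) N c (fun i => MvPolynomial.map (Ideal.Quotient.mk I) (F i)) := by
    rw [funext hF]
    exact hrel
  obtain ⟨h, hh1, hrelR, ⟨E⟩⟩ := Groth.Agent.S9172.result R N c F I hI
  have hsyn : Synt.IsSyntomic R
      (Localization.Away (Ideal.Quotient.mk (Ideal.span (Set.range F)) h)) :=
    Groth.Agent.LibSyntTransport29.isSyntomic_of_algEquiv E.symm
      (Groth.Agent.S9147.result R (N + 1) (c + 1) _ hrelR)
  -- the map `ψ₀ : R[X] → R/I[X]/(F̄)`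
  let ψ₀ : MvPolynomial (Fin N) R →+* Synt.RelGCIRing (R ⧸ I) N c Fb :=
    (Ideal.Quotient.mk (Ideal.span (Set.range Fb))).comp (map (Ideal.Quotient.mk I))
  have hψ₀ : ∀ q, ψ₀ q = Ideal.Quotient.mk _ (map (Ideal.Quotient.mk I) q) := fun q => rfl
  have hψ₀r : ∀ q ∈ Ideal.span (Set.range F), ψ₀ q = 0 := by
    have hle : Ideal.span (Set.range F) ≤ RingHom.ker ψ₀ := by
      rw [Ideal.span_le]
      rintro _ ⟨j, rfl⟩
      change ψ₀ (F j) = 0
      rw [hψ₀, hF, Ideal.Quotient.eq_zero_iff_mem]
      exact Ideal.subset_span ⟨j, rfl⟩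
    exact fun q hq => hle hq
  let ψ₁ : Synt.RelGCIRing R N c F →+* Synt.RelGCIRing (R ⧸ I) N c Fb :=
    Ideal.Quotient.lift _ ψ₀ hψ₀r
  have hψ₁ : ∀ q, ψ₁ (Ideal.Quotient.mk _ q) = ψ₀ q := fun q => rfl
  have hAQ₀ : ∀ a : R, algebraMap R (Synt.RelGCIRing R N c F) a =
      Ideal.Quotient.mk _ (MvPolynomial.C a) := fun a => rfl
  have hψ₁R : ∀ a : R, ψ₁ (algebraMap R _ a) =
      algebraMap (R ⧸ I) (Synt.RelGCIRing (R ⧸ I) N c Fb) (Ideal.Quotient.mk I a) := by
    intro a
    rw [hAQ₀, hψ₁, hψ₀, map_C]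
    rfl
  have hψ₁I : ∀ z ∈ I.map (algebraMap R (Synt.RelGCIRing R N c F)), ψ₁ z = 0 := by
    have hle : I.map (algebraMap R (Synt.RelGCIRing R N c F)) ≤ RingHom.ker ψ₁ := by
      rw [Ideal.map_le_iff_le_comap]
      intro a ha
      rw [Ideal.mem_comap, RingHom.mem_ker, hψ₁R, Ideal.Quotient.eq_zero_iff_mem.mpr ha, map_zero]
    exact fun z hz => hle hz
  have hΔ1 : ψ₁ (Ideal.Quotient.mk (Ideal.span (Set.range F)) h) = 1 := by
    have h2 : Ideal.Quotient.mk (Ideal.span (Set.range F)) h - 1 ∈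
        I.map (algebraMap R (Synt.RelGCIRing R N c F)) := by
      rw [← Ideal.Quotient.eq_zero_iff_mem, map_sub, hh1, map_one, sub_self]
    have h3 := hψ₁I _ h2
    rwa [map_sub, map_one, sub_eq_zero] at h3
  have hΔu : IsUnit (ψ₁ (Ideal.Quotient.mk (Ideal.span (Set.range F)) h)) := by
    rw [hΔ1]; exact isUnit_one
  let ψ : Localization.Away (Ideal.Quotient.mk (Ideal.span (Set.range F)) h) →+*
      Synt.RelGCIRing (R ⧸ I) N c Fb :=
    IsLocalization.Away.lift (Ideal.Quotient.mk (Ideal.span (Set.range F)) h) (g := ψ₁) hΔu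
  have hψ : ∀ z : Synt.RelGCIRing R N c F, ψ (algebraMap _ _ z) = ψ₁ z := fun z =>
    IsLocalization.Away.lift_eq _ hΔu z
  have hcompat : ∀ a, ψ (algebraMap R _ a) =
      algebraMap (R ⧸ I) (Synt.RelGCIRing (R ⧸ I) N c Fb) (Ideal.Quotient.mk I a) := by
    intro a
    rw [IsScalarTower.algebraMap_apply R (Synt.RelGCIRing R N c F)
      (Localization.Away (Ideal.Quotient.mk (Ideal.span (Set.range F)) h)), hψ, hψ₁R]
  refine ⟨Localization.Away (Ideal.Quotient.mk (Ideal.span (Set.range F)) h), inferInstance,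
    inferInstance, hsyn, ψ, hcompat, ?_, ?_⟩
  · intro y
    obtain ⟨p, rfl⟩ := Ideal.Quotient.mk_surjective y
    obtain ⟨q, rfl⟩ := map_surjective (Ideal.Quotient.mk I) Ideal.Quotient.mk_surjective p
    exact ⟨algebraMap _ _ (Ideal.Quotient.mk _ q), by rw [hψ, hψ₁, hψ₀]⟩
  · apply le_antisymm
    · intro y hy
      rw [RingHom.mem_ker] at hy
      obtain ⟨⟨z, ⟨_, k, rfl⟩⟩, hz⟩ := IsLocalization.surj
        (Submonoid.powers (Ideal.Quotient.mk (Ideal.span (Set.range F)) h)) y
      simp only at hz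
      obtain ⟨q, rfl⟩ := Ideal.Quotient.mk_surjective z
      have h1 : ψ₀ q = 0 := by
        have := congrArg ψ hz
        rw [map_mul, hy, zero_mul, hψ, hψ₁] at this
        exact this.symm
      rw [hψ₀, Ideal.Quotient.eq_zero_iff_mem] at h1
      have h2 : map (Ideal.Quotient.mk I) q ∈
          (Ideal.span (Set.range F)).map (map (Ideal.Quotient.mk I)) := by
        rw [Ideal.map_span, ← Set.range_comp]
        have h3 : (map (Ideal.Quotient.mk I) ∘ F) = Fb := funext hF
        rw [h3]
        exact h1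
      obtain ⟨q', hq', hqq'⟩ := (Ideal.mem_map_iff_of_surjective _
        (map_surjective _ Ideal.Quotient.mk_surjective)).mp h2
      have h4 : q - q' ∈ I.map (MvPolynomial.C : R →+* MvPolynomial (Fin N) R) := by
        have : q - q' ∈ RingHom.ker (map (Ideal.Quotient.mk I) : MvPolynomial (Fin N) R →+* _) := by
          rw [RingHom.mem_ker, map_sub, hqq', sub_self]
        rwa [ker_map, Ideal.mk_ker] at this
      have h5 : Ideal.Quotient.mk (Ideal.span (Set.range F)) q ∈
          I.map (algebraMap R (Synt.RelGCIRing R N c F)) := by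
        have h6 : Ideal.Quotient.mk (Ideal.span (Set.range F)) q =
            Ideal.Quotient.mk (Ideal.span (Set.range F)) (q - q') := by
          rw [map_sub, Ideal.Quotient.eq_zero_iff_mem.mpr hq', sub_zero]
        have h7 : I.map (algebraMap R (Synt.RelGCIRing R N c F)) =
            (I.map (MvPolynomial.C : R →+* MvPolynomial (Fin N) R)).map (Ideal.Quotient.mk _) := by
          rw [Ideal.map_map]
          rfl
        rw [h6, h7]
        exact Ideal.mem_map_of_mem _ h4
      have h8 : algebraMap (Synt.RelGCIRing R N c F) (Localization.Away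
          (Ideal.Quotient.mk (Ideal.span (Set.range F)) h)) (Ideal.Quotient.mk _ q) ∈
          I.map (algebraMap R _) := by
        have h9 : I.map (algebraMap R (Localization.Away
            (Ideal.Quotient.mk (Ideal.span (Set.range F)) h))) =
            (I.map (algebraMap R (Synt.RelGCIRing R N c F))).map (algebraMap _ _) := by
          rw [Ideal.map_map, ← IsScalarTower.algebraMap_eq]
        rw [h9]
        exact Ideal.mem_map_of_mem _ h5
      have hu : IsUnit (algebraMap (Synt.RelGCIRing R N c F) (Localization.Away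
          (Ideal.Quotient.mk (Ideal.span (Set.range F)) h))
          ((Ideal.Quotient.mk (Ideal.span (Set.range F)) h) ^ k)) := by
        rw [map_pow]
        exact (IsLocalization.Away.algebraMap_isUnit _).pow k
      rw [← hz] at h8
      exact (Ideal.unit_mul_mem_iff_mem _ hu).mp (by rwa [mul_comm] at h8)
    · rw [Ideal.map_le_iff_le_comap]
      intro i hi
      rw [Ideal.mem_comap, RingHom.mem_ker, hcompat, Ideal.Quotient.eq_zero_iff_mem.mpr hi,
        map_zero]

end Groth.Agent.Lib.helper22.SyntLiftF
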