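import Mathlib
import Groth.Agent.Lib.Helper22.SyntLiftC

/-!
# helper22: conormal data of the zero section of a symmetric algebra, and the local regularity data
for lifting syntomic algebras along a surjection (used for Stacks 07M8-type lifting).
-/

set_option autoImplicit false
set_option linter.style.haveILetI false
universe u
open RingTheory.Sequence

namespace Groth.Agent.Lib.helper22.SyntLiftG

open SymmetricAlgebra Groth.Agent.Lib.helper22.SyntLiftC

/-- degree-one part of the symmetric algebra: conormal data of the zero section. -/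
theorem sym_conormal_data (A₀ M : Type u) [CommRing A₀] [AddCommGroup M] [Module A₀ M] :
    ∃ δ : SymmetricAlgebra A₀ M →+ M,
      (∀ c₁ c₂, δ (c₁ * c₂) = algebraMapInv c₁ • δ c₂ + algebraMapInv c₂ • δ c₁) ∧
      (∀ a : A₀, δ (algebraMap A₀ (SymmetricAlgebra A₀ M) a) = 0) ∧
      (∀ m, δ (ι A₀ M m) = m) ∧
      (∀ κ : SymmetricAlgebra A₀ M, algebraMapInv κ = 0 → κ ∈ Ideal.span (Set.range (ι A₀ M))) ∧
      (∀ κ : SymmetricAlgebra A₀ M, algebraMapInv κ = 0 → δ κ = 0 →
        κ ∈ (RingHom.ker (algebraMapInv (R := A₀) (M := M)).toRingHom) ^ 2) := by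
  letI : Module A₀ᵐᵒᵖ M :=
    Module.compHom M ((RingHom.id A₀).fromOpposite (fun _ _ => mul_comm _ _))
  haveI : IsCentralScalar A₀ M := ⟨fun a m => rfl⟩
  let Φ : SymmetricAlgebra A₀ M →ₐ[A₀] TrivSqZeroExt A₀ M :=
    SymmetricAlgebra.lift (TrivSqZeroExt.inrHom A₀ M)
  have hΦι : ∀ m, Φ (ι A₀ M m) = TrivSqZeroExt.inr m := fun m => lift_ι_apply _ m
  have hfst : ∀ x, (Φ x).fst = algebraMapInv x := by
    intro x
    have : (TrivSqZeroExt.fstHom A₀ A₀ M).comp Φ = algebraMapInv := by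
      apply SymmetricAlgebra.algHom_ext
      ext m
      simp [hΦι, algebraMapInv_ι]
    exact congr($this x)
  let δ : SymmetricAlgebra A₀ M →+ M :=
    { toFun := fun x => (Φ x).snd
      map_zero' := by simp
      map_add' := fun x y => by simp }
  have hδ : ∀ x, δ x = (Φ x).snd := fun _ => rfl
  have hmul : ∀ c₁ c₂, δ (c₁ * c₂) = algebraMapInv c₁ • δ c₂ + algebraMapInv c₂ • δ c₁ := by
    intro c₁ c₂
    rw [hδ, map_mul, TrivSqZeroExt.snd_mul, hfst, hfst, op_smul_eq_smul]
    rfl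
  have halg : ∀ a : A₀, δ (algebraMap A₀ (SymmetricAlgebra A₀ M) a) = 0 := by
    intro a
    rw [hδ, AlgHom.commutes]
    rfl
  have hι : ∀ m, δ (ι A₀ M m) = m := by
    intro m
    rw [hδ, hΦι]
    simp
  set J₀ : Ideal (SymmetricAlgebra A₀ M) := Ideal.span (Set.range (ι A₀ M)) with hJ₀
  have hιJ : ∀ m, ι A₀ M m ∈ J₀ := fun m => Ideal.subset_span ⟨m, rfl⟩
  -- key decomposition
  have hdec : ∀ x : SymmetricAlgebra A₀ M,
      x - algebraMap A₀ _ (algebraMapInv x) - ι A₀ M (δ x) ∈ J₀ ^ 2 := by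
    intro x
    induction x using SymmetricAlgebra.induction with
    | algebraMap r =>
      rw [halg, map_zero, AlgHom.commutes]
      simp
    | ι m =>
      rw [hι, algebraMapInv_ι]
      simp
    | mul x y hx hy =>
      have e : x * y - algebraMap A₀ _ (algebraMapInv (x * y)) - ι A₀ M (δ (x * y)) =
          (x - algebraMap A₀ _ (algebraMapInv x) - ι A₀ M (δ x)) * y +
          (algebraMap A₀ _ (algebraMapInv x) + ι A₀ M (δ x)) *
            (y - algebraMap A₀ _ (algebraMapInv y) - ι A₀ M (δ y)) +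
          ι A₀ M (δ x) * ι A₀ M (δ y) := by
        rw [hmul, map_mul, map_mul, map_add, map_smul, map_smul, Algebra.smul_def, Algebra.smul_def]
        ring
      rw [e]
      refine Ideal.add_mem _ (Ideal.add_mem _ (Ideal.mul_mem_right _ _ hx)
        (Ideal.mul_mem_left _ _ hy)) ?_
      rw [pow_two]
      exact Ideal.mul_mem_mul (hιJ _) (hιJ _)
    | add x y hx hy =>
      have e : x + y - algebraMap A₀ _ (algebraMapInv (x + y)) - ι A₀ M (δ (x + y)) =
          (x - algebraMap A₀ _ (algebraMapInv x) - ι A₀ M (δ x)) +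
          (y - algebraMap A₀ _ (algebraMapInv y) - ι A₀ M (δ y)) := by
        rw [map_add, map_add, map_add, map_add]
        ring
      rw [e]
      exact Ideal.add_mem _ hx hy
  have hJker : J₀ ≤ RingHom.ker (algebraMapInv (R := A₀) (M := M)).toRingHom := by
    rw [hJ₀, Ideal.span_le]
    rintro _ ⟨m, rfl⟩
    exact algebraMapInv_ι m
  refine ⟨δ, hmul, halg, hι, ?_, ?_⟩
  · intro κ hκ
    have h := hdec κ
    rw [hκ, map_zero, sub_zero] at h
    have h2 : κ - ι A₀ M (δ κ) ∈ J₀ := Ideal.pow_le_self two_ne_zero h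
    have := Ideal.add_mem _ h2 (hιJ (δ κ))
    rwa [sub_add_cancel] at this
  · intro κ hκ hδκ
    have h := hdec κ
    rw [hκ, hδκ, map_zero, map_zero, sub_zero, sub_zero] at h
    exact Ideal.pow_right_mono hJker 2 h

/-- the local regularity data needed for `exists_syntomic_of_data`. -/
theorem exists_local_regular_data {R : Type u} [CommRing R] (I : Ideal R) (A₀ : Type u)
    [CommRing A₀] [Algebra (R ⧸ I) A₀] (M : Type u) [AddCommGroup M] [Module A₀ M]
    [Module (R ⧸ I) M] [IsScalarTower (R ⧸ I) A₀ M] [Module.Finite A₀ M] [Module.Projective A₀ M]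
    (B₁ : Type u) [CommRing B₁] [Algebra R B₁]
    (ψ : B₁ →+* SymmetricAlgebra A₀ M)
    (hψ1 : ∀ a, ψ (algebraMap R B₁ a) =
      algebraMap (R ⧸ I) (SymmetricAlgebra A₀ M) (Ideal.Quotient.mk I a))
    (hψ2 : Function.Surjective ψ) (hψ3 : RingHom.ker ψ = I.map (algebraMap R B₁))
    (J : Ideal B₁) (hJ : ∀ b, b ∈ J ↔ algebraMapInv (ψ b) = 0)
    (B' : Type u) [CommRing B'] [Algebra B₁ B'] [Algebra R B'] [IsScalarTower R B₁ B']
    [Module.Flat B₁ B'] (q : Ideal B') [q.IsPrime] (hq : J.map (algebraMap B₁ B') ≤ q) :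
    ∃ (r : ℕ) (k : Fin r → B') (g : B'), g ∉ q ∧ (∀ i, k i ∈ J.map (algebraMap B₁ B')) ∧
      (∀ x ∈ J.map (algebraMap B₁ B'),
        g * x ∈ Ideal.span (Set.range k) ⊔ I.map (algebraMap R B')) ∧
      ∃ (L : Type u) (_ : CommRing L) (ψL : Localization.AtPrime q →+* L),
        Function.Surjective ψL ∧
        RingHom.ker ψL = ((q.under R).map (algebraMap R B')).map
          (algebraMap B' (Localization.AtPrime q)) ∧
        IsWeaklyRegular L
          (List.ofFn fun i => ψL (algebraMap B' (Localization.AtPrime q) (k i))) := by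
  classical
  obtain ⟨-, -, -, -, hkerspan, -⟩ := sym_conormal_data A₀ M
  -- the prime of `A₀`
  have hJq₁ : J ≤ q.comap (algebraMap B₁ B') := Ideal.map_le_iff_le_comap.mp hq
  let π : B₁ →+* A₀ := (algebraMapInv (R := A₀) (M := M)).toRingHom.comp ψ
  have hπ : ∀ b, π b = algebraMapInv (ψ b) := fun _ => rfl
  have hπsurj : Function.Surjective π := fun a => by
    obtain ⟨b, hb⟩ := hψ2 (algebraMap A₀ _ a)
    exact ⟨b, by rw [hπ, hb, AlgHom.commutes]; rfl⟩
  have hkerπ : RingHom.ker π ≤ q.comap (algebraMap B₁ B') := fun b hb =>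
    hJq₁ ((hJ b).mpr hb)
  let 𝔫 : Ideal A₀ := (q.comap (algebraMap B₁ B')).map π
  haveI : (q.comap (algebraMap B₁ B')).IsPrime := Ideal.comap_isPrime _ _
  haveI h𝔫prime : 𝔫.IsPrime := Ideal.map_isPrime_of_surjective hπsurj hkerπ
  have h𝔫 : ∀ b, π b ∈ 𝔫 → algebraMap B₁ B' b ∈ q := by
    intro b hb
    obtain ⟨y, hy, hyb⟩ := (Ideal.mem_map_iff_of_surjective π hπsurj).mp hb
    have h1 : b - y ∈ q.comap (algebraMap B₁ B') :=
      hkerπ (by rw [RingHom.mem_ker, map_sub, hyb, sub_self])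
    have := Ideal.add_mem _ h1 hy
    rwa [sub_add_cancel] at this
  -- the ring `T`
  let Kq : Ideal (Localization.AtPrime q) :=
    (RingHom.ker ψ).map (algebraMap B₁ (Localization.AtPrime q))
  let σ : (B₁ ⧸ RingHom.ker ψ) ≃+* SymmetricAlgebra A₀ M :=
    RingHom.quotientKerEquivOfSurjective hψ2
  have hσ : ∀ b, σ (Ideal.Quotient.mk _ b) = ψ b := fun _ => rfl
  let θ : SymmetricAlgebra A₀ M →+* (Localization.AtPrime q ⧸ Kq) :=
    (algebraMap (B₁ ⧸ RingHom.ker ψ) (Localization.AtPrime q ⧸ Kq)).comp σ.symm.toRingHom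
  have hθ : ∀ b, θ (ψ b) = Ideal.Quotient.mk Kq (algebraMap B₁ (Localization.AtPrime q) b) := by
    intro b
    change algebraMap (B₁ ⧸ RingHom.ker ψ) (Localization.AtPrime q ⧸ Kq) (σ.symm (ψ b)) = _
    rw [← hσ, RingEquiv.symm_apply_apply, Ideal.Quotient.algebraMap_quotient_map_quotient]
  letI algCD : Algebra (SymmetricAlgebra A₀ M) (B₁ ⧸ RingHom.ker ψ) := σ.symm.toRingHom.toAlgebra
  letI algCT : Algebra (SymmetricAlgebra A₀ M) (Localization.AtPrime q ⧸ Kq) := θ.toAlgebra
  letI algAT : Algebra A₀ (Localization.AtPrime q ⧸ Kq) :=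
    (θ.comp (algebraMap A₀ (SymmetricAlgebra A₀ M))).toAlgebra
  haveI : IsScalarTower A₀ (SymmetricAlgebra A₀ M) (Localization.AtPrime q ⧸ Kq) :=
    IsScalarTower.of_algebraMap_eq' rfl
  haveI : IsScalarTower (SymmetricAlgebra A₀ M) (B₁ ⧸ RingHom.ker ψ)
      (Localization.AtPrime q ⧸ Kq) := IsScalarTower.of_algebraMap_eq' rfl
  haveI : Module.Flat B₁ (Localization.AtPrime q) :=
    Module.Flat.trans B₁ B' (Localization.AtPrime q)
  haveI : Module.Flat (B₁ ⧸ RingHom.ker ψ) (Localization.AtPrime q ⧸ Kq) :=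
    flat_quotient_map (A := B₁) (B := Localization.AtPrime q) (RingHom.ker ψ)
  haveI : Module.Flat (SymmetricAlgebra A₀ M) (B₁ ⧸ RingHom.ker ψ) := by
    let l : (B₁ ⧸ RingHom.ker ψ) ≃ₗ[SymmetricAlgebra A₀ M] SymmetricAlgebra A₀ M :=
      { σ.toAddEquiv with
        map_smul' := fun c d => by
          change σ (c • d) = c * σ d
          rw [Algebra.smul_def, map_mul]
          congr 1
          exact σ.apply_symm_apply c }
    exact Module.Flat.of_linearEquiv l
  haveI : Module.Flat (SymmetricAlgebra A₀ M) (Localization.AtPrime q ⧸ Kq) :=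
    Module.Flat.trans (SymmetricAlgebra A₀ M) (B₁ ⧸ RingHom.ker ψ) (Localization.AtPrime q ⧸ Kq)
  have halgA : ∀ a : A₀, algebraMap A₀ (Localization.AtPrime q ⧸ Kq) a =
      θ (algebraMap A₀ (SymmetricAlgebra A₀ M) a) := fun _ => rfl
  have halgC : ∀ c : SymmetricAlgebra A₀ M,
      algebraMap (SymmetricAlgebra A₀ M) (Localization.AtPrime q ⧸ Kq) c = θ c := fun _ => rfl
  have hu : ∀ a : A₀, a ∉ 𝔫 → IsUnit (algebraMap A₀ (Localization.AtPrime q ⧸ Kq) a) := by
    intro a ha
    obtain ⟨b, hb⟩ := hψ2 (algebraMap A₀ _ a)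
    have hπb : π b = a := by rw [hπ, hb, AlgHom.commutes]; rfl
    have hbq : algebraMap B₁ B' b ∉ q := fun h => ha (hπb ▸ Ideal.mem_map_of_mem π h)
    rw [halgA, ← hb, hθ, IsScalarTower.algebraMap_apply B₁ B' (Localization.AtPrime q)]
    exact (IsLocalization.map_units (Localization.AtPrime q)
      (⟨algebraMap B₁ B' b, hbq⟩ : q.primeCompl)).map _
  obtain ⟨r, m, a, n, ha, hspan, hwr⟩ := exists_weaklyRegular_sym M
    (Localization.AtPrime q ⧸ Kq) 𝔫 hu
    (((q.under R).map (Ideal.Quotient.mk I)).map (algebraMap (R ⧸ I) A₀))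
  -- lifts
  choose j hj using fun i : Fin r => hψ2 (ι A₀ M (m i))
  obtain ⟨α, hα⟩ := hψ2 (algebraMap A₀ _ a)
  have hπα : π α = a := by rw [hπ, hα, AlgHom.commutes]; rfl
  have hjJ : ∀ i, j i ∈ J := fun i => (hJ _).mpr (by rw [hj, algebraMapInv_ι])
  -- `B₁`-level span statement
  have hB₁ : ∀ y ∈ J, α ^ n * y ∈ Ideal.span (Set.range j) ⊔ RingHom.ker ψ := by
    intro y hy
    have h1 : ψ y ∈ Ideal.span (Set.range (ι A₀ M)) := hkerspan _ ((hJ y).mp hy)
    have h2 : ∀ z ∈ Ideal.span (Set.range (ι A₀ M)),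
        algebraMap A₀ (SymmetricAlgebra A₀ M) (a ^ n) * z ∈ (Ideal.span (Set.range j)).map ψ := by
      intro z hz
      refine Submodule.span_induction ?_ ?_ ?_ ?_ hz
      · rintro _ ⟨x, rfl⟩
        obtain ⟨c, hc⟩ := (Submodule.mem_span_range_iff_exists_fun A₀).mp (hspan x)
        have : algebraMap A₀ (SymmetricAlgebra A₀ M) (a ^ n) * ι A₀ M x =
            ∑ i, algebraMap A₀ (SymmetricAlgebra A₀ M) (c i) * ψ (j i) := by
          rw [← Algebra.smul_def, ← map_smul, ← hc, map_sum]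
          refine Finset.sum_congr rfl fun i _ => ?_
          rw [map_smul, Algebra.smul_def, hj]
        rw [this]
        exact Ideal.sum_mem _ fun i _ => Ideal.mul_mem_left _ _
          (Ideal.mem_map_of_mem ψ (Ideal.subset_span ⟨i, rfl⟩))
      · rw [mul_zero]; exact Ideal.zero_mem _
      · intro x y _ _ hx hy
        rw [mul_add]; exact Ideal.add_mem _ hx hy
      · intro c x _ hx
        rw [smul_eq_mul, mul_left_comm]
        exact Ideal.mul_mem_left _ _ hx
    have h3 : ψ (α ^ n * y) ∈ (Ideal.span (Set.range j)).map ψ := by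
      rw [map_mul, map_pow, hα, ← map_pow]
      exact h2 _ h1
    have h4 : α ^ n * y ∈ ((Ideal.span (Set.range j)).map ψ).comap ψ := h3
    rw [Ideal.comap_map_of_surjective ψ hψ2] at h4
    exact h4
  have hIp : I ≤ q.under R := by
    intro x hx
    change algebraMap R B' x ∈ q
    rw [IsScalarTower.algebraMap_apply R B₁ B']
    refine hq (Ideal.mem_map_of_mem _ ((hJ _).mpr ?_))
    rw [hψ1, Ideal.Quotient.eq_zero_iff_mem.mpr hx, map_zero, map_zero]
  haveI : IsScalarTower R B₁ (Localization.AtPrime q) := IsScalarTower.of_algebraMap_eq fun x => by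
    rw [IsScalarTower.algebraMap_apply R B' (Localization.AtPrime q),
      IsScalarTower.algebraMap_apply R B₁ B',
      ← IsScalarTower.algebraMap_apply B₁ B' (Localization.AtPrime q)]
  refine ⟨r, fun i => algebraMap B₁ B' (j i), algebraMap B₁ B' (α ^ n), ?_, ?_, ?_, ?_⟩
  · intro hg
    have h1 : α ^ n ∈ q.comap (algebraMap B₁ B') := hg
    have h2 : α ∈ q.comap (algebraMap B₁ B') := Ideal.IsPrime.mem_of_pow_mem inferInstance n h1
    exact ha (hπα ▸ Ideal.mem_map_of_mem π h2)
  · intro i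
    exact Ideal.mem_map_of_mem _ (hjJ i)
  · intro x hx
    refine Submodule.span_induction ?_ ?_ ?_ ?_ hx
    · rintro _ ⟨y, hy, rfl⟩
      rw [← map_mul]
      have h1 := Ideal.mem_map_of_mem (algebraMap B₁ B') (hB₁ y hy)
      rw [Ideal.map_sup, Ideal.map_span, ← Set.range_comp, hψ3, Ideal.map_map,
        ← IsScalarTower.algebraMap_eq] at h1
      exact h1
    · rw [mul_zero]; exact Ideal.zero_mem _
    · intro x y _ _ hx hy
      rw [mul_add]; exact Ideal.add_mem _ hx hy
    · intro c x _ hx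
      rw [smul_eq_mul, mul_left_comm]
      exact Ideal.mul_mem_left _ _ hx
  · obtain ⟨𝔟T, h𝔟T⟩ : ∃ 𝔟T : Ideal (Localization.AtPrime q ⧸ Kq), 𝔟T =
        (((q.under R).map (Ideal.Quotient.mk I)).map (algebraMap (R ⧸ I) A₀)).map
          (algebraMap A₀ (Localization.AtPrime q ⧸ Kq)) := ⟨_, rfl⟩
    rw [← h𝔟T] at hwr
    refine ⟨(Localization.AtPrime q ⧸ Kq) ⧸ 𝔟T, inferInstance,
      (Ideal.Quotient.mk 𝔟T).comp (Ideal.Quotient.mk Kq), ?_, ?_, ?_⟩
    · exact Ideal.Quotient.mk_surjective.comp Ideal.Quotient.mk_surjective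
    · rw [← RingHom.comap_ker, Ideal.mk_ker]
      have h𝔟T' : 𝔟T = ((q.under R).map (algebraMap R (Localization.AtPrime q))).map
          (Ideal.Quotient.mk Kq) := by
        rw [h𝔟T, Ideal.map_map, Ideal.map_map, Ideal.map_map]
        congr 1
        ext x
        simp only [RingHom.comp_apply]
        rw [halgA, ← IsScalarTower.algebraMap_apply (R ⧸ I) A₀ (SymmetricAlgebra A₀ M), ← hψ1,
          hθ, ← IsScalarTower.algebraMap_apply R B₁ (Localization.AtPrime q)]
      rw [h𝔟T', Ideal.comap_map_of_surjective _ Ideal.Quotient.mk_surjective]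
      have hbot : Ideal.comap (Ideal.Quotient.mk Kq) ⊥ = Kq := by
        rw [← RingHom.ker_eq_comap_bot, Ideal.mk_ker]
      have hle : Kq ≤ (q.under R).map (algebraMap R (Localization.AtPrime q)) := by
        change (RingHom.ker ψ).map (algebraMap B₁ (Localization.AtPrime q)) ≤ _
        rw [hψ3, Ideal.map_map, ← IsScalarTower.algebraMap_eq]
        exact Ideal.map_mono hIp
      rw [hbot, sup_eq_left.mpr hle, IsScalarTower.algebraMap_eq R B' (Localization.AtPrime q),
        ← Ideal.map_map]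
    · have hfun : (fun i => ((Ideal.Quotient.mk 𝔟T).comp (Ideal.Quotient.mk Kq))
          (algebraMap B' (Localization.AtPrime q) (algebraMap B₁ B' (j i)))) =
          fun i => Ideal.Quotient.mk 𝔟T
            (algebraMap (SymmetricAlgebra A₀ M) (Localization.AtPrime q ⧸ Kq) (ι A₀ M (m i))) := by
        funext i
        rw [halgC, ← hj, hθ, RingHom.comp_apply,
          ← IsScalarTower.algebraMap_apply B₁ B' (Localization.AtPrime q)]
      rw [hfun]
      exact hwr

end Groth.Agent.Lib.helper22.SyntLiftG
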