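/-
Syntomic algebras: local structure keeping a given presentation, and projectivity of the
conormal module `I/I²` of a presentation of a syntomic algebra (Stacks 00SW/00SY-type results).
Built on helper29's `Synt` library. (helper22)
-/
import Mathlib
import Groth.Agent.LibSyntKey29
import Groth.Agent.LibRelGCIAway29b
import Groth.Agent.S9145
import Groth.Agent.S9170

set_option autoImplicit false
set_option linter.style.haveILetI false
set_option linter.unusedSectionVars false

universe u

open MvPolynomial RingTheory.Sequence IsLocalRing Groth.Agent.LibRelGCI29 TensorProduct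
open Groth.Agent.LibSyntPres29 Groth.Agent.LibSyntLocal29 Groth.Agent.LibSyntKey29
open Groth.Agent.LibAwayPres29
open AlgebraicGeometry CategoryTheory FlatMor Algebra

namespace Groth.Agent.Lib.helper22.SyntRetractA




/-- A module which is, on a basic open neighbourhood of each prime, free on finitely many
elements of `M` (in the weak sense: they span up to powers of `h` and relations among them die
after multiplying with powers of `h`) is finite projective. -/
theorem projective_of_locally_free (S : Type u) [CommRing S] (M : Type u) [AddCommGroup M]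
    [Module S M]
    (H : ∀ q : PrimeSpectrum S, ∃ h : S, h ∉ q.asIdeal ∧ ∃ (c : ℕ) (v : Fin c → M),
      (∀ m : M, ∃ k : ℕ, h ^ k • m ∈ Submodule.span S (Set.range v)) ∧
      (∀ a : Fin c → S, ∑ i, a i • v i = 0 → ∃ k : ℕ, ∀ i, h ^ k * a i = 0)) :
    Module.Finite S M ∧ Module.Projective S M := by
  classical
  let s : Set S := {h | ∃ (c : ℕ) (v : Fin c → M),
      (∀ m : M, ∃ k : ℕ, h ^ k • m ∈ Submodule.span S (Set.range v)) ∧
      (∀ a : Fin c → S, ∑ i, a i • v i = 0 → ∃ k : ℕ, ∀ i, h ^ k * a i = 0)}
  have hs : Ideal.span s = ⊤ := by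
    by_contra hne
    obtain ⟨m, hm, hle⟩ := Ideal.exists_le_maximal _ hne
    obtain ⟨h, hh, c, v, h1, h2⟩ := H ⟨m, hm.isPrime⟩
    exact hh (hle (Ideal.subset_span ⟨c, v, h1, h2⟩))
  have hfree : ∀ g : s, Module.Free (Localization.Away g.1) (LocalizedModule.Away g.1 M) ∧
      Module.Finite (Localization.Away g.1) (LocalizedModule.Away g.1 M) := by
    rintro ⟨h, c, v, h1, h2⟩
    let ι := LocalizedModule.mkLinearMap (Submonoid.powers h) M
    let w : Fin c → LocalizedModule.Away h M := fun i => ι (v i)
    have hunit : ∀ u : Submonoid.powers h, IsUnit (algebraMap S (Localization.Away h) u) :=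
      fun u => IsLocalization.map_units _ u
    have hli : LinearIndependent (Localization.Away h) w := by
      rw [Fintype.linearIndependent_iff]
      intro a ha
      obtain ⟨t, ht⟩ := IsLocalization.exist_integer_multiples_of_finset (Submonoid.powers h)
        (Finset.univ.image a)
      have ht' : ∀ i, ∃ a' : S, algebraMap S (Localization.Away h) a' = (t : S) • a i :=
        fun i => ht (a i) (Finset.mem_image_of_mem a (Finset.mem_univ i))
      choose a' ha' using ht'
      have h3 : ι (∑ i, a' i • v i) = 0 := by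
        have h4 : (t : S) • ∑ i, a i • w i = 0 := by rw [ha, smul_zero]
        rw [Finset.smul_sum] at h4
        rw [← h4, map_sum]
        refine Finset.sum_congr rfl fun i _ => ?_
        rw [← smul_assoc, ← ha', algebraMap_smul, map_smul]
      rw [IsLocalizedModule.eq_zero_iff (Submonoid.powers h)] at h3
      obtain ⟨u, hu⟩ := h3
      have h5 : ∑ i, ((u : S) * a' i) • v i = 0 := by
        rw [← hu, Submonoid.smul_def, Finset.smul_sum]
        exact Finset.sum_congr rfl fun i _ => by rw [mul_smul]
      obtain ⟨k, hk⟩ := h2 _ h5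
      intro i
      have h6 : algebraMap S (Localization.Away h) (h ^ k * ((u : S) * a' i)) = 0 := by
        rw [hk i, map_zero]
      rw [map_mul, map_mul, ha', Algebra.smul_def] at h6
      have hu1 : IsUnit (algebraMap S (Localization.Away h) (h ^ k)) :=
        hunit ⟨h ^ k, k, rfl⟩
      have hu2 := hunit u
      have hu3 := hunit t
      rw [hu1.mul_right_eq_zero, hu2.mul_right_eq_zero, hu3.mul_right_eq_zero] at h6
      exact h6
    have hsp : ⊤ ≤ Submodule.span (Localization.Away h) (Set.range w) := by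
      intro x _
      obtain ⟨⟨m, t⟩, hmt⟩ := IsLocalizedModule.surj (Submonoid.powers h) ι x
      obtain ⟨k, hk⟩ := h1 m
      have h4 : ι (h ^ k • m) ∈ Submodule.span S (Set.range w) := by
        have : Set.range w = ι '' (Set.range v) := by
          rw [← Set.range_comp]; rfl
        rw [this, ← Submodule.map_span]
        exact Submodule.mem_map_of_mem hk
      have h5 : ι (h ^ k • m) ∈ Submodule.span (Localization.Away h) (Set.range w) :=
        Submodule.span_le_restrictScalars S (Localization.Away h) _ h4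
      have h6 : algebraMap S (Localization.Away h) (h ^ k * (t : S)) • x = ι (h ^ k • m) := by
        rw [algebraMap_smul, mul_smul, map_smul, ← hmt]
        rfl
      rw [← h6] at h5
      have hu : IsUnit (algebraMap S (Localization.Away h) (h ^ k * (t : S))) := by
        rw [map_mul]
        exact (hunit ⟨h ^ k, k, rfl⟩).mul (hunit t)
      exact (Submodule.smul_mem_iff_of_isUnit _ hu).mp h5
    let bs := Module.Basis.mk hli hsp
    exact ⟨Module.Free.of_basis bs, Module.Finite.of_basis bs⟩
  haveI hfp : Module.FinitePresentation S M := by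
    refine Module.FinitePresentation.of_localizationSpan s hs fun g => ?_
    haveI := (hfree g).1
    haveI := (hfree g).2
    exact Module.finitePresentation_of_projective _ _
  haveI hflat : Module.Flat S M := by
    refine Module.flat_of_localized_span S M s hs fun g => ?_
    haveI := (hfree g).1
    haveI : Module.Flat (Localization.Away g.1) (LocalizedModule.Away g.1 M) := inferInstance
    haveI : Module.Flat S (Localization.Away g.1) := IsLocalization.flat _ (Submonoid.powers g.1)
    exact Module.Flat.trans S (Localization.Away g.1) (LocalizedModule.Away g.1 M)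
  exact ⟨inferInstance, Module.Flat.projective_of_finitePresentation⟩




theorem coeff_mem_of_linearIndependent {R : Type u} [CommRing R] (N c : ℕ)
    (F' : Fin (c + 1) → MvPolynomial (Fin N) R)
    (hli : LinearIndependent (Synt.RelGCIRing R N (c + 1) F')
      (fun i : Fin (c + 1) => (Ideal.span (Set.range F')).toCotangent
        ⟨F' i, Ideal.subset_span (Set.mem_range_self i)⟩))
    (b : Fin c → MvPolynomial (Fin N) R)
    (hb : ∑ i, b i * F' i.castSucc ∈ (Ideal.span (Set.range F')) ^ 2) :
    ∀ i, b i ∈ Ideal.span (Set.range F') := by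
  classical
  rw [Fintype.linearIndependent_iff] at hli
  have hF'mem : ∀ j, F' j ∈ Ideal.span (Set.range F') := fun j => Ideal.subset_span ⟨j, rfl⟩
  let g : Fin (c + 1) → Synt.RelGCIRing R N (c + 1) F' :=
    Fin.lastCases 0 (fun i => Ideal.Quotient.mk (Ideal.span (Set.range F')) (b i))
  have hglast : g (Fin.last c) = 0 := by simp [g]
  have hgcs : ∀ i : Fin c, g i.castSucc = Ideal.Quotient.mk (Ideal.span (Set.range F')) (b i) := by
    intro i; simp [g]
  have hg : ∑ j, g j • (Ideal.span (Set.range F')).toCotangent ⟨F' j, hF'mem j⟩ = 0 := by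
    have hz : g (Fin.last c) • (Ideal.span (Set.range F')).toCotangent
        ⟨F' (Fin.last c), hF'mem (Fin.last c)⟩ = 0 := by
      rw [hglast]
      exact zero_smul (Synt.RelGCIRing R N (c + 1) F')
        ((Ideal.span (Set.range F')).toCotangent ⟨F' (Fin.last c), hF'mem (Fin.last c)⟩)
    rw [Fin.sum_univ_castSucc, hz, add_zero]
    simp only [hgcs]
    have hmem : ∑ i, b i * F' i.castSucc ∈ Ideal.span (Set.range F') :=
      Ideal.pow_le_self two_ne_zero hb
    have h50 : (Ideal.span (Set.range F')).toCotangent ⟨∑ i, b i * F' i.castSucc, hmem⟩ = 0 :=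
      (Ideal.toCotangent_eq_zero _ _).mpr hb
    rw [← h50]
    have h51 : (⟨∑ i, b i * F' i.castSucc, hmem⟩ : Ideal.span (Set.range F')) =
        ∑ i, b i • (⟨F' i.castSucc, hF'mem _⟩ : Ideal.span (Set.range F')) := by
      ext
      simp
    rw [h51, map_sum]
    refine (Finset.sum_congr rfl fun i _ => ?_).symm
    rw [map_smul]; rfl
  intro i
  have := hli g hg i.castSucc
  rw [hgcs] at this
  exact Ideal.Quotient.eq_zero_iff_mem.mp this

section helpers

variable {R : Type u} [CommRing R] {T : Type u} [CommRing T] [Algebra R T]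
  (E : Algebra.Extension.{u} R T)

theorem ext_mk_smul (r : E.Ring) (x : E.Ring) (hx : x ∈ E.ker) :
    (algebraMap E.Ring T r) • Extension.Cotangent.mk (P := E) ⟨x, hx⟩ =
      Extension.Cotangent.mk (P := E) ⟨r * x, E.ker.mul_mem_left r hx⟩ := by
  rw [algebraMap_smul, ← map_smul]
  rfl

theorem ext_mk_sum {ι : Type} (s : Finset ι) (x : ι → E.Ring) (hx : ∀ i, x i ∈ E.ker) :
    Extension.Cotangent.mk (P := E) ⟨∑ i ∈ s, x i, E.ker.sum_mem fun i _ => hx i⟩ =
      ∑ i ∈ s, Extension.Cotangent.mk (P := E) ⟨x i, hx i⟩ := by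
  rw [← map_sum]
  congr 1
  ext
  simp

theorem gen_mk_smul {ι : Type} (P : Algebra.Generators R T ι) (r x : P.Ring) (hx : x ∈ P.ker) :
    (algebraMap P.Ring T r) • Extension.Cotangent.mk (P := P.toExtension) ⟨x, hx⟩ =
      Extension.Cotangent.mk (P := P.toExtension) ⟨r * x, P.ker.mul_mem_left r hx⟩ :=
  ext_mk_smul P.toExtension r x hx

theorem gen_mk_sum {ι κ : Type} (P : Algebra.Generators R T ι) (s : Finset κ) (x : κ → P.Ring)
    (hx : ∀ i, x i ∈ P.ker) :
    Extension.Cotangent.mk (P := P.toExtension) ⟨∑ i ∈ s, x i, P.ker.sum_mem fun i _ => hx i⟩ =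
      ∑ i ∈ s, Extension.Cotangent.mk (P := P.toExtension) ⟨x i, hx i⟩ :=
  ext_mk_sum P.toExtension s x hx

end helpers

section lemB

variable {R : Type u} [CommRing R] {n : ℕ} {T : Type u} [CommRing T] [Algebra R T]
  (P : Algebra.Generators R T (Fin n))
  (c' : ℕ) (f : Fin c' → MvPolynomial (Fin n) R) (h : MvPolynomial (Fin n) R)
  (hfI : ∀ i, f i ∈ P.ker) (hmul : ∀ b ∈ P.ker, h * b ∈ Ideal.span (Set.range f))

include hmul in
theorem conormal_local_span (m : P.toExtension.Cotangent) :
    (algebraMap P.Ring T h) • m ∈ Submodule.span T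
      (Set.range fun i => Extension.Cotangent.mk (P := P.toExtension) ⟨f i, hfI i⟩) := by
  obtain ⟨⟨b, hb⟩, rfl⟩ := Extension.Cotangent.mk_surjective m
  obtain ⟨p, hp⟩ := (Ideal.mem_span_range_iff_exists_fun).mp (hmul b hb)
  have h1 : (algebraMap P.Ring T h) • Extension.Cotangent.mk (P := P.toExtension) ⟨b, hb⟩ =
      ∑ i, (algebraMap P.Ring T (p i)) •
        Extension.Cotangent.mk (P := P.toExtension) ⟨f i, hfI i⟩ := by
    rw [gen_mk_smul P h b hb]
    simp_rw [gen_mk_smul P (p _) (f _) (hfI _)]
    rw [← gen_mk_sum P Finset.univ (fun i => p i * f i)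
      (fun i => P.ker.mul_mem_left _ (hfI i))]
    congr 2
    exact hp.symm
  rw [h1]
  exact Submodule.sum_mem _ fun i _ =>
    Submodule.smul_mem _ _ (Submodule.subset_span ⟨i, rfl⟩)

include hmul in
theorem conormal_local_indep
    (hrel : Synt.IsRelGCI R (n + 1) (c' + 1) (eqsPlus f h))
    (a : Fin c' → T)
    (ha : ∑ i, a i • Extension.Cotangent.mk (P := P.toExtension) ⟨f i, hfI i⟩ = 0) :
    ∃ k : ℕ, ∀ i, (algebraMap P.Ring T h) ^ k * a i = 0 := by
  classical
  choose a' ha' using fun i => P.algebraMap_surjective (a i)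
  -- `Σ a'_i f_i ∈ I²`
  have h1 : ∑ i, a' i * f i ∈ P.ker ^ 2 := by
    have hmem : ∑ i, a' i * f i ∈ P.ker := Ideal.sum_mem _ fun i _ => P.ker.mul_mem_left _ (hfI i)
    have h0 : Extension.Cotangent.mk (P := P.toExtension) ⟨∑ i, a' i * f i, hmem⟩ = 0 := by
      rw [← ha, gen_mk_sum P Finset.univ (fun i => a' i * f i)
        (fun i => P.ker.mul_mem_left _ (hfI i))]
      refine Finset.sum_congr rfl fun i _ => ?_
      rw [← ha' i, gen_mk_smul P (a' i) (f i) (hfI i)]
    exact (Extension.Cotangent.mk_eq_zero_iff _).mp h0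
  -- `h² I² ⊆ J²`
  have h2 : ∀ x ∈ P.ker ^ 2, h ^ 2 * x ∈ (Ideal.span (Set.range f)) ^ 2 := by
    intro x hx
    rw [pow_two] at hx
    refine Submodule.mul_induction_on hx ?_ ?_
    · intro b hb b' hb'
      have h20 : h ^ 2 * (b * b') = (h * b) * (h * b') := by ring
      rw [h20, pow_two]
      exact Ideal.mul_mem_mul (hmul b hb) (hmul b' hb')
    · intro x y hx hy; rw [mul_add]; exact Ideal.add_mem _ hx hy
  have h3 := h2 _ h1
  -- move to `n + 1` variables
  let ρ : MvPolynomial (Fin n) R →ₐ[R] MvPolynomial (Fin (n + 1)) R := rename Fin.castSucc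
  have hρf : ∀ i, ρ (f i) = eqsPlus f h i.castSucc := fun i => (eqsPlus_castSucc f h i).symm
  have hρJ : (Ideal.span (Set.range f)).map ρ ≤ Ideal.span (Set.range (eqsPlus f h)) := by
    rw [Ideal.map_span, Ideal.span_le]
    rintro _ ⟨_, ⟨i, rfl⟩, rfl⟩
    exact Ideal.subset_span ⟨i.castSucc, (hρf i).symm⟩
  have h4 : ρ (h ^ 2 * ∑ i, a' i * f i) ∈ (Ideal.span (Set.range (eqsPlus f h))) ^ 2 := by
    have h40 := Ideal.mem_map_of_mem ρ h3
    rw [Ideal.map_pow] at h40
    exact Ideal.pow_right_mono hρJ 2 h40
  -- the key: `ρ (h² a'_i) ∈ J'`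
  have h5 : ∀ i, ρ (h ^ 2 * a' i) ∈ Ideal.span (Set.range (eqsPlus f h)) := by
    by_cases htop : Ideal.span (Set.range (eqsPlus f h)) = ⊤
    · intro i; rw [htop]; exact Submodule.mem_top
    obtain ⟨q', hq'max, hq'⟩ := Ideal.exists_le_maximal _ htop
    haveI := hq'max.isPrime
    have hli := (Groth.Agent.S9170.result R (n + 1) (c' + 1) (eqsPlus f h) hrel q' hq').2.2.1
    refine coeff_mem_of_linearIndependent (n + 1) c' (eqsPlus f h) hli
      (fun i => ρ (h ^ 2 * a' i)) ?_
    convert h4 using 1
    simp only [Finset.mul_sum, map_sum, map_mul, hρf]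
    refine Finset.sum_congr rfl fun i _ => ?_
    ring
  -- the evaluation map to the localization
  let L := Localization.Away (algebraMap P.Ring T h)
  let vals : Fin (n + 1) → L :=
    Fin.snoc (α := fun _ => L) (fun i => algebraMap T L (P.val i))
      (IsLocalization.Away.invSelf (algebraMap P.Ring T h))
  let φ : MvPolynomial (Fin (n + 1)) R →ₐ[R] L := aeval vals
  have hφρ : ∀ p : P.Ring, φ (ρ p) = algebraMap T L (algebraMap P.Ring T p) := by
    intro p
    have : φ.comp ρ = (IsScalarTower.toAlgHom R T L).comp (IsScalarTower.toAlgHom R P.Ring T) := by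
      apply MvPolynomial.algHom_ext
      intro i
      simp [φ, ρ, vals]
    exact congr($this p)
  have hφlast : φ (X (Fin.last n)) = IsLocalization.Away.invSelf (algebraMap P.Ring T h) := by
    simp [φ, vals]
  have hφJ' : ∀ x ∈ Ideal.span (Set.range (eqsPlus f h)), φ x = 0 := by
    intro x hx
    have : Ideal.span (Set.range (eqsPlus f h)) ≤ RingHom.ker φ.toRingHom := by
      rw [Ideal.span_le]
      rintro _ ⟨j, rfl⟩
      rw [SetLike.mem_coe, RingHom.mem_ker]
      change φ (eqsPlus f h j) = 0
      refine Fin.lastCases ?_ (fun i => ?_) j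
      · rw [eqsPlus_last]
        change φ (ρ h * X (Fin.last n) - 1) = 0
        rw [map_sub, map_mul, hφρ, hφlast, map_one, IsLocalization.Away.mul_invSelf, sub_self]
      · rw [← hρf, hφρ]
        have : algebraMap P.Ring T (f i) = 0 := hfI i
        rw [this, map_zero]
    exact this hx
  have h6 : ∀ i, ∃ k : ℕ, (algebraMap P.Ring T h) ^ k * a i = 0 := by
    intro i
    have h60 := hφJ' _ (h5 i)
    rw [hφρ] at h60
    obtain ⟨⟨_, k, rfl⟩, hk⟩ := (IsLocalization.map_eq_zero_iff
      (Submonoid.powers (algebraMap P.Ring T h)) L _).mp h60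
    refine ⟨k + 2, ?_⟩
    rw [map_mul, map_pow, ha'] at hk
    rw [pow_add, mul_assoc]
    exact hk
  choose k hk using h6
  refine ⟨∑ j, k j, fun i => ?_⟩
  have hle : k i ≤ ∑ j, k j := Finset.single_le_sum (fun _ _ => Nat.zero_le _) (Finset.mem_univ i)
  obtain ⟨d, hd⟩ := Nat.exists_eq_add_of_le hle
  rw [hd, add_comm, pow_add, mul_assoc, hk i, mul_zero]

end lemB




/-- local structure of a syntomic algebra, keeping the given presentation -/
theorem local_structure (R : Type u) [CommRing R] (n c : ℕ) (G : Fin c → MvPolynomial (Fin n) R)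
    {T : Type u} [CommRing T] [Algebra R T] (e : Synt.RelGCIRing R n c G ≃ₐ[R] T)
    (hT : Synt.IsSyntomic R T) (qT : Ideal T) [qT.IsPrime] :
    ∃ (c' : ℕ) (f : Fin c' → MvPolynomial (Fin n) R) (h : MvPolynomial (Fin n) R),
      (∀ i, f i ∈ Ideal.span (Set.range G)) ∧
      e (Ideal.Quotient.mk (Ideal.span (Set.range G)) h) ∉ qT ∧
      (∀ b ∈ Ideal.span (Set.range G), h * b ∈ Ideal.span (Set.range f)) ∧ c' ≤ n ∧
      ∀ q : PrimeSpectrum (Synt.RelGCIRing R n c' f),
        Ideal.Quotient.mk (Ideal.span (Set.range f)) h ∉ q.asIdeal →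
        fibreDimAt (Spec.map (CommRingCat.ofHom (algebraMap R (Synt.RelGCIRing R n c' f)))) q ≤
          ((n - c' : ℕ) : WithBot ℕ∞) := by
  obtain ⟨hflatT, hfpT, hfib⟩ := hT
  set p : Ideal R := qT.comap (algebraMap R T) with hpdef
  haveI : p.IsPrime := Ideal.comap_isPrime _ _
  haveI : qT.LiesOver p := ⟨rfl⟩
  -- a prime of the fibre over `qT`
  have hq' : (⟨qT, inferInstance⟩ : PrimeSpectrum T) ∈ PrimeSpectrum.comap (algebraMap R T) ⁻¹'
      {(⟨p, inferInstance⟩ : PrimeSpectrum R)} := rfl
  set Q := PrimeSpectrum.preimageHomeomorphFiber R T ⟨p, inferInstance⟩ ⟨⟨qT, inferInstance⟩, hq'⟩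
    with hQ
  have h1 : (PrimeSpectrum.comap Algebra.TensorProduct.includeRight.toRingHom Q :
      PrimeSpectrum T) = ⟨qT, inferInstance⟩ := by
    have := (PrimeSpectrum.preimageHomeomorphFiber R T ⟨p, inferInstance⟩).symm_apply_apply
      ⟨⟨qT, inferInstance⟩, hq'⟩
    exact congrArg Subtype.val this
  have hQT : Q.asIdeal.comap (Algebra.TensorProduct.includeRight.toRingHom) = qT :=
    congrArg PrimeSpectrum.asIdeal h1
  haveI : Algebra.FiniteType p.ResidueField (p.Fiber T) := inferInstance
  have hci : Synt.IsCIOver p.ResidueField (Localization.AtPrime Q.asIdeal) :=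
    ((Groth.Agent.S9145.result p.ResidueField (p.Fiber T)).1.mp (hfib ⟨p, inferInstance⟩)) Q
  have hflat : Module.Flat R (Localization.AtPrime qT) :=
    Module.Flat.trans R T (Localization.AtPrime qT)
  have hp : p = ((qT.comap (e : Synt.RelGCIRing R n c G →+* T)).comap
      (Ideal.Quotient.mk (Ideal.span (Set.range G)))).comap (C : R →+* MvPolynomial (Fin n) R) := by
    ext r
    have h1 : e (Ideal.Quotient.mk (Ideal.span (Set.range G)) (C r)) = algebraMap R T r := by
      have : Ideal.Quotient.mk (Ideal.span (Set.range G)) (C r) =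
          algebraMap R (Synt.RelGCIRing R n c G) r := rfl
      rw [this, e.commutes]
    change algebraMap R T r ∈ qT ↔ e (Ideal.Quotient.mk (Ideal.span (Set.range G)) (C r)) ∈ qT
    rw [h1]
  have hIq : Ideal.span (Set.range G) ≤ (qT.comap (e : Synt.RelGCIRing R n c G →+* T)).comap
      (Ideal.Quotient.mk (Ideal.span (Set.range G))) := by
    intro x hx
    rw [Ideal.mem_comap, Ideal.Quotient.eq_zero_iff_mem.mpr hx]
    exact Ideal.zero_mem _
  have hIfg : (Ideal.span (Set.range G)).FG := Submodule.fg_span (Set.finite_range G)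
  have hflat' : Module.Flat R (Localization.AtPrime
      ((qT.comap (e : Synt.RelGCIRing R n c G →+* T)).comap
        (Ideal.Quotient.mk (Ideal.span (Set.range G)))) ⧸
      (Ideal.span (Set.range G)).map (algebraMap (MvPolynomial (Fin n) R) (Localization.AtPrime
        ((qT.comap (e : Synt.RelGCIRing R n c G →+* T)).comap
          (Ideal.Quotient.mk (Ideal.span (Set.range G))))))) :=
    Module.Flat.of_linearEquiv
      ((locQuotEquiv (R := R) (Ideal.span (Set.range G))
        (qT.comap (e : Synt.RelGCIRing R n c G →+* T))).trans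
        (atPrimeEquivOfAlgEquiv e qT)).toLinearEquiv
  have hci' := (isCIOver_fibre_iff R n c G e p qT hp Q.asIdeal hQT).mp hci
  obtain ⟨c', f, h, hfI, hhq, hmul, hcn, hdim⟩ :=
    exists_relGCI_nhd n (Ideal.span (Set.range G)) _ p hp hIfg hIq hflat' hci'
  exact ⟨c', f, h, hfI, hhq, hmul, hcn, hdim⟩




section gens

variable {R : Type u} [CommRing R] {n c : ℕ} {G : Fin c → MvPolynomial (Fin n) R}
  {T : Type u} [CommRing T] [Algebra R T] (e : Synt.RelGCIRing R n c G ≃ₐ[R] T)

theorem aeval_gens_eq :
    (aeval (R := R) (fun i : Fin n => e (Ideal.Quotient.mk (Ideal.span (Set.range G)) (X i)))) =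
      (e : Synt.RelGCIRing R n c G →ₐ[R] T).comp
        (Ideal.Quotient.mkₐ R (Ideal.span (Set.range G))) := by
  apply MvPolynomial.algHom_ext
  intro i
  simp

/-- the generators of `T` given by a presentation `e`. -/
noncomputable def gens : Algebra.Generators R T (Fin n) :=
  Algebra.Generators.ofSurjective
    (fun i => e (Ideal.Quotient.mk (Ideal.span (Set.range G)) (X i))) (by
      rw [aeval_gens_eq]
      exact e.surjective.comp (Ideal.Quotient.mkₐ_surjective R _))

theorem algebraMap_gens (p : MvPolynomial (Fin n) R) :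
    algebraMap (gens e).Ring T p = e (Ideal.Quotient.mk (Ideal.span (Set.range G)) p) := by
  rw [Algebra.Generators.algebraMap_apply]
  change aeval (fun i : Fin n => e (Ideal.Quotient.mk (Ideal.span (Set.range G)) (X i))) p = _
  rw [aeval_gens_eq]
  rfl

theorem mem_ker_gens (p : MvPolynomial (Fin n) R) :
    p ∈ (gens e).ker ↔ p ∈ Ideal.span (Set.range G) := by
  change algebraMap (gens e).Ring T p = 0 ↔ _
  rw [algebraMap_gens, EmbeddingLike.map_eq_zero_iff, Ideal.Quotient.eq_zero_iff_mem]

end gens

section projective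

variable {R : Type u} [CommRing R] {n c : ℕ} {G : Fin c → MvPolynomial (Fin n) R}
  {T : Type u} [CommRing T] [Algebra R T] (e : Synt.RelGCIRing R n c G ≃ₐ[R] T)

/-- local data of a syntomic algebra at a prime, in terms of the generators `gens e`. -/
theorem local_data (hT : Synt.IsSyntomic R T) (y : Ideal T) [y.IsPrime] :
    ∃ (c' : ℕ) (f : Fin c' → MvPolynomial (Fin n) R) (h : MvPolynomial (Fin n) R),
      (∀ i, f i ∈ (gens e).ker) ∧ algebraMap (gens e).Ring T h ∉ y ∧
      (∀ b ∈ (gens e).ker, h * b ∈ Ideal.span (Set.range f)) ∧ c' ≤ n ∧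
      Synt.IsRelGCI R (n + 1) (c' + 1) (eqsPlus f h) ∧
      ∀ q : PrimeSpectrum (Synt.RelGCIRing R n c' f),
        Ideal.Quotient.mk (Ideal.span (Set.range f)) h ∉ q.asIdeal →
        fibreDimAt (Spec.map (CommRingCat.ofHom (algebraMap R (Synt.RelGCIRing R n c' f)))) q ≤
          ((n - c' : ℕ) : WithBot ℕ∞) := by
  obtain ⟨c', f, h, hfI, hhq, hmul, hcn, hdim⟩ := local_structure R n c G e hT y
  refine ⟨c', f, h, fun i => (mem_ker_gens e _).mpr (hfI i), ?_, ?_, hcn,
    Groth.Agent.LibRelGCIAway29.isRelGCI_eqsPlus R n c' f hcn h hdim, hdim⟩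
  · rw [algebraMap_gens]; exact hhq
  · intro b hb
    exact hmul b ((mem_ker_gens e _).mp hb)

/-- the conormal module of a presentation of a syntomic algebra is finite projective. -/
theorem cotangent_projective (hT : Synt.IsSyntomic R T) :
    Module.Finite T (gens e).toExtension.Cotangent ∧
      Module.Projective T (gens e).toExtension.Cotangent := by
  refine projective_of_locally_free T (gens e).toExtension.Cotangent fun q => ?_
  obtain ⟨c', f, h, hfI, hhq, hmul, hcn, hrel, -⟩ := local_data e hT q.asIdeal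
  refine ⟨algebraMap (gens e).Ring T h, hhq, c',
    fun i => Extension.Cotangent.mk (P := (gens e).toExtension) ⟨f i, hfI i⟩, ?_, ?_⟩
  · intro m
    exact ⟨1, by rw [pow_one]; exact conormal_local_span (gens e) c' f h hfI hmul m⟩
  · intro a ha
    exact conormal_local_indep (gens e) c' f h hfI hmul hrel a ha

end projective

end Groth.Agent.Lib.helper22.SyntRetractA
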