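/-
Ingredients for "a syntomic algebra is a smooth retract of a relative global complete
intersection" (Stacks 07CI): Jacobi–Zariski generator count for the conormal module, Nakayama,
fibre dimension of symmetric algebras, transfer of fibre dimensions. (helper22)
-/
import Mathlib
import Groth.Prelude.Def_Flat
import Groth.Agent.LibFibreDimAway29
import Groth.Agent.LibSyntLocal29
import Groth.Agent.S9354

set_option autoImplicit false
set_option linter.style.haveILetI false
set_option linter.unusedSectionVars false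

universe u

open TensorProduct KaehlerDifferential Algebra Pointwise
open AlgebraicGeometry CategoryTheory FlatMor Groth.Agent.Lib.helper5.FibreDimLocal

namespace Groth.Agent.Lib.helper22.SyntRetractB




section stepC

variable {R A C : Type u} [CommRing R] [CommRing A] [CommRing C] [Algebra R A] [Algebra A C]
  [Algebra R C] [IsScalarTower R A C]

/-- Jacobi–Zariski count: if `C` is formally smooth over `A` with `Ω[C/A] ≃ C ⊗ (I/I²)`, the
conormal module of the composed presentation is generated by as many elements as `Q` has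
variables. -/
theorem exists_span_cotangent_comp {ι ι' : Type} [Finite ι']
    (P : Algebra.Generators R A ι) (Q : Algebra.Generators A C ι') [Algebra.FormallySmooth A C]
    (ε : Ω[C⁄A] ≃ₗ[C] C ⊗[A] P.toExtension.Cotangent) :
    ∃ v : ι' → (Q.comp P).toExtension.Cotangent, Submodule.span C (Set.range v) = ⊤ := by
  classical
  haveI : Algebra.FormallySmooth A Q.toExtension.Ring :=
    inferInstanceAs (Algebra.FormallySmooth A (MvPolynomial ι' A))
  obtain ⟨l, hl⟩ := (Algebra.Extension.formallySmooth_iff_split_injection Q.toExtension).mp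
    inferInstance
  haveI : Module.Projective C Q.toExtension.Cotangent :=
    Module.Projective.of_split Q.toExtension.cotangentComplex l hl
  have hsurj := Algebra.Generators.Cotangent.surjective_map_ofComp Q P
  have hex := Algebra.Generators.Cotangent.exact Q P
  obtain ⟨σ, hσ⟩ := Module.projective_lifting_property
    (Extension.Cotangent.map (Q.ofComp P).toExtensionHom) LinearMap.id hsurj
  let α := (Extension.Cotangent.map (Q.toComp P).toExtensionHom).liftBaseChange C
  let Φ : (C ⊗[A] P.toExtension.Cotangent) × Q.toExtension.Cotangent →ₗ[C]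
      (Q.comp P).toExtension.Cotangent := α.coprod σ
  have hΦ : Function.Surjective Φ := by
    intro x
    have h1 : Extension.Cotangent.map (Q.ofComp P).toExtensionHom
        (x - σ (Extension.Cotangent.map (Q.ofComp P).toExtensionHom x)) = 0 := by
      rw [map_sub, sub_eq_zero]
      exact (congr($hσ (Extension.Cotangent.map (Q.ofComp P).toExtensionHom x))).symm
    obtain ⟨y, hy⟩ := (hex _).mp h1
    refine ⟨(y, Extension.Cotangent.map (Q.ofComp P).toExtensionHom x), ?_⟩
    change α y + σ (Extension.Cotangent.map (Q.ofComp P).toExtensionHom x) = x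
    rw [hy, sub_add_cancel]
  let Ψ : Q.toExtension.CotangentSpace →ₗ[C]
      (C ⊗[A] P.toExtension.Cotangent) × Q.toExtension.Cotangent :=
    (ε.toLinearMap ∘ₗ Q.toExtension.toKaehler).prod l
  have hΨ : Function.Surjective Ψ := by
    rintro ⟨u, w⟩
    obtain ⟨c₀, hc₀⟩ := Q.toExtension.toKaehler_surjective (ε.symm u)
    refine ⟨Q.toExtension.cotangentComplex w +
      (c₀ - Q.toExtension.cotangentComplex (l c₀)), ?_⟩
    have hz : ∀ z, Q.toExtension.toKaehler (Q.toExtension.cotangentComplex z) = 0 :=
      fun z => Q.toExtension.exact_cotangentComplex_toKaehler.apply_apply_eq_zero z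
    have hlz : ∀ z, l (Q.toExtension.cotangentComplex z) = z := fun z => congr($hl z)
    ext
    · simp [Ψ, hz, hc₀]
    · simp [Ψ, hlz]
  let b := Q.cotangentSpaceBasis
  refine ⟨fun i => Φ (Ψ (b i)), ?_⟩
  have h2 : Set.range (fun i => Φ (Ψ (b i))) = (Φ ∘ₗ Ψ) '' Set.range b := by
    rw [← Set.range_comp]; rfl
  rw [h2, ← Submodule.map_span, b.span_eq, Submodule.map_top, LinearMap.range_eq_top]
  exact hΦ.comp hΨ

end stepC




section stepC2

variable {R C : Type u} [CommRing R] [CommRing C] [Algebra R C]

theorem exists_gens_of_span_cotangent {ι' : Type} (E : Algebra.Extension.{u} R C)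
    (hfg : E.ker.FG) (v : ι' → E.Cotangent)
    (hv : Submodule.span C (Set.range v) = ⊤) :
    ∃ (G : ι' → E.Ring) (g : E.Ring), (∀ i, G i ∈ E.ker) ∧ g - 1 ∈ E.ker ∧
      ∀ b ∈ E.ker, g * b ∈ Ideal.span (Set.range G) := by
  classical
  choose G' hG' using fun i => Extension.Cotangent.mk_surjective (P := E) (v i)
  let G : ι' → E.Ring := fun i => (G' i : E.Ring)
  have hGker : ∀ i, G i ∈ E.ker := fun i => (G' i).2
  set J : Ideal E.Ring := Ideal.span (Set.range G) with hJ
  have hJle : J ≤ E.ker := by
    rw [hJ, Ideal.span_le]; rintro _ ⟨i, rfl⟩; exact hGker i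
  have hle : E.ker ≤ J ⊔ E.ker • E.ker := by
    intro b hb
    have h1 : Extension.Cotangent.mk (P := E) ⟨b, hb⟩ ∈
        Submodule.span E.Ring (Set.range v) := by
      have h2 : Extension.Cotangent.mk (P := E) ⟨b, hb⟩ ∈
          (Submodule.span C (Set.range v)).restrictScalars E.Ring := by
        rw [hv]; exact Submodule.mem_top
      rwa [Submodule.restrictScalars_span E.Ring C E.algebraMap_surjective] at h2
    have h3 : Set.range v = (Extension.Cotangent.mk (P := E)) '' Set.range G' := by
      rw [← Set.range_comp]; congr 1; ext i; exact (hG' i).symm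
    rw [h3, ← Submodule.map_span] at h1
    obtain ⟨j, hj, hjb⟩ := h1
    have h4 : (j : E.Ring) ∈ J := by
      have : Submodule.span E.Ring (Set.range G') ≤ Submodule.comap E.ker.subtype J := by
        rw [Submodule.span_le]
        rintro _ ⟨i, rfl⟩
        exact Ideal.subset_span ⟨i, rfl⟩
      exact this hj
    have h5 : b - j ∈ E.ker ^ 2 := by
      have := (Extension.Cotangent.mk_eq_mk_iff_sub_mem (P := E) ⟨b, hb⟩ j).mp hjb.symm
      simpa using this
    have h6 : b = j + (b - j) := by ring
    rw [h6]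
    refine Submodule.add_mem_sup h4 ?_
    rwa [pow_two] at h5
  obtain ⟨g, hg1, hg2⟩ := Submodule.exists_sub_one_mem_and_smul_le_of_fg_of_le_sup hfg le_rfl hle
  refine ⟨G, g, hGker, hg1, fun b hb => ?_⟩
  exact hg2 (Submodule.smul_mem_pointwise_smul b g E.ker hb)

end stepC2




theorem ringKrullDim_fiber_sym_le (A : Type u) [CommRing A] (M : Type u) [AddCommGroup M]
    [Module A M] (y : Ideal A) [y.IsPrime] (h : A) (hy : h ∉ y) (c' : ℕ) (v : Fin c' → M)
    (hv : ∀ m : M, ∃ k : ℕ, h ^ k • m ∈ Submodule.span A (Set.range v)) :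
    ringKrullDim (y.Fiber (SymmetricAlgebra A M)) ≤ (c' : WithBot ℕ∞) := by
  classical
  let κ := y.ResidueField
  let ψ : MvPolynomial (Fin c') κ →ₐ[κ] κ ⊗[A] SymmetricAlgebra A M :=
    MvPolynomial.aeval (fun i => (1 : κ) ⊗ₜ[A] SymmetricAlgebra.ι A M (v i))
  have hu : algebraMap A κ h ≠ 0 := by
    intro h0
    exact hy ((Ideal.algebraMap_residueField_eq_zero).mp h0)
  have hι : ∀ m : M, (1 : κ) ⊗ₜ[A] SymmetricAlgebra.ι A M m ∈ ψ.range := by
    intro m
    obtain ⟨k, hk⟩ := hv m
    obtain ⟨a, ha⟩ := (Submodule.mem_span_range_iff_exists_fun A).mp hk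
    have h1 : (algebraMap A κ h) ^ k • ((1 : κ) ⊗ₜ[A] SymmetricAlgebra.ι A M m) ∈ ψ.range := by
      have h2 : (algebraMap A κ h) ^ k • ((1 : κ) ⊗ₜ[A] SymmetricAlgebra.ι A M m) =
          ∑ i, algebraMap A κ (a i) • ((1 : κ) ⊗ₜ[A] SymmetricAlgebra.ι A M (v i)) := by
        have h3 : (1 : κ) ⊗ₜ[A] SymmetricAlgebra.ι A M (h ^ k • m) =
            ∑ i, (1 : κ) ⊗ₜ[A] SymmetricAlgebra.ι A M (a i • v i) := by
          rw [← ha, map_sum, TensorProduct.tmul_sum]
        simp only [map_smul, TensorProduct.tmul_smul] at h3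
        rw [← map_pow, algebraMap_smul, h3]
        refine Finset.sum_congr rfl fun i _ => ?_
        rw [algebraMap_smul]
      rw [h2]
      refine Subalgebra.sum_mem _ fun i _ => Subalgebra.smul_mem _ ?_ _
      exact ⟨MvPolynomial.X i, by simp [ψ]⟩
    have h4 := Subalgebra.smul_mem ψ.range h1 ((algebraMap A κ h) ^ k)⁻¹
    rwa [smul_smul, inv_mul_cancel₀ (pow_ne_zero k hu), one_smul] at h4
  have hone : ∀ s : SymmetricAlgebra A M, (1 : κ) ⊗ₜ[A] s ∈ ψ.range := by
    intro s
    induction s using SymmetricAlgebra.induction with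
    | algebraMap r =>
      have : (1 : κ) ⊗ₜ[A] algebraMap A (SymmetricAlgebra A M) r =
          algebraMap κ (κ ⊗[A] SymmetricAlgebra A M) (algebraMap A κ r) := by
        rw [Algebra.TensorProduct.algebraMap_apply, Algebra.algebraMap_eq_smul_one,
          Algebra.algebraMap_eq_smul_one (A := κ), TensorProduct.tmul_smul,
          TensorProduct.smul_tmul']
        rw [Algebra.algebraMap_eq_smul_one, smul_eq_mul, mul_one]
      rw [this]
      exact Subalgebra.algebraMap_mem _ _
    | ι m => exact hι m
    | mul a b ha hb =>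
      have : (1 : κ) ⊗ₜ[A] (a * b) = ((1 : κ) ⊗ₜ[A] a) * ((1 : κ) ⊗ₜ[A] b) := by
        rw [Algebra.TensorProduct.tmul_mul_tmul, one_mul]
      rw [this]; exact Subalgebra.mul_mem _ ha hb
    | add a b ha hb =>
      rw [TensorProduct.tmul_add]; exact Subalgebra.add_mem _ ha hb
  have hsurj : Function.Surjective ψ := by
    rw [← AlgHom.range_eq_top, _root_.eq_top_iff]
    intro x _
    clear * - hone
    induction x using TensorProduct.induction_on with
    | zero => exact Subalgebra.zero_mem _
    | tmul a s =>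
      have : a ⊗ₜ[A] s = a • ((1 : κ) ⊗ₜ[A] s) := by
        rw [TensorProduct.smul_tmul', smul_eq_mul, mul_one]
      rw [this]; exact Subalgebra.smul_mem _ (hone s) a
    | add x y hx hy => exact Subalgebra.add_mem _ hx hy
  calc ringKrullDim (y.Fiber (SymmetricAlgebra A M))
      ≤ ringKrullDim (MvPolynomial (Fin c') κ) :=
        ringKrullDim_le_of_surjective ψ.toRingHom hsurj
    _ = (c' : WithBot ℕ∞) := by
        rw [MvPolynomial.ringKrullDim_of_isNoetherianRing, ringKrullDim_eq_zero_of_field]
        simp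




section stepD

variable (R S : Type u) [CommRing R] [CommRing S] [Algebra R S]

/-- the fibre dimension at a point is at most the Krull dimension of the fibre ring. -/
theorem fibreDimAt_le_ringKrullDim_fiber (q : PrimeSpectrum S) (p : Ideal R) [p.IsPrime]
    (hq : q.asIdeal.comap (algebraMap R S) = p) :
    fibreDimAt (Spec.map (CommRingCat.ofHom (algebraMap R S))) q ≤ ringKrullDim (p.Fiber S) := by
  have hq' : q ∈ PrimeSpectrum.comap (algebraMap R S) ⁻¹'
      {(⟨p, inferInstance⟩ : PrimeSpectrum R)} := PrimeSpectrum.ext hq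
  set Q := PrimeSpectrum.preimageHomeomorphFiber R S ⟨p, inferInstance⟩ ⟨q, hq'⟩ with hQ
  have h1 : (PrimeSpectrum.comap Algebra.TensorProduct.includeRight.toRingHom Q :
      PrimeSpectrum S) = q := by
    have := (PrimeSpectrum.preimageHomeomorphFiber R S ⟨p, inferInstance⟩).symm_apply_apply
      ⟨q, hq'⟩
    exact congrArg Subtype.val this
  rw [← h1, Groth.Agent.LibFibreDimBridge29.fibreDimAt_comap_includeRight R S ⟨p, inferInstance⟩ Q]
  rw [← PrimeSpectrum.topologicalKrullDim_eq_ringKrullDim, Groth.Agent.S5792.result]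
  exact le_iSup (fun x => localDim (PrimeSpectrum (p.Fiber S)) x) Q

/-- fibre dimension of a localization `S'` of `S` away from `g` (any model). -/
theorem fibreDimAt_of_isLocalization_away (S' : Type u) [CommRing S'] [Algebra R S'] [Algebra S S']
    [IsScalarTower R S S'] (g : S) [IsLocalization.Away g S'] (q'' : PrimeSpectrum S') :
    fibreDimAt (Spec.map (CommRingCat.ofHom (algebraMap R S'))) q'' =
      fibreDimAt (Spec.map (CommRingCat.ofHom (algebraMap R S)))
        (PrimeSpectrum.comap (algebraMap S S') q'' : PrimeSpectrum S) := by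
  have hw : Spec.map (CommRingCat.ofHom (algebraMap S S')) ≫
      Spec.map (CommRingCat.ofHom (algebraMap R S)) =
      Spec.map (CommRingCat.ofHom (algebraMap R S')) ≫ 𝟙 _ := by
    rw [Category.comp_id, ← Spec.map_comp, ← CommRingCat.ofHom_comp,
      ← IsScalarTower.algebraMap_eq]
  exact fibreDimAt_eq_of_comm
    (Spec.map (CommRingCat.ofHom (algebraMap S S'))) (𝟙 _)
    (Spec.map (CommRingCat.ofHom (algebraMap R S')))
    (Spec.map (CommRingCat.ofHom (algebraMap R S))) hw
    (PrimeSpectrum.localization_away_isOpenEmbedding S' g)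
    (fun _ _ h => h) q''

end stepD

section stepD4


variable {R : Type u} [CommRing R] {n c : ℕ} (f : Fin c → MvPolynomial (Fin n) R)
  (I : Ideal (MvPolynomial (Fin n) R)) (hJI : Ideal.span (Set.range f) ≤ I)
  (h : MvPolynomial (Fin n) R) (hmul : ∀ b ∈ I, h * b ∈ Ideal.span (Set.range f))

include hmul in
/-- if `h I ⊆ (f) ⊆ I` then on `D(h)` the fibre dimensions of `P/I` and `P/(f)` agree. -/
theorem fibreDimAt_quotient_eq (q₂ : PrimeSpectrum (MvPolynomial (Fin n) R ⧸ I))
    (hq₂ : Ideal.Quotient.mk I h ∉ q₂.asIdeal) :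
    fibreDimAt (Spec.map (CommRingCat.ofHom (algebraMap R (MvPolynomial (Fin n) R ⧸ I)))) q₂ =
      fibreDimAt (Spec.map (CommRingCat.ofHom
        (algebraMap R (MvPolynomial (Fin n) R ⧸ Ideal.span (Set.range f)))))
        (PrimeSpectrum.comap (Ideal.Quotient.factor hJI) q₂ :
          PrimeSpectrum (MvPolynomial (Fin n) R ⧸ Ideal.span (Set.range f))) := by
  let L := Localization.Away (Ideal.Quotient.mk I h)
  have hdisj : Disjoint (Submonoid.powers (Ideal.Quotient.mk I h) : Set (MvPolynomial (Fin n) R ⧸ I))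
      (q₂.asIdeal : Set (MvPolynomial (Fin n) R ⧸ I)) := by
    rw [Ideal.disjoint_powers_iff_notMem _ q₂.2.isRadical]
    exact hq₂
  have hprime : (q₂.asIdeal.map (algebraMap (MvPolynomial (Fin n) R ⧸ I) L)).IsPrime :=
    IsLocalization.isPrime_of_isPrime_disjoint (Submonoid.powers (Ideal.Quotient.mk I h)) L _
      q₂.2 hdisj
  let q'' : PrimeSpectrum L := ⟨q₂.asIdeal.map (algebraMap (MvPolynomial (Fin n) R ⧸ I) L), hprime⟩
  have hq'' : PrimeSpectrum.comap (algebraMap (MvPolynomial (Fin n) R ⧸ I) L) q'' = q₂ := by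
    apply PrimeSpectrum.ext
    exact IsLocalization.under_map_of_isPrime_disjoint
      (Submonoid.powers (Ideal.Quotient.mk I h)) L q₂.2 hdisj
  have e1 := Groth.Agent.LibFibreDimAway29.fibreDimAt_away R (MvPolynomial (Fin n) R ⧸ I)
    (Ideal.Quotient.mk I h) q''
  rw [hq''] at e1
  letI : Algebra (MvPolynomial (Fin n) R ⧸ Ideal.span (Set.range f)) L :=
    ((algebraMap (MvPolynomial (Fin n) R ⧸ I) L).comp (Ideal.Quotient.factor hJI)).toAlgebra
  haveI : IsScalarTower R (MvPolynomial (Fin n) R ⧸ Ideal.span (Set.range f)) L :=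
    ⟨fun r x y => by
      rw [Algebra.smul_def (r • x) y, Algebra.smul_def x y, Algebra.smul_def r x, map_mul,
        Algebra.smul_def r (_ * y), mul_assoc]
      congr 1⟩
  haveI := Groth.Agent.LibSyntLocal29.isLocalization_away_of_mul_mem f I hJI h hmul
  have e2 := fibreDimAt_of_isLocalization_away R
    (MvPolynomial (Fin n) R ⧸ Ideal.span (Set.range f)) L
    (Ideal.Quotient.mk (Ideal.span (Set.range f)) h) q''
  rw [← e1, e2]
  congr 1
  rw [← hq'']
  rfl

end stepD4

section iso

variable (R : Type u) [CommRing R] {S S' : Type u} [CommRing S] [CommRing S'] [Algebra R S]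
  [Algebra R S']

/-- fibre dimensions are invariant under isomorphisms of the source algebra. -/
theorem fibreDimAt_algEquiv (e : S ≃ₐ[R] S') (q' : PrimeSpectrum S') :
    fibreDimAt (Spec.map (CommRingCat.ofHom (algebraMap R S'))) q' =
      fibreDimAt (Spec.map (CommRingCat.ofHom (algebraMap R S)))
        (PrimeSpectrum.comap (e : S →+* S') q' : PrimeSpectrum S) := by
  letI : Algebra S S' := (e : S →+* S').toAlgebra
  haveI : IsScalarTower R S S' := IsScalarTower.of_algebraMap_eq fun r => (e.commutes r).symm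
  haveI : IsLocalization.Away (1 : S) S' :=
    IsLocalization.away_of_isUnit_of_bijective S' isUnit_one e.bijective
  exact fibreDimAt_of_isLocalization_away R S S' 1 q'

end iso

end Groth.Agent.Lib.helper22.SyntRetractB
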