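/-
A syntomic algebra `T` over `R` is a smooth retract of a relative global complete intersection
(Stacks 07CI): `Sym_T(I/I²)` for a presentation `T = R[x]/I`. (helper22)
-/
import Mathlib
import Groth.Agent.Lib.Helper22.SyntRetractA
import Groth.Agent.Lib.Helper22.SyntRetractB
import Groth.Agent.Lib.Helper22.SymKaehler

set_option autoImplicit false
set_option linter.style.haveILetI false
set_option linter.unusedSectionVars false

universe u

open MvPolynomial TensorProduct Algebra
open Groth.Agent.LibAwayPres29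
open AlgebraicGeometry CategoryTheory FlatMor
open Groth.Agent.Lib.helper22.SyntRetractA Groth.Agent.Lib.helper22.SyntRetractB

namespace Groth.Agent.Lib.helper22.SyntRetractC

section fibdim

variable {R : Type u} [CommRing R] {n c : ℕ} {G : Fin c → MvPolynomial (Fin n) R}
  {T : Type u} [CommRing T] [Algebra R T] (e : Synt.RelGCIRing R n c G ≃ₐ[R] T)

/-- fibre dimension of the base at a point where the local data is valid. -/
theorem fibreDimAt_base_le (y : PrimeSpectrum T) (c' : ℕ) (f : Fin c' → MvPolynomial (Fin n) R)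
    (h : MvPolynomial (Fin n) R) (hfI : ∀ i, f i ∈ (gens e).ker)
    (hh : algebraMap (gens e).Ring T h ∉ y.asIdeal)
    (hmul : ∀ b ∈ (gens e).ker, h * b ∈ Ideal.span (Set.range f))
    (hdim : ∀ q : PrimeSpectrum (Synt.RelGCIRing R n c' f),
        Ideal.Quotient.mk (Ideal.span (Set.range f)) h ∉ q.asIdeal →
        fibreDimAt (Spec.map (CommRingCat.ofHom (algebraMap R (Synt.RelGCIRing R n c' f)))) q ≤
          ((n - c' : ℕ) : WithBot ℕ∞)) :
    fibreDimAt (Spec.map (CommRingCat.ofHom (algebraMap R T))) y ≤ ((n - c' : ℕ) : WithBot ℕ∞) := by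
  have hJI : Ideal.span (Set.range f) ≤ Ideal.span (Set.range G) := by
    rw [Ideal.span_le]; rintro _ ⟨i, rfl⟩; exact (mem_ker_gens e _).mp (hfI i)
  have hmulI : ∀ b ∈ Ideal.span (Set.range G), h * b ∈ Ideal.span (Set.range f) :=
    fun b hb => hmul b ((mem_ker_gens e _).mpr hb)
  set y₀ : PrimeSpectrum (Synt.RelGCIRing R n c G) :=
    PrimeSpectrum.comap (e : Synt.RelGCIRing R n c G →+* T) y with hy₀
  have h1 := fibreDimAt_algEquiv R e y
  have hy₀h : Ideal.Quotient.mk (Ideal.span (Set.range G)) h ∉ y₀.asIdeal := by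
    intro hmem
    apply hh
    rw [algebraMap_gens]
    exact hmem
  have h2 := fibreDimAt_quotient_eq f (Ideal.span (Set.range G)) hJI h hmulI y₀ hy₀h
  rw [h1, h2]
  apply hdim
  intro hmem
  apply hy₀h
  have : Ideal.Quotient.factor hJI (Ideal.Quotient.mk (Ideal.span (Set.range f)) h) ∈
      y₀.asIdeal := hmem
  rwa [Ideal.Quotient.factor_mk] at this

theorem locallyOfFiniteType_spec (A B : Type u) [CommRing A] [CommRing B] [Algebra A B]
    [Algebra.FiniteType A B] :
    LocallyOfFiniteType (Spec.map (CommRingCat.ofHom (algebraMap A B))) := by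
  rw [HasRingHomProperty.Spec_iff (P := @LocallyOfFiniteType)]
  exact RingHom.finiteType_algebraMap.mpr inferInstance

/-- all fibres of `Sym_T(I/I²)` over `R` have local dimension at most `n`. -/
theorem fibreDimAt_sym_le (hT : Synt.IsSyntomic R T)
    [Algebra.FiniteType R T]
    [Algebra.FiniteType T (SymmetricAlgebra T (gens e).toExtension.Cotangent)]
    (x : PrimeSpectrum (SymmetricAlgebra T (gens e).toExtension.Cotangent)) :
    fibreDimAt (Spec.map (CommRingCat.ofHom
      (algebraMap R (SymmetricAlgebra T (gens e).toExtension.Cotangent)))) x ≤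
        ((n : ℕ) : WithBot ℕ∞) := by
  set M := (gens e).toExtension.Cotangent with hM
  set C := SymmetricAlgebra T M with hC
  set y : PrimeSpectrum T := PrimeSpectrum.comap (algebraMap T C) x with hy
  obtain ⟨c', f, h, hfI, hhq, hmul, hcn, hrel, hdim⟩ := local_data e hT y.asIdeal
  haveI := locallyOfFiniteType_spec R T
  haveI := locallyOfFiniteType_spec T C
  have hcomp : Spec.map (CommRingCat.ofHom (algebraMap T C)) ≫
      Spec.map (CommRingCat.ofHom (algebraMap R T)) =
      Spec.map (CommRingCat.ofHom (algebraMap R C)) := by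
    rw [← Spec.map_comp, ← CommRingCat.ofHom_comp, ← IsScalarTower.algebraMap_eq]
  have h1 := (Groth.Agent.S9354.result (Spec.map (CommRingCat.ofHom (algebraMap T C)))
    (Spec.map (CommRingCat.ofHom (algebraMap R T))) x).1
  rw [hcomp] at h1
  refine h1.trans ?_
  have h2 : fibreDimAt (Spec.map (CommRingCat.ofHom (algebraMap T C))) x ≤
      ((c' : ℕ) : WithBot ℕ∞) := by
    refine (fibreDimAt_le_ringKrullDim_fiber T C x y.asIdeal rfl).trans ?_
    refine ringKrullDim_fiber_sym_le T M y.asIdeal (algebraMap (gens e).Ring T h) hhq c'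
      (fun i => Extension.Cotangent.mk (P := (gens e).toExtension) ⟨f i, hfI i⟩) ?_
    intro m
    exact ⟨1, by rw [pow_one]; exact conormal_local_span (gens e) c' f h hfI hmul m⟩
  have h3 : fibreDimAt (Spec.map (CommRingCat.ofHom (algebraMap R T))) y ≤
      ((n - c' : ℕ) : WithBot ℕ∞) :=
    fibreDimAt_base_le e y c' f h hfI hhq hmul hdim
  calc _ ≤ ((c' : ℕ) : WithBot ℕ∞) + ((n - c' : ℕ) : WithBot ℕ∞) := add_le_add h2 h3
    _ = ((n : ℕ) : WithBot ℕ∞) := by
        rw [← WithBot.coe_natCast, ← WithBot.coe_natCast, ← WithBot.coe_natCast, ← WithBot.coe_add,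
          ← Nat.cast_add, Nat.add_sub_cancel' hcn]

end fibdim


section reindex

variable {R : Type u} [CommRing R] {C : Type u} [CommRing C] [Algebra R C]

/-- An algebra with a presentation in `m + n` variables whose conormal module is generated by `m`
elements, all of whose fibres have local dimension at most `n`, is a relative global complete
intersection. -/
theorem exists_relGCI_of_span_cotangent [Algebra.FinitePresentation R C] {m n : ℕ}
    (W : Algebra.Generators R C (Fin m ⊕ Fin n)) (v : Fin m → W.toExtension.Cotangent)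
    (hv : Submodule.span C (Set.range v) = ⊤)
    (hdimC : ∀ x : PrimeSpectrum C,
      fibreDimAt (Spec.map (CommRingCat.ofHom (algebraMap R C))) x ≤ ((n : ℕ) : WithBot ℕ∞)) :
    ∃ (N c'' : ℕ) (F : Fin c'' → MvPolynomial (Fin N) R), Synt.IsRelGCI R N c'' F ∧
      Nonempty (C ≃ₐ[R] Synt.RelGCIRing R N c'' F) := by
  classical
  have hfg : W.toExtension.ker.FG :=
    Algebra.FinitePresentation.ker_fG_of_surjective
      (IsScalarTower.toAlgHom R W.Ring C) W.algebraMap_surjective
  have key : ∃ (G' : Fin m → MvPolynomial (Fin m ⊕ Fin n) R)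
      (g : MvPolynomial (Fin m ⊕ Fin n) R), (∀ i, G' i ∈ W.ker) ∧ g - 1 ∈ W.ker ∧
      ∀ b ∈ W.ker, g * b ∈ Ideal.span (Set.range G') :=
    exists_gens_of_span_cotangent W.toExtension hfg v hv
  obtain ⟨G', g, hG', hg1, hgmul⟩ := key
  -- reindex
  let ψ : MvPolynomial (Fin m ⊕ Fin n) R ≃ₐ[R] MvPolynomial (Fin (m + n)) R :=
    renameEquiv R finSumFinEquiv
  let φC : MvPolynomial (Fin (m + n)) R →ₐ[R] C :=
    (IsScalarTower.toAlgHom R W.Ring C).comp (ψ.symm : _ →ₐ[R] _)
  have hφC : Function.Surjective φC := W.algebraMap_surjective.comp ψ.symm.surjective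
  obtain ⟨I', hI'⟩ : ∃ I' : Ideal (MvPolynomial (Fin (m + n)) R), I' = RingHom.ker φC.toRingHom :=
    ⟨_, rfl⟩
  have hmemI' : ∀ b, b ∈ I' ↔ ψ.symm b ∈ W.ker := by
    intro b
    rw [hI']
    rfl
  let Gf : Fin m → MvPolynomial (Fin (m + n)) R := fun j => ψ (G' j)
  let gf : MvPolynomial (Fin (m + n)) R := ψ g
  have hGf : ∀ j, Gf j ∈ I' := fun j => (hmemI' _).mpr (by
    change ψ.symm (ψ (G' j)) ∈ _
    rw [ψ.symm_apply_apply]; exact hG' j)
  have hJI : Ideal.span (Set.range Gf) ≤ I' := by
    rw [Ideal.span_le]; rintro _ ⟨j, rfl⟩; exact hGf j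
  have hmulf : ∀ b ∈ I', gf * b ∈ Ideal.span (Set.range Gf) := by
    intro b hb
    have h1 := hgmul (ψ.symm b) ((hmemI' b).mp hb)
    have hle : Ideal.span (Set.range G') ≤ (Ideal.span (Set.range Gf)).comap
        (ψ : MvPolynomial (Fin m ⊕ Fin n) R →+* MvPolynomial (Fin (m + n)) R) := by
      rw [Ideal.span_le]
      rintro _ ⟨j, rfl⟩
      exact Ideal.subset_span ⟨j, rfl⟩
    have h2 : ψ (g * ψ.symm b) ∈ Ideal.span (Set.range Gf) := hle h1
    rw [map_mul, ψ.apply_symm_apply] at h2
    exact h2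
  have hgf1 : gf - 1 ∈ I' := (hmemI' _).mpr (by
    change ψ.symm (ψ g - 1) ∈ _
    rw [map_sub, ψ.symm_apply_apply, map_one]; exact hg1)
  -- the iso `P'/I' ≃ C`
  have hkerφ : RingHom.ker φC.toRingHom = I' := hI'.symm
  let eC : (MvPolynomial (Fin (m + n)) R ⧸ I') ≃ₐ[R] C :=
    (Ideal.quotientEquivAlgOfEq R hkerφ.symm).trans
      (Ideal.quotientKerAlgEquivOfSurjective hφC)
  -- fibre dimension on `D(gf)`
  have hd : ∀ q : PrimeSpectrum (Synt.RelGCIRing R (m + n) m Gf),
      Ideal.Quotient.mk (Ideal.span (Set.range Gf)) gf ∉ q.asIdeal →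
      fibreDimAt (Spec.map (CommRingCat.ofHom (algebraMap R (Synt.RelGCIRing R (m + n) m Gf)))) q ≤
        ((m + n - m : ℕ) : WithBot ℕ∞) := by
    intro q hq
    have hsurj := Ideal.Quotient.factor_surjective hJI
    have hker : RingHom.ker (Ideal.Quotient.factor hJI) ≤ q.asIdeal := by
      intro z hz
      obtain ⟨b, rfl⟩ := Ideal.Quotient.mk_surjective z
      have hb : b ∈ I' := by
        rwa [RingHom.mem_ker, Ideal.Quotient.factor_mk, Ideal.Quotient.eq_zero_iff_mem] at hz
      have h0 : Ideal.Quotient.mk (Ideal.span (Set.range Gf)) gf *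
          Ideal.Quotient.mk (Ideal.span (Set.range Gf)) b = 0 := by
        rw [← map_mul, Ideal.Quotient.eq_zero_iff_mem]; exact hmulf b hb
      have h00 : Ideal.Quotient.mk (Ideal.span (Set.range Gf)) gf *
          Ideal.Quotient.mk (Ideal.span (Set.range Gf)) b ∈ q.asIdeal := by
        rw [h0]; exact q.asIdeal.zero_mem
      exact (q.2.mem_or_mem h00).resolve_left hq
    have hprime : (q.asIdeal.map (Ideal.Quotient.factor hJI)).IsPrime :=
      Ideal.map_isPrime_of_surjective hsurj hker
    let q₂ : PrimeSpectrum (MvPolynomial (Fin (m + n)) R ⧸ I') :=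
      ⟨q.asIdeal.map (Ideal.Quotient.factor hJI), hprime⟩
    have hcm : (q.asIdeal.map (Ideal.Quotient.factor hJI)).comap (Ideal.Quotient.factor hJI) =
        q.asIdeal := by
      rw [Ideal.comap_map_of_surjective _ hsurj, ← RingHom.ker_eq_comap_bot]
      exact sup_eq_left.mpr hker
    have hq₂ : PrimeSpectrum.comap (Ideal.Quotient.factor hJI) q₂ = q := PrimeSpectrum.ext hcm
    have hq₂g : Ideal.Quotient.mk I' gf ∉ q₂.asIdeal := by
      intro hmem
      apply hq
      rw [← hcm, Ideal.mem_comap, Ideal.Quotient.factor_mk]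
      exact hmem
    have h1 := fibreDimAt_quotient_eq Gf I' hJI gf hmulf q₂ hq₂g
    rw [hq₂] at h1
    rw [← h1, fibreDimAt_algEquiv R eC.symm q₂, Nat.add_sub_cancel_left]
    exact hdimC _
  have hrel : Synt.IsRelGCI R (m + n + 1) (m + 1) (eqsPlus Gf gf) :=
    Groth.Agent.LibRelGCIAway29.isRelGCI_eqsPlus R (m + n) m Gf (Nat.le_add_right m n) gf hd
  obtain ⟨e'⟩ := Groth.Agent.LibSyntLocal29.nonempty_away_equiv Gf I' hJI gf hmulf
  have hone : Ideal.Quotient.mk I' gf = 1 := by
    rw [← sub_eq_zero, ← map_one (Ideal.Quotient.mk I'), ← map_sub]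
    exact Ideal.Quotient.eq_zero_iff_mem.mpr hgf1
  haveI : IsLocalization.Away (Ideal.Quotient.mk I' gf) (MvPolynomial (Fin (m + n)) R ⧸ I') := by
    rw [hone]
    exact IsLocalization.away_of_isUnit_of_bijective _ isUnit_one Function.bijective_id
  let e0 : Localization.Away (Ideal.Quotient.mk I' gf) ≃ₐ[MvPolynomial (Fin (m + n)) R ⧸ I']
      (MvPolynomial (Fin (m + n)) R ⧸ I') :=
    IsLocalization.algEquiv (Submonoid.powers (Ideal.Quotient.mk I' gf)) _ _
  exact ⟨m + n + 1, m + 1, eqsPlus Gf gf, hrel,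
    ⟨eC.symm.trans ((e0.restrictScalars R).symm.trans e')⟩⟩

end reindex


section core

variable {R : Type u} [CommRing R] {n c : ℕ} {G : Fin c → MvPolynomial (Fin n) R}
  {T : Type u} [CommRing T] [Algebra R T] (e : Synt.RelGCIRing R n c G ≃ₐ[R] T)

/-- the symmetric algebra of the conormal module of a syntomic algebra is a relative global
complete intersection. -/
theorem exists_relGCI_equiv_sym (hT : Synt.IsSyntomic R T) :
    ∃ (N c'' : ℕ) (F : Fin c'' → MvPolynomial (Fin N) R), Synt.IsRelGCI R N c'' F ∧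
      Nonempty (SymmetricAlgebra T (gens e).toExtension.Cotangent ≃ₐ[R]
        Synt.RelGCIRing R N c'' F) := by
  classical
  obtain ⟨hfin, hproj⟩ := cotangent_projective e hT
  haveI : Algebra.FinitePresentation R T := hT.2.1
  haveI : Algebra.FormallySmooth T (SymmetricAlgebra T (gens e).toExtension.Cotangent) :=
    Groth.Agent.Lib.helper22.SymKaehler.formallySmooth_sym T _
  haveI : Algebra.FinitePresentation T (SymmetricAlgebra T (gens e).toExtension.Cotangent) :=
    Groth.Agent.Lib.helper22.SymKaehler.finitePresentation_sym T _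
  haveI : Algebra.FinitePresentation R (SymmetricAlgebra T (gens e).toExtension.Cotangent) :=
    Algebra.FinitePresentation.trans R T _
  obtain ⟨m, ⟨Q⟩⟩ := (Algebra.FiniteType.iff_exists_generators (R := T)
    (S := SymmetricAlgebra T (gens e).toExtension.Cotangent)).mp inferInstance
  obtain ⟨v, hv⟩ := exists_span_cotangent_comp (gens e) Q
    (Groth.Agent.Lib.helper22.SymKaehler.symKaehlerEquiv T (gens e).toExtension.Cotangent)
  exact exists_relGCI_of_span_cotangent (Q.comp (gens e)) v hv
    (fun x => fibreDimAt_sym_le e hT x)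

end core

end Groth.Agent.Lib.helper22.SyntRetractC
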