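import Groth.Agent.Lib.Helper22.DualRing
import Groth.Agent.Lib.Helper22.HomInvRing
import Groth.Prelude.Def_W4c1tameactTame

/-!
The `(B, A)`-Hopf module `B ⊗ A^*` (= `Hom(A, B)`) for a finite projective Hopf algebra `A`, and
evaluation at `1`; exactness of invariants gives a total integral (helper22).
-/

set_option autoImplicit false
universe u v w
open scoped TensorProduct

namespace Groth.Agent.Lib.helper22.R

section

variable {k : Type u} [CommRing k] {A : Type v} [CommRing A] [HopfAlgebra k A]
  [Module.Finite k A] [Module.Projective k A]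
variable {B : Type w} [CommRing B] [Algebra k B] [cB : HopfRep.Comod k A B] [GLin.IsCoactAlg k A B]

variable (k A B) in
/-- the comodule structure on `B ⊗ A^*` -/
@[reducible] noncomputable def homAB : HopfRep.Comod k A (B ⊗[k] Module.Dual k A) :=
  ComodTens.Comod.tensor cB (dualComod (HopfRep.Comod.regular k A))

variable (k A B) in
/-- evaluation at `1`, as a `B`-linear map -/
noncomputable def ev1 : B ⊗[k] Module.Dual k A →ₗ[B] B :=
  { (evAt (1 : A) : B ⊗[k] Module.Dual k A →ₗ[k] B) with
    map_smul' := by
      intro b x
      simp only [AddHom.toFun_eq_coe, LinearMap.coe_toAddHom, RingHom.id_apply]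
      induction x using TensorProduct.induction_on with
      | zero => simp
      | tmul b' φ =>
        rw [TensorProduct.smul_tmul', evAt_tmul, evAt_tmul, smul_eq_mul, smul_eq_mul,
          Algebra.smul_def, Algebra.smul_def]
        ring
      | add x y hx hy => rw [smul_add, map_add, map_add, hx, hy, smul_add] }

omit [Module.Finite k A] [Module.Projective k A] cB [GLin.IsCoactAlg k A B] in
theorem ev1_apply (x : B ⊗[k] Module.Dual k A) : ev1 k A B x = evAt (1 : A) x := rfl

omit [Module.Finite k A] [Module.Projective k A] cB [GLin.IsCoactAlg k A B] in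
theorem ev1_surjective : Function.Surjective (ev1 k A B) := by
  intro b
  refine ⟨b ⊗ₜ[k] (CoalgebraStruct.counit (R := k) (A := A)), ?_⟩
  rw [ev1_apply, evAt_tmul, Bialgebra.counit_one, one_smul]

omit [Module.Finite k A] [Module.Projective k A] in
theorem isHopfMod_self : TameAct.IsHopfMod k A B B := by
  refine ⟨fun b m => ?_⟩
  rw [smul_eq_mul, GLin.IsCoactAlg.coact_mul]
  generalize HopfRep.Comod.coact (k := k) (A := A) b = s
  generalize HopfRep.Comod.coact (k := k) (A := A) m = t
  induction s using TensorProduct.induction_on with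
  | zero => simp
  | tmul b₁ a₁ =>
    induction t using TensorProduct.induction_on with
    | zero => simp
    | tmul b₂ a₂ => simp
    | add t₁ t₂ h₁ h₂ => rw [mul_add, map_add, h₁, h₂]
  | add s₁ s₂ h₁ h₂ => rw [add_mul, map_add, LinearMap.add_apply, h₁, h₂]

theorem isHopfMod_homAB :
    @TameAct.IsHopfMod k _ A _ _ B _ _ (B ⊗[k] Module.Dual k A) _ _ _ _ cB (homAB k A B) := by
  refine @TameAct.IsHopfMod.mk k _ A _ _ B _ _ (B ⊗[k] Module.Dual k A) _ _ _ _ cB (homAB k A B) ?_
  intro b x
  induction x using TensorProduct.induction_on with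
  | zero => simp
  | tmul b' φ =>
    rw [TensorProduct.smul_tmul', smul_eq_mul]
    change (homAB k A B).coact ((b * b') ⊗ₜ[k] φ) =
      TameAct.hmSMul k A B (B ⊗[k] Module.Dual k A) (cB.coact b) ((homAB k A B).coact (b' ⊗ₜ[k] φ))
    rw [ComodTens.tensor_coact_tmul, ComodTens.tensor_coact_tmul]
    have hmul : cB.coact (b * b') = cB.coact b * cB.coact b' := GLin.IsCoactAlg.coact_mul b b'
    rw [hmul]
    generalize cB.coact b = s
    generalize cB.coact b' = t
    generalize (dualComod (HopfRep.Comod.regular k A)).coact φ = u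
    induction s using TensorProduct.induction_on with
    | zero => simp
    | tmul b₁ a₁ =>
      induction t using TensorProduct.induction_on with
      | zero => simp
      | tmul b₂ a₂ =>
        induction u using TensorProduct.induction_on with
        | zero => simp
        | tmul ψ a₃ =>
          simp [TensorProduct.smul_tmul', mul_assoc]
        | add u₁ u₂ h₁ h₂ => simp only [TensorProduct.tmul_add, map_add, h₁, h₂]
      | add t₁ t₂ h₁ h₂ => simp only [mul_add, TensorProduct.add_tmul, map_add, h₁, h₂]
    | add s₁ s₂ h₁ h₂ =>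
      simp only [add_mul, TensorProduct.add_tmul, map_add, LinearMap.add_apply, h₁, h₂]
  | add x y hx hy => rw [smul_add, map_add, map_add, hx, hy, map_add]

omit [GLin.IsCoactAlg k A B] in
theorem isComodHom_ev1 :
    @Hoch.IsComodHom k _ A _ _ _ (B ⊗[k] Module.Dual k A) _ _ (homAB k A B) B _ _ cB
      ((ev1 k A B).restrictScalars k) := by
  apply LinearMap.ext
  intro x
  simp only [LinearMap.comp_apply, LinearMap.restrictScalars_apply]
  have h1 := evAt_rTensor_coact (HopfRep.Comod.regular k A) cB
    (dualComod (HopfRep.Comod.regular k A)) (isDual_dualComod _) x (1 : A)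
  have h2 : (HopfRep.Comod.regular k A).coact (1 : A) = (1 : A) ⊗ₜ[k] (1 : A) := by
    change CoalgebraStruct.comul (R := k) (1 : A) = _
    rw [Bialgebra.comul_one, Algebra.TensorProduct.one_def]
  rw [h2, TensorProduct.map_tmul, HopfAlgebra.antipode_one, LinearMap.comp_apply, toHom_apply] at h1
  have h3 : ∀ z : B ⊗[k] A, mulR (z ⊗ₜ[k] (1 : A)) = z := by
    intro z
    induction z using TensorProduct.induction_on with
    | zero => simp
    | tmul b a => simp
    | add z₁ z₂ h₁ h₂ => rw [TensorProduct.add_tmul, map_add, h₁, h₂]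
  rw [h3] at h1
  rw [ev1_apply]
  exact h1.symm

end

end Groth.Agent.Lib.helper22.R
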