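import Groth.Agent.Lib.Helper22.ComodField
import Groth.Prelude.Def_GLin

/-!
Comodules over a group algebra `k[Λ]` are `Λ`-graded (helper22).
-/

set_option autoImplicit false
set_option linter.unusedSectionVars false
universe u v w
open scoped TensorProduct

namespace Groth.Agent.Lib.helper22

namespace Torus

section Basic

variable {k : Type u} [Field k] {Λ : Type v} [AddCommMonoid Λ]

/-- the coefficient functional -/
noncomputable def cw (w : Λ) : Module.Dual k (AddMonoidAlgebra k Λ) :=
  Finsupp.lapply w ∘ₗ (AddMonoidAlgebra.coeffLinearEquiv k).toLinearMap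

theorem cw_apply (w : Λ) (a : AddMonoidAlgebra k Λ) : cw w a = a.coeff w := rfl

theorem cw_single [DecidableEq Λ] (w u : Λ) (c : k) :
    cw w (AddMonoidAlgebra.single u c : AddMonoidAlgebra k Λ) = if u = w then c else 0 := by
  rw [cw_apply, AddMonoidAlgebra.coeff_single, Finsupp.single_apply]

theorem conv_cw (ψ : Module.Dual k (AddMonoidAlgebra k Λ)) (w : Λ) :
    conv ψ (cw w) = ψ (AddMonoidAlgebra.single w 1) • cw (k := k) w := by
  classical
  apply LinearMap.ext
  intro a
  induction a using AddMonoidAlgebra.induction_linear with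
  | zero => simp
  | add x y hx hy => rw [map_add, map_add, hx, hy]
  | single u c =>
    unfold conv
    simp only [LinearMap.comp_apply, AddMonoidAlgebra.comul_single, LinearMap.smul_apply]
    have hc : Coalgebra.comul (R := k) (A := k) c = (1 : k) ⊗ₜ[k] c := by
      simp
    rw [hc, TensorProduct.map_tmul, TensorProduct.map_tmul, LinearMap.mul'_apply]
    simp only [AddMonoidAlgebra.lsingle_apply]
    by_cases h : u = w
    · subst h
      simp
    · rw [cw_single, if_neg h]
      simp

end Basic

section Comp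

variable {k : Type u} [Field k] {Λ : Type v} [AddCommMonoid Λ]
variable {V : Type w} [AddCommGroup V] [Module k V] [HopfRep.Comod k (AddMonoidAlgebra k Λ) V]

variable (k V) in
/-- the component of weight `w` -/
noncomputable def comp (w : Λ) : V →ₗ[k] V := actDual V (cw (k := k) w)

theorem slice_smul_fun (c : k) (f : Module.Dual k (AddMonoidAlgebra k Λ))
    (t : V ⊗[k] AddMonoidAlgebra k Λ) : slice (c • f) t = c • slice f t := by
  induction t using TensorProduct.induction_on with
  | zero => simp
  | tmul v a => simp [mul_smul]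
  | add t₁ t₂ h₁ h₂ => simp only [map_add, smul_add, h₁, h₂]

theorem comp_mem_eigenspace (w : Λ) (v : V) :
    comp k V w v ∈ HopfRep.eigenspace k (AddMonoidAlgebra k Λ) V (AddMonoidAlgebra.single w 1) := by
  change HopfRep.Comod.coact (k := k) (A := AddMonoidAlgebra k Λ) (comp k V w v) =
    comp k V w v ⊗ₜ[k] AddMonoidAlgebra.single w 1
  rw [← sub_eq_zero]
  apply eq_zero_of_slice_eq_zero
  intro ψ
  rw [map_sub, slice_tmul, ← actDual_apply, sub_eq_zero]
  unfold comp
  rw [actDual_actDual, conv_cw, actDual_apply, actDual_apply, slice_smul_fun]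

theorem comp_of_mem_eigenspace [DecidableEq Λ] (w w' : Λ) (v : V)
    (hv : v ∈ HopfRep.eigenspace k (AddMonoidAlgebra k Λ) V (AddMonoidAlgebra.single w' 1)) :
    comp k V w v = if w' = w then v else 0 := by
  have hv' : HopfRep.Comod.coact (k := k) (A := AddMonoidAlgebra k Λ) v =
    v ⊗ₜ[k] AddMonoidAlgebra.single w' 1 := hv
  unfold comp
  rw [actDual_apply, hv', slice_tmul, cw_single]
  split_ifs <;> simp

/-- every element of `V ⊗ k[Λ]` is a finite sum of its weight slices -/
theorem exists_finset_tensor (t : V ⊗[k] AddMonoidAlgebra k Λ) :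
    ∃ s : Finset Λ, (∀ w ∉ s, slice (cw (k := k) w) t = 0) ∧
      t = ∑ w ∈ s, slice (cw (k := k) w) t ⊗ₜ[k] AddMonoidAlgebra.single w 1 := by
  classical
  induction t using TensorProduct.induction_on with
  | zero => exact ⟨∅, by simp, by simp⟩
  | add t₁ t₂ h₁ h₂ =>
    obtain ⟨s₁, h1a, h1b⟩ := h₁
    obtain ⟨s₂, h2a, h2b⟩ := h₂
    refine ⟨s₁ ∪ s₂, ?_, ?_⟩
    · intro w hw
      rw [Finset.mem_union, not_or] at hw
      rw [map_add, h1a w hw.1, h2a w hw.2, add_zero]
    · have e1 : t₁ = ∑ w ∈ s₁ ∪ s₂, slice (cw (k := k) w) t₁ ⊗ₜ[k] AddMonoidAlgebra.single w 1 := by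
        conv_lhs => rw [h1b]
        apply Finset.sum_subset Finset.subset_union_left
        intro w _ hw
        rw [h1a w hw, TensorProduct.zero_tmul]
      have e2 : t₂ = ∑ w ∈ s₁ ∪ s₂, slice (cw (k := k) w) t₂ ⊗ₜ[k] AddMonoidAlgebra.single w 1 := by
        conv_lhs => rw [h2b]
        apply Finset.sum_subset Finset.subset_union_right
        intro w _ hw
        rw [h2a w hw, TensorProduct.zero_tmul]
      conv_lhs => rw [e1, e2]
      rw [← Finset.sum_add_distrib]
      apply Finset.sum_congr rfl
      intro w _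
      rw [map_add, TensorProduct.add_tmul]
  | tmul v a =>
    induction a using AddMonoidAlgebra.induction_linear with
    | zero => exact ⟨∅, by simp, by simp⟩
    | add x y hx hy =>
      obtain ⟨s₁, h1a, h1b⟩ := hx
      obtain ⟨s₂, h2a, h2b⟩ := hy
      refine ⟨s₁ ∪ s₂, ?_, ?_⟩
      · intro w hw
        rw [Finset.mem_union, not_or] at hw
        rw [TensorProduct.tmul_add, map_add, h1a w hw.1, h2a w hw.2, add_zero]
      · have e1 : v ⊗ₜ[k] x = ∑ w ∈ s₁ ∪ s₂, slice (cw (k := k) w) (v ⊗ₜ[k] x) ⊗ₜ[k]
            AddMonoidAlgebra.single w 1 := by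
          conv_lhs => rw [h1b]
          apply Finset.sum_subset Finset.subset_union_left
          intro w _ hw
          rw [h1a w hw, TensorProduct.zero_tmul]
        have e2 : v ⊗ₜ[k] y = ∑ w ∈ s₁ ∪ s₂, slice (cw (k := k) w) (v ⊗ₜ[k] y) ⊗ₜ[k]
            AddMonoidAlgebra.single w 1 := by
          conv_lhs => rw [h2b]
          apply Finset.sum_subset Finset.subset_union_right
          intro w _ hw
          rw [h2a w hw, TensorProduct.zero_tmul]
        rw [TensorProduct.tmul_add]
        conv_lhs => rw [e1, e2]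
        rw [← Finset.sum_add_distrib]
        apply Finset.sum_congr rfl
        intro w _
        rw [map_add, TensorProduct.add_tmul]
    | single u c =>
      refine ⟨{u}, ?_, ?_⟩
      · intro w hw
        rw [Finset.mem_singleton] at hw
        rw [slice_tmul, cw_single, if_neg (Ne.symm hw), zero_smul]
      · rw [Finset.sum_singleton, slice_tmul, cw_single, if_pos rfl, TensorProduct.smul_tmul,
          AddMonoidAlgebra.smul_single, smul_eq_mul, mul_one]

/-- every vector is the finite sum of its components -/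
theorem exists_finset_comp (v : V) :
    ∃ s : Finset Λ, (∀ w ∉ s, comp k V w v = 0) ∧
      HopfRep.Comod.coact (k := k) (A := AddMonoidAlgebra k Λ) v =
        ∑ w ∈ s, comp k V w v ⊗ₜ[k] AddMonoidAlgebra.single w 1 ∧
      v = ∑ w ∈ s, comp k V w v := by
  obtain ⟨s, h1, h2⟩ := exists_finset_tensor (HopfRep.Comod.coact (k := k) (A := AddMonoidAlgebra k Λ) v)
  refine ⟨s, h1, h2, ?_⟩
  have h3 := LinearMap.congr_fun (HopfRep.Comod.counit_comp (k := k) (A := AddMonoidAlgebra k Λ) (V := V)) v
  simp only [LinearMap.comp_apply] at h3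
  rw [h2, map_sum] at h3
  simp only [LinearMap.lTensor_tmul] at h3
  have h4 := congrArg (TensorProduct.rid k V) h3
  rw [map_sum] at h4
  simp only [LinearMap.flip_apply, TensorProduct.mk_apply, TensorProduct.rid_tmul, one_smul] at h4
  conv_lhs => rw [← h4]
  apply Finset.sum_congr rfl
  intro w _
  rw [AddMonoidAlgebra.counit_single]
  have : Coalgebra.counit (R := k) (A := k) (1 : k) = 1 := by simp
  rw [this, one_smul]
  rfl

end Comp

section Alg

variable {k : Type u} [Field k] {Λ : Type v} [AddCommGroup Λ]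
variable {R : Type w} [CommRing R] [Algebra k R] [HopfRep.Comod k (AddMonoidAlgebra k Λ) R]
  [GLin.IsCoactAlg k (AddMonoidAlgebra k Λ) R]

theorem slice_mul_tmul_single (w w' : Λ) (t : R ⊗[k] AddMonoidAlgebra k Λ) (h : R) :
    slice (cw (k := k) w) (t * (h ⊗ₜ[k] AddMonoidAlgebra.single w' 1)) =
      slice (cw (k := k) (w - w')) t * h := by
  classical
  induction t using TensorProduct.induction_on with
  | zero => simp
  | add t₁ t₂ h₁ h₂ => simp only [add_mul, map_add, h₁, h₂]
  | tmul r a =>
    rw [Algebra.TensorProduct.tmul_mul_tmul, slice_tmul, slice_tmul, Algebra.smul_mul_assoc]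
    congr 1
    induction a using AddMonoidAlgebra.induction_linear with
    | zero => simp
    | add x y hx hy => rw [add_mul, map_add, map_add, hx, hy]
    | single u c =>
      rw [AddMonoidAlgebra.single_mul_single, mul_one, cw_single, cw_single]
      by_cases hu : u + w' = w
      · rw [if_pos hu, if_pos (by rw [← hu, add_sub_cancel_right])]
      · rw [if_neg hu, if_neg (fun h' => hu (by rw [h', sub_add_cancel]))]

theorem comp_mul_of_mem_eigenspace (w w' : Λ) (g h : R)
    (hh : h ∈ HopfRep.eigenspace k (AddMonoidAlgebra k Λ) R (AddMonoidAlgebra.single w' 1)) :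
    comp k R w (g * h) = comp k R (w - w') g * h := by
  have hh' : HopfRep.Comod.coact (k := k) (A := AddMonoidAlgebra k Λ) h =
    h ⊗ₜ[k] AddMonoidAlgebra.single w' 1 := hh
  unfold comp
  rw [actDual_apply, GLin.IsCoactAlg.coact_mul (k := k) (A := AddMonoidAlgebra k Λ), hh',
    slice_mul_tmul_single, actDual_apply]

theorem eigenspace_zero_eq :
    (HopfRep.eigenspace k (AddMonoidAlgebra k Λ) R (AddMonoidAlgebra.single 0 1) : Set R) =
      (GLin.invariants k (AddMonoidAlgebra k Λ) R : Set R) := by
  ext f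
  change HopfRep.Comod.coact (k := k) (A := AddMonoidAlgebra k Λ) f = _ ↔
    HopfRep.Comod.coact (k := k) (A := AddMonoidAlgebra k Λ) f = _
  rw [AddMonoidAlgebra.one_def]

variable (k Λ R) in
/-- the ideal generated by the eigenvectors of non-zero weight -/
def nzIdeal : Ideal R :=
  Ideal.span {f : R | ∃ w : Λ, w ≠ 0 ∧
    f ∈ HopfRep.eigenspace k (AddMonoidAlgebra k Λ) R (AddMonoidAlgebra.single w 1)}

theorem comp_zero_mem_invariants (f : R) :
    comp k R (0 : Λ) f ∈ GLin.invariants k (AddMonoidAlgebra k Λ) R := by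
  have := comp_mem_eigenspace (k := k) (0 : Λ) f
  have h2 := eigenspace_zero_eq (k := k) (Λ := Λ) (R := R)
  rw [Set.ext_iff] at h2
  exact (h2 _).mp this

theorem comp_zero_of_mem_invariants (f : R)
    (hf : f ∈ GLin.invariants k (AddMonoidAlgebra k Λ) R) : comp k R (0 : Λ) f = f := by
  classical
  have h2 := eigenspace_zero_eq (k := k) (Λ := Λ) (R := R)
  rw [Set.ext_iff] at h2
  rw [comp_of_mem_eigenspace 0 0 f ((h2 _).mpr hf), if_pos rfl]

theorem sub_comp_zero_mem_nzIdeal (f : R) : f - comp k R (0 : Λ) f ∈ nzIdeal k Λ R := by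
  classical
  obtain ⟨s, h1, -, h3⟩ := exists_finset_comp (k := k) (Λ := Λ) f
  have h5 : f - comp k R (0 : Λ) f = ∑ w ∈ s.erase 0, comp k R w f := by
    by_cases h0 : (0 : Λ) ∈ s
    · rw [sub_eq_iff_eq_add, Finset.sum_erase_add s _ h0]
      exact h3
    · rw [h1 0 h0, sub_zero, Finset.erase_eq_of_notMem h0]
      exact h3
  rw [h5]
  apply Ideal.sum_mem
  intro w hw
  apply Ideal.subset_span
  exact ⟨w, (Finset.mem_erase.mp hw).1, comp_mem_eigenspace w f⟩

/-- under positivity the weight-zero component kills the ideal of non-zero weights -/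
theorem comp_zero_eq_zero_of_mem_nzIdeal
    (hpos : ∀ w : Λ, HopfRep.eigenspace k (AddMonoidAlgebra k Λ) R (AddMonoidAlgebra.single w 1) ≠ ⊥ →
      HopfRep.eigenspace k (AddMonoidAlgebra k Λ) R (AddMonoidAlgebra.single (-w) 1) ≠ ⊥ → w = 0)
    (f : R) (hf : f ∈ nzIdeal k Λ R) : comp k R (0 : Λ) f = 0 := by
  have key : ∀ f ∈ nzIdeal k Λ R, ∀ g : R, comp k R (0 : Λ) (g * f) = 0 := by
    intro f hf
    unfold nzIdeal at hf
    induction hf using Submodule.span_induction with
    | zero => intro g; simp
    | add x y _ _ hx hy => intro g; rw [mul_add, map_add, hx, hy, add_zero]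
    | smul a x _ ih => intro g; rw [smul_eq_mul, ← mul_assoc]; exact ih (g * a)
    | mem h hh =>
      intro g
      obtain ⟨w, hw, hh⟩ := hh
      rw [comp_mul_of_mem_eigenspace 0 w g h hh, zero_sub]
      by_contra hne
      have h1 : h ≠ 0 := right_ne_zero_of_mul hne
      have h2 : comp k R (-w) g ≠ 0 := left_ne_zero_of_mul hne
      apply hw
      apply hpos w
      · intro hbot
        have : h ∈ (⊥ : Submodule k R) := hbot ▸ hh
        exact h1 ((Submodule.mem_bot k).mp this)
      · intro hbot
        have : comp k R (-w) g ∈ (⊥ : Submodule k R) := hbot ▸ comp_mem_eigenspace (k := k) (-w) g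
        exact h2 ((Submodule.mem_bot k).mp this)
  have := key f hf 1
  rwa [one_mul] at this

/-- the invariants map bijectively onto the quotient by the non-zero weights -/
theorem bijective_invariants_to_quotient
    (hpos : ∀ w : Λ, HopfRep.eigenspace k (AddMonoidAlgebra k Λ) R (AddMonoidAlgebra.single w 1) ≠ ⊥ →
      HopfRep.eigenspace k (AddMonoidAlgebra k Λ) R (AddMonoidAlgebra.single (-w) 1) ≠ ⊥ → w = 0) :
    Function.Bijective
      ((Ideal.Quotient.mkₐ k (nzIdeal k Λ R)).comp (GLin.invariants k (AddMonoidAlgebra k Λ) R).val) := by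
  constructor
  · rw [injective_iff_map_eq_zero]
    intro f hf
    have h1 : (f : R) ∈ nzIdeal k Λ R := by
      rw [← Ideal.Quotient.eq_zero_iff_mem]
      exact hf
    have h2 := comp_zero_eq_zero_of_mem_nzIdeal hpos _ h1
    rw [comp_zero_of_mem_invariants _ f.2] at h2
    exact Subtype.ext h2
  · intro y
    obtain ⟨f, rfl⟩ := Ideal.Quotient.mk_surjective y
    refine ⟨⟨comp k R (0 : Λ) f, comp_zero_mem_invariants f⟩, ?_⟩
    change Ideal.Quotient.mk _ (comp k R (0 : Λ) f) = Ideal.Quotient.mk _ f
    rw [eq_comm, Ideal.Quotient.eq]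
    exact sub_comp_zero_mem_nzIdeal f

end Alg

end Torus

end Groth.Agent.Lib.helper22
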