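import Groth.Agent.Lib.Helper22.TorusGrading

/-!
Torus actions with positive grading: closed orbits are fixed points (helper22).
-/

set_option autoImplicit false
set_option linter.unusedSectionVars false
universe u v w
open scoped TensorProduct

namespace Groth.Agent.Lib.helper22

namespace Torus

section Orbit

variable {k : Type u} [Field k] {Λ : Type v} [AddCommGroup Λ]
variable {R : Type w} [CommRing R] [Algebra k R] [HopfRep.Comod k (AddMonoidAlgebra k Λ) R]
  [GLin.IsCoactAlg k (AddMonoidAlgebra k Λ) R]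

theorem cw_lid_map (x : R →ₐ[k] k) (w : Λ) (t : R ⊗[k] AddMonoidAlgebra k Λ) :
    cw (k := k) w ((Algebra.TensorProduct.lid k (AddMonoidAlgebra k Λ))
      ((Algebra.TensorProduct.map x (AlgHom.id k (AddMonoidAlgebra k Λ))) t)) =
      x (slice (cw (k := k) w) t) := by
  induction t using TensorProduct.induction_on with
  | zero => simp
  | add t₁ t₂ h₁ h₂ => simp only [map_add, h₁, h₂]
  | tmul r a => simp [mul_comm]

theorem cw_orbitHom (x : R →ₐ[k] k) (w : Λ) (f : R) :
    cw (k := k) w (GLin.orbitHom k (AddMonoidAlgebra k Λ) x f) = x (comp k R w f) := by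
  unfold GLin.orbitHom
  simp only [AlgHom.comp_apply, GLin.coactAlgHom_apply]
  exact cw_lid_map x w _

theorem orbitHom_of_mem_eigenspace (x : R →ₐ[k] k) (w : Λ) (h : R)
    (hh : h ∈ HopfRep.eigenspace k (AddMonoidAlgebra k Λ) R (AddMonoidAlgebra.single w 1)) :
    GLin.orbitHom k (AddMonoidAlgebra k Λ) x h = AddMonoidAlgebra.single w (x h) := by
  have hh' : HopfRep.Comod.coact (k := k) (A := AddMonoidAlgebra k Λ) h =
    h ⊗ₜ[k] AddMonoidAlgebra.single w 1 := hh
  unfold GLin.orbitHom
  simp only [AlgHom.comp_apply, GLin.coactAlgHom_apply]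
  rw [hh']
  simp [AddMonoidAlgebra.smul_single]

theorem isUnit_single (w : Λ) (c : k) (hc : c ≠ 0) :
    IsUnit (AddMonoidAlgebra.single w c : AddMonoidAlgebra k Λ) := by
  refine IsUnit.of_mul_eq_one (AddMonoidAlgebra.single (-w) c⁻¹) ?_
  rw [AddMonoidAlgebra.single_mul_single, add_neg_cancel, mul_inv_cancel₀ hc]
  rfl

/-- a point killing all eigenvectors of non-zero weight is fixed -/
theorem isFixedPt_of_kills (x : R →ₐ[k] k)
    (hx : ∀ (w : Λ) (h : R), w ≠ 0 →
      h ∈ HopfRep.eigenspace k (AddMonoidAlgebra k Λ) R (AddMonoidAlgebra.single w 1) → x h = 0) :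
    GLin.IsFixedPt k (AddMonoidAlgebra k Λ) x := by
  classical
  unfold GLin.IsFixedPt
  apply AlgHom.ext
  intro f
  apply AddMonoidAlgebra.coeff_injective
  ext w
  rw [← cw_apply (k := k), ← cw_apply (k := k)]
  rw [cw_orbitHom, AlgHom.comp_apply, Algebra.ofId_apply, AddMonoidAlgebra.coe_algebraMap,
    Function.comp_apply, cw_single]
  by_cases hw : w = 0
  · subst hw
    rw [if_pos rfl]
    have h1 := sub_comp_zero_mem_nzIdeal (k := k) (Λ := Λ) f
    have h2 : ∀ g ∈ nzIdeal k Λ R, x g = 0 := by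
      intro g hg
      unfold nzIdeal at hg
      induction hg using Submodule.span_induction with
      | zero => simp
      | add a b _ _ ha hb => rw [map_add, ha, hb, add_zero]
      | smul a b _ ih => rw [smul_eq_mul, map_mul, ih, mul_zero]
      | mem h hh =>
        obtain ⟨w, hw, hh⟩ := hh
        exact hx w h hw hh
    have h3 := h2 _ h1
    rw [map_sub, sub_eq_zero] at h3
    rw [← h3]
    rfl
  · rw [if_neg (Ne.symm hw)]
    exact hx w _ hw (comp_mem_eigenspace w f)

/-- positive grading: closed orbit implies fixed point -/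
theorem isFixedPt_of_isClosedOrbit
    (hpos : ∀ w : Λ, HopfRep.eigenspace k (AddMonoidAlgebra k Λ) R (AddMonoidAlgebra.single w 1) ≠ ⊥ →
      HopfRep.eigenspace k (AddMonoidAlgebra k Λ) R (AddMonoidAlgebra.single (-w) 1) ≠ ⊥ → w = 0)
    (x : R →ₐ[k] k) (hcl : GLin.IsClosedOrbit k (AddMonoidAlgebra k Λ) x) :
    GLin.IsFixedPt k (AddMonoidAlgebra k Λ) x := by
  classical
  let e : GLin.invariants k (AddMonoidAlgebra k Λ) R ≃ₐ[k] R ⧸ nzIdeal k Λ R :=
    AlgEquiv.ofBijective _ (bijective_invariants_to_quotient hpos)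
  let x₀ : R →ₐ[k] k := x.comp ((GLin.invariants k (AddMonoidAlgebra k Λ) R).val.comp
    ((e.symm : (R ⧸ nzIdeal k Λ R) →ₐ[k] GLin.invariants k (AddMonoidAlgebra k Λ) R).comp
      (Ideal.Quotient.mkₐ k (nzIdeal k Λ R))))
  have hx₀ : ∀ f : R, x₀ f = x (comp k R (0 : Λ) f) := by
    intro f
    have h1 : e.symm (Ideal.Quotient.mkₐ k (nzIdeal k Λ R) f) =
        ⟨comp k R (0 : Λ) f, comp_zero_mem_invariants f⟩ := by
      rw [AlgEquiv.symm_apply_eq]
      change Ideal.Quotient.mk _ f = Ideal.Quotient.mk _ (comp k R (0 : Λ) f)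
      rw [Ideal.Quotient.eq]
      exact sub_comp_zero_mem_nzIdeal f
    change x ((e.symm (Ideal.Quotient.mkₐ k (nzIdeal k Λ R) f) : GLin.invariants k (AddMonoidAlgebra k Λ) R) : R) = _
    rw [h1]
  set φ := GLin.orbitHom k (AddMonoidAlgebra k Λ) x with hφ
  let y : PrimeSpectrum R := PrimeSpectrum.comap (x₀ : R →+* k) ⟨⊥, Ideal.isPrime_bot⟩
  have hy : ∀ f : R, f ∈ y.asIdeal ↔ x₀ f = 0 := by
    intro f
    change (x₀ : R →+* k) f ∈ (⊥ : Ideal k) ↔ _
    rw [Ideal.mem_bot]
    rfl
  have hycl : y ∈ closure (Set.range (PrimeSpectrum.comap φ.toRingHom)) := by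
    rw [PrimeSpectrum.closure_range_comap, PrimeSpectrum.mem_zeroLocus]
    intro f hf
    rw [SetLike.mem_coe, RingHom.mem_ker] at hf
    rw [SetLike.mem_coe, hy, hx₀, ← cw_orbitHom]
    have : φ f = 0 := hf
    rw [← hφ, this, map_zero]
  unfold GLin.IsClosedOrbit at hcl
  rw [hcl.closure_eq] at hycl
  obtain ⟨q, hq⟩ := hycl
  apply isFixedPt_of_kills
  intro w h hw hh
  by_contra hne
  have h1 : h ∈ y.asIdeal := by
    rw [hy, hx₀, comp_of_mem_eigenspace 0 w h hh, if_neg hw, map_zero]
  rw [← hq] at h1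
  have h2 : φ h ∈ q.asIdeal := h1
  rw [hφ, orbitHom_of_mem_eigenspace x w h hh] at h2
  exact q.2.ne_top (Ideal.eq_top_of_isUnit_mem _ h2 (isUnit_single w _ hne))

/-- a fixed point has closed orbit -/
theorem isClosedOrbit_of_isFixedPt (x : R →ₐ[k] k)
    (hfix : GLin.IsFixedPt k (AddMonoidAlgebra k Λ) x) :
    GLin.IsClosedOrbit k (AddMonoidAlgebra k Λ) x := by
  unfold GLin.IsClosedOrbit
  unfold GLin.IsFixedPt at hfix
  have hmax : (RingHom.ker (x : R →+* k)).IsMaximal :=
    RingHom.ker_isMaximal_of_surjective _ (fun c => ⟨algebraMap k R c, by simp⟩)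
  let y : PrimeSpectrum R := ⟨RingHom.ker (x : R →+* k), hmax.isPrime⟩
  have hrange : Set.range (PrimeSpectrum.comap (GLin.orbitHom k (AddMonoidAlgebra k Λ) x).toRingHom) = {y} := by
    ext p
    rw [Set.mem_singleton_iff]
    constructor
    · rintro ⟨q, rfl⟩
      apply PrimeSpectrum.ext
      ext f
      change (GLin.orbitHom k (AddMonoidAlgebra k Λ) x) f ∈ q.asIdeal ↔ x f = 0
      rw [hfix, AlgHom.comp_apply, Algebra.ofId_apply]
      constructor
      · intro h
        by_contra hne
        apply q.2.ne_top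
        apply Ideal.eq_top_of_isUnit_mem _ h
        exact (IsUnit.mk0 _ hne).map (algebraMap k (AddMonoidAlgebra k Λ))
      · intro h
        rw [h, map_zero]
        exact q.asIdeal.zero_mem
    · rintro rfl
      obtain ⟨q⟩ : Nonempty (PrimeSpectrum (AddMonoidAlgebra k Λ)) := inferInstance
      refine ⟨q, ?_⟩
      apply PrimeSpectrum.ext
      ext f
      change (GLin.orbitHom k (AddMonoidAlgebra k Λ) x) f ∈ q.asIdeal ↔ x f = 0
      rw [hfix, AlgHom.comp_apply, Algebra.ofId_apply]
      constructor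
      · intro h
        by_contra hne
        apply q.2.ne_top
        apply Ideal.eq_top_of_isUnit_mem _ h
        exact (IsUnit.mk0 _ hne).map (algebraMap k (AddMonoidAlgebra k Λ))
      · intro h
        rw [h, map_zero]
        exact q.asIdeal.zero_mem
  rw [hrange, PrimeSpectrum.isClosed_singleton_iff_isMaximal]
  exact hmax

end Orbit

end Torus

end Groth.Agent.Lib.helper22
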