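import Groth.Agent.Lib.Helper22.Reynolds
import Groth.Agent.Lib.Helper22.IntegralSS

/-!
Total integrals `α : A → k` (comodule maps from the regular comodule to the trivial one with
`α 1 = 1`) versus linear reductivity (helper22).
-/

set_option autoImplicit false
universe u v w
open scoped TensorProduct

namespace Groth.Agent.Lib.helper22

/-- `α` is a total integral of the Hopf algebra `A` over `k`. -/
def IsTotInt (k : Type u) [CommRing k] (A : Type v) [CommRing A] [Bialgebra k A] (α : A →ₗ[k] k) : Prop :=
  @Hoch.IsComodHom k _ A _ _ _ A _ _ _ k _ _ (HopfRep.Comod.trivial k A k) α ∧ α 1 = 1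

theorem isTotInt_iff {k : Type u} [CommRing k] {A : Type v} [CommRing A] [Bialgebra k A] (α : A →ₗ[k] k) :
    IsTotInt k A α ↔ (∀ a : A, α.rTensor A (CoalgebraStruct.comul (R := k) a) = α a ⊗ₜ[k] (1 : A)) ∧ α 1 = 1 := by
  unfold IsTotInt
  refine and_congr ?_ Iff.rfl
  constructor
  · intro h a
    exact (LinearMap.congr_fun h a).symm
  · intro h
    apply LinearMap.ext
    intro a
    exact (h a).symm

theorem exists_totInt_of_isLinearlyReductive {k : Type u} [Field k] {A : Type v} [CommRing A]
    [Bialgebra k A] (hG : HopfRep.IsLinearlyReductive k A) : ∃ α : A →ₗ[k] k, IsTotInt k A α := by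
  have hss := isSemisimpleComod_of_isLinearlyReductive hG A
  have hfix : ∀ a ∈ HopfRep.fixedPts k A A, a = Coalgebra.counit (R := k) a • (1 : A) := by
    intro a ha
    have ha' : CoalgebraStruct.comul (R := k) a = a ⊗ₜ[k] (1 : A) := ha
    have := Coalgebra.rTensor_counit_comul (R := k) a
    rw [ha', LinearMap.rTensor_tmul] at this
    have h2 := congrArg (TensorProduct.lid k A) this
    simpa using h2.symm
  obtain ⟨E, hE⟩ := exists_isReynolds (k := k) (A := A) (V := A) hss
  refine ⟨Coalgebra.counit (R := k) ∘ₗ E, ?_⟩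
  rw [isTotInt_iff]
  constructor
  · intro a
    have h1 := LinearMap.congr_fun hE.comod a
    simp only [LinearMap.comp_apply] at h1
    rw [LinearMap.rTensor_comp, LinearMap.comp_apply]
    change (Coalgebra.counit (R := k)).rTensor A (E.rTensor A (HopfRep.Comod.coact (k := k) (A := A) a)) = _
    rw [← h1]
    have h2 : HopfRep.Comod.coact (k := k) (A := A) (E a) = E a ⊗ₜ[k] (1 : A) := hE.mem_fixedPts a
    rw [h2, LinearMap.rTensor_tmul]
    rfl
  · rw [LinearMap.comp_apply]
    have h1 : (1 : A) ∈ HopfRep.fixedPts k A A := by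
      change CoalgebraStruct.comul (R := k) (1 : A) = 1 ⊗ₜ[k] 1
      rw [Bialgebra.comul_one, Algebra.TensorProduct.one_def]
    rw [(hE.fix 1).mpr h1, Bialgebra.counit_one]

theorem isLinearlyReductive_of_totInt {k : Type u} [Field k] {A : Type v} [CommRing A]
    [HopfAlgebra k A] (α : A →ₗ[k] k) (hα : IsTotInt k A α) : HopfRep.IsLinearlyReductive k A := by
  intro V _ _ _ _
  intro W hW
  obtain ⟨p, hp⟩ := W.subtype.exists_leftInverse_of_injective W.ker_subtype
  exact Integral.exists_isCompl_subcomod k A α hα.1 hα.2 V W hW p hp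

end Groth.Agent.Lib.helper22
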