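import Groth.Agent.Lib.Helper22.TotIntBC

set_option autoImplicit false
universe u v w
open scoped TensorProduct

namespace Groth.Agent.Lib.helper22

/-- the coefficient of the identity is a total integral of a group algebra -/
theorem exists_totInt_monoidAlgebra (k : Type u) [CommRing k] (M : Type v) [CommGroup M] :
    ∃ α : MonoidAlgebra k M →ₗ[k] k, IsTotInt k (MonoidAlgebra k M) α := by
  classical
  let α : MonoidAlgebra k M →ₗ[k] k :=
    (Finsupp.lapply (1 : M)) ∘ₗ (MonoidAlgebra.coeffLinearEquiv k).toLinearMap
  have hα : ∀ m : M, α (MonoidAlgebra.single m (1 : k)) = if m = 1 then 1 else 0 := by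
    intro m
    simp only [α, LinearMap.comp_apply, LinearEquiv.coe_coe, MonoidAlgebra.coeffLinearEquiv_apply,
      MonoidAlgebra.coeff_single, Finsupp.lapply_apply, Finsupp.single_apply]
  refine ⟨α, ?_, ?_⟩
  · unfold Hoch.IsComodHom
    apply MonoidAlgebra.lhom_ext'
    intro m
    apply LinearMap.ext_ring
    simp only [LinearMap.comp_apply, MonoidAlgebra.lsingle_apply]
    change (TensorProduct.mk k k (MonoidAlgebra k M)).flip 1 (α (MonoidAlgebra.single m 1)) =
      α.rTensor (MonoidAlgebra k M) (CoalgebraStruct.comul (R := k) (MonoidAlgebra.single m (1 : k)))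
    rw [MonoidAlgebra.comul_single, hα]
    simp only [CommSemiring.comul_apply, TensorProduct.map_tmul, MonoidAlgebra.lsingle_apply,
      LinearMap.rTensor_tmul, hα]
    split_ifs with h
    · subst h
      rfl
    · simp
  · have : (1 : MonoidAlgebra k M) = MonoidAlgebra.single 1 1 := rfl
    rw [this, hα, if_pos rfl]

/-- transport of a total integral along a bialgebra isomorphism -/
theorem isTotInt_comp_equiv {k : Type u} [CommRing k] {A : Type v} {A' : Type w} [CommRing A]
    [CommRing A'] [Bialgebra k A] [Bialgebra k A'] (e : A ≃ₐc[k] A') (α' : A' →ₗ[k] k)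
    (hα' : IsTotInt k A' α') : IsTotInt k A (α' ∘ₗ (e : A →ₗ[k] A')) := by
  rw [isTotInt_iff] at hα' ⊢
  obtain ⟨h, h1⟩ := hα'
  constructor
  · intro a
    have hco : TensorProduct.map (e : A →ₗ[k] A') (e : A →ₗ[k] A') (CoalgebraStruct.comul (R := k) a) =
        CoalgebraStruct.comul (R := k) (e a) := by
      have := CoalgHomClass.map_comp_comul (e : A →ₐc[k] A')
      exact LinearMap.congr_fun this a
    have key : ∀ t : A ⊗[k] A, (α' ∘ₗ (e : A →ₗ[k] A')).rTensor A t =
        (e.symm : A' →ₗ[k] A).lTensor k (α'.rTensor A' (TensorProduct.map (e : A →ₗ[k] A') (e : A →ₗ[k] A') t)) := by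
      intro t
      induction t using TensorProduct.induction_on with
      | zero => simp
      | tmul a' a'' => simp
      | add t₁ t₂ h₁ h₂ => simp only [map_add, h₁, h₂]
    rw [key, hco, h]
    simp
  · simp [h1]

end Groth.Agent.Lib.helper22
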