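import Groth.Agent.Lib.Helper22.TotInt
import Groth.Agent.Lib.Helper22.ComodField

/-!
For a finite commutative Hopf algebra `A` over a field, the trace form `a ↦ Tr(L_a)` is an
integral: `(τ ⊗ id) Δ a = τ a ⊗ 1`.  In characteristic zero this yields a total integral.
-/

set_option autoImplicit false
universe u v
open scoped TensorProduct

namespace Groth.Agent.Lib.helper22

section

variable {k : Type u} [Field k] {A : Type v} [CommRing A] [HopfAlgebra k A]

variable (k A) in
/-- the co-opposite comultiplication `a ↦ Σ a₂ ⊗ a₁` as an algebra map -/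
noncomputable def comulOp : A →ₐ[k] A ⊗[k] A :=
  (Algebra.TensorProduct.comm k A A).toAlgHom.comp (Bialgebra.comulAlgHom k A)

theorem comulOp_apply (a : A) :
    comulOp k A a = TensorProduct.comm k A A (CoalgebraStruct.comul (R := k) a) := rfl

variable (k A) in
/-- the Galois map `x ⊗ y ↦ (x ⊗ 1) Δ'(y)`, linear over the left factor -/
noncomputable def galOp : A ⊗[k] A →ₐ[A] A ⊗[k] A :=
  Algebra.TensorProduct.lift (Algebra.TensorProduct.includeLeft) (comulOp k A)
    (fun _ _ => Commute.all _ _)

theorem galOp_tmul (x y : A) : galOp k A (x ⊗ₜ[k] y) = (x ⊗ₜ[k] (1 : A)) * comulOp k A y := rfl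

/-- `b ⊗ c ↦ b * S c` -/
noncomputable def mulAnti : A ⊗[k] A →ₗ[k] A :=
  LinearMap.mul' k A ∘ₗ (HopfAlgebra.antipode k (A := A)).lTensor A

theorem galOp_aux1 (t : A ⊗[k] A) :
    galOp k A (TensorProduct.map (HopfAlgebra.antipode k (A := A)) LinearMap.id
      (TensorProduct.comm k A A t)) =
    TensorProduct.comm k A A ((mulAnti (k := k) (A := A)).lTensor A
      (TensorProduct.assoc k A A A ((CoalgebraStruct.comul (R := k) (A := A)).rTensor A t))) := by
  induction t using TensorProduct.induction_on with
  | zero => simp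
  | tmul u w =>
    rw [TensorProduct.comm_tmul, TensorProduct.map_tmul, LinearMap.id_apply, galOp_tmul,
      comulOp_apply, LinearMap.rTensor_tmul]
    generalize CoalgebraStruct.comul (R := k) u = r
    induction r using TensorProduct.induction_on with
    | zero => simp
    | tmul a b =>
      simp only [TensorProduct.comm_tmul, Algebra.TensorProduct.tmul_mul_tmul, one_mul,
        TensorProduct.assoc_tmul, LinearMap.lTensor_tmul, mulAnti, LinearMap.comp_apply,
        LinearMap.mul'_apply]
      rw [mul_comm]
    | add r₁ r₂ h₁ h₂ =>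
      simp only [map_add, mul_add, TensorProduct.add_tmul, h₁, h₂]
  | add t₁ t₂ h₁ h₂ => simp only [map_add, h₁, h₂]

theorem galOp_aux2 (y : A) :
    galOp k A (TensorProduct.map (HopfAlgebra.antipode k (A := A)) LinearMap.id
      (comulOp k A y)) = (1 : A) ⊗ₜ[k] y := by
  rw [comulOp_apply, galOp_aux1, Coalgebra.coassoc_apply, ← LinearMap.comp_apply (LinearMap.lTensor A _),
    ← LinearMap.lTensor_comp]
  have h1 : mulAnti (k := k) (A := A) ∘ₗ CoalgebraStruct.comul (R := k) (A := A) =
      Algebra.linearMap k A ∘ₗ Coalgebra.counit (R := k) (A := A) := by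
    unfold mulAnti
    rw [LinearMap.comp_assoc]
    exact HopfAlgebra.mul_antipode_lTensor_comul
  rw [h1, LinearMap.lTensor_comp, LinearMap.comp_apply, Coalgebra.lTensor_counit_comul,
    LinearMap.lTensor_tmul, TensorProduct.comm_tmul, Algebra.linearMap_apply, map_one]

theorem galOp_surjective : Function.Surjective (galOp k A) := by
  intro z
  induction z using TensorProduct.induction_on with
  | zero => exact ⟨0, map_zero _⟩
  | tmul x y =>
    refine ⟨(x ⊗ₜ[k] (1 : A)) * TensorProduct.map (HopfAlgebra.antipode k (A := A)) LinearMap.id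
      (comulOp k A y), ?_⟩
    rw [map_mul, galOp_aux2, galOp_tmul, map_one, mul_one, Algebra.TensorProduct.tmul_mul_tmul,
      mul_one, one_mul]
  | add z₁ z₂ h₁ h₂ =>
    obtain ⟨w₁, hw₁⟩ := h₁
    obtain ⟨w₂, hw₂⟩ := h₂
    exact ⟨w₁ + w₂, by rw [map_add, hw₁, hw₂]⟩

end

section Finite

variable {k : Type u} [Field k] {A : Type v} [CommRing A] [HopfAlgebra k A] [Module.Finite k A]

theorem galOp_bijective : Function.Bijective (galOp k A) := by
  refine ⟨?_, galOp_surjective⟩
  exact OrzechProperty.injective_of_surjective_endomorphism (galOp k A).toLinearMap galOp_surjective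

/-- trace of multiplication by `x ⊗ y` on `A ⊗ A` over the left factor -/
theorem trace_tmul (x y : A) :
    Algebra.trace A (A ⊗[k] A) (x ⊗ₜ[k] y) = Algebra.trace k A y • x := by
  have h1 : Algebra.lmul A (A ⊗[k] A) ((1 : A) ⊗ₜ[k] y) = (Algebra.lmul k A y).baseChange A := by
    apply TensorProduct.AlgebraTensorModule.curry_injective
    apply LinearMap.ext
    intro u
    apply LinearMap.ext
    intro v
    simp [Algebra.TensorProduct.tmul_mul_tmul]
  have h2 : x ⊗ₜ[k] y = x • ((1 : A) ⊗ₜ[k] y) := by
    rw [TensorProduct.smul_tmul', smul_eq_mul, mul_one]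
  rw [h2, map_smul, Algebra.trace_apply, h1, LinearMap.trace_baseChange, ← Algebra.trace_apply,
    smul_eq_mul, Algebra.smul_def, mul_comm]

theorem trace_eq_slice (z : A ⊗[k] A) :
    Algebra.trace A (A ⊗[k] A) z = slice (Algebra.trace k A) z := by
  induction z using TensorProduct.induction_on with
  | zero => simp
  | tmul x y => rw [trace_tmul, slice_tmul]
  | add z₁ z₂ h₁ h₂ => simp only [map_add, h₁, h₂]

/-- the trace form is an integral -/
theorem trace_rTensor_comul (a : A) :
    (Algebra.trace k A).rTensor A (CoalgebraStruct.comul (R := k) a) =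
      Algebra.trace k A a ⊗ₜ[k] (1 : A) := by
  have h1 : Algebra.trace A (A ⊗[k] A) (comulOp k A a) = algebraMap k A (Algebra.trace k A a) := by
    have h2 : comulOp k A a = (AlgEquiv.ofBijective (galOp k A) galOp_bijective) ((1 : A) ⊗ₜ[k] a) := by
      rw [AlgEquiv.coe_ofBijective, galOp_tmul, ← Algebra.TensorProduct.one_def, one_mul]
    rw [h2, Algebra.trace_eq_of_algEquiv, trace_tmul, Algebra.smul_def, mul_one]
  rw [trace_eq_slice, comulOp_apply] at h1
  apply (TensorProduct.lid k A).injective
  rw [TensorProduct.lid_tmul, ← Algebra.algebraMap_eq_smul_one, ← h1]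
  generalize CoalgebraStruct.comul (R := k) a = z
  induction z using TensorProduct.induction_on with
  | zero => simp
  | tmul u w => simp
  | add z₁ z₂ h₁ h₂ => simp only [map_add, h₁, h₂]

/-- a finite commutative Hopf algebra over a field of characteristic zero has a total integral -/
theorem exists_totInt_of_finite_charZero [CharZero k] : ∃ α : A →ₗ[k] k, IsTotInt k A α := by
  have hnt : Nontrivial A := by
    by_contra hn
    rw [not_nontrivial_iff_subsingleton] at hn
    have h1 : Coalgebra.counit (R := k) (A := A) 1 = 1 := Bialgebra.counit_one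
    have h2 : (1 : A) = 0 := Subsingleton.elim _ _
    rw [h2, map_zero] at h1
    exact zero_ne_one h1
  have hpos : 0 < Module.finrank k A := Module.finrank_pos
  have hne : (Module.finrank k A : k) ≠ 0 := by
    exact_mod_cast hpos.ne'
  refine ⟨(Module.finrank k A : k)⁻¹ • Algebra.trace k A, ?_⟩
  rw [isTotInt_iff]
  constructor
  · intro a
    rw [LinearMap.rTensor_smul, LinearMap.smul_apply, trace_rTensor_comul, LinearMap.smul_apply,
      TensorProduct.smul_tmul']
  · have h1 : Algebra.trace k A 1 = (Module.finrank k A : k) := by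
      have := Algebra.trace_algebraMap (R := k) (S := A) (1 : k)
      rw [map_one] at this
      rw [this]
      simp
    rw [LinearMap.smul_apply, h1, smul_eq_mul, inv_mul_cancel₀ hne]

end Finite

end Groth.Agent.Lib.helper22
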