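import Mathlib

/-!
# Trace form of a finite free unramified algebra (helper22)

For a finite free algebra `L` over a commutative ring `K` with a separability element
`t ∈ L ⊗ L` (`(1 ⊗ s) t = (s ⊗ 1) t`, `μ t = 1`; e.g. `L` formally unramified = étale here), the
trace form `Θ : L → Hom_K(L, K)`, `l ↦ Tr(l ·)` is bijective (`Θ_bijective`,
`Θ_bijective_of_formallyUnramified`) and the discriminant of any basis is a unit
(`isUnit_discr_of_formallyUnramified`).  Key identity `P_trace_sepElem`: `Σ Tr(l xᵢ) yᵢ = l`.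
-/

namespace Groth.Agent.Lib.helper22.TraceSep

open TensorProduct

variable {K L : Type*} [CommRing K] [CommRing L] [Algebra K L]

/-- `a ⊗ b ↦ φ a • b`. -/
noncomputable def P (φ : L →ₗ[K] K) : L ⊗[K] L →ₗ[K] L :=
  TensorProduct.lift ((LinearMap.lsmul K L) ∘ₗ φ)

@[simp] theorem P_tmul (φ : L →ₗ[K] K) (a b : L) : P φ (a ⊗ₜ[K] b) = φ a • b := by
  simp [P]

/-- `a ⊗ b ↦ φ b • a`. -/
noncomputable def P' (φ : L →ₗ[K] K) : L ⊗[K] L →ₗ[K] L :=
  TensorProduct.lift ((LinearMap.lsmul K L).flip.flip ∘ₗ φ).flip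

@[simp] theorem P'_tmul (φ : L →ₗ[K] K) (a b : L) : P' φ (a ⊗ₜ[K] b) = φ b • a := by
  simp [P']

theorem P_comm (φ : L →ₗ[K] K) (s : L ⊗[K] L) :
    P φ (Algebra.TensorProduct.comm K L L s) = P' φ s := by
  induction s using TensorProduct.induction_on with
  | zero => simp
  | tmul a b => simp
  | add x y hx hy => rw [map_add, map_add, map_add, hx, hy]

/-- the trace form as a map to the dual -/
noncomputable def Θ : L →ₗ[K] Module.Dual K L := Algebra.traceForm K L

theorem Θ_apply (l z : L) : Θ (K := K) l z = Algebra.trace K L (l * z) := rfl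

section Basis

variable {ι : Type*} [Fintype ι] [DecidableEq ι] (b : Module.Basis ι K L)

theorem trace_eq_sum_coord (x : L) : Algebra.trace K L x = ∑ j, b.coord j (x * b j) := by
  rw [Algebra.trace_eq_matrix_trace b, Matrix.trace]
  refine Finset.sum_congr rfl fun j _ => ?_
  rw [Matrix.diag_apply, Algebra.leftMulMatrix_eq_repr_mul]
  rfl

include b in
/-- key identity: `Σ Tr(l xᵢ) yᵢ = l` for a separability element `t = Σ xᵢ ⊗ yᵢ`. -/
theorem P_trace_sepElem (t : L ⊗[K] L) (h1 : ∀ s : L, (1 ⊗ₜ[K] s) * t = (s ⊗ₜ[K] 1) * t)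
    (h2 : Algebra.TensorProduct.lmul' K t = 1) (l : L) : P (Θ (K := K) l) t = l := by
  -- F_j : a ⊗ c ↦ f_j (l a) • c
  let F : ι → L ⊗[K] L →ₗ[K] L := fun j => P ((b.coord j) ∘ₗ LinearMap.mulLeft K l)
  have id1 : P (Θ (K := K) l) =
      ∑ j, (F j) ∘ₗ (LinearMap.mulLeft K ((b j) ⊗ₜ[K] (1 : L))) := by
    apply TensorProduct.ext'
    intro a c
    rw [P_tmul, Θ_apply, trace_eq_sum_coord b, LinearMap.sum_apply, Finset.sum_smul]
    refine Finset.sum_congr rfl fun j _ => ?_
    simp only [F, LinearMap.comp_apply, LinearMap.mulLeft_apply,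
      Algebra.TensorProduct.tmul_mul_tmul, one_mul, P_tmul]
    rw [mul_comm (b j) a, mul_assoc]
  have id2 : ∑ j, (F j) ∘ₗ (LinearMap.mulLeft K ((1 : L) ⊗ₜ[K] (b j))) =
      (LinearMap.mulLeft K l) ∘ₗ (Algebra.TensorProduct.lmul' K).toLinearMap := by
    apply TensorProduct.ext'
    intro a c
    rw [LinearMap.sum_apply]
    simp only [F, LinearMap.comp_apply, LinearMap.mulLeft_apply,
      Algebra.TensorProduct.tmul_mul_tmul, one_mul, P_tmul, AlgHom.toLinearMap_apply,
      Algebra.TensorProduct.lmul'_apply_tmul]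
    have : ∀ j, (b.coord j) (l * a) • (b j * c) = ((b.coord j) (l * a) • b j) * c := by
      intro j
      rw [smul_mul_assoc]
    simp_rw [this]
    rw [← Finset.sum_mul, ← mul_assoc]
    congr 1
    have := b.sum_repr (l * a)
    simp only [Module.Basis.coord_apply]
    rw [this]
  have h3 : ∀ j, (b j ⊗ₜ[K] (1 : L)) * t = ((1 : L) ⊗ₜ[K] b j) * t := fun j => (h1 (b j)).symm
  calc P (Θ (K := K) l) t
      = ∑ j, F j ((b j ⊗ₜ[K] (1 : L)) * t) := by
        rw [id1, LinearMap.sum_apply]; rfl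
    _ = ∑ j, F j (((1 : L) ⊗ₜ[K] b j) * t) := by simp_rw [h3]
    _ = (∑ j, (F j) ∘ₗ (LinearMap.mulLeft K ((1 : L) ⊗ₜ[K] (b j)))) t := by
        rw [LinearMap.sum_apply]; rfl
    _ = l := by
        rw [id2, LinearMap.comp_apply, AlgHom.toLinearMap_apply, h2, LinearMap.mulLeft_apply,
          mul_one]

include b in
/-- swapped key identity: `Σ Tr(l yᵢ) xᵢ = l`. -/
theorem P'_trace_sepElem (t : L ⊗[K] L) (h1 : ∀ s : L, (1 ⊗ₜ[K] s) * t = (s ⊗ₜ[K] 1) * t)
    (h2 : Algebra.TensorProduct.lmul' K t = 1) (l : L) : P' (Θ (K := K) l) t = l := by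
  rw [← P_comm]
  apply P_trace_sepElem b
  · intro s
    have e1 : ((1 : L) ⊗ₜ[K] s) * Algebra.TensorProduct.comm K L L t =
        Algebra.TensorProduct.comm K L L ((s ⊗ₜ[K] 1) * t) := by
      rw [map_mul]; simp
    have e2 : (s ⊗ₜ[K] (1 : L)) * Algebra.TensorProduct.comm K L L t =
        Algebra.TensorProduct.comm K L L (((1 : L) ⊗ₜ[K] s) * t) := by
      rw [map_mul]; simp
    rw [e1, e2, h1]
  · rw [← h2]
    generalize t = t'
    induction t' using TensorProduct.induction_on with
    | zero => simp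
    | tmul a c => simp [mul_comm]
    | add x y hx hy => rw [map_add, map_add, map_add, hx, hy]

include b in
theorem Θ_injective (t : L ⊗[K] L) (h1 : ∀ s : L, (1 ⊗ₜ[K] s) * t = (s ⊗ₜ[K] 1) * t)
    (h2 : Algebra.TensorProduct.lmul' K t = 1) : Function.Injective (Θ (K := K) (L := L)) := by
  rw [← LinearMap.ker_eq_bot, LinearMap.ker_eq_bot']
  intro l hl
  rw [← P_trace_sepElem b t h1 h2 l, hl]
  have h0 : P (0 : L →ₗ[K] K) = 0 := by
    apply TensorProduct.ext'
    intro a c
    simp
  rw [h0, LinearMap.zero_apply]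

include b in
theorem Θ_surjective (t : L ⊗[K] L) (h1 : ∀ s : L, (1 ⊗ₜ[K] s) * t = (s ⊗ₜ[K] 1) * t)
    (h2 : Algebra.TensorProduct.lmul' K t = 1) : Function.Surjective (Θ (K := K) (L := L)) := by
  intro φ
  refine ⟨P φ t, ?_⟩
  apply LinearMap.ext
  intro z
  rw [Θ_apply]
  have key : φ ∘ₗ P' (Θ (K := K) z) =
      (Algebra.trace K L) ∘ₗ (LinearMap.mulLeft K z) ∘ₗ P φ := by
    apply TensorProduct.ext'
    intro a c
    simp only [LinearMap.comp_apply, P'_tmul, P_tmul, LinearMap.mulLeft_apply, map_smul,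
      Θ_apply, smul_eq_mul]
    ring
  have h3 := LinearMap.congr_fun key t
  simp only [LinearMap.comp_apply, LinearMap.mulLeft_apply] at h3
  rw [P'_trace_sepElem b t h1 h2 z] at h3
  rw [mul_comm, ← h3]

include b in
theorem Θ_bijective (t : L ⊗[K] L) (h1 : ∀ s : L, (1 ⊗ₜ[K] s) * t = (s ⊗ₜ[K] 1) * t)
    (h2 : Algebra.TensorProduct.lmul' K t = 1) : Function.Bijective (Θ (K := K) (L := L)) :=
  ⟨Θ_injective b t h1 h2, Θ_surjective b t h1 h2⟩

theorem isUnit_discr_of_bijective (hΘ : Function.Bijective (Θ (K := K) (L := L))) :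
    IsUnit (Algebra.discr K b) := by
  let e : L ≃ₗ[K] Module.Dual K L := LinearEquiv.ofBijective Θ hΘ
  have h := LinearEquiv.isUnit_det e b b.dualBasis
  have hmat : LinearMap.toMatrix b b.dualBasis (e : L →ₗ[K] Module.Dual K L) =
      (Algebra.traceMatrix K b).transpose := by
    ext i j
    rw [LinearMap.toMatrix_apply, Module.Basis.dualBasis_repr, Matrix.transpose_apply,
      Algebra.traceMatrix_apply]
    rfl
  rw [hmat, Matrix.det_transpose] at h
  exact h

end Basis

/-- For a finite free étale (more generally: unramified) algebra, the trace form `L → L^*` is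
bijective. -/
theorem Θ_bijective_of_formallyUnramified [Module.Free K L] [Module.Finite K L]
    [Algebra.FormallyUnramified K L] : Function.Bijective (Θ (K := K) (L := L)) := by
  classical
  exact Θ_bijective (Module.Free.chooseBasis K L) (Algebra.FormallyUnramified.elem K L)
    (fun s => Algebra.FormallyUnramified.one_tmul_mul_elem s)
    Algebra.FormallyUnramified.lmul_elem

/-- For a finite free unramified algebra the discriminant of any basis is a unit. -/
theorem isUnit_discr_of_formallyUnramified {ι : Type*} [Fintype ι] [DecidableEq ι]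
    (b : Module.Basis ι K L) [Algebra.FormallyUnramified K L] : IsUnit (Algebra.discr K b) := by
  have : Module.Free K L := Module.Free.of_basis b
  have : Module.Finite K L := Module.Finite.of_basis b
  exact isUnit_discr_of_bijective b Θ_bijective_of_formallyUnramified

end Groth.Agent.Lib.helper22.TraceSep
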