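import Mathlib
import Groth.Prelude.Def_W4c1liftfrobW2
import Groth.Agent.Lib.Helper19.W2Flat

/-!
# Basic facts about flat liftings over `W₂(k)` (helper22)

For `k` a perfect field of characteristic `p` and `(B, ι, π)` a flat lifting of `A`:
`ker π = (p)`, `p * p = 0`, `p * x = 0 → x ∈ (p)`, and the two transfer principles
`p * y = p * y' ↔ π y = π y'`.
-/

set_option autoImplicit false
set_option linter.unusedSectionVars false
universe u v

namespace Groth.Agent.Lib.helper22.W2Lift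

open Groth.Agent.Lib.helper24.WittTrunc

section
variable (p : ℕ) [Fact p.Prime] (k : Type u) [Field k] [CharP k p] [PerfectRing k p]

theorem ker_res : RingHom.ker (FrobAlg.res p k) = Ideal.span {(p : FrobAlg.W2 p k)} := by
  ext x
  rw [RingHom.mem_ker, FrobAlg.res_apply, ← c0_eq_zero_iff p k 1 x]
  rfl

theorem res_sigma (w : FrobAlg.W2 p k) :
    FrobAlg.res p k (FrobAlg.sigma p k w) = FrobAlg.res p k w ^ p := by
  rw [FrobAlg.res_apply, FrobAlg.res_apply]
  exact WittGrp.coeff_frob p 2 _ w 0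

/-- `σ w - w ^ p` is a multiple of `p`. -/
theorem exists_sigma_eq (w : FrobAlg.W2 p k) :
    ∃ v : FrobAlg.W2 p k, FrobAlg.sigma p k w = w ^ p + (p : FrobAlg.W2 p k) * v := by
  have h : FrobAlg.sigma p k w - w ^ p ∈ RingHom.ker (FrobAlg.res p k) := by
    rw [RingHom.mem_ker, map_sub, res_sigma, map_pow, sub_self]
  rw [ker_res, Ideal.mem_span_singleton'] at h
  obtain ⟨v, hv⟩ := h
  exact ⟨v, by rw [mul_comm, hv]; ring⟩

end

section
variable {p : ℕ} [Fact p.Prime] {k : Type u} [Field k] [CharP k p] [PerfectRing k p]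
variable {A : Type v} [CommRing A] [Algebra k A] {B : Type v} [CommRing B]
  {ι : FrobAlg.W2 p k →+* B} {π : B →+* A}

theorem ker_pi (h : FrobAlg.IsLift p k A B ι π) : RingHom.ker π = Ideal.span {(p : B)} := by
  rw [h.ker_eq, ker_res, Ideal.map_span, Set.image_singleton, map_natCast]

theorem p_mul_p (ι : FrobAlg.W2 p k →+* B) : (p : B) * (p : B) = 0 := by
  have := congrArg ι (Groth.Agent.Lib.Helper19.W2Flat.p_mul_p p k)
  simpa using this

theorem exists_of_pi_eq_zero (h : FrobAlg.IsLift p k A B ι π) {x : B} (hx : π x = 0) :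
    ∃ y, x = (p : B) * y := by
  have hmem : x ∈ RingHom.ker π := hx
  rw [ker_pi h, Ideal.mem_span_singleton'] at hmem
  obtain ⟨y, rfl⟩ := hmem
  exact ⟨y, mul_comm _ _⟩

theorem pi_p_mul (h : FrobAlg.IsLift p k A B ι π) (y : B) : π ((p : B) * y) = 0 := by
  have hmem : (p : B) * y ∈ RingHom.ker π := by
    rw [ker_pi h]
    exact Ideal.mul_mem_right _ _ (Ideal.mem_span_singleton_self _)
  exact hmem

theorem exists_of_p_mul_eq_zero (h : FrobAlg.IsLift p k A B ι π) {x : B}
    (hx : (p : B) * x = 0) : ∃ y, x = (p : B) * y := by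
  let _ : Algebra (FrobAlg.W2 p k) B := ι.toAlgebra
  have hflat : Module.Flat (FrobAlg.W2 p k) B := h.flat
  have hsm : ∀ z : B, (p : FrobAlg.W2 p k) • z = (p : B) * z := by
    intro z
    rw [Algebra.smul_def]
    change ι (p : FrobAlg.W2 p k) * z = _
    rw [map_natCast]
  obtain ⟨y, hy⟩ := (Groth.Agent.Lib.Helper19.W2Flat.flat_W2_iff p k B).mp hflat x
    (by rw [hsm]; exact hx)
  exact ⟨y, by rw [hy, hsm]⟩

theorem pi_eq_of_p_mul_eq (h : FrobAlg.IsLift p k A B ι π) {y y' : B}
    (hy : (p : B) * y = p * y') : π y = π y' := by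
  have h0 : (p : B) * (y - y') = 0 := by rw [mul_sub, hy, sub_self]
  obtain ⟨z, hz⟩ := exists_of_p_mul_eq_zero h h0
  have h1 := pi_p_mul h z
  rw [← hz, map_sub, sub_eq_zero] at h1
  exact h1

theorem p_mul_eq_of_pi_eq (h : FrobAlg.IsLift p k A B ι π) {y y' : B}
    (hy : π y = π y') : (p : B) * y = p * y' := by
  have h0 : π (y - y') = 0 := by rw [map_sub, hy, sub_self]
  obtain ⟨z, hz⟩ := exists_of_pi_eq_zero h h0
  have h1 : (p : B) * (y - y') = 0 := by rw [hz, ← mul_assoc, p_mul_p ι, zero_mul]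
  rw [mul_sub, sub_eq_zero] at h1
  exact h1

/-- Flatness over `W₂(k)` from the torsion criterion, for a ring map. -/
theorem flat_of_torsion (ι : FrobAlg.W2 p k →+* B)
    (h : ∀ x : B, (p : B) * x = 0 → ∃ y, x = (p : B) * y) : ι.Flat := by
  let _ : Algebra (FrobAlg.W2 p k) B := ι.toAlgebra
  change Module.Flat (FrobAlg.W2 p k) B
  have hsm : ∀ z : B, (p : FrobAlg.W2 p k) • z = (p : B) * z := by
    intro z
    rw [Algebra.smul_def]
    change ι (p : FrobAlg.W2 p k) * z = _
    rw [map_natCast]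
  rw [Groth.Agent.Lib.Helper19.W2Flat.flat_W2_iff]
  intro m hm
  obtain ⟨y, hy⟩ := h m (by rw [← hsm]; exact hm)
  exact ⟨y, by rw [hsm]; exact hy⟩

end

end Groth.Agent.Lib.helper22.W2Lift
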