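import Mathlib
import Groth.Prelude.Def_W4c1liftfrobW2
import Groth.Agent.Lib.Helper22.W2Lift

/-!
# The ghost map `W₂(A) → B` of a flat lifting `B` of `A` over `W₂(k)` (helper22)

For `(B, ι, π)` a flat lifting of `A` over `W₂(k)`, the first ghost component of `𝕎 B` factors
through `𝕎 B → W₂(A)`, giving a ring map `w1 : W₂(A) → B`, `(a₀, a₁) ↦ ã₀ ^ p + p ã₁`.
Together with the residue map it is jointly injective, and `w1 ∘ W₂(k → A) = ι ∘ σ`.
-/

set_option autoImplicit false
set_option linter.unusedSectionVars false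
universe u v

namespace Groth.Agent.Lib.helper22.W2Ghost

open Groth.Agent.Lib.helper22.W2Lift

section Teich
variable (p : ℕ) [Fact p.Prime] (k : Type u) [CommRing k] [CharP k p]

/-- In characteristic `p`: `F W ≡ [W₀]^p + p [W₁]` modulo `V²`. -/
theorem truncate_frobenius_eq (W : WittVector p k) :
    WittVector.truncate 2 (WittVector.frobenius W) =
      WittVector.truncate 2 (WittVector.teichmuller p (W.coeff 0)) ^ p +
        (p : TruncatedWittVector p 2 k) * WittVector.truncate 2 (WittVector.teichmuller p (W.coeff 1)) := by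
  have hF : ∀ a : k, WittVector.frobenius (WittVector.teichmuller p a) =
      WittVector.teichmuller p (a ^ p) := by
    intro a
    ext n
    rw [WittVector.coeff_frobenius_charP]
    rcases Nat.eq_zero_or_pos n with rfl | hn
    · rw [WittVector.teichmuller_coeff_zero, WittVector.teichmuller_coeff_zero]
    · rw [WittVector.teichmuller_coeff_pos p _ n hn, WittVector.teichmuller_coeff_pos p _ n hn,
        zero_pow (Fact.out : p.Prime).ne_zero]
  have h1 : WittVector.truncate 2 (WittVector.teichmuller p (W.coeff 0)) ^ p +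
        (p : TruncatedWittVector p 2 k) * WittVector.truncate 2 (WittVector.teichmuller p (W.coeff 1)) =
      WittVector.truncate 2 (WittVector.teichmuller p (W.coeff 0 ^ p) +
        WittVector.verschiebung (WittVector.teichmuller p (W.coeff 1 ^ p))) := by
    rw [map_add, ← hF (W.coeff 1), WittVector.verschiebung_frobenius, map_mul, map_natCast,
      map_pow (WittVector.teichmuller p), map_pow]
    ring
  rw [h1]
  apply TruncatedWittVector.ext
  intro i
  rw [WittVector.coeff_truncate, WittVector.coeff_truncate, WittVector.coeff_frobenius_charP,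
    WittVector.coeff_add_of_disjoint]
  · fin_cases i
    · change W.coeff 0 ^ p = (WittVector.teichmuller p (W.coeff 0 ^ p)).coeff 0 +
        (WittVector.verschiebung (WittVector.teichmuller p (W.coeff 1 ^ p))).coeff 0
      rw [WittVector.teichmuller_coeff_zero, WittVector.verschiebung_coeff_zero, add_zero]
    · change W.coeff 1 ^ p = (WittVector.teichmuller p (W.coeff 0 ^ p)).coeff 1 +
        (WittVector.verschiebung (WittVector.teichmuller p (W.coeff 1 ^ p))).coeff (Nat.succ 0)
      rw [WittVector.verschiebung_coeff_succ, WittVector.teichmuller_coeff_zero,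
        WittVector.teichmuller_coeff_pos p _ 1 one_pos, zero_add]
  · intro n
    rcases Nat.eq_zero_or_pos n with rfl | hn
    · right
      exact WittVector.verschiebung_coeff_zero _
    · left
      exact WittVector.teichmuller_coeff_pos p _ n hn

end Teich

section
variable {p : ℕ} [Fact p.Prime] {k : Type u} [Field k] [CharP k p] [PerfectRing k p]
variable {A : Type v} [CommRing A] [Algebra k A] {B : Type v} [CommRing B]
  {ι : FrobAlg.W2 p k →+* B} {π : B →+* A}

/-- The quotient map `𝕎 B → W₂(A)`. -/
noncomputable def quo (π : B →+* A) : WittVector p B →+* FrobAlg.W2 p A :=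
  (WittVector.truncate 2).comp (WittVector.map π)

theorem quo_surjective (hπ : Function.Surjective π) :
    Function.Surjective (quo (p := p) π) :=
  (WittVector.truncate_surjective p 2 A).comp (WittVector.map_surjective π hπ)

theorem coeff_quo (X : WittVector p B) (i : Fin 2) :
    (quo (p := p) π X).coeff i = π (X.coeff i) := by
  change (WittVector.truncate 2 (WittVector.map π X)).coeff i = _
  rw [WittVector.coeff_truncate, WittVector.map_coeff]

theorem ghost_one (X : WittVector p B) :
    WittVector.ghostComponent 1 X = X.coeff 0 ^ p + (p : B) * X.coeff 1 := by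
  rw [WittVector.ghostComponent_apply, wittPolynomial_one]
  simp
  ring

theorem ghost_one_eq_zero_of_quo (h : FrobAlg.IsLift p k A B ι π) (X : WittVector p B)
    (hX : quo (p := p) π X = 0) : WittVector.ghostComponent 1 X = 0 := by
  have h0 : π (X.coeff 0) = 0 := by
    have := congrArg (fun z : FrobAlg.W2 p A => z.coeff 0) hX
    simpa [coeff_quo] using this
  have h1 : π (X.coeff 1) = 0 := by
    have := congrArg (fun z : FrobAlg.W2 p A => z.coeff 1) hX
    simpa [coeff_quo] using this
  obtain ⟨y0, hy0⟩ := exists_of_pi_eq_zero h h0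
  obtain ⟨y1, hy1⟩ := exists_of_pi_eq_zero h h1
  have hpp := p_mul_p (p := p) (k := k) ι
  have hp2 : 2 ≤ p := (Fact.out : p.Prime).two_le
  rw [ghost_one, hy0, hy1, ← mul_assoc, hpp, zero_mul, add_zero, mul_pow]
  obtain ⟨m, rfl⟩ : ∃ m, p = 2 + m := ⟨p - 2, by omega⟩
  rw [pow_add, pow_two]
  push_cast at hpp ⊢
  rw [hpp, zero_mul, zero_mul]

/-- The ghost map `W₂(A) → B`, `(a₀, a₁) ↦ ã₀ ^ p + p ã₁`. -/
noncomputable def w1 (h : FrobAlg.IsLift p k A B ι π) : FrobAlg.W2 p A →+* B :=
  RingHom.liftOfSurjective (quo (p := p) π) (quo_surjective h.surj)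
    ⟨WittVector.ghostComponent 1, fun X hX => by
      rw [RingHom.mem_ker] at hX ⊢
      exact ghost_one_eq_zero_of_quo h X hX⟩

theorem w1_quo (h : FrobAlg.IsLift p k A B ι π) (X : WittVector p B) :
    w1 h (quo (p := p) π X) = X.coeff 0 ^ p + (p : B) * X.coeff 1 := by
  rw [← ghost_one]
  exact RingHom.liftOfRightInverse_comp_apply _ _ _ _ X

/-- `w1` computed from arbitrary lifts of the two components. -/
theorem w1_eq (h : FrobAlg.IsLift p k A B ι π) (x : FrobAlg.W2 p A) (b0 b1 : B)
    (h0 : π b0 = x.coeff 0) (h1 : π b1 = x.coeff 1) :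
    w1 h x = b0 ^ p + (p : B) * b1 := by
  have hx : x = quo (p := p) π (WittVector.mk p fun n => if n = 0 then b0 else b1) := by
    apply TruncatedWittVector.ext
    intro i
    rw [coeff_quo]
    fin_cases i
    · simpa using h0.symm
    · simpa using h1.symm
  rw [hx, w1_quo]
  simp

theorem pi_w1 (h : FrobAlg.IsLift p k A B ι π) (x : FrobAlg.W2 p A) :
    π (w1 h x) = x.coeff 0 ^ p := by
  obtain ⟨b0, h0⟩ := h.surj (x.coeff 0)
  obtain ⟨b1, h1⟩ := h.surj (x.coeff 1)
  rw [w1_eq h x b0 b1 h0 h1, map_add, pi_p_mul h, add_zero, map_pow, h0]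

/-- `(res, w1)` is jointly injective. -/
theorem eq_of_res_of_w1 (h : FrobAlg.IsLift p k A B ι π) {x y : FrobAlg.W2 p A}
    (h0 : x.coeff 0 = y.coeff 0) (hw : w1 h x = w1 h y) : x = y := by
  obtain ⟨b0, hb0⟩ := h.surj (x.coeff 0)
  obtain ⟨b1, hb1⟩ := h.surj (x.coeff 1)
  obtain ⟨c1, hc1⟩ := h.surj (y.coeff 1)
  rw [w1_eq h x b0 b1 hb0 hb1, w1_eq h y b0 c1 (hb0.trans h0) hc1] at hw
  have h1 := pi_eq_of_p_mul_eq h (add_left_cancel hw)
  apply TruncatedWittVector.ext
  intro i
  fin_cases i
  · exact h0
  · change x.coeff 1 = y.coeff 1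
    rw [← hb1, ← hc1, h1]

/-- Compatibility of `w1` with the structure maps: `w1 ∘ W₂(k → A) = ι ∘ σ`. -/
theorem w1_truncMap (h : FrobAlg.IsLift p k A B ι π) (w : FrobAlg.W2 p k) :
    w1 h (WittGrp.truncMap p 2 (algebraMap k A) w) = ι (FrobAlg.sigma p k w) := by
  obtain ⟨W, rfl⟩ := WittVector.truncate_surjective p 2 k w
  have hπι : ∀ z : FrobAlg.W2 p k, π (ι z) = algebraMap k A (z.coeff 0) := by
    intro z
    have := RingHom.congr_fun h.comm z
    rw [RingHom.comp_apply, RingHom.comp_apply, FrobAlg.res_apply] at this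
    exact this
  rw [w1_eq h _ (ι (WittVector.truncate 2 (WittVector.teichmuller p (W.coeff 0))))
    (ι (WittVector.truncate 2 (WittVector.teichmuller p (W.coeff 1))))]
  · change _ = ι (WittGrp.frob p 2 _ (WittVector.truncate 2 W))
    rw [WittGrp.frob_truncate, truncate_frobenius_eq, map_add, map_mul, map_pow, map_natCast]
  · rw [hπι, WittGrp.coeff_truncMap, WittVector.coeff_truncate, WittVector.coeff_truncate]
    change algebraMap k A ((WittVector.teichmuller p (W.coeff 0)).coeff 0) =
      algebraMap k A (W.coeff 0)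
    rw [WittVector.teichmuller_coeff_zero]
  · rw [hπι, WittGrp.coeff_truncMap, WittVector.coeff_truncate, WittVector.coeff_truncate]
    change algebraMap k A ((WittVector.teichmuller p (W.coeff 1)).coeff 0) =
      algebraMap k A (W.coeff 1)
    rw [WittVector.teichmuller_coeff_zero]

end

end Groth.Agent.Lib.helper22.W2Ghost
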