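import Mathlib
import Groth.Prelude.Def_W4c1liftfrobW2
import Groth.Agent.Lib.Helper22.W2Lift

/-!
# Frobenius lifts of polynomial rings over `W₂(k)` and the Taylor formula (helper22)

`R' = W₂(k)[x_s]`.  For `h : s → R'` the `σ₂`-semilinear endomorphism `twist h` with
`x_j ↦ x_j ^ p - p h_j` satisfies `twist h g = F' g - p ∑_j (∂_j g) ^ p h_j` (`F' = polyFrob`).
-/

set_option autoImplicit false
set_option linter.unusedSectionVars false
universe u v

namespace Groth.Agent.Lib.helper22.W2Poly

open MvPolynomial Groth.Agent.Lib.helper22.W2Lift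

variable (p : ℕ) [Fact p.Prime] (k : Type u) [Field k] [CharP k p] [PerfectRing k p]
variable (s : Type v) [Fintype s] [DecidableEq s]

theorem p_mul_p_poly : (p : MvPolynomial s (FrobAlg.W2 p k)) * p = 0 :=
  p_mul_p (p := p) (k := k) (C : FrobAlg.W2 p k →+* MvPolynomial s (FrobAlg.W2 p k))

theorem map_res_natCast :
    MvPolynomial.map (FrobAlg.res p k) (p : MvPolynomial s (FrobAlg.W2 p k)) = 0 := by
  rw [map_natCast]
  have : ((p : ℕ) : MvPolynomial s k) = C ((p : ℕ) : k) := by simp
  rw [this, CharP.cast_eq_zero k p, map_zero]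

theorem map_res_polyFrob (g : MvPolynomial s (FrobAlg.W2 p k)) :
    MvPolynomial.map (FrobAlg.res p k) (FrobAlg.polyFrob p k s g) =
      MvPolynomial.map (FrobAlg.res p k) g ^ p := by
  induction g using MvPolynomial.induction_on with
  | C w =>
    change MvPolynomial.map (FrobAlg.res p k)
      (MvPolynomial.eval₂Hom (C.comp (FrobAlg.sigma p k)) (fun i => X i ^ p) (C w)) = _
    rw [MvPolynomial.eval₂Hom_C, RingHom.comp_apply, MvPolynomial.map_C, MvPolynomial.map_C,
      res_sigma, map_pow]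
  | add a b ha hb =>
    rw [map_add, map_add, ha, hb, map_add, add_pow_char]
  | mul_X a i ha =>
    rw [map_mul, map_mul, ha, map_mul, mul_pow]
    congr 1
    change MvPolynomial.map (FrobAlg.res p k)
      (MvPolynomial.eval₂Hom (C.comp (FrobAlg.sigma p k)) (fun i => X i ^ p) (X i)) = _
    rw [MvPolynomial.eval₂Hom_X', map_pow]

theorem ker_map_res :
    RingHom.ker (MvPolynomial.map (FrobAlg.res p k) :
      MvPolynomial s (FrobAlg.W2 p k) →+* MvPolynomial s k) =
      Ideal.span {(p : MvPolynomial s (FrobAlg.W2 p k))} := by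
  rw [MvPolynomial.ker_map, ker_res, Ideal.map_span, Set.image_singleton, map_natCast]

theorem exists_eq_p_mul_of_map_res_eq_zero (g : MvPolynomial s (FrobAlg.W2 p k))
    (hg : MvPolynomial.map (FrobAlg.res p k) g = 0) :
    ∃ u, g = (p : MvPolynomial s (FrobAlg.W2 p k)) * u := by
  have : g ∈ RingHom.ker (MvPolynomial.map (FrobAlg.res p k) :
      MvPolynomial s (FrobAlg.W2 p k) →+* MvPolynomial s k) := hg
  rw [ker_map_res, Ideal.mem_span_singleton'] at this
  obtain ⟨u, rfl⟩ := this
  exact ⟨u, mul_comm _ _⟩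

theorem exists_polyFrob_eq (g : MvPolynomial s (FrobAlg.W2 p k)) :
    ∃ u, FrobAlg.polyFrob p k s g = g ^ p + (p : MvPolynomial s (FrobAlg.W2 p k)) * u := by
  obtain ⟨u, hu⟩ := exists_eq_p_mul_of_map_res_eq_zero p k s (FrobAlg.polyFrob p k s g - g ^ p)
    (by rw [map_sub, map_res_polyFrob, map_pow, sub_self])
  exact ⟨u, by rw [← hu]; ring⟩

theorem p_mul_polyFrob (g : MvPolynomial s (FrobAlg.W2 p k)) :
    (p : MvPolynomial s (FrobAlg.W2 p k)) * FrobAlg.polyFrob p k s g = p * g ^ p := by
  obtain ⟨u, hu⟩ := exists_polyFrob_eq p k s g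
  rw [hu]
  linear_combination u * p_mul_p_poly p k s

theorem p_mul_add_pow (x y z : MvPolynomial s (FrobAlg.W2 p k)) :
    (p : MvPolynomial s (FrobAlg.W2 p k)) * ((x + y) ^ p * z) = p * (x ^ p * z) + p * (y ^ p * z) := by
  obtain ⟨c, hc⟩ := exists_add_pow_prime_eq (Fact.out : p.Prime) x y
  rw [hc]
  linear_combination (x * y * c * z) * p_mul_p_poly p k s

/-- The `σ₂`-semilinear endomorphism with `x_j ↦ x_j ^ p - p h_j`. -/
noncomputable def twist (h : s → MvPolynomial s (FrobAlg.W2 p k)) :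
    MvPolynomial s (FrobAlg.W2 p k) →+* MvPolynomial s (FrobAlg.W2 p k) :=
  MvPolynomial.eval₂Hom (C.comp (FrobAlg.sigma p k))
    (fun j => X j ^ p - (p : MvPolynomial s (FrobAlg.W2 p k)) * h j)

theorem twist_C (h : s → MvPolynomial s (FrobAlg.W2 p k)) (w : FrobAlg.W2 p k) :
    twist p k s h (C w) = C (FrobAlg.sigma p k w) :=
  MvPolynomial.eval₂Hom_C _ _ w

theorem twist_X (h : s → MvPolynomial s (FrobAlg.W2 p k)) (j : s) :
    twist p k s h (X j) = X j ^ p - (p : MvPolynomial s (FrobAlg.W2 p k)) * h j :=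
  MvPolynomial.eval₂Hom_X' _ _ j

theorem polyFrob_C (w : FrobAlg.W2 p k) :
    FrobAlg.polyFrob p k s (C w) = C (FrobAlg.sigma p k w) :=
  MvPolynomial.eval₂Hom_C _ _ w

theorem polyFrob_X (j : s) :
    FrobAlg.polyFrob p k s (X j) = (X j : MvPolynomial s (FrobAlg.W2 p k)) ^ p :=
  MvPolynomial.eval₂Hom_X' _ _ j

/-- Taylor formula modulo `p²`. -/
theorem twist_apply (h : s → MvPolynomial s (FrobAlg.W2 p k))
    (g : MvPolynomial s (FrobAlg.W2 p k)) :
    twist p k s h g = FrobAlg.polyFrob p k s g -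
      (p : MvPolynomial s (FrobAlg.W2 p k)) * ∑ j, MvPolynomial.pderiv j g ^ p * h j := by
  have hp0 : p ≠ 0 := (Fact.out : p.Prime).ne_zero
  induction g using MvPolynomial.induction_on with
  | C w =>
    rw [twist_C, polyFrob_C]
    simp [zero_pow hp0]
  | add a b ha hb =>
    rw [map_add, map_add, ha, hb]
    have key : (p : MvPolynomial s (FrobAlg.W2 p k)) *
        ∑ j, MvPolynomial.pderiv j (a + b) ^ p * h j =
        (p : MvPolynomial s (FrobAlg.W2 p k)) * ∑ j, MvPolynomial.pderiv j a ^ p * h j +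
          (p : MvPolynomial s (FrobAlg.W2 p k)) * ∑ j, MvPolynomial.pderiv j b ^ p * h j := by
      rw [Finset.mul_sum, Finset.mul_sum, Finset.mul_sum, ← Finset.sum_add_distrib]
      refine Finset.sum_congr rfl fun j _ => ?_
      rw [map_add, p_mul_add_pow]
    rw [key]
    ring
  | mul_X a i ha =>
    rw [map_mul, map_mul, ha, twist_X, polyFrob_X]
    have key : (p : MvPolynomial s (FrobAlg.W2 p k)) *
        ∑ j, MvPolynomial.pderiv j (a * X i) ^ p * h j =
        (p : MvPolynomial s (FrobAlg.W2 p k)) * (X i ^ p * ∑ j, MvPolynomial.pderiv j a ^ p * h j) +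
          (p : MvPolynomial s (FrobAlg.W2 p k)) * a ^ p * h i := by
      rw [Finset.mul_sum, Finset.mul_sum, Finset.mul_sum]
      have : ∀ j ∈ (Finset.univ : Finset s),
          (p : MvPolynomial s (FrobAlg.W2 p k)) * (MvPolynomial.pderiv j (a * X i) ^ p * h j) =
          (p : MvPolynomial s (FrobAlg.W2 p k)) * (X i ^ p * (MvPolynomial.pderiv j a ^ p * h j)) +
            (if j = i then (p : MvPolynomial s (FrobAlg.W2 p k)) * a ^ p * h i else 0) := by
        intro j _
        rw [MvPolynomial.pderiv_mul, p_mul_add_pow]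
        by_cases hji : j = i
        · subst hji
          rw [MvPolynomial.pderiv_X_self, mul_one, if_pos rfl]
          ring
        · rw [MvPolynomial.pderiv_X_of_ne (Ne.symm hji), mul_zero, zero_pow hp0, zero_mul,
            mul_zero, add_zero, if_neg hji, add_zero]
          ring
      rw [Finset.sum_congr rfl this, Finset.sum_add_distrib, Finset.sum_ite_eq' Finset.univ i,
        if_pos (Finset.mem_univ i)]
    rw [key]
    linear_combination (-(h i)) * p_mul_polyFrob p k s a +
      ((∑ j, MvPolynomial.pderiv j a ^ p * h j) * h i) * p_mul_p_poly p k s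

theorem map_res_twist (h : s → MvPolynomial s (FrobAlg.W2 p k))
    (g : MvPolynomial s (FrobAlg.W2 p k)) :
    MvPolynomial.map (FrobAlg.res p k) (twist p k s h g) =
      MvPolynomial.map (FrobAlg.res p k) g ^ p := by
  rw [twist_apply, map_sub, map_mul, map_res_natCast, zero_mul, sub_zero, map_res_polyFrob]

end Groth.Agent.Lib.helper22.W2Poly
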