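import Mathlib
import Groth.Prelude.Def_W4c1liftfrobW2
import Groth.Agent.Lib.Helper22.W2Poly

/-!
# Presentations of flat liftings over `W₂(k)` of quotients of polynomial rings (helper22)

If `(B, ι, π)` is a flat lifting of `k[x_s]/I` over `W₂(k)`, then `B` is a quotient of `W₂(k)[x_s]`
compatibly with `π` (`exists_pres`).  If `I = (f_t)` and the lifting carries a Frobenius lift, then
there are lifts `f'_t` and `h_s` with
`F' f'_i - f'_i ^ p - p ∑_j (∂_j f'_i)^p h_j ∈ p (f')` (`exists_of_isFLiftable`; no regularity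
needed for this direction).
-/

set_option autoImplicit false
set_option linter.unusedSectionVars false
universe u v w

namespace Groth.Agent.Lib.helper22.W2Pres

open MvPolynomial

variable {p : ℕ} [Fact p.Prime] {k : Type u} [Field k] [CharP k p] [PerfectRing k p]
variable {s : Type v} [Fintype s] [DecidableEq s]

theorem res_surjective (p : ℕ) [Fact p.Prime] (k : Type u) [CommRing k] :
    Function.Surjective (FrobAlg.res p k) := by
  intro a
  refine ⟨WittVector.truncate 2 (WittVector.teichmuller p a), ?_⟩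
  rw [FrobAlg.res_truncate, WittVector.teichmuller_coeff_zero]

theorem map_res_surjective :
    Function.Surjective (MvPolynomial.map (FrobAlg.res p k) :
      MvPolynomial s (FrobAlg.W2 p k) → MvPolynomial s k) :=
  MvPolynomial.map_surjective _ (res_surjective p k)

/-- A flat lifting of a quotient of a polynomial ring is a quotient of the polynomial ring over
`W₂(k)`. -/
theorem exists_pres (I : Ideal (MvPolynomial s k)) {B : Type (max v u)} [CommRing B]
    {ι : FrobAlg.W2 p k →+* B} {π : B →+* (MvPolynomial s k ⧸ I)}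
    (hL : FrobAlg.IsLift p k (MvPolynomial s k ⧸ I) B ι π) :
    ∃ ψ : MvPolynomial s (FrobAlg.W2 p k) →+* B,
      (∀ w, ψ (C w) = ι w) ∧
      (∀ g, π (ψ g) = Ideal.Quotient.mk I (MvPolynomial.map (FrobAlg.res p k) g)) ∧
      Function.Surjective ψ ∧
      (∀ b : B, π b = 0 → ∃ u : MvPolynomial s (FrobAlg.W2 p k),
        b = ψ ((p : MvPolynomial s (FrobAlg.W2 p k)) * u)) := by
  have hρsurj := map_res_surjective (p := p) (k := k) (s := s)
  have hppB := Groth.Agent.Lib.helper22.W2Lift.p_mul_p (p := p) (k := k) ι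
  have hXl : ∀ j : s, ∃ b : B, π b = Ideal.Quotient.mk I (MvPolynomial.X j) := fun j => hL.surj _
  choose Xl hXl using hXl
  let ψ : MvPolynomial s (FrobAlg.W2 p k) →+* B := MvPolynomial.eval₂Hom ι Xl
  have hψC : ∀ w, ψ (MvPolynomial.C w) = ι w := fun w => MvPolynomial.eval₂Hom_C _ _ w
  have hψX : ∀ j, ψ (MvPolynomial.X j) = Xl j := fun j => MvPolynomial.eval₂Hom_X' _ _ j
  have hψp : ∀ g, ψ ((p : MvPolynomial s (FrobAlg.W2 p k)) * g) = (p : B) * ψ g := by
    intro g
    rw [map_mul, map_natCast]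
  have hπψ : ∀ g, π (ψ g) = Ideal.Quotient.mk I (MvPolynomial.map (FrobAlg.res p k) g) := by
    have : π.comp ψ = (Ideal.Quotient.mk I).comp (MvPolynomial.map (FrobAlg.res p k)) := by
      apply MvPolynomial.ringHom_ext
      · intro w
        rw [RingHom.comp_apply, RingHom.comp_apply, hψC, MvPolynomial.map_C]
        exact RingHom.congr_fun hL.comm w
      · intro j
        rw [RingHom.comp_apply, RingHom.comp_apply, hψX, hXl, MvPolynomial.map_X]
    exact fun g => RingHom.congr_fun this g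
  have hψsurj1 : ∀ b : B, ∃ g b1, b = ψ g + (p : B) * b1 := by
    intro b
    obtain ⟨r, hr⟩ := Ideal.Quotient.mk_surjective (π b)
    obtain ⟨g, rfl⟩ := hρsurj r
    have h0 : π (b - ψ g) = 0 := by rw [map_sub, hπψ, hr, sub_self]
    obtain ⟨b1, hb1⟩ := Groth.Agent.Lib.helper22.W2Lift.exists_of_pi_eq_zero hL h0
    exact ⟨g, b1, by rw [← hb1]; ring⟩
  have hψsurj : Function.Surjective ψ := by
    intro b
    obtain ⟨g0, b1, h0⟩ := hψsurj1 b
    obtain ⟨g1, b2, h1⟩ := hψsurj1 b1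
    refine ⟨g0 + (p : MvPolynomial s (FrobAlg.W2 p k)) * g1, ?_⟩
    rw [map_add, hψp, h0, h1]
    linear_combination (-b2) * hppB
  refine ⟨ψ, hψC, hπψ, hψsurj, ?_⟩
  intro b hb
  obtain ⟨b1, hb1⟩ := Groth.Agent.Lib.helper22.W2Lift.exists_of_pi_eq_zero hL hb
  obtain ⟨u, rfl⟩ := hψsurj b1
  exact ⟨u, by rw [hψp, hb1]⟩

/-- The necessary condition for Frobenius liftability of `k[x_s]/(f_t)`. -/
theorem exists_of_isFLiftable {t : Type w} (f : t → MvPolynomial s k)
    (hF : FrobAlg.IsFLiftable p k (MvPolynomial s k ⧸ Ideal.span (Set.range f))) :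
    ∃ (f' : t → MvPolynomial s (FrobAlg.W2 p k)) (h : s → MvPolynomial s (FrobAlg.W2 p k)),
      (∀ i, MvPolynomial.map (FrobAlg.res p k) (f' i) = f i) ∧
      ∀ i, FrobAlg.polyFrob p k s (f' i) - f' i ^ p
        - (p : MvPolynomial s (FrobAlg.W2 p k)) * ∑ j, MvPolynomial.pderiv j (f' i) ^ p * h j
        ∈ Ideal.span {(p : MvPolynomial s (FrobAlg.W2 p k))} * Ideal.span (Set.range f') := by
  classical
  have hp0 : p ≠ 0 := (Fact.out : p.Prime).ne_zero
  have hρsurj := map_res_surjective (p := p) (k := k) (s := s)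
  have hpp := Groth.Agent.Lib.helper22.W2Poly.p_mul_p_poly p k s
  have hmapJ : ∀ f' : t → MvPolynomial s (FrobAlg.W2 p k),
      (∀ i, MvPolynomial.map (FrobAlg.res p k) (f' i) = f i) →
      Ideal.map (MvPolynomial.map (FrobAlg.res p k)) (Ideal.span (Set.range f')) =
        Ideal.span (Set.range f) := by
    intro f' hf'
    rw [Ideal.map_span, ← Set.range_comp]
    congr 2
    funext i
    exact hf' i
  obtain ⟨B', _, ι, π, Φ, hΦ⟩ := hF
  have hL : FrobAlg.IsLift p k (MvPolynomial s k ⧸ Ideal.span (Set.range f)) B' ι π :=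
    hΦ.toIsLift
  obtain ⟨ψ, hψC, hπψ, hψsurj, hcorr⟩ := exists_pres (Ideal.span (Set.range f)) hL
  have hψp : ∀ g, ψ ((p : MvPolynomial s (FrobAlg.W2 p k)) * g) = (p : B') * ψ g := by
    intro g
    rw [map_mul, map_natCast]
  have hfl : ∀ i, ∃ g' : MvPolynomial s (FrobAlg.W2 p k),
      ψ g' = 0 ∧ MvPolynomial.map (FrobAlg.res p k) g' = f i := by
    intro i
    obtain ⟨g0, hg0⟩ := hρsurj (f i)
    have h0 : π (ψ g0) = 0 := by
      rw [hπψ, hg0, Ideal.Quotient.eq_zero_iff_mem]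
      exact Ideal.subset_span ⟨i, rfl⟩
    obtain ⟨u, hu⟩ := hcorr _ h0
    refine ⟨g0 - (p : MvPolynomial s (FrobAlg.W2 p k)) * u, ?_, ?_⟩
    · rw [map_sub, ← hu, sub_self]
    · rw [map_sub, map_mul, Groth.Agent.Lib.helper22.W2Poly.map_res_natCast, zero_mul, sub_zero,
        hg0]
  choose f' hf'K hf'ρ using hfl
  have hJ'K : ∀ x ∈ Ideal.span (Set.range f'), ψ x = 0 := by
    intro x hx
    have hle : Ideal.span (Set.range f') ≤ RingHom.ker ψ := by
      rw [Ideal.span_le]
      rintro _ ⟨i, rfl⟩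
      exact hf'K i
    exact hle hx
  have hdec : ∀ x : MvPolynomial s (FrobAlg.W2 p k), π (ψ x) = 0 →
      ∃ x1 ∈ Ideal.span (Set.range f'), ∃ y, x = x1 + (p : MvPolynomial s (FrobAlg.W2 p k)) * y := by
    intro x hx
    rw [hπψ, Ideal.Quotient.eq_zero_iff_mem, ← hmapJ f' hf'ρ,
      Ideal.mem_map_iff_of_surjective _ hρsurj] at hx
    obtain ⟨x1, hx1, hx1e⟩ := hx
    obtain ⟨y, hy⟩ := Groth.Agent.Lib.helper22.W2Poly.exists_eq_p_mul_of_map_res_eq_zero p k
      s (x - x1) (by rw [map_sub, hx1e, sub_self])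
    exact ⟨x1, hx1, y, by rw [← hy]; ring⟩
  have hKJ' : ∀ x, ψ x = 0 → x ∈ Ideal.span (Set.range f') := by
    intro x hx
    obtain ⟨x1, hx1, y, rfl⟩ := hdec x (by rw [hx, map_zero])
    rw [map_add, hJ'K x1 hx1, zero_add, hψp] at hx
    obtain ⟨b, hb⟩ := Groth.Agent.Lib.helper22.W2Lift.exists_of_p_mul_eq_zero hL hx
    obtain ⟨y1, hy1, z, rfl⟩ := hdec y (by
      rw [hb]; exact Groth.Agent.Lib.helper22.W2Lift.pi_p_mul hL b)
    have : (p : MvPolynomial s (FrobAlg.W2 p k)) *
        (y1 + (p : MvPolynomial s (FrobAlg.W2 p k)) * z) =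
        (p : MvPolynomial s (FrobAlg.W2 p k)) * y1 := by
      linear_combination z * hpp
    rw [this]
    exact Ideal.add_mem _ hx1 (Ideal.mul_mem_left _ _ hy1)
  have hh : ∀ j : s, ∃ hj : MvPolynomial s (FrobAlg.W2 p k),
      Φ (ψ (MvPolynomial.X j)) = ψ (MvPolynomial.X j ^ p -
        (p : MvPolynomial s (FrobAlg.W2 p k)) * hj) := by
    intro j
    obtain ⟨u, hu⟩ := hcorr (Φ (ψ (MvPolynomial.X j)) - ψ (MvPolynomial.X j) ^ p)
      (by rw [map_sub, hΦ.red, map_pow, sub_self])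
    refine ⟨-u, ?_⟩
    rw [map_sub, map_pow, mul_neg, map_neg, ← hu]
    ring
  choose h hh using hh
  refine ⟨f', h, hf'ρ, fun i => ?_⟩
  have hcomp : Φ.comp ψ = ψ.comp (Groth.Agent.Lib.helper22.W2Poly.twist p k s h) := by
    apply MvPolynomial.ringHom_ext
    · intro w
      rw [RingHom.comp_apply, RingHom.comp_apply, Groth.Agent.Lib.helper22.W2Poly.twist_C, hψC,
        hψC]
      exact RingHom.congr_fun hΦ.semi w
    · intro j
      rw [RingHom.comp_apply, RingHom.comp_apply, Groth.Agent.Lib.helper22.W2Poly.twist_X, hh]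
  have hΨ : Groth.Agent.Lib.helper22.W2Poly.twist p k s h (f' i) ∈
      Ideal.span (Set.range f') := by
    apply hKJ'
    have := RingHom.congr_fun hcomp (f' i)
    rw [RingHom.comp_apply, RingHom.comp_apply, hf'K i, map_zero] at this
    exact this.symm
  rw [Groth.Agent.Lib.helper22.W2Poly.twist_apply] at hΨ
  set E := FrobAlg.polyFrob p k s (f' i) - f' i ^ p
      - (p : MvPolynomial s (FrobAlg.W2 p k)) * ∑ j, MvPolynomial.pderiv j (f' i) ^ p * h j
    with hE
  have hEJ : E ∈ Ideal.span (Set.range f') := by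
    have : E = (FrobAlg.polyFrob p k s (f' i) -
        (p : MvPolynomial s (FrobAlg.W2 p k)) * ∑ j, MvPolynomial.pderiv j (f' i) ^ p * h j)
        - f' i ^ p := by rw [hE]; ring
    rw [this]
    have hfi : f' i ∈ Ideal.span (Set.range f') := Ideal.subset_span ⟨i, rfl⟩
    exact Ideal.sub_mem _ hΨ (Ideal.pow_mem_of_mem _ hfi p (Nat.pos_of_ne_zero hp0))
  obtain ⟨e, he⟩ := Groth.Agent.Lib.helper22.W2Poly.exists_eq_p_mul_of_map_res_eq_zero p k
    s E (by
      rw [hE, map_sub, map_sub, Groth.Agent.Lib.helper22.W2Poly.map_res_polyFrob, map_pow,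
        hf'ρ, sub_self, map_mul, Groth.Agent.Lib.helper22.W2Poly.map_res_natCast, zero_mul,
        sub_zero])
  have h1 : (p : B') * ψ e = 0 := by
    rw [← hψp, ← he]
    exact hJ'K E hEJ
  obtain ⟨b, hb⟩ := Groth.Agent.Lib.helper22.W2Lift.exists_of_p_mul_eq_zero hL h1
  obtain ⟨y', rfl⟩ := hψsurj b
  have h2 : e - (p : MvPolynomial s (FrobAlg.W2 p k)) * y' ∈ Ideal.span (Set.range f') := by
    apply hKJ'
    rw [map_sub, hψp, hb, sub_self]
  have h3 : E = (p : MvPolynomial s (FrobAlg.W2 p k)) *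
      (e - (p : MvPolynomial s (FrobAlg.W2 p k)) * y') := by
    rw [he]
    linear_combination y' * hpp
  rw [h3]
  exact Ideal.mul_mem_mul (Ideal.mem_span_singleton_self _) h2

end Groth.Agent.Lib.helper22.W2Pres
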