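import Mathlib
import Groth.Prelude.Def_W4c1liftfrobW2
import Groth.Agent.Lib.Helper22.W2Poly

set_option autoImplicit false
set_option linter.unusedSectionVars false
universe u v

namespace Groth.Agent.Lib.helper22.W2Quadric

open MvPolynomial

section general
variable {W : Type*} [CommRing W] {n : ℕ}

/-- the split quadric -/
noncomputable def quad (W : Type*) [CommRing W] (n : ℕ) : MvPolynomial (Fin n × Fin 2) W :=
  ∑ i : Fin n, X (i, (0 : Fin 2)) * X (i, (1 : Fin 2))

/-- exponent vector `(i,j) ↦ κ i`. -/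
noncomputable def nu (κ : Fin n → ℕ) : (Fin n × Fin 2) →₀ ℕ :=
  Finsupp.equivFunOnFinite.symm fun v => κ v.1

theorem nu_apply (κ : Fin n → ℕ) (v : Fin n × Fin 2) : nu κ v = κ v.1 := rfl

theorem nu_injective : Function.Injective (nu (n := n)) := by
  intro a b h
  funext i
  have := DFunLike.congr_fun h (i, 0)
  simpa [nu_apply] using this

theorem prod_eq_monomial (κ : Fin n → ℕ) :
    ∏ i : Fin n, ((X (i, (0 : Fin 2)) * X (i, (1 : Fin 2)) : MvPolynomial (Fin n × Fin 2) W)) ^ κ i =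
      monomial (nu κ) 1 := by
  rw [MvPolynomial.monomial_eq, C_1, one_mul, Finsupp.prod_fintype _ _ (fun _ => pow_zero _),
    Fintype.prod_prod_type]
  refine Finset.prod_congr rfl fun i _ => ?_
  rw [Fin.prod_univ_two, mul_pow]
  rfl

theorem coeff_nu_quad_pow (κ : Fin n → ℕ) (N : ℕ) :
    coeff (nu κ) (quad W n ^ N) =
      if ∑ i, κ i = N then (Nat.multinomial Finset.univ κ : W) else 0 := by
  classical
  unfold quad
  rw [Finset.sum_pow_eq_sum_piAntidiag, coeff_sum]
  simp_rw [prod_eq_monomial]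
  have : ∀ x ∈ Finset.piAntidiag (Finset.univ : Finset (Fin n)) N,
      coeff (nu κ) (((Nat.multinomial Finset.univ x : ℕ) : MvPolynomial (Fin n × Fin 2) W) *
        monomial (nu x) 1) = if x = κ then (Nat.multinomial Finset.univ κ : W) else 0 := by
    intro x _
    have h1 : ((Nat.multinomial Finset.univ x : ℕ) : MvPolynomial (Fin n × Fin 2) W) =
        C ((Nat.multinomial Finset.univ x : ℕ) : W) := by simp
    rw [h1, coeff_C_mul, coeff_monomial]
    by_cases hx : x = κ
    · subst hx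
      simp
    · have : nu x ≠ nu κ := fun h => hx (nu_injective h)
      simp [this, hx]
  rw [Finset.sum_congr rfl this, Finset.sum_ite_eq']
  simp [Finset.mem_piAntidiag]

theorem coeff_nu_of_mem {p : ℕ} (κ : Fin n → ℕ) (hκ : ∀ i, κ i < p)
    (x : MvPolynomial (Fin n × Fin 2) W)
    (hx : x ∈ Ideal.span (Set.range fun v : Fin n × Fin 2 =>
      (X v : MvPolynomial (Fin n × Fin 2) W) ^ p)) :
    coeff (nu κ) x = 0 := by
  classical
  rw [Ideal.mem_span_range_iff_exists_fun] at hx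
  obtain ⟨c, rfl⟩ := hx
  rw [coeff_sum]
  refine Finset.sum_eq_zero fun v _ => ?_
  rw [X_pow_eq_monomial, coeff_mul_monomial']
  rw [if_neg]
  intro hle
  have := hle v
  rw [Finsupp.single_eq_same, nu_apply] at this
  exact absurd (hκ v.1) (not_lt.mpr this)

end general

section arith
variable (p : ℕ) [Fact p.Prime] (k : Type u) [Field k] [CharP k p] [PerfectRing k p]

/-- a natural number of `p`-adic valuation one is nonzero in `W₂(k)`. -/
theorem natCast_ne_zero_of_padicValNat (m : ℕ) (hm : m ≠ 0) (hv : padicValNat p m = 1) :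
    (m : FrobAlg.W2 p k) ≠ 0 := by
  have h1 : p ∣ m := by
    have := pow_padicValNat_dvd (p := p) (n := m)
    rwa [hv, pow_one] at this
  obtain ⟨u, rfl⟩ := h1
  have h2 : ¬ p ∣ u := by
    intro hu
    have := pow_succ_padicValNat_not_dvd (p := p) hm
    rw [hv] at this
    apply this
    obtain ⟨w, rfl⟩ := hu
    exact ⟨w, by ring⟩
  have hu0 : ((u : ℕ) : k) ≠ 0 := by
    rw [Ne, CharP.cast_eq_zero_iff k p u]
    exact h2
  have hunit : IsUnit ((u : ℕ) : FrobAlg.W2 p k) := by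
    apply Groth.Agent.Lib.helper24.WittTrunc.isUnit_of_c0_ne_zero p k 1
    rw [map_natCast]
    exact hu0
  intro h0
  rw [Nat.cast_mul] at h0
  have := hunit.mul_left_eq_zero.mp h0
  exact Groth.Agent.Lib.Helper19.W2Flat.p_ne_zero p k this

/-- the exponent vector `(p-1, p-1, 1, 0, …)` -/
def kappa (n : ℕ) (hn : 3 ≤ n) : Fin n → ℕ := fun i =>
  (if i = ⟨0, by omega⟩ then p - 1 else 0) + (if i = ⟨1, by omega⟩ then p - 1 else 0) +
    (if i = ⟨2, by omega⟩ then 1 else 0)

theorem kappa_lt (n : ℕ) (hn : 3 ≤ n) (i : Fin n) : kappa p n hn i < p := by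
  have hp2 : 2 ≤ p := (Fact.out : p.Prime).two_le
  unfold kappa
  by_cases h0 : i = ⟨0, by omega⟩
  · subst h0
    simp [Fin.ext_iff]
    omega
  · by_cases h1 : i = ⟨1, by omega⟩
    · subst h1
      simp [Fin.ext_iff]
      omega
    · by_cases h2 : i = ⟨2, by omega⟩
      · subst h2
        simp [Fin.ext_iff]
        omega
      · simp [h0, h1, h2]
        omega

theorem sum_kappa (n : ℕ) (hn : 3 ≤ n) : ∑ i, kappa p n hn i = 2 * p - 1 := by
  have hp2 : 2 ≤ p := (Fact.out : p.Prime).two_le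
  unfold kappa
  rw [Finset.sum_add_distrib, Finset.sum_add_distrib, Finset.sum_ite_eq', Finset.sum_ite_eq',
    Finset.sum_ite_eq']
  simp
  omega

theorem multinomial_kappa_ne_zero (n : ℕ) (hn : 3 ≤ n) :
    (Nat.multinomial Finset.univ (kappa p n hn) : FrobAlg.W2 p k) ≠ 0 := by
  have hp2 : 2 ≤ p := (Fact.out : p.Prime).two_le
  have hspec := Nat.multinomial_spec (Finset.univ : Finset (Fin n)) (kappa p n hn)
  rw [sum_kappa] at hspec
  have hv : padicValNat p (2 * p - 1).factorial = 1 := by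
    have e : 2 * p - 1 = p * 1 + (p - 1) := by omega
    rw [e, padicValNat_factorial_mul_add 1 (by omega : p - 1 < p), padicValNat_factorial_mul]
    simp
  have hne := natCast_ne_zero_of_padicValNat p k _ (Nat.factorial_ne_zero _) hv
  intro h0
  apply hne
  rw [← hspec, Nat.cast_mul, h0, mul_zero]

end arith

section main
variable (p : ℕ) [Fact p.Prime] (k : Type u) [Field k] [CharP k p] [PerfectRing k p]
variable (n : ℕ)

theorem coeff_kappa_quad_pow_ne_zero (hn : 3 ≤ n) :
    coeff (nu (kappa p n hn)) (quad (FrobAlg.W2 p k) n ^ (2 * p - 1)) ≠ 0 := by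
  rw [coeff_nu_quad_pow, if_pos (sum_kappa p n hn)]
  exact multinomial_kappa_ne_zero p k n hn

theorem coeff_kappa_quad_pow_pred (hn : 3 ≤ n) :
    coeff (nu (kappa p n hn)) (quad (FrobAlg.W2 p k) n ^ (p - 1)) = 0 := by
  have hp2 : 2 ≤ p := (Fact.out : p.Prime).two_le
  rw [coeff_nu_quad_pow, if_neg]
  rw [sum_kappa p n hn]
  omega

/-- The key nonvanishing: `(∑ xᵢ yᵢ)^(2p-1) ∉ (x^p, y^p)` over `W₂(k)` when `n ≥ 3`. -/
theorem quad_pow_not_mem (hn : 3 ≤ n) :
    quad (FrobAlg.W2 p k) n ^ (2 * p - 1) ∉ Ideal.span (Set.range fun v : Fin n × Fin 2 =>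
      (X v : MvPolynomial (Fin n × Fin 2) (FrobAlg.W2 p k)) ^ p) := fun h =>
  coeff_kappa_quad_pow_ne_zero p k n hn (coeff_nu_of_mem _ (kappa_lt p n hn) _ h)

theorem polyFrob_quad :
    FrobAlg.polyFrob p k (Fin n × Fin 2) (quad (FrobAlg.W2 p k) n) =
      ∑ i : Fin n, (X (i, (0 : Fin 2)) : MvPolynomial (Fin n × Fin 2) (FrobAlg.W2 p k)) ^ p *
        X (i, (1 : Fin 2)) ^ p := by
  unfold quad
  rw [map_sum]
  refine Finset.sum_congr rfl fun i _ => ?_
  rw [map_mul, Groth.Agent.Lib.helper22.W2Poly.polyFrob_X,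
    Groth.Agent.Lib.helper22.W2Poly.polyFrob_X]

theorem polyFrob_quad_mem :
    FrobAlg.polyFrob p k (Fin n × Fin 2) (quad (FrobAlg.W2 p k) n) ∈
      Ideal.span (Set.range fun v : Fin n × Fin 2 =>
        (X v : MvPolynomial (Fin n × Fin 2) (FrobAlg.W2 p k)) ^ p) := by
  rw [polyFrob_quad]
  refine Ideal.sum_mem _ fun i _ => ?_
  exact Ideal.mul_mem_right _ _ (Ideal.subset_span ⟨(i, 0), rfl⟩)

theorem polyFrob_sub_C_mem (g : MvPolynomial (Fin n × Fin 2) (FrobAlg.W2 p k)) :
    ∃ w : FrobAlg.W2 p k, FrobAlg.polyFrob p k (Fin n × Fin 2) g - C w ∈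
      Ideal.span (Set.range fun v : Fin n × Fin 2 =>
        (X v : MvPolynomial (Fin n × Fin 2) (FrobAlg.W2 p k)) ^ p) := by
  induction g using MvPolynomial.induction_on with
  | C a =>
    refine ⟨FrobAlg.sigma p k a, ?_⟩
    rw [Groth.Agent.Lib.helper22.W2Poly.polyFrob_C, sub_self]
    exact Ideal.zero_mem _
  | add a b ha hb =>
    obtain ⟨wa, hwa⟩ := ha
    obtain ⟨wb, hwb⟩ := hb
    refine ⟨wa + wb, ?_⟩
    have : FrobAlg.polyFrob p k (Fin n × Fin 2) (a + b) - C (wa + wb) =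
        (FrobAlg.polyFrob p k (Fin n × Fin 2) a - C wa) +
          (FrobAlg.polyFrob p k (Fin n × Fin 2) b - C wb) := by
      rw [map_add, map_add]; ring
    rw [this]
    exact Ideal.add_mem _ hwa hwb
  | mul_X a i _ =>
    refine ⟨0, ?_⟩
    rw [map_zero, sub_zero, map_mul, Groth.Agent.Lib.helper22.W2Poly.polyFrob_X]
    exact Ideal.mul_mem_left _ _ (Ideal.subset_span ⟨i, rfl⟩)

theorem map_res_quad :
    MvPolynomial.map (FrobAlg.res p k) (quad (FrobAlg.W2 p k) n) = quad k n := by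
  unfold quad
  rw [map_sum]
  refine Finset.sum_congr rfl fun i _ => ?_
  rw [map_mul, MvPolynomial.map_X, MvPolynomial.map_X]

end main

end Groth.Agent.Lib.helper22.W2Quadric
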