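import Mathlib

/-!
# helper22: the functional equation of a Weil polynomial

`P ∈ ℤ[X]` monic with simple complex roots, all of absolute value `√q`. Then
`x^n P(q/x) = P(0) P(x)`.
-/

set_option autoImplicit false
universe u

open Polynomial

namespace Groth.Agent.Lib.helper22.WeilFE

theorem conj_root (P : ℤ[X]) (z : ℂ) (hz : (P.map (Int.castRingHom ℂ)).eval z = 0) :
    (P.map (Int.castRingHom ℂ)).eval ((starRingEnd ℂ) z) = 0 := by
  rw [eval_map] at hz ⊢
  have h := Polynomial.hom_eval₂ P (Int.castRingHom ℂ) (starRingEnd ℂ) z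
  have hc : (starRingEnd ℂ).comp (Int.castRingHom ℂ) = Int.castRingHom ℂ := RingHom.ext_int _ _
  rw [hc, hz, map_zero] at h
  exact h.symm

/-- the reversed polynomial `x^n P(q/x)` -/
noncomputable def rev (P : ℤ[X]) (q : ℤ) : ℤ[X] :=
  ∑ j ∈ Finset.range (P.natDegree + 1), C (P.coeff j * q ^ j) * X ^ (P.natDegree - j)

theorem rev_coeff (P : ℤ[X]) (q : ℤ) (m : ℕ) (hm : m ≤ P.natDegree) :
    (rev P q).coeff (P.natDegree - m) = P.coeff m * q ^ m := by
  rw [rev, finsetSum_coeff]
  rw [Finset.sum_eq_single m]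
  · rw [coeff_C_mul, coeff_X_pow, if_pos rfl, mul_one]
  · intro j hj hjm
    rw [Finset.mem_range] at hj
    rw [coeff_C_mul, coeff_X_pow, if_neg (by omega), mul_zero]
  · intro h
    exfalso
    apply h
    rw [Finset.mem_range]
    omega

theorem rev_natDegree_le (P : ℤ[X]) (q : ℤ) : (rev P q).natDegree ≤ P.natDegree := by
  rw [rev]
  apply natDegree_sum_le_of_forall_le
  intro j _
  apply (natDegree_C_mul_le _ _).trans
  apply (natDegree_X_pow_le _).trans
  omega

/-- evaluation of the reversed polynomial -/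
theorem rev_eval {L : Type u} [Field L] (P : ℤ[X]) (q : ℤ) (z : L) (hz : z ≠ 0) :
    aeval z (rev P q) = z ^ P.natDegree * aeval ((q : L) / z) P := by
  rw [rev, map_sum, aeval_eq_sum_range, Finset.mul_sum]
  refine Finset.sum_congr rfl fun j hj => ?_
  rw [Finset.mem_range] at hj
  rw [map_mul, aeval_C, map_pow, aeval_X]
  have hzn : z ^ P.natDegree = z ^ (P.natDegree - j) * z ^ j := by
    rw [← pow_add]
    congr 1
    omega
  rw [hzn, div_pow, eq_intCast, Int.cast_mul, Int.cast_pow, zsmul_eq_mul]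
  field_simp

theorem FE (P : ℤ[X]) (hm : P.Monic) (hsep : (P.map (Int.castRingHom ℂ)).Separable)
    (q : ℤ) (hq : 0 < q) (hweil : ∀ z ∈ P.aroots ℂ, ‖z‖ = Real.sqrt (q : ℝ)) :
    rev P q = C (P.coeff 0) * P := by
  classical
  set φ : ℤ →+* ℂ := Int.castRingHom ℂ with hφ
  set Pc : ℂ[X] := P.map φ with hPc
  set n := P.natDegree with hn
  have hPcm : Pc.Monic := hm.map φ
  have hPc0 : Pc ≠ 0 := hPcm.ne_zero
  have hPcdeg : Pc.natDegree = n := hm.natDegree_map φ
  have hsplit : Pc.Splits := IsAlgClosed.splits Pc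
  set S : Multiset ℂ := Pc.roots with hS
  have hSa : P.aroots ℂ = S := by
    rw [hS, hPc, Polynomial.aroots_def, algebraMap_int_eq]
  rw [hSa] at hweil
  have hcard : Multiset.card S = n := by
    rw [← hPcdeg]
    exact (splits_iff_card_roots.mp hsplit)
  have hnodup : S.Nodup := nodup_roots hsep
  set T : Finset ℂ := S.toFinset with hT
  have hTcard : T.card = n := by
    rw [hT, Multiset.toFinset_card_of_nodup hnodup, hcard]
  have hmemT : ∀ z, z ∈ T ↔ z ∈ S := fun z => Multiset.mem_toFinset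
  have hroot : ∀ z ∈ S, Pc.eval z = 0 := fun z hz => (mem_roots hPc0).mp hz
  have hconj : ∀ z ∈ S, (starRingEnd ℂ) z ∈ S := by
    intro z hz
    rw [hS, mem_roots hPc0]
    exact conj_root P z (hroot z hz)
  have hqR : (0 : ℝ) ≤ (q : ℝ) := by exact_mod_cast hq.le
  have hqC : (q : ℂ) ≠ 0 := by exact_mod_cast hq.ne'
  have hmul : ∀ z ∈ S, z * (starRingEnd ℂ) z = (q : ℂ) := by
    intro z hz
    rw [Complex.mul_conj, Complex.normSq_eq_norm_sq, hweil z hz, Real.sq_sqrt hqR]
    simp
  have hQroot : ∀ z ∈ S, ((rev P q).map φ).eval z = 0 := by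
    intro z hz
    have hz0 : z ≠ 0 := by
      intro h
      have := hmul z hz
      rw [h, zero_mul] at this
      exact hqC this.symm
    have hc : (starRingEnd ℂ) z = (q : ℂ) / z := by
      rw [eq_div_iff hz0, mul_comm]
      exact hmul z hz
    have h1 : Pc.eval ((q : ℂ) / z) = 0 := by
      rw [← hc]
      exact hroot _ (hconj z hz)
    have h2 := rev_eval P q z hz0
    rw [aeval_def, ← eval_map, algebraMap_int_eq] at h2
    rw [h2]
    rw [aeval_def, ← eval_map, algebraMap_int_eq, h1, mul_zero]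
  apply Polynomial.map_injective φ Int.cast_injective
  rw [Polynomial.map_mul, Polynomial.map_C, ← sub_eq_zero]
  set D : ℂ[X] := (rev P q).map φ - C (φ (P.coeff 0)) * Pc with hD
  by_contra hD0
  have hDdeg : D.natDegree ≤ n := by
    rw [hD]
    apply (natDegree_sub_le _ _).trans
    apply max_le
    · exact (natDegree_map_le).trans (rev_natDegree_le P q)
    · apply (natDegree_C_mul_le _ _).trans
      rw [hPcdeg]
  have hDn : D.coeff n = 0 := by
    rw [hD, coeff_sub, coeff_C_mul, coeff_map]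
    have h1 := rev_coeff P q 0 (Nat.zero_le _)
    rw [Nat.sub_zero, pow_zero, mul_one] at h1
    rw [h1]
    have h2 : Pc.coeff n = 1 := by
      rw [← hPcdeg]
      exact hPcm.coeff_natDegree
    rw [h2, mul_one, sub_self]
  have hlt : D.natDegree < n := by
    rcases lt_or_eq_of_le hDdeg with h | h
    · exact h
    · exfalso
      have : D.leadingCoeff = 0 := by
        rw [leadingCoeff, h]
        exact hDn
      exact hD0 (leadingCoeff_eq_zero.mp this)
  apply hD0
  apply eq_zero_of_natDegree_lt_card_of_eval_eq_zero' D T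
  · intro z hz
    have hzS := (hmemT z).mp hz
    rw [hD, eval_sub, eval_mul, hQroot z hzS, hroot z hzS, mul_zero, sub_zero]
  · rw [hTcard]
    exact hlt

/-- coefficient form of the functional equation -/
theorem FE_coeff (P : ℤ[X]) (hm : P.Monic) (hsep : (P.map (Int.castRingHom ℂ)).Separable)
    (q : ℤ) (hq : 0 < q) (hweil : ∀ z ∈ P.aroots ℂ, ‖z‖ = Real.sqrt (q : ℝ))
    (m : ℕ) (hmn : m ≤ P.natDegree) :
    P.coeff m * q ^ m = P.coeff 0 * P.coeff (P.natDegree - m) := by
  rw [← rev_coeff P q m hmn, FE P hm hsep q hq hweil, coeff_C_mul]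

/-- the roots are stable under `z ↦ q / z` -/
theorem FE_root {L : Type u} [Field L] (P : ℤ[X]) (hm : P.Monic)
    (hsep : (P.map (Int.castRingHom ℂ)).Separable)
    (q : ℤ) (hq : 0 < q) (hweil : ∀ z ∈ P.aroots ℂ, ‖z‖ = Real.sqrt (q : ℝ))
    (z : L) (hz0 : z ≠ 0) (hz : aeval z P = 0) : aeval ((q : L) / z) P = 0 := by
  have h1 := rev_eval P q z hz0
  rw [FE P hm hsep q hq hweil, map_mul, hz, mul_zero] at h1
  rcases mul_eq_zero.mp h1.symm with h2 | h2
  · exact absurd h2 (pow_ne_zero _ hz0)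
  · exact h2

end Groth.Agent.Lib.helper22.WeilFE
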