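import Mathlib

/-! Laurent polynomial side of the Weil-number kernel computation (helper22). -/

set_option autoImplicit false

open LaurentPolynomial Polynomial

namespace Groth.Agent.Lib.helper22.WeilKer

theorem down_induction (P : ℕ → Prop) (M₀ : ℕ) (h1 : ∀ m, M₀ ≤ m → P m)
    (h2 : ∀ m, (∀ m', m < m' → P m') → P m) : ∀ m, P m := by
  have : ∀ d m, M₀ ≤ m + d → P m := by
    intro d
    induction d with
    | zero => intro m hm; exact h1 m hm
    | succ d ih =>
      intro m hm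
      apply h2
      intro m' hm'
      exact ih m' (by omega)
  intro m
  exact this M₀ m (by omega)

theorem coeff_C_mul_T_mul (c : ℤ) (k : ℤ) (u : ℤ[T;T⁻¹]) (n : ℤ) :
    (LaurentPolynomial.C c * T k * u).coeff n = c * u.coeff (n - k) := by
  rw [← single_eq_C_mul_T, AddMonoidAlgebra.coeff_single_mul_apply]
  congr 2
  ring

theorem coeff_toLaurent_mul (P : ℤ[X]) (u : ℤ[T;T⁻¹]) (n : ℤ) :
    (toLaurent P * u).coeff n =
      ∑ k ∈ Finset.range (P.natDegree + 1), P.coeff k * u.coeff (n - k) := by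
  conv_lhs => rw [P.as_sum_range_C_mul_X_pow]
  rw [map_sum, Finset.sum_mul]
  simp_rw [Polynomial.toLaurent_C_mul_X_pow]
  have : ∀ (s : Finset ℕ) (f : ℕ → ℤ[T;T⁻¹]), (∑ k ∈ s, f k).coeff n = ∑ k ∈ s, (f k).coeff n := by
    intro s f
    classical
    induction s using Finset.induction_on with
    | empty => simp
    | insert a s ha ih => rw [Finset.sum_insert ha, Finset.sum_insert ha, ← ih]; rfl
  rw [this]
  refine Finset.sum_congr rfl fun k _ => ?_
  rw [coeff_C_mul_T_mul]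

theorem exists_bound (u : ℤ[T;T⁻¹]) : ∃ M₀ : ℕ, ∀ m : ℕ, M₀ ≤ m → u.coeff (-(m : ℤ)) = 0 := by
  refine ⟨u.coeff.support.sup Int.natAbs + 1, fun m hm => ?_⟩
  by_contra h
  have hmem : (-(m : ℤ)) ∈ u.coeff.support := Finsupp.mem_support_iff.mpr h
  have := Finset.le_sup (f := Int.natAbs) hmem
  simp at this
  omega

theorem key (q : ℤ) (hq : q ≠ 0) (D : ℕ) (P : ℤ[X]) (ε : ℤˣ) (h0 : P.coeff 0 = ε * q ^ D)
    (hc : ∀ k, k ≤ D → q ^ (D - k) ∣ P.coeff k)
    (u : ℤ[T;T⁻¹]) (hu : ∀ m : ℕ, q ^ (m + D) ∣ (toLaurent P * u).coeff (-(m : ℤ))) :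
    ∀ m : ℕ, q ^ m ∣ u.coeff (-(m : ℤ)) := by
  obtain ⟨M₀, hM₀⟩ := exists_bound u
  refine down_induction (fun m => q ^ m ∣ u.coeff (-(m : ℤ))) M₀ ?_ ?_
  · intro m hm
    rw [hM₀ m hm]
    exact dvd_zero _
  · intro m ih
    have h1 := hu m
    rw [coeff_toLaurent_mul, Finset.sum_range_succ'] at h1
    have h2 : q ^ (m + D) ∣ ∑ k ∈ Finset.range P.natDegree,
        P.coeff (k + 1) * u.coeff (-(m : ℤ) - ((k + 1 : ℕ) : ℤ)) := by
      refine Finset.dvd_sum fun k _ => ?_
      have hu' : q ^ (m + (k + 1)) ∣ u.coeff (-(m : ℤ) - ((k + 1 : ℕ) : ℤ)) := by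
        have := ih (m + (k + 1)) (by omega)
        have e : -(((m + (k + 1) : ℕ)) : ℤ) = -(m : ℤ) - ((k + 1 : ℕ) : ℤ) := by push_cast; ring
        rwa [e] at this
      by_cases hk : k + 1 ≤ D
      · have := mul_dvd_mul (hc (k + 1) hk) hu'
        rw [← pow_add] at this
        have e : D - (k + 1) + (m + (k + 1)) = m + D := by omega
        rwa [e] at this
      · exact dvd_mul_of_dvd_right (dvd_trans (pow_dvd_pow q (by omega)) hu') _
    have h3 := (dvd_add_right h2).mp h1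
    simp only [Nat.cast_zero, sub_zero] at h3
    rw [h0, mul_assoc, pow_add, mul_comm (q ^ m)] at h3
    have h4 : q ^ D * q ^ m ∣ q ^ D * u.coeff (-(m : ℤ)) := by
      have := (ε.isUnit.dvd_mul_left (a := q ^ D * q ^ m)
        (b := q ^ D * u.coeff (-(m : ℤ)))).mp
      exact this h3
    exact (mul_dvd_mul_iff_left (pow_ne_zero D hq)).mp h4

end Groth.Agent.Lib.helper22.WeilKer
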