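import Mathlib

/-! The map `ℤ[F,V] → ℤ[T,T⁻¹]`, `F ↦ T`, `V ↦ q T⁻¹`: kernel and image (helper22). -/

set_option autoImplicit false

open LaurentPolynomial

namespace Groth.Agent.Lib.helper22.WeilKer

local notation "RR" => MvPolynomial (Fin 2) ℤ

variable (q : ℤ)

/-- `F ↦ T`, `V ↦ q T⁻¹`. -/
noncomputable def psi : RR →ₐ[ℤ] ℤ[T;T⁻¹] :=
  MvPolynomial.aeval ![(T 1 : ℤ[T;T⁻¹]), C q * T (-1)]

/-- `FV - q`. -/
noncomputable def rho : RR := MvPolynomial.X 0 * MvPolynomial.X 1 - MvPolynomial.C q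

theorem psi_X0 : psi q (MvPolynomial.X 0) = T 1 := by simp [psi]

theorem psi_X1 : psi q (MvPolynomial.X 1) = C q * T (-1) := by simp [psi]

theorem psi_C (c : ℤ) : psi q (MvPolynomial.C c) = C c := by
  simp [psi]

theorem psi_rho : psi q (rho q) = 0 := by
  rw [rho, map_sub, map_mul, psi_X0, psi_X1, psi_C, mul_left_comm, ← T_add]
  simp

theorem psi_monomial (m : Fin 2 →₀ ℕ) (c : ℤ) :
    psi q (MvPolynomial.monomial m c) = C (c * q ^ (m 1)) * T ((m 0 : ℤ) - (m 1 : ℤ)) := by
  rw [MvPolynomial.monomial_eq, map_mul, psi_C, Finsupp.prod_fintype _ _ (fun i => by simp),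
    Fin.prod_univ_two, map_mul, map_pow, map_pow, psi_X0, psi_X1, mul_pow, T_pow, T_pow, map_mul,
    map_pow]
  rw [mul_assoc (C c)]
  congr 1
  rw [mul_left_comm, ← T_add]
  congr 2
  ring

theorem psi_aeval_X0 (g : Polynomial ℤ) :
    psi q (Polynomial.aeval (MvPolynomial.X 0 : RR) g) = Polynomial.toLaurent g := by
  induction g using Polynomial.induction_on' with
  | add p r hp hr => rw [map_add, map_add, map_add, hp, hr]
  | monomial n a =>
    rw [Polynomial.aeval_monomial, map_mul, map_pow, psi_X0, T_pow, mul_one,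
      ← Polynomial.C_mul_X_pow_eq_monomial, Polynomial.toLaurent_C_mul_X_pow]
    congr 1
    change psi q (MvPolynomial.C a) = _
    rw [psi_C]

theorem exists_poly (r : RR) : ∃ N₀ : ℕ, ∀ N, N₀ ≤ N → ∃ g : Polynomial ℤ,
    MvPolynomial.X 0 ^ N * r - Polynomial.aeval (MvPolynomial.X 0 : RR) g ∈
      Ideal.span {rho q} := by
  induction r using MvPolynomial.induction_on' with
  | monomial m c =>
    refine ⟨m 1, fun N hN => ⟨Polynomial.monomial (N + m 0 - m 1) (c * q ^ (m 1)), ?_⟩⟩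
    rw [Polynomial.aeval_monomial, MvPolynomial.monomial_eq,
      Finsupp.prod_fintype _ _ (fun i => by simp), Fin.prod_univ_two]
    have h1 : (MvPolynomial.X 0 : RR) ^ N * (MvPolynomial.C c * (MvPolynomial.X 0 ^ m 0 *
        MvPolynomial.X 1 ^ m 1)) - (algebraMap ℤ RR) (c * q ^ m 1) *
        MvPolynomial.X 0 ^ (N + m 0 - m 1) =
        MvPolynomial.C c * MvPolynomial.X 0 ^ (N + m 0 - m 1) *
          ((MvPolynomial.X 0 * MvPolynomial.X 1) ^ m 1 - (MvPolynomial.C q) ^ m 1) := by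
      have e : N + m 0 = (N + m 0 - m 1) + m 1 := by omega
      have : (MvPolynomial.X 0 : RR) ^ N * MvPolynomial.X 0 ^ m 0 =
          MvPolynomial.X 0 ^ (N + m 0 - m 1) * MvPolynomial.X 0 ^ m 1 := by
        rw [← pow_add, ← pow_add, ← e]
      rw [MvPolynomial.algebraMap_eq, map_mul, map_pow, mul_pow]
      calc (MvPolynomial.X 0 : RR) ^ N * (MvPolynomial.C c * (MvPolynomial.X 0 ^ m 0 *
              MvPolynomial.X 1 ^ m 1)) - MvPolynomial.C c * MvPolynomial.C q ^ m 1 *
              MvPolynomial.X 0 ^ (N + m 0 - m 1)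
          = MvPolynomial.C c * ((MvPolynomial.X 0 ^ N * MvPolynomial.X 0 ^ m 0) *
              MvPolynomial.X 1 ^ m 1) - MvPolynomial.C c * MvPolynomial.C q ^ m 1 *
              MvPolynomial.X 0 ^ (N + m 0 - m 1) := by ring
        _ = _ := by rw [this]; ring
    rw [h1]
    exact Ideal.mul_mem_left _ _ (Ideal.mem_span_singleton.mpr (sub_dvd_pow_sub_pow _ _ _))
  | add p r hp hr =>
    obtain ⟨N₁, h1⟩ := hp
    obtain ⟨N₂, h2⟩ := hr
    refine ⟨max N₁ N₂, fun N hN => ?_⟩
    obtain ⟨g₁, hg₁⟩ := h1 N (le_trans (le_max_left _ _) hN)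
    obtain ⟨g₂, hg₂⟩ := h2 N (le_trans (le_max_right _ _) hN)
    refine ⟨g₁ + g₂, ?_⟩
    have : MvPolynomial.X 0 ^ N * (p + r) - Polynomial.aeval (MvPolynomial.X 0 : RR) (g₁ + g₂) =
        (MvPolynomial.X 0 ^ N * p - Polynomial.aeval (MvPolynomial.X 0 : RR) g₁) +
        (MvPolynomial.X 0 ^ N * r - Polynomial.aeval (MvPolynomial.X 0 : RR) g₂) := by
      rw [map_add]; ring
    rw [this]
    exact Ideal.add_mem _ hg₁ hg₂

variable {q}

theorem X0_cancel (hq : q ≠ 0) (x : RR) (h : MvPolynomial.X 0 * x ∈ Ideal.span {rho q}) :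
    x ∈ Ideal.span {rho q} := by
  rw [Ideal.mem_span_singleton] at h ⊢
  obtain ⟨y, hy⟩ := h
  have hprime : Prime (MvPolynomial.X 0 : RR) := MvPolynomial.X_prime
  have hdvd : (MvPolynomial.X 0 : RR) ∣ rho q * y := ⟨x, hy.symm⟩
  rcases hprime.dvd_or_dvd hdvd with h1 | h1
  · exfalso
    have h2 : (MvPolynomial.X 0 : RR) ∣ MvPolynomial.C q := by
      have h3 : (MvPolynomial.X 0 : RR) ∣ MvPolynomial.X 0 * MvPolynomial.X 1 := dvd_mul_right _ _
      have := dvd_sub h3 h1
      rw [rho, sub_sub_cancel] at this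
      exact this
    rw [← MvPolynomial.monomial_zero', MvPolynomial.X_dvd_monomial] at h2
    rcases h2 with h2 | h2
    · exact hq h2
    · exact h2 rfl
  · obtain ⟨y', rfl⟩ := h1
    refine ⟨y', ?_⟩
    have hne : (MvPolynomial.X 0 : RR) ≠ 0 := MvPolynomial.X_ne_zero 0
    apply mul_left_cancel₀ hne
    rw [hy]; ring

theorem X0_pow_cancel (hq : q ≠ 0) (N : ℕ) (x : RR)
    (h : MvPolynomial.X 0 ^ N * x ∈ Ideal.span {rho q}) : x ∈ Ideal.span {rho q} := by
  induction N with
  | zero => simpa using h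
  | succ N ih =>
    apply ih
    apply X0_cancel hq
    rw [← mul_assoc, ← pow_succ']
    exact h

theorem ker_psi (hq : q ≠ 0) : RingHom.ker (psi q : RR →+* ℤ[T;T⁻¹]) = Ideal.span {rho q} := by
  apply le_antisymm
  · intro r hr
    rw [RingHom.mem_ker] at hr
    obtain ⟨N₀, hN₀⟩ := exists_poly q r
    obtain ⟨g, hg⟩ := hN₀ N₀ le_rfl
    have h1 : psi q (MvPolynomial.X 0 ^ N₀ * r - Polynomial.aeval (MvPolynomial.X 0 : RR) g) = 0 := by
      have : Ideal.span {rho q} ≤ RingHom.ker (psi q : RR →+* ℤ[T;T⁻¹]) := by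
        rw [Ideal.span_le]
        intro x hx
        rw [Set.mem_singleton_iff] at hx
        rw [hx]
        exact psi_rho q
      exact this hg
    have hr' : psi q r = 0 := hr
    rw [map_sub, map_mul, hr', mul_zero, zero_sub, neg_eq_zero, psi_aeval_X0,
      Polynomial.toLaurent_eq_zero] at h1
    rw [h1, map_zero, sub_zero] at hg
    exact X0_pow_cancel hq N₀ r hg
  · rw [Ideal.span_le]
    intro x hx
    rw [Set.mem_singleton_iff] at hx
    rw [hx]
    exact psi_rho q

variable (q)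

/-- The coefficient condition describing the image of `psi`. -/
def Cond (u : ℤ[T;T⁻¹]) : Prop := ∀ m : ℕ, q ^ m ∣ u.coeff (-(m : ℤ))

theorem cond_psi (r : RR) : Cond q (psi q r) := by
  induction r using MvPolynomial.induction_on' with
  | monomial m c =>
    intro m'
    rw [psi_monomial, ← single_eq_C_mul_T, AddMonoidAlgebra.coeff_single, Finsupp.single_apply]
    split_ifs with h
    · have : m' ≤ m 1 := by omega
      exact dvd_mul_of_dvd_right (pow_dvd_pow q this) _
    · exact dvd_zero _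
  | add p r hp hr =>
    intro m'
    rw [map_add]
    exact dvd_add (hp m') (hr m')

theorem mem_range_of_cond (u : ℤ[T;T⁻¹]) (hu : Cond q u) : ∃ r : RR, psi q r = u := by
  have key : ∀ n : ℤ, (AddMonoidAlgebra.single n (u.coeff n) : ℤ[T;T⁻¹]) ∈ (psi q).range := by
    intro n
    rcases Int.eq_nat_or_neg n with ⟨m, rfl | rfl⟩
    · refine ⟨MvPolynomial.monomial (Finsupp.single 0 m) (u.coeff (m : ℤ)), ?_⟩
      change psi q _ = _
      rw [psi_monomial, single_eq_C_mul_T]
      simp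
    · obtain ⟨w, hw⟩ := hu m
      refine ⟨MvPolynomial.monomial (Finsupp.single 1 m) w, ?_⟩
      change psi q _ = _
      rw [psi_monomial, single_eq_C_mul_T, hw]
      simp [mul_comm]
  have hsum : u = ∑ n ∈ u.coeff.support, (AddMonoidAlgebra.single n (u.coeff n) : ℤ[T;T⁻¹]) := by
    conv_lhs => rw [← AddMonoidAlgebra.sum_coeff_single u]
    rfl
  have : u ∈ (psi q).range := by
    rw [hsum]
    exact Subalgebra.sum_mem _ fun n _ => key n
  exact this

end Groth.Agent.Lib.helper22.WeilKer
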