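import Mathlib

/-! Number-theoretic input for the Weil-number kernel computation (helper22). -/

set_option autoImplicit false
universe u

open Polynomial

namespace Groth.Agent.Lib.helper22.WeilKer

theorem abs_coeff_zero_of_roots (Q : ℤ[X]) (hQ : Q.Monic) (s : ℝ)
    (h : ∀ z ∈ Q.aroots ℂ, ‖z‖ = s) : |((Q.coeff 0 : ℤ) : ℝ)| = s ^ Q.natDegree := by
  have hsplit : (Q.map (algebraMap ℤ ℂ)).Splits := IsAlgClosed.splits _
  have hmonic : (Q.map (algebraMap ℤ ℂ)).Monic := hQ.map _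
  have h1 := hsplit.coeff_zero_eq_prod_roots_of_monic hmonic
  have hdeg : (Q.map (algebraMap ℤ ℂ)).natDegree = Q.natDegree := hQ.natDegree_map _
  have hcard : Multiset.card (Q.map (algebraMap ℤ ℂ)).roots = Q.natDegree := by
    rw [← hsplit.natDegree_eq_card_roots, hdeg]
  have h2 : ‖(Q.map (algebraMap ℤ ℂ)).roots.prod‖ = s ^ Q.natDegree := by
    have : ‖(Q.map (algebraMap ℤ ℂ)).roots.prod‖ =
        ((Q.map (algebraMap ℤ ℂ)).roots.map (fun z => ‖z‖)).prod :=
      map_multiset_prod (normHom : ℂ →*₀ ℝ) _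
    rw [this, Multiset.map_congr rfl (fun z hz => h z hz), Multiset.map_const', Multiset.prod_replicate,
      hcard]
  have h3 : ((Q.coeff 0 : ℤ) : ℂ) = (Q.map (algebraMap ℤ ℂ)).coeff 0 := by
    rw [coeff_map]; rfl
  have h4 : |((Q.coeff 0 : ℤ) : ℝ)| = ‖((Q.coeff 0 : ℤ) : ℂ)‖ := by
    rw [← Complex.ofReal_intCast, Complex.norm_real, Real.norm_eq_abs]
  rw [h4, h3, h1, norm_mul, norm_pow, norm_neg, norm_one, one_pow, one_mul, h2]



section
variable {ι : Type} [Fintype ι] (K : ι → Type u) [∀ i, Field (K i)] [∀ i, CharZero (K i)]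
  (π : ∀ i, K i) (hint : ∀ i, IsIntegral ℤ (π i))

/-- the product of the minimal polynomials -/
noncomputable def PP : ℤ[X] := ∏ i, minpoly ℤ (π i)

include hint in
theorem PP_monic : (PP K π).Monic :=
  monic_prod_of_monic _ _ fun i _ => minpoly.monic (hint i)

include hint in
theorem PP_natDegree : (PP K π).natDegree = ∑ i, (minpoly ℤ (π i)).natDegree :=
  natDegree_prod_of_monic _ _ fun i _ => minpoly.monic (hint i)

theorem PP_aeval (i : ι) : aeval (π i) (PP K π) = 0 := by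
  rw [PP, map_prod]
  exact Finset.prod_eq_zero (Finset.mem_univ i) (minpoly.aeval ℤ (π i))

include hint in
theorem PP_dvd (hinj : ∀ i j, minpoly ℤ (π i) = minpoly ℤ (π j) → i = j) (g : ℤ[X])
    (hg : ∀ i, aeval (π i) g = 0) : PP K π ∣ g := by
  refine Fintype.prod_dvd_of_isRelPrime ?_ ?_
  · intro i j hij
    have hirr : Irreducible (minpoly ℤ (π i)) := minpoly.irreducible (hint i)
    rw [Function.onFun, hirr.isRelPrime_iff_not_dvd]
    intro hdvd
    have hirr' : Irreducible (minpoly ℤ (π j)) := minpoly.irreducible (hint j)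
    have hassoc : Associated (minpoly ℤ (π i)) (minpoly ℤ (π j)) :=
      hirr.associated_of_dvd hirr' hdvd
    exact hij (hinj i j (eq_of_monic_of_associated (minpoly.monic (hint i))
      (minpoly.monic (hint j)) hassoc))
  · intro i
    exact minpoly.isIntegrallyClosed_dvd (hint i) (hg i)

include hint in
theorem PP_roots (s : ℝ) (hweil : ∀ i, ∀ z ∈ (minpoly ℤ (π i)).aroots ℂ, ‖z‖ = s) :
    ∀ z ∈ (PP K π).aroots ℂ, ‖z‖ = s := by
  intro z hz
  rw [mem_aroots] at hz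
  obtain ⟨_, hz⟩ := hz
  rw [PP, map_prod, Finset.prod_eq_zero_iff] at hz
  obtain ⟨i, _, hi⟩ := hz
  exact hweil i z (by
    rw [mem_aroots]
    exact ⟨(minpoly.monic (hint i)).ne_zero, hi⟩)

include hint in
theorem PP_coeff_zero (q : ℤ) (hq : 0 ≤ q) (D : ℕ)
    (hweil : ∀ i, ∀ z ∈ (minpoly ℤ (π i)).aroots ℂ, ‖z‖ = Real.sqrt (q : ℝ))
    (hD : ∑ i, (minpoly ℤ (π i)).natDegree = 2 * D) :
    ∃ ε : ℤˣ, (PP K π).coeff 0 = ε * q ^ D := by
  have h1 := abs_coeff_zero_of_roots (PP K π) (PP_monic K π hint) _ (PP_roots K π hint _ hweil)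
  rw [PP_natDegree K π hint, hD, pow_mul, Real.sq_sqrt (by exact_mod_cast hq)] at h1
  have h2 : |(PP K π).coeff 0| = q ^ D := by
    have : ((|(PP K π).coeff 0| : ℤ) : ℝ) = ((q ^ D : ℤ) : ℝ) := by
      push_cast
      exact h1
    exact_mod_cast this
  rcases (abs_eq (pow_nonneg hq D)).mp h2 with h3 | h3
  · exact ⟨1, by rw [h3]; simp⟩
  · exact ⟨-1, by rw [h3]; simp⟩

theorem pi_ne_zero (s : ℝ) (hs : s ≠ 0)
    (hweil : ∀ i, ∀ z ∈ (minpoly ℤ (π i)).aroots ℂ, ‖z‖ = s) (i : ι) : π i ≠ 0 := by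
  intro h0
  have h1 : minpoly ℤ (π i) = X := by
    rw [h0]
    have := minpoly.eq_X_sub_C_of_algebraMap_inj (A := ℤ) (B := K i) (0 : ℤ)
      (FaithfulSMul.algebraMap_injective ℤ (K i))
    simpa using this
  have h2 := hweil i 0 (by
    rw [mem_aroots, h1]
    exact ⟨X_ne_zero, by simp⟩)
  rw [norm_zero] at h2
  exact hs h2.symm

end

end Groth.Agent.Lib.helper22.WeilKer
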