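import Mathlib
import Groth.Agent.Lib.Helper22.WeilKerA
import Groth.Agent.Lib.Helper22.WeilKerB
import Groth.Agent.Lib.Helper22.WeilKerC

/-! The kernel of `ℤ[F,V] → ∏ K_i` for a family of Weil numbers of even total degree (helper22). -/

set_option autoImplicit false
universe u

open LaurentPolynomial Pointwise

namespace Groth.Agent.Lib.helper22.WeilKer

local notation "RR" => MvPolynomial (Fin 2) ℤ

theorem coeff_T_mul (k n : ℤ) (u : ℤ[T;T⁻¹]) : (T k * u).coeff n = u.coeff (n - k) := by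
  have := coeff_C_mul_T_mul 1 k u n
  rwa [map_one, one_mul, one_mul] at this

theorem coeff_toLaurent_nat (P : Polynomial ℤ) (k : ℕ) :
    (Polynomial.toLaurent P).coeff (k : ℤ) = P.coeff k := by
  rw [coeff_toLaurent]
  have := Finsupp.mapDomain_apply (Nat.castEmbedding (R := ℤ)).injective P.toFinsupp.coeff k
  rw [Nat.castEmbedding_apply] at this
  rw [this]
  cases P
  rfl

section
variable {ι : Type} [Fintype ι] (K : ι → Type u) [∀ i, Field (K i)] [∀ i, CharZero (K i)]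
  (π : ∀ i, K i) (q : ℤ)

/-- `F ↦ (π_i)`, `V ↦ (q / π_i)`. -/
noncomputable def Phi : RR →ₐ[ℤ] ((i : ι) → K i) :=
  MvPolynomial.aeval ![fun i => π i, fun i => (q : K i) / π i]

theorem Phi_X0 : Phi K π q (MvPolynomial.X 0) = fun i => π i := by simp [Phi]

theorem Phi_X1 : Phi K π q (MvPolynomial.X 1) = fun i => (q : K i) / π i := by simp [Phi]

theorem Phi_rho (hπ : ∀ i, π i ≠ 0) : Phi K π q (rho q) = 0 := by
  have hC : Phi K π q (MvPolynomial.C q) = fun i => (q : K i) := by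
    rw [Phi, MvPolynomial.aeval_C]
    funext i
    simp
  rw [rho, map_sub, map_mul, Phi_X0, Phi_X1, hC]
  funext i
  simp only [Pi.sub_apply, Pi.mul_apply, Pi.zero_apply]
  rw [mul_div_cancel₀ _ (hπ i), sub_self]

theorem Phi_aeval (g : Polynomial ℤ) :
    Phi K π q (Polynomial.aeval (MvPolynomial.X 0 : RR) g) = fun i => Polynomial.aeval (π i) g := by
  rw [← Polynomial.aeval_algHom_apply, Phi_X0]
  funext i
  have := Polynomial.aeval_algHom_apply (Pi.evalAlgHom ℤ K i) (fun i => π i) g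
  simpa using this.symm

theorem span_rho_le_ker (hπ : ∀ i, π i ≠ 0) :
    Ideal.span {rho q} ≤ RingHom.ker (Phi K π q) := by
  rw [Ideal.span_le]
  intro x hx
  rw [Set.mem_singleton_iff] at hx
  rw [hx]
  exact Phi_rho K π q hπ

variable {q}

theorem psi_h (hq : q ≠ 0) (D : ℕ) (P : Polynomial ℤ) (h : RR)
    (hh : MvPolynomial.X 0 ^ D * h - Polynomial.aeval (MvPolynomial.X 0 : RR) P ∈
      Ideal.span {rho q}) : T (D : ℤ) * psi q h = Polynomial.toLaurent P := by
  have h3 : MvPolynomial.X 0 ^ D * h - Polynomial.aeval (MvPolynomial.X 0 : RR) P ∈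
      RingHom.ker (psi q : RR →+* ℤ[T;T⁻¹]) := by
    rw [ker_psi hq]; exact hh
  rw [RingHom.mem_ker] at h3
  have h3' : psi q (MvPolynomial.X 0 ^ D * h - Polynomial.aeval (MvPolynomial.X 0 : RR) P) = 0 := h3
  rw [map_sub, map_mul, map_pow, psi_X0, T_pow, mul_one, psi_aeval_X0, sub_eq_zero] at h3'
  exact h3'

theorem ker_le (hq : 0 < q) (hint : ∀ i, IsIntegral ℤ (π i))
    (hweil : ∀ i, ∀ z ∈ (minpoly ℤ (π i)).aroots ℂ, ‖z‖ = Real.sqrt (q : ℝ))
    (hinj : ∀ i j, minpoly ℤ (π i) = minpoly ℤ (π j) → i = j)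
    (D : ℕ) (hD : ∑ i, (minpoly ℤ (π i)).natDegree = 2 * D) (h : RR)
    (hh : MvPolynomial.X 0 ^ D * h - Polynomial.aeval (MvPolynomial.X 0 : RR) (PP K π) ∈
      Ideal.span {rho q}) :
    RingHom.ker (Phi K π q) ≤ Ideal.span {rho q, h} := by
  intro r hr
  have hq0 : q ≠ 0 := hq.ne'
  have hs : Real.sqrt (q : ℝ) ≠ 0 := (Real.sqrt_pos.mpr (by exact_mod_cast hq)).ne'
  have hπ := pi_ne_zero K π _ hs hweil
  obtain ⟨N₀, hN₀⟩ := exists_poly q r
  obtain ⟨g, hg⟩ := hN₀ N₀ le_rfl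
  have h1 := span_rho_le_ker K π q hπ hg
  rw [RingHom.mem_ker, map_sub, map_mul, (RingHom.mem_ker.mp hr), mul_zero, zero_sub,
    neg_eq_zero, Phi_aeval] at h1
  have hdvd : PP K π ∣ g := PP_dvd K π hint hinj g (fun i => congrFun h1 i)
  obtain ⟨g', rfl⟩ := hdvd
  have h2 : MvPolynomial.X 0 ^ N₀ * r - Polynomial.aeval (MvPolynomial.X 0 : RR) (PP K π * g') ∈
      RingHom.ker (psi q : RR →+* ℤ[T;T⁻¹]) := by
    rw [ker_psi hq0]; exact hg
  have h2' : psi q (MvPolynomial.X 0 ^ N₀ * r -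
      Polynomial.aeval (MvPolynomial.X 0 : RR) (PP K π * g')) = 0 := h2
  rw [map_sub, map_mul, map_pow, psi_X0, T_pow, mul_one, psi_aeval_X0, map_mul, sub_eq_zero] at h2'
  have h3 := psi_h hq0 D (PP K π) h hh
  set u' : ℤ[T;T⁻¹] := T ((D : ℤ) - (N₀ : ℤ)) * Polynomial.toLaurent g' with hu'
  have h4 : psi q r = psi q h * u' := by
    have e1 : psi q r = T (-(N₀ : ℤ)) * (T (N₀ : ℤ) * psi q r) := by
      rw [← mul_assoc, ← T_add]; simp
    rw [e1, h2', ← h3, hu', sub_eq_add_neg, T_add]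
    ring
  have h5 : Polynomial.toLaurent (PP K π) * u' = T (D : ℤ) * psi q r := by
    rw [h4, ← h3]; ring
  have hcond : Cond q u' := by
    obtain ⟨ε, hε⟩ := PP_coeff_zero K π hint q hq.le D hweil hD
    apply key q hq0 D (PP K π) ε hε
    · intro k hk
      rw [← coeff_toLaurent_nat, ← h3, coeff_T_mul]
      have e : ((k : ℤ) - (D : ℤ)) = -(((D - k : ℕ)) : ℤ) := by
        rw [Nat.cast_sub hk]; ring
      rw [e]
      exact cond_psi q h (D - k)
    · intro m
      rw [h5, coeff_T_mul]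
      have e : (-(m : ℤ) - (D : ℤ)) = -(((m + D : ℕ)) : ℤ) := by
        push_cast; ring
      rw [e]
      exact cond_psi q r (m + D)
  obtain ⟨r', hr'⟩ := mem_range_of_cond q u' hcond
  have h6 : r - h * r' ∈ Ideal.span {rho q} := by
    rw [← ker_psi hq0, RingHom.mem_ker]
    change psi q (r - h * r') = 0
    rw [map_sub, map_mul, hr', h4, sub_self]
  have e : r = (r - h * r') + h * r' := by ring
  rw [e]
  refine Ideal.add_mem _ (Ideal.span_mono ?_ h6) (Ideal.mul_mem_right _ _ (Ideal.subset_span ?_))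
  · intro x hx
    rw [Set.mem_singleton_iff] at hx
    rw [hx]; exact Set.mem_insert _ _
  · exact Set.mem_insert_of_mem _ rfl

theorem le_ker (hq : 0 < q)
    (hweil : ∀ i, ∀ z ∈ (minpoly ℤ (π i)).aroots ℂ, ‖z‖ = Real.sqrt (q : ℝ))
    (D : ℕ) (h : RR)
    (hh : MvPolynomial.X 0 ^ D * h - Polynomial.aeval (MvPolynomial.X 0 : RR) (PP K π) ∈
      Ideal.span {rho q}) :
    Ideal.span {rho q, h} ≤ RingHom.ker (Phi K π q) := by
  have hs : Real.sqrt (q : ℝ) ≠ 0 := (Real.sqrt_pos.mpr (by exact_mod_cast hq)).ne'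
  have hπ := pi_ne_zero K π _ hs hweil
  rw [Ideal.span_le]
  intro x hx
  rcases hx with hx | hx
  · rw [hx]; exact Phi_rho K π q hπ
  · rw [Set.mem_singleton_iff] at hx
    rw [hx]
    have h1 := span_rho_le_ker K π q hπ hh
    rw [RingHom.mem_ker, map_sub, map_mul, map_pow, Phi_X0, Phi_aeval, sub_eq_zero] at h1
    rw [SetLike.mem_coe, RingHom.mem_ker]
    funext i
    have h2 := congrFun h1 i
    simp only [Pi.mul_apply, Pi.pow_apply] at h2
    rw [PP_aeval] at h2
    rcases mul_eq_zero.mp h2 with h3 | h3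
    · exact absurd h3 (pow_ne_zero D (hπ i))
    · exact h3

theorem regular (hq : 0 < q) (hint : ∀ i, IsIntegral ℤ (π i))
    (D : ℕ) (h : RR)
    (hh : MvPolynomial.X 0 ^ D * h - Polynomial.aeval (MvPolynomial.X 0 : RR) (PP K π) ∈
      Ideal.span {rho q}) :
    RingTheory.Sequence.IsWeaklyRegular RR [rho q, h] := by
  have hq0 : q ≠ 0 := hq.ne'
  have hrho : rho q ≠ 0 := by
    intro h0
    have h1 : MvPolynomial.constantCoeff (rho q) = -q := by
      rw [rho, map_sub, map_mul, MvPolynomial.constantCoeff_X, MvPolynomial.constantCoeff_C,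
        zero_mul, zero_sub]
    rw [h0, map_zero, eq_comm, neg_eq_zero] at h1
    exact hq0 h1
  refine RingTheory.Sequence.IsWeaklyRegular.cons ?_ ?_
  · exact (IsRegular.of_ne_zero hrho).isSMulRegular
  · rw [RingTheory.Sequence.isWeaklyRegular_singleton_iff,
      isSMulRegular_quotient_iff_mem_of_smul_mem]
    intro x hx
    have hmem : ∀ y : RR, y ∈ (rho q • (⊤ : Submodule RR RR)) ↔ y ∈ Ideal.span {rho q} := by
      intro y
      rw [Submodule.mem_smul_pointwise_iff_exists, Ideal.mem_span_singleton]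
      constructor
      · rintro ⟨z, _, rfl⟩; exact ⟨z, rfl⟩
      · rintro ⟨z, rfl⟩; exact ⟨z, trivial, rfl⟩
    rw [hmem] at hx ⊢
    rw [← ker_psi hq0, RingHom.mem_ker] at hx ⊢
    have hx' : psi q (h • x) = 0 := hx
    rw [smul_eq_mul, map_mul] at hx'
    have h3 := psi_h hq0 D (PP K π) h hh
    have hne : psi q h ≠ 0 := by
      intro h0
      rw [h0, mul_zero, eq_comm, Polynomial.toLaurent_eq_zero] at h3
      exact (PP_monic K π hint).ne_zero h3
    rcases mul_eq_zero.mp hx' with h4 | h4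
    · exact absurd h4 hne
    · exact h4

theorem main (hq : 0 < q) (hint : ∀ i, IsIntegral ℤ (π i))
    (hweil : ∀ i, ∀ z ∈ (minpoly ℤ (π i)).aroots ℂ, ‖z‖ = Real.sqrt (q : ℝ))
    (hinj : ∀ i j, minpoly ℤ (π i) = minpoly ℤ (π j) → i = j)
    (D : ℕ) (hD : ∑ i, (minpoly ℤ (π i)).natDegree = 2 * D) (h : RR)
    (hh : MvPolynomial.X 0 ^ D * h - Polynomial.aeval (MvPolynomial.X 0 : RR) (PP K π) ∈
      Ideal.span {rho q}) :
    RingHom.ker (Phi K π q) = Ideal.span {rho q, h} ∧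
      RingTheory.Sequence.IsWeaklyRegular RR [rho q, h] :=
  ⟨le_antisymm (ker_le K π hq hint hweil hinj D hD h hh) (le_ker K π hq hweil D h hh),
    regular K π hq hint D h hh⟩

end

end Groth.Agent.Lib.helper22.WeilKer
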