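import Mathlib
import Groth.Agent.Lib.Helper22.WeilKerD
import Groth.Agent.Lib.Helper22.WeilFE

/-!
# helper22: existence of the polynomial `h` with `F^D h ≡ P_w(F)` mod `FV - q`
-/

set_option autoImplicit false
universe u

open Polynomial LaurentPolynomial

namespace Groth.Agent.Lib.helper22.WeilKer

open Groth.Agent.Lib.helper22.WeilFE

local notation "RR" => MvPolynomial (Fin 2) ℤ

section
variable {ι : Type} [Fintype ι] (K : ι → Type u) [∀ i, Field (K i)] [∀ i, CharZero (K i)]
  (π : ∀ i, K i)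

theorem PP_separable (hint : ∀ i, IsIntegral ℤ (π i))
    (hinj : ∀ i j, minpoly ℤ (π i) = minpoly ℤ (π j) → i = j) :
    ((PP K π).map (Int.castRingHom ℂ)).Separable := by
  have e : (PP K π).map (Int.castRingHom ℂ) =
      ((PP K π).map (algebraMap ℤ ℚ)).map (algebraMap ℚ ℂ) := by
    rw [Polynomial.map_map]
    congr 1
  rw [e]
  apply Separable.map
  rw [PP, Polynomial.map_prod]
  have hirr : ∀ i, Irreducible ((minpoly ℤ (π i)).map (algebraMap ℤ ℚ)) := fun i =>
    ((minpoly.monic (hint i)).irreducible_iff_irreducible_map_fraction_map).mp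
      (minpoly.irreducible (hint i))
  apply separable_prod'
  · intro i _ j _ hij
    rw [(hirr i).coprime_iff_not_dvd]
    intro hdvd
    have hassoc := (hirr i).associated_of_dvd (hirr j) hdvd
    have heq := eq_of_monic_of_associated ((minpoly.monic (hint i)).map _)
      ((minpoly.monic (hint j)).map _) hassoc
    have := Polynomial.map_injective (algebraMap ℤ ℚ) (by
      intro a b hab; exact_mod_cast hab) heq
    exact hij (hinj i j this)
  · intro i _
    exact (hirr i).separable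

variable {q : ℤ}

theorem PP_coeff_dvd (hq : 0 < q) (hint : ∀ i, IsIntegral ℤ (π i))
    (hweil : ∀ i, ∀ z ∈ (minpoly ℤ (π i)).aroots ℂ, ‖z‖ = Real.sqrt (q : ℝ))
    (hinj : ∀ i j, minpoly ℤ (π i) = minpoly ℤ (π j) → i = j)
    (D : ℕ) (hD : ∑ i, (minpoly ℤ (π i)).natDegree = 2 * D) (k : ℕ) (hk : k ≤ D) :
    q ^ (D - k) ∣ (PP K π).coeff k := by
  obtain ⟨ε, hε⟩ := PP_coeff_zero K π hint q hq.le D hweil hD
  have hdeg : (PP K π).natDegree = 2 * D := by rw [PP_natDegree K π hint, hD]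
  have h1 := FE_coeff (PP K π) (PP_monic K π hint) (PP_separable K π hint hinj) q hq
    (PP_roots K π hint _ hweil) k (by omega)
  rw [hε] at h1
  have hq0 : q ^ k ≠ 0 := pow_ne_zero _ hq.ne'
  refine ⟨ε * (PP K π).coeff ((PP K π).natDegree - k), ?_⟩
  apply mul_right_cancel₀ hq0
  rw [h1]
  have : q ^ D = q ^ (D - k) * q ^ k := by
    rw [← pow_add]; congr 1; omega
  rw [this]
  ring

theorem coeff_toLaurent_neg (P : ℤ[X]) (n : ℤ) (hn : n < 0) :
    (Polynomial.toLaurent P).coeff n = 0 := by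
  rw [coeff_toLaurent]
  apply Finsupp.mapDomain_of_notMem_range
  rintro ⟨m, hm⟩
  rw [Nat.castEmbedding_apply] at hm
  omega

theorem exists_h (hq : 0 < q) (hint : ∀ i, IsIntegral ℤ (π i))
    (hweil : ∀ i, ∀ z ∈ (minpoly ℤ (π i)).aroots ℂ, ‖z‖ = Real.sqrt (q : ℝ))
    (hinj : ∀ i j, minpoly ℤ (π i) = minpoly ℤ (π j) → i = j)
    (D : ℕ) (hD : ∑ i, (minpoly ℤ (π i)).natDegree = 2 * D) :
    ∃ h : RR, MvPolynomial.X 0 ^ D * h - Polynomial.aeval (MvPolynomial.X 0 : RR) (PP K π) ∈
      Ideal.span {rho q} := by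
  have hcond : Cond q (T (-(D : ℤ)) * Polynomial.toLaurent (PP K π)) := by
    intro m
    rw [coeff_T_mul]
    by_cases hm : m ≤ D
    · have e : (-(m : ℤ) - -(D : ℤ)) = (((D - m : ℕ)) : ℤ) := by
        rw [Nat.cast_sub hm]; ring
      rw [e, coeff_toLaurent_nat]
      have := PP_coeff_dvd K π hq hint hweil hinj D hD (D - m) (by omega)
      have e2 : D - (D - m) = m := by omega
      rwa [e2] at this
    · rw [coeff_toLaurent_neg _ _ (by omega)]
      exact dvd_zero _
  obtain ⟨h, hh⟩ := mem_range_of_cond q _ hcond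
  refine ⟨h, ?_⟩
  rw [← ker_psi hq.ne', RingHom.mem_ker]
  change psi q _ = 0
  rw [map_sub, map_mul, map_pow, psi_X0, T_pow, mul_one, psi_aeval_X0, hh, ← mul_assoc, ← T_add]
  simp

end

end Groth.Agent.Lib.helper22.WeilKer
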