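import Mathlib
import Groth.Agent.Lib.Helper22.WeilGorA

/-!
# helper22: the minimal central order `R_w = ℤ[π, q/π]` is finite free of rank `2D`, of dimension 1
-/

set_option autoImplicit false
set_option linter.style.haveILetI false
universe u

namespace Groth.Agent.Lib.helper22.WeilKer

open Groth.Agent.Lib.helper22.WeilFE

local notation "RR" => MvPolynomial (Fin 2) ℤ

/-- going up (copied from helper10 `CurveBr3`, helper1 `IntegralDim`). -/
theorem ringKrullDim_eq_of_isIntegral_of_injective' {A B : Type*} [CommRing A] [CommRing B]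
    (f : A →+* B) (hf : f.IsIntegral) (hinj : Function.Injective f) :
    ringKrullDim A = ringKrullDim B := by
  apply le_antisymm
  · algebraize [f]
    have : Algebra.IsIntegral A B := ⟨hf⟩
    have hinj' : Function.Injective (algebraMap A B) := hinj
    unfold ringKrullDim Order.krullDim
    apply iSup_le
    intro l
    obtain ⟨P, -, hP, hPl⟩ := Ideal.exists_ideal_over_prime_of_isIntegral
      (S := B) l.head.asIdeal (⊥ : Ideal B) (by
        rw [← RingHom.ker_eq_comap_bot, (RingHom.injective_iff_ker_eq_bot _).mp hinj']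
        exact bot_le)
    have : P.LiesOver l.head.asIdeal := ⟨hPl.symm⟩
    obtain ⟨L, hL, -, -⟩ := Ideal.exists_ltSeries_of_hasGoingUp l P
    rw [← hL]
    exact le_iSup (fun p : LTSeries (PrimeSpectrum B) => (p.length : WithBot ℕ∞)) L
  · refine Order.krullDim_le_of_strictMono (PrimeSpectrum.comap f) ?_
    letI := f.toAlgebra
    haveI : Algebra.IsIntegral A B := ⟨hf⟩
    intro p q hpq
    haveI := p.isPrime
    exact Ideal.IsIntegral.comap_lt_comap (R := A) (I := p.asIdeal) (J := q.asIdeal) hpq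

section
variable {ι : Type} [Fintype ι] (K : ι → Type u) [∀ i, Field (K i)] [∀ i, CharZero (K i)]
  (π : ∀ i, K i) (q : ℤ)

theorem aeval_pi_apply (g : Polynomial ℤ) (x : (i : ι) → K i) (i : ι) :
    (Polynomial.aeval x g) i = Polynomial.aeval (x i) g := by
  have := Polynomial.aeval_algHom_apply (Pi.evalAlgHom ℤ K i) x g
  simpa using this.symm

theorem isIntegral_F (hint : ∀ i, IsIntegral ℤ (π i)) :
    IsIntegral ℤ (fun i => π i : (i : ι) → K i) :=
  ⟨PP K π, PP_monic K π hint, by
    rw [← Polynomial.aeval_def]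
    funext i
    rw [aeval_pi_apply]
    exact PP_aeval K π i⟩

variable {q}

theorem isIntegral_V (hq : 0 < q) (hint : ∀ i, IsIntegral ℤ (π i))
    (hweil : ∀ i, ∀ z ∈ (minpoly ℤ (π i)).aroots ℂ, ‖z‖ = Real.sqrt (q : ℝ))
    (hinj : ∀ i j, minpoly ℤ (π i) = minpoly ℤ (π j) → i = j) :
    IsIntegral ℤ (fun i => (q : K i) / π i : (i : ι) → K i) :=
  ⟨PP K π, PP_monic K π hint, by
    have hs : Real.sqrt (q : ℝ) ≠ 0 := (Real.sqrt_pos.mpr (by exact_mod_cast hq)).ne'
    rw [← Polynomial.aeval_def]
    funext i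
    rw [aeval_pi_apply]
    exact FE_root (PP K π) (PP_monic K π hint) (PP_separable K π hint hinj) q hq
      (PP_roots K π hint _ hweil) (π i) (pi_ne_zero K π _ hs hweil i) (PP_aeval K π i)⟩

variable (q)

theorem range_eq_adjoin : (Phi K π q).range =
    Algebra.adjoin ℤ {(fun i => π i : (i : ι) → K i), fun i => (q : K i) / π i} := by
  rw [Phi, ← Algebra.adjoin_range_eq_range_aeval]
  congr 1
  simp [Matrix.range_cons]
  exact Set.pair_comm _ _

variable {q}

theorem finite_range (hq : 0 < q) (hint : ∀ i, IsIntegral ℤ (π i))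
    (hweil : ∀ i, ∀ z ∈ (minpoly ℤ (π i)).aroots ℂ, ‖z‖ = Real.sqrt (q : ℝ))
    (hinj : ∀ i j, minpoly ℤ (π i) = minpoly ℤ (π j) → i = j) :
    Module.Finite ℤ (Phi K π q).range := by
  rw [range_eq_adjoin]
  refine Algebra.finite_adjoin_of_finite_of_isIntegral (Set.toFinite _) ?_
  intro x hx
  rcases hx with rfl | hx
  · exact isIntegral_F K π hint
  · rw [Set.mem_singleton_iff] at hx
    rw [hx]
    exact isIntegral_V K π hq hint hweil hinj

theorem free_range (hq : 0 < q) (hint : ∀ i, IsIntegral ℤ (π i))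
    (hweil : ∀ i, ∀ z ∈ (minpoly ℤ (π i)).aroots ℂ, ‖z‖ = Real.sqrt (q : ℝ))
    (hinj : ∀ i j, minpoly ℤ (π i) = minpoly ℤ (π j) → i = j) :
    Module.Free ℤ (Phi K π q).range := by
  haveI := finite_range K π hq hint hweil hinj
  infer_instance

theorem krullDim_range [Nonempty ι] (hq : 0 < q) (hint : ∀ i, IsIntegral ℤ (π i))
    (hweil : ∀ i, ∀ z ∈ (minpoly ℤ (π i)).aroots ℂ, ‖z‖ = Real.sqrt (q : ℝ))
    (hinj : ∀ i j, minpoly ℤ (π i) = minpoly ℤ (π j) → i = j) :
    ringKrullDim (Phi K π q).range = 1 := by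
  haveI := finite_range K π hq hint hweil hinj
  have hinj' : Function.Injective (algebraMap ℤ (Phi K π q).range) := by
    intro a b hab
    have h1 : ((algebraMap ℤ (Phi K π q).range a : (Phi K π q).range) : (i : ι) → K i) =
        ((algebraMap ℤ (Phi K π q).range b : (Phi K π q).range) : (i : ι) → K i) := by rw [hab]
    obtain ⟨i⟩ := ‹Nonempty ι›
    have h2 := congrFun h1 i
    simpa using h2
  have hint' : (algebraMap ℤ (Phi K π q).range).IsIntegral :=
    algebraMap_isIntegral_iff.mpr inferInstance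
  rw [← ringKrullDim_eq_of_isIntegral_of_injective' _ hint' hinj']
  exact IsPrincipalIdealRing.ringKrullDim_eq_one ℤ Int.not_isField

end

end Groth.Agent.Lib.helper22.WeilKer
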