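import Mathlib
import Groth.Agent.Lib.Helper22.WeilGorB

/-!
# helper22: the minimal central order `R_w = ℤ[π, q/π]` has rank `2D`
-/

set_option autoImplicit false
set_option linter.style.haveILetI false
universe u

namespace Groth.Agent.Lib.helper22.WeilKer

open Groth.Agent.Lib.helper22.WeilFE

local notation "RR" => MvPolynomial (Fin 2) ℤ

section
variable {ι : Type} [Fintype ι] (K : ι → Type u) [∀ i, Field (K i)] [∀ i, CharZero (K i)]
  (π : ∀ i, K i) (q : ℤ)

/-- `ℤ[π] ⊆ ∏ K_i` -/
noncomputable def M1 : Subalgebra ℤ ((i : ι) → K i) :=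
  (Polynomial.aeval (fun i => π i : (i : ι) → K i) : Polynomial ℤ →ₐ[ℤ] _).range

theorem ker_aeval_F (hint : ∀ i, IsIntegral ℤ (π i))
    (hinj : ∀ i j, minpoly ℤ (π i) = minpoly ℤ (π j) → i = j) :
    RingHom.ker (Polynomial.aeval (fun i => π i : (i : ι) → K i) : Polynomial ℤ →ₐ[ℤ] _) =
      Ideal.span {PP K π} := by
  ext g
  rw [RingHom.mem_ker, Ideal.mem_span_singleton]
  constructor
  · intro hg
    apply PP_dvd K π hint hinj g
    intro i
    have := congrFun hg i
    rwa [aeval_pi_apply] at this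
  · rintro ⟨g', rfl⟩
    funext i
    rw [aeval_pi_apply, map_mul, PP_aeval, zero_mul]
    rfl

theorem finrank_M1 (hint : ∀ i, IsIntegral ℤ (π i))
    (hinj : ∀ i j, minpoly ℤ (π i) = minpoly ℤ (π j) → i = j) :
    Module.finrank ℤ (M1 K π) = (PP K π).natDegree := by
  have e1 : (Polynomial ℤ ⧸ RingHom.ker
      (Polynomial.aeval (fun i => π i : (i : ι) → K i) : Polynomial ℤ →ₐ[ℤ] _)) ≃ₐ[ℤ] M1 K π :=
    Ideal.quotientKerEquivRange _
  have e2 : (Polynomial ℤ ⧸ RingHom.ker
      (Polynomial.aeval (fun i => π i : (i : ι) → K i) : Polynomial ℤ →ₐ[ℤ] _)) ≃ₐ[ℤ]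
      AdjoinRoot (PP K π) :=
    Ideal.quotientEquivAlgOfEq ℤ (ker_aeval_F K π hint hinj)
  rw [← e1.toLinearEquiv.finrank_eq, e2.toLinearEquiv.finrank_eq,
    (AdjoinRoot.powerBasis' (PP_monic K π hint)).finrank, AdjoinRoot.powerBasis'_dim]

theorem finite_M1 (hint : ∀ i, IsIntegral ℤ (π i)) : Module.Finite ℤ (M1 K π) := by
  have : M1 K π = Algebra.adjoin ℤ {(fun i => π i : (i : ι) → K i)} := by
    rw [M1, ← Algebra.adjoin_singleton_eq_range_aeval]
  rw [this]
  exact Algebra.finite_adjoin_simple_of_isIntegral (isIntegral_F K π hint)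

theorem M1_le_range : M1 K π ≤ (Phi K π q).range := by
  rintro x ⟨g, rfl⟩
  refine ⟨Polynomial.aeval (MvPolynomial.X 0 : RR) g, ?_⟩
  change Phi K π q _ = Polynomial.aeval _ g
  rw [Phi_aeval]
  funext i
  rw [aeval_pi_apply]

variable {q}

theorem exists_pow_mul_mem (hπ : ∀ i, π i ≠ 0) (b : (i : ι) → K i)
    (hb : b ∈ (Phi K π q).range) :
    ∃ N₀ : ℕ, ∀ N, N₀ ≤ N → (fun i => π i : (i : ι) → K i) ^ N * b ∈ M1 K π := by
  obtain ⟨r, rfl⟩ := hb
  obtain ⟨N₀, hN₀⟩ := exists_poly q r
  refine ⟨N₀, fun N hN => ?_⟩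
  obtain ⟨g, hg⟩ := hN₀ N hN
  have h1 := span_rho_le_ker K π q hπ hg
  rw [RingHom.mem_ker, map_sub, map_mul, map_pow, Phi_X0, Phi_aeval, sub_eq_zero] at h1
  refine ⟨g, ?_⟩
  change Polynomial.aeval _ g = _
  change _ = _ * Phi K π q r
  rw [h1]
  funext i
  rw [aeval_pi_apply]

theorem exists_pow_mul_mem_finset (hπ : ∀ i, π i ≠ 0) (S : Finset ((i : ι) → K i))
    (hS : ∀ b ∈ S, b ∈ (Phi K π q).range) :
    ∃ N : ℕ, ∀ b ∈ S, (fun i => π i : (i : ι) → K i) ^ N * b ∈ M1 K π := by
  classical
  induction S using Finset.induction_on with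
  | empty => exact ⟨0, fun b hb => absurd hb (Finset.notMem_empty b)⟩
  | insert a S ha ih =>
    obtain ⟨N₁, h1⟩ := ih (fun b hb => hS b (Finset.mem_insert_of_mem hb))
    obtain ⟨N₂, h2⟩ := exists_pow_mul_mem K π hπ a (hS a (Finset.mem_insert_self a S))
    refine ⟨N₁ + N₂, fun b hb => ?_⟩
    rw [Finset.mem_insert] at hb
    rcases hb with rfl | hb
    · exact h2 _ (by omega)
    · have e : (fun i => π i : (i : ι) → K i) ^ (N₁ + N₂) * b =
          (fun i => π i : (i : ι) → K i) ^ N₂ * ((fun i => π i : (i : ι) → K i) ^ N₁ * b) := by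
        rw [pow_add]; ring
      rw [e]
      refine (M1 K π).mul_mem ?_ (h1 b hb)
      refine (M1 K π).pow_mem ?_ N₂
      exact ⟨Polynomial.X, by simp⟩

theorem finrank_range (hq : 0 < q) (hint : ∀ i, IsIntegral ℤ (π i))
    (hweil : ∀ i, ∀ z ∈ (minpoly ℤ (π i)).aroots ℂ, ‖z‖ = Real.sqrt (q : ℝ))
    (hinj : ∀ i j, minpoly ℤ (π i) = minpoly ℤ (π j) → i = j) :
    Module.finrank ℤ (Phi K π q).range = (PP K π).natDegree := by
  classical
  have hs : Real.sqrt (q : ℝ) ≠ 0 := (Real.sqrt_pos.mpr (by exact_mod_cast hq)).ne'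
  have hπ := pi_ne_zero K π _ hs hweil
  haveI hfin := finite_range K π hq hint hweil hinj
  haveI hfin1 := finite_M1 K π hint
  rw [← finrank_M1 K π hint hinj]
  apply le_antisymm
  · -- multiplication by a power of `π`
    obtain ⟨S, hS⟩ := (Module.Finite.fg_top : (⊤ : Submodule ℤ (Phi K π q).range).FG)
    obtain ⟨N, hN⟩ := exists_pow_mul_mem_finset K π hπ (S.image Subtype.val) (by
      intro b hb
      rw [Finset.mem_image] at hb
      obtain ⟨b', _, rfl⟩ := hb
      exact b'.2)
    have hall : ∀ b : (Phi K π q).range,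
        (fun i => π i : (i : ι) → K i) ^ N * (b : (i : ι) → K i) ∈ M1 K π := by
      intro b
      have hb : b ∈ Submodule.span ℤ (S : Set (Phi K π q).range) := by rw [hS]; trivial
      induction hb using Submodule.span_induction with
      | mem x hx => exact hN _ (Finset.mem_image_of_mem _ hx)
      | zero => simp only [ZeroMemClass.coe_zero, mul_zero]; exact (M1 K π).zero_mem
      | add x y _ _ hx hy =>
        have : (fun i => π i : (i : ι) → K i) ^ N * ((x + y : (Phi K π q).range) : (i : ι) → K i) =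
          (fun i => π i : (i : ι) → K i) ^ N * (x : (i : ι) → K i) +
          (fun i => π i : (i : ι) → K i) ^ N * (y : (i : ι) → K i) := by
          push_cast; ring
        rw [this]
        exact (M1 K π).add_mem hx hy
      | smul a x _ hx =>
        have : (fun i => π i : (i : ι) → K i) ^ N * ((a • x : (Phi K π q).range) : (i : ι) → K i) =
          a • ((fun i => π i : (i : ι) → K i) ^ N * (x : (i : ι) → K i)) := by
          push_cast
          rw [mul_smul_comm]
        rw [this]
        exact (M1 K π).smul_mem hx a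
    let f : (Phi K π q).range →ₗ[ℤ] M1 K π :=
      { toFun := fun b => ⟨_, hall b⟩
        map_add' := fun x y => by
          apply Subtype.ext
          push_cast
          ring
        map_smul' := fun a x => by
          apply Subtype.ext
          push_cast
          rw [mul_smul_comm]
          rfl }
    apply LinearMap.finrank_le_finrank_of_injective (f := f)
    intro x y hxy
    have h1 : (fun i => π i : (i : ι) → K i) ^ N * (x : (i : ι) → K i) =
        (fun i => π i : (i : ι) → K i) ^ N * (y : (i : ι) → K i) := congrArg Subtype.val hxy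
    apply Subtype.ext
    funext i
    have h2 := congrFun h1 i
    simp only [Pi.mul_apply, Pi.pow_apply] at h2
    exact mul_left_cancel₀ (pow_ne_zero N (hπ i)) h2
  · apply LinearMap.finrank_le_finrank_of_injective
      (f := (Subalgebra.inclusion (M1_le_range K π q)).toLinearMap)
    exact Subalgebra.inclusion_injective (M1_le_range K π q)

end

end Groth.Agent.Lib.helper22.WeilKer
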