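import Mathlib
import Groth.Agent.Lib.Helper22.WeilGorC
import Groth.Agent.Lib.Helper22.GorQuot2
import Groth.Agent.Lib.Helper17.GorRing

/-!
# helper22: the minimal central order `R_w = ℤ[π, q/π]` of even degree is Gorenstein
-/

set_option autoImplicit false
set_option linter.style.haveILetI false
universe u

open LaurentPolynomial

namespace Groth.Agent.Lib.helper22.WeilKer

open Groth.Agent.Lib.helper22.GorLift

local notation "RR" => MvPolynomial (Fin 2) ℤ

theorem rho_ne_zero {q : ℤ} (hq : q ≠ 0) : rho q ≠ 0 := by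
  intro h0
  have h1 : MvPolynomial.constantCoeff (rho q) = -q := by
    rw [rho, map_sub, map_mul, MvPolynomial.constantCoeff_X, MvPolynomial.constantCoeff_C,
      zero_mul, zero_sub]
  rw [h0, map_zero, eq_comm, neg_eq_zero] at h1
  exact hq h1

section
variable {ι : Type} [Fintype ι] (K : ι → Type u) [∀ i, Field (K i)] [∀ i, CharZero (K i)]
  (π : ∀ i, K i) {q : ℤ}

theorem gorenstein_range (hq : 0 < q) (hint : ∀ i, IsIntegral ℤ (π i))
    (hweil : ∀ i, ∀ z ∈ (minpoly ℤ (π i)).aroots ℂ, ‖z‖ = Real.sqrt (q : ℝ))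
    (hinj : ∀ i j, minpoly ℤ (π i) = minpoly ℤ (π j) → i = j)
    (D : ℕ) (hD : ∑ i, (minpoly ℤ (π i)).natDegree = 2 * D) :
    LocCoh.IsGorensteinRing (Phi K π q).range := by
  obtain ⟨h, hh⟩ := exists_h K π hq hint hweil hinj D hD
  obtain ⟨hker, -⟩ := main K π hq hint hweil hinj D hD h hh
  haveI : LocCoh.IsGorensteinRing ℤ :=
    Groth.Agent.Lib.helper17.PrincGor.isGorensteinRing_of_isPrincipalIdealRing ℤ
  haveI : LocCoh.IsGorensteinRing RR :=
    Groth.Agent.Lib.helper17.GorRing.isGorensteinRing_mvPolynomial_fin ℤ 2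
  have hψh : psi q h ≠ 0 := by
    have h3 := psi_h hq.ne' D (PP K π) h hh
    intro h0
    rw [h0, mul_zero, eq_comm, Polynomial.toLaurent_eq_zero] at h3
    exact (PP_monic K π hint).ne_zero h3
  haveI : LocCoh.IsGorensteinRing (RR ⧸ Ideal.span {rho q, h}) :=
    gorRing_two_step (psi q : RR →+* ℤ[T;T⁻¹]) (rho q) h (rho_ne_zero hq.ne') (ker_psi hq.ne') hψh
  let e : (RR ⧸ Ideal.span {rho q, h}) ≃+* (Phi K π q).range :=
    (Ideal.quotEquivOfEq hker.symm).trans (Ideal.quotientKerEquivRange (Phi K π q)).toRingEquiv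
  exact isGorensteinRing_of_ringEquiv_lift e

end

end Groth.Agent.Lib.helper22.WeilKer
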