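import Mathlib
import Groth.Agent.Lib.Helper22.WeilGorA

/-!
# helper22: modules over the minimal central order `R_w` on a finite free `ℤ`-module
-/

set_option autoImplicit false
set_option linter.style.haveILetI false
universe u

namespace Groth.Agent.Lib.helper22.WeilKer

open scoped IsMulCommutative

local notation "RR" => MvPolynomial (Fin 2) ℤ

section
variable {ι : Type} [Fintype ι] (K : ι → Type u) [∀ i, Field (K i)] [∀ i, CharZero (K i)]
  (π : ∀ i, K i) {q : ℤ}

/-- the class of `F` in `R_w` -/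
noncomputable def Fb (q : ℤ) : (Phi K π q).range :=
  ⟨Phi K π q (MvPolynomial.X 0), AlgHom.mem_range_self _ _⟩

theorem module_imp (hq : 0 < q) (hint : ∀ i, IsIntegral ℤ (π i))
    (hweil : ∀ i, ∀ z ∈ (minpoly ℤ (π i)).aroots ℂ, ‖z‖ = Real.sqrt (q : ℝ))
    (T : Type) [AddCommGroup T] (FT : T →ₗ[ℤ] T)
    (inst : Module (Phi K π q).range T) (hF : ∀ t : T, Fb K π q • t = FT t) :
    Polynomial.aeval FT (PP K π) = 0 ∧ ∃ VT : T →ₗ[ℤ] T, FT ∘ₗ VT = q • LinearMap.id := by
  have hs : Real.sqrt (q : ℝ) ≠ 0 := (Real.sqrt_pos.mpr (by exact_mod_cast hq)).ne'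
  have hπ := pi_ne_zero K π _ hs hweil
  let α : (Phi K π q).range →+* Module.End ℤ T :=
    (addMonoidEndRingEquivInt T).toRingHom.comp (Module.toAddMonoidEnd (Phi K π q).range T)
  have hα : ∀ b t, α b t = b • t := fun b t => rfl
  have hαF : α (Fb K π q) = FT := LinearMap.ext fun t => by rw [hα, hF]
  have hPF : Polynomial.aeval (Fb K π q) (PP K π) = 0 := by
    apply Subtype.ext
    rw [Polynomial.aeval_subalgebra_coe]
    change Polynomial.aeval (Phi K π q (MvPolynomial.X 0)) (PP K π) = 0
    rw [Polynomial.aeval_algHom_apply, Phi_aeval]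
    funext i
    exact PP_aeval K π i
  refine ⟨?_, ?_⟩
  · have h1 := Polynomial.hom_eval₂ (PP K π) (algebraMap ℤ (Phi K π q).range) α (Fb K π q)
    rw [← Polynomial.aeval_def, hPF, map_zero, hαF] at h1
    have hc : α.comp (algebraMap ℤ (Phi K π q).range) = algebraMap ℤ (Module.End ℤ T) :=
      RingHom.ext_int _ _
    rw [hc, ← Polynomial.aeval_def] at h1
    exact h1.symm
  · let Vb : (Phi K π q).range := ⟨Phi K π q (MvPolynomial.X 1), AlgHom.mem_range_self _ _⟩
    have hFV : Fb K π q * Vb = (q : (Phi K π q).range) := by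
      apply Subtype.ext
      have h1 := Phi_rho K π q hπ
      rw [rho, map_sub, sub_eq_zero] at h1
      push_cast
      change Phi K π q (MvPolynomial.X 0) * Phi K π q (MvPolynomial.X 1) = _
      rw [← map_mul, h1]
      have : (MvPolynomial.C q : RR) = ((q : ℤ) : RR) := by simp
      rw [this, map_intCast]
    refine ⟨α Vb, ?_⟩
    rw [← hαF, ← Module.End.mul_eq_comp, ← map_mul, hFV, map_intCast, ← Module.End.one_eq_id,
      zsmul_eq_mul, mul_one]

theorem imp_module (hq : 0 < q) (hint : ∀ i, IsIntegral ℤ (π i))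
    (hweil : ∀ i, ∀ z ∈ (minpoly ℤ (π i)).aroots ℂ, ‖z‖ = Real.sqrt (q : ℝ))
    (hinj : ∀ i j, minpoly ℤ (π i) = minpoly ℤ (π j) → i = j)
    (D : ℕ) (hD : ∑ i, (minpoly ℤ (π i)).natDegree = 2 * D)
    (T : Type) [AddCommGroup T] [Module.Finite ℤ T] [Module.Free ℤ T] (FT : T →ₗ[ℤ] T)
    (hP : Polynomial.aeval FT (PP K π) = 0) (VT : T →ₗ[ℤ] T)
    (hFV : FT ∘ₗ VT = q • LinearMap.id) :
    ∃ _ : Module (Phi K π q).range T, ∀ t : T, Fb K π q • t = FT t := by
  classical
  obtain ⟨h, hh⟩ := exists_h K π hq hint hweil hinj D hD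
  obtain ⟨hker, -⟩ := main K π hq hint hweil hinj D hD h hh
  -- `FT` is injective
  have hdet : LinearMap.det FT ≠ 0 := by
    intro h0
    have h1 := congrArg LinearMap.det hFV
    rw [LinearMap.det_comp, h0, zero_mul, LinearMap.det_smul, LinearMap.det_id, mul_one] at h1
    exact (pow_ne_zero _ hq.ne') h1.symm
  have hFinj : Function.Injective FT := by
    rw [← LinearMap.ker_eq_bot]
    by_contra hne
    exact hdet (LinearMap.det_eq_zero_iff_ker_ne_bot.mpr hne)
  have hVF : VT ∘ₗ FT = q • LinearMap.id := by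
    apply LinearMap.ext
    intro t
    apply hFinj
    have h1 := LinearMap.congr_fun hFV (FT t)
    simp only [LinearMap.comp_apply, LinearMap.smul_apply, LinearMap.id_apply, map_zsmul] at h1 ⊢
    exact h1
  have hcomm : FT * VT = VT * FT := by
    rw [Module.End.mul_eq_comp, Module.End.mul_eq_comp, hFV, hVF]
  -- the commutative subalgebra generated by `FT`, `VT`
  let s : Set (Module.End ℤ T) := {FT, VT}
  have hs : ∀ a ∈ s, ∀ b ∈ s, a * b = b * a := by
    intro a ha b hb
    rcases ha with rfl | ha <;> rcases hb with rfl | hb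
    · rfl
    · rw [Set.mem_singleton_iff] at hb; rw [hb]; exact hcomm
    · rw [Set.mem_singleton_iff] at ha; rw [ha]; exact hcomm.symm
    · rw [Set.mem_singleton_iff] at ha hb; rw [ha, hb]
  haveI := Algebra.isMulCommutative_adjoin ℤ hs
  let E := Algebra.adjoin ℤ s
  let FE : E := ⟨FT, Algebra.subset_adjoin (Set.mem_insert _ _)⟩
  let VE : E := ⟨VT, Algebra.subset_adjoin (Set.mem_insert_of_mem _ rfl)⟩
  let β : RR →ₐ[ℤ] E := MvPolynomial.aeval ![FE, VE]
  have hβ0 : β (MvPolynomial.X 0) = FE := by simp [β]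
  have hβ1 : β (MvPolynomial.X 1) = VE := by simp [β]
  have hβrho : β (rho q) = 0 := by
    rw [rho, map_sub, map_mul, hβ0, hβ1]
    apply Subtype.ext
    have : (MvPolynomial.C q : RR) = ((q : ℤ) : RR) := by simp
    rw [this, map_intCast]
    push_cast
    change FT * VT - (q : Module.End ℤ T) = 0
    rw [Module.End.mul_eq_comp, hFV, ← Module.End.one_eq_id, zsmul_eq_mul, mul_one, sub_self]
  have hβspan : Ideal.span {rho q} ≤ RingHom.ker (β : RR →+* E) := by
    rw [Ideal.span_le]
    intro x hx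
    rw [Set.mem_singleton_iff] at hx
    rw [hx]
    exact hβrho
  have hβh : β h = 0 := by
    have h1 := hβspan hh
    rw [RingHom.mem_ker] at h1
    have h1' : β (MvPolynomial.X 0 ^ D * h - Polynomial.aeval (MvPolynomial.X 0 : RR) (PP K π)) = 0 :=
      h1
    rw [map_sub, map_mul, map_pow, hβ0, ← Polynomial.aeval_algHom_apply, hβ0, sub_eq_zero] at h1'
    have h2 : ((Polynomial.aeval FE (PP K π) : E) : Module.End ℤ T) = 0 := by
      rw [Polynomial.aeval_subalgebra_coe]
      exact hP
    have h3 : ((FE ^ D * β h : E) : Module.End ℤ T) = 0 := by rw [h1', h2]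
    apply Subtype.ext
    apply LinearMap.ext
    intro t
    have h4 := LinearMap.congr_fun h3 t
    have h5 : (FT ^ D) ((β h : Module.End ℤ T) t) = 0 := h4
    have hinjD : Function.Injective (FT ^ D) := by
      rw [Module.End.coe_pow]
      exact hFinj.iterate D
    exact hinjD (by rw [h5]; simp)
  have hle : RingHom.ker (Phi K π q) ≤ RingHom.ker (β : RR →+* E) := by
    rw [hker, Ideal.span_le]
    intro x hx
    rcases hx with rfl | hx
    · exact hβrho
    · rw [Set.mem_singleton_iff] at hx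
      rw [hx]
      exact hβh
  -- the action
  let f : RR →+* (Phi K π q).range := (Phi K π q).rangeRestrict.toRingHom
  have hf : Function.Surjective f := (Phi K π q).rangeRestrict_surjective
  let g : RR →+* Module.End ℤ T := E.val.toRingHom.comp (β : RR →+* E)
  have hfg : RingHom.ker f ≤ RingHom.ker g := by
    intro x hx
    have h1 : x ∈ RingHom.ker (Phi K π q) := by
      rw [RingHom.mem_ker] at hx ⊢
      have := congrArg Subtype.val hx
      exact this
    have h2 := hle h1
    rw [RingHom.mem_ker] at h2 ⊢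
    change ((β x : E) : Module.End ℤ T) = 0
    have h2' : β x = 0 := h2
    rw [h2']
    rfl
  let γ : (Phi K π q).range →+* Module.End ℤ T := f.liftOfSurjective hf ⟨g, hfg⟩
  have hγ : ∀ x, γ (f x) = g x := fun x =>
    f.liftOfRightInverse_comp_apply _ _ ⟨g, hfg⟩ x
  refine ⟨Module.compHom T γ, ?_⟩
  intro t
  have h1 : Fb K π q = f (MvPolynomial.X 0) := rfl
  letI : Module (Phi K π q).range T := Module.compHom T γ
  change γ (Fb K π q) t = FT t
  rw [h1, hγ]
  change ((β (MvPolynomial.X 0) : E) : Module.End ℤ T) t = FT t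
  rw [hβ0]

end

end Groth.Agent.Lib.helper22.WeilKer
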