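import Mathlib

/-!
# Wiebe's lemma, part A: differential modules, cones, iterated cones (helper22)

Ungraded "differential modules" `(N, d)` with `d ∘ d = 0`, the cone of multiplication by a scalar,
quasi-isomorphisms (elementwise), the cone five lemma, and the iterated cone `D l N` (= ungraded
Koszul complex of the list `l` with coefficients in `N`).
-/

set_option autoImplicit false
universe u

namespace Groth.Agent.Lib.helper22.Wiebe

variable {R : Type u} [CommRing R]

/-- A differential module: an `R`-module with a square-zero endomorphism. -/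
structure DMod (R : Type u) [CommRing R] where
  carrier : Type u
  [acg : AddCommGroup carrier]
  [mod : Module R carrier]
  d : carrier →ₗ[R] carrier
  d_d : ∀ z, d (d z) = 0

namespace DMod

instance : CoeSort (DMod R) (Type u) := ⟨DMod.carrier⟩
instance (N : DMod R) : AddCommGroup N := N.acg
instance (N : DMod R) : Module R N := N.mod

end DMod

/-- A module with zero differential. -/
def Triv (M : Type u) [AddCommGroup M] [Module R M] : DMod R where
  carrier := M
  d := 0
  d_d _ := rfl

@[simp] theorem Triv_d (M : Type u) [AddCommGroup M] [Module R M] (m : M) :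
    (Triv (R := R) M).d m = 0 := rfl

/-- The cone of multiplication by `x` on `N`: pairs `(a, b)` (thought of as `a + e ∧ b`) with
`d (a, b) = (d a + x b, - d b)`. -/
def Cone (x : R) (N : DMod R) : DMod R where
  carrier := N × N
  d :=
    { toFun := fun z => (N.d z.1 + x • z.2, - N.d z.2)
      map_add' := fun z w => by
        ext
        · simp only [Prod.fst_add, Prod.snd_add, map_add, smul_add]; abel
        · simp only [Prod.snd_add, map_add, neg_add]
      map_smul' := fun r z => by
        ext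
        · simp only [Prod.smul_fst, Prod.smul_snd, map_smul, RingHom.id_apply, smul_add,
            smul_comm x r]
        · simp only [Prod.smul_snd, map_smul, RingHom.id_apply, smul_neg] }
  d_d z := by
    ext
    · simp [N.d_d]
    · simp [N.d_d]

theorem Cone_d_apply (x : R) (N : DMod R) (z : Cone x N) :
    (Cone x N).d z = ((N.d z.1 + x • z.2, - N.d z.2) : N × N) := rfl

theorem Cone.ext' {x : R} {N : DMod R} {z w : Cone x N} (h1 : z.1 = w.1) (h2 : z.2 = w.2) :
    z = w := Prod.ext h1 h2

@[simp] theorem Cone.zero_fst {x : R} {N : DMod R} : (0 : Cone x N).1 = 0 := rfl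
@[simp] theorem Cone.zero_snd {x : R} {N : DMod R} : (0 : Cone x N).2 = 0 := rfl
@[simp] theorem Cone.add_fst {x : R} {N : DMod R} (z w : Cone x N) : (z + w).1 = z.1 + w.1 := rfl
@[simp] theorem Cone.add_snd {x : R} {N : DMod R} (z w : Cone x N) : (z + w).2 = z.2 + w.2 := rfl
@[simp] theorem Cone.sub_fst {x : R} {N : DMod R} (z w : Cone x N) : (z - w).1 = z.1 - w.1 := rfl
@[simp] theorem Cone.sub_snd {x : R} {N : DMod R} (z w : Cone x N) : (z - w).2 = z.2 - w.2 := rfl
@[simp] theorem Cone.neg_fst {x : R} {N : DMod R} (z : Cone x N) : (-z).1 = -z.1 := rfl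
@[simp] theorem Cone.neg_snd {x : R} {N : DMod R} (z : Cone x N) : (-z).2 = -z.2 := rfl
@[simp] theorem Cone.smul_fst {x : R} {N : DMod R} (r : R) (z : Cone x N) : (r • z).1 = r • z.1 := rfl
@[simp] theorem Cone.smul_snd {x : R} {N : DMod R} (r : R) (z : Cone x N) : (r • z).2 = r • z.2 := rfl
@[simp] theorem Cone.d_fst {x : R} {N : DMod R} (z : Cone x N) :
    ((Cone x N).d z).1 = N.d z.1 + x • z.2 := rfl
@[simp] theorem Cone.d_snd {x : R} {N : DMod R} (z : Cone x N) :
    ((Cone x N).d z).2 = - N.d z.2 := rfl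

/-- constructor for elements of the cone -/
def Cone.mk {x : R} {N : DMod R} (a b : N) : Cone x N := ((a, b) : N × N)
@[simp] theorem Cone.mk_fst {x : R} {N : DMod R} (a b : N) : (Cone.mk a b : Cone x N).1 = a := rfl
@[simp] theorem Cone.mk_snd {x : R} {N : DMod R} (a b : N) : (Cone.mk a b : Cone x N).2 = b := rfl

variable {N N' N'' : DMod R}

/-- `φ` commutes with the differentials. -/
def IsChain (φ : N →ₗ[R] N') : Prop := ∀ z, φ (N.d z) = N'.d (φ z)

theorem IsChain.comp {ψ : N' →ₗ[R] N''} {φ : N →ₗ[R] N'} (hψ : IsChain ψ) (hφ : IsChain φ) :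
    IsChain (ψ ∘ₗ φ) := fun z => by
  simp only [LinearMap.comp_apply, hφ z, hψ (φ z)]

/-- An (elementwise) quasi-isomorphism of differential modules. -/
structure QIso (φ : N →ₗ[R] N') : Prop where
  chain : IsChain φ
  surj : ∀ z', N'.d z' = 0 → ∃ z, N.d z = 0 ∧ ∃ w', φ z = z' + N'.d w'
  inj : ∀ z, N.d z = 0 → ∀ w', φ z = N'.d w' → ∃ w, z = N.d w

/-- The map of cones induced by `φ`. -/
def coneMap (x : R) (φ : N →ₗ[R] N') : Cone x N →ₗ[R] Cone x N' := LinearMap.prodMap φ φ

theorem coneMap_apply (x : R) (φ : N →ₗ[R] N') (z : Cone x N) :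
    coneMap x φ z = ((φ z.1, φ z.2) : N' × N') := rfl
@[simp] theorem coneMap_fst (x : R) (φ : N →ₗ[R] N') (z : Cone x N) : (coneMap x φ z).1 = φ z.1 := rfl
@[simp] theorem coneMap_snd (x : R) (φ : N →ₗ[R] N') (z : Cone x N) : (coneMap x φ z).2 = φ z.2 := rfl

theorem IsChain.cone (x : R) {φ : N →ₗ[R] N'} (h : IsChain φ) : IsChain (coneMap x φ) := by
  intro z
  apply Cone.ext'
  · simp only [coneMap_fst, coneMap_snd, Cone.d_fst, map_add, map_smul, h z.1]
  · simp only [coneMap_snd, Cone.d_snd, map_neg, h z.2]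

/-- The cone five lemma. -/
theorem QIso.cone (x : R) {φ : N →ₗ[R] N'} (h : QIso φ) : QIso (coneMap x φ) where
  chain := h.chain.cone x
  surj := by
    intro z' hz'
    have h1 : N'.d z'.1 + x • z'.2 = 0 := by
      have := congrArg Prod.fst hz'
      simpa using this
    have h2 : N'.d z'.2 = 0 := by
      have := congrArg Prod.snd hz'
      simpa using this
    obtain ⟨b, hb, v', hbv⟩ := h.surj z'.2 h2
    have hxb : N.d (x • b) = 0 := by rw [map_smul, hb, smul_zero]
    have hφxb : φ (x • b) = N'.d (x • v' - z'.1) := by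
      rw [map_smul, hbv, smul_add, map_sub, map_smul]
      have : x • z'.2 = - N'.d z'.1 := eq_neg_of_add_eq_zero_right h1
      rw [this]; abel
    obtain ⟨a₀, ha₀⟩ := h.inj (x • b) hxb _ hφxb
    have hc : N'.d (φ a₀ - x • v' + z'.1) = 0 := by
      rw [map_add, map_sub, ← h.chain a₀, ← ha₀, hφxb, map_sub]; abel
    obtain ⟨c, hc0, u', hcu⟩ := h.surj _ hc
    refine ⟨Cone.mk (c - a₀) b, ?_, Cone.mk u' (-v'), ?_⟩
    · apply Cone.ext'
      · simp only [Cone.d_fst, Cone.mk_fst, Cone.mk_snd, map_sub, hc0, zero_sub, ← ha₀,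
          neg_add_cancel, Cone.zero_fst]
      · simp only [Cone.d_snd, Cone.mk_snd, hb, neg_zero, Cone.zero_snd]
    · apply Cone.ext'
      · simp only [coneMap_fst, Cone.mk_fst, map_sub, hcu, Cone.add_fst, Cone.d_fst, Cone.mk_snd,
          smul_neg]; abel
      · simp only [coneMap_snd, Cone.mk_snd, hbv, Cone.add_snd, Cone.d_snd, map_neg, neg_neg]
  inj := by
    intro z hz w' hw
    have h1 : N.d z.1 + x • z.2 = 0 := by
      have := congrArg Prod.fst hz
      simpa using this
    have h2 : N.d z.2 = 0 := by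
      have := congrArg Prod.snd hz
      simpa using this
    have e1 : φ z.1 = N'.d w'.1 + x • w'.2 := congrArg Prod.fst hw
    have e2 : φ z.2 = - N'.d w'.2 := congrArg Prod.snd hw
    obtain ⟨v, hv⟩ := h.inj z.2 h2 (-w'.2) (by rw [map_neg]; exact e2)
    have hcyc : N.d (z.1 + x • v) = 0 := by
      rw [map_add, map_smul, ← hv]; exact h1
    have hcyc' : N'.d (w'.2 + φ v) = 0 := by
      rw [map_add, ← h.chain v, ← hv, e2]; abel
    obtain ⟨c, hc0, u', hcu⟩ := h.surj _ hcyc'
    have hbd : φ (z.1 + x • v - x • c) = N'.d (w'.1 - x • u') := by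
      rw [map_sub, map_add, map_smul, map_smul, hcu, e1, map_sub, map_smul]
      simp only [smul_add]; abel
    have hcyc2 : N.d (z.1 + x • v - x • c) = 0 := by
      rw [map_sub, hcyc, map_smul, hc0, smul_zero, sub_zero]
    obtain ⟨w1, hw1⟩ := h.inj _ hcyc2 _ hbd
    refine ⟨Cone.mk w1 (c - v), ?_⟩
    apply Cone.ext'
    · simp only [Cone.d_fst, Cone.mk_fst, Cone.mk_snd, ← hw1, smul_sub]; abel
    · simp only [Cone.d_snd, Cone.mk_snd, map_sub, hc0, zero_sub, neg_neg, hv]

/-- Precomposing a quasi-isomorphism with a bijective chain map. -/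
theorem QIso.comp_equiv {φ : N' →ₗ[R] N''} (h : QIso φ) (e : N ≃ₗ[R] N')
    (he : IsChain (e : N →ₗ[R] N')) : QIso (φ ∘ₗ (e : N →ₗ[R] N')) where
  chain := h.chain.comp he
  surj := by
    intro z' hz'
    obtain ⟨z, hz, w', hw⟩ := h.surj z' hz'
    refine ⟨e.symm z, ?_, w', ?_⟩
    · apply e.injective
      have := he (e.symm z)
      simp only [LinearEquiv.coe_coe, LinearEquiv.apply_symm_apply] at this
      rw [this, hz, map_zero]
    · simpa using hw
  inj := by
    intro z hz w' hw
    have hz' : N'.d (e z) = 0 := by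
      have := he z
      simp only [LinearEquiv.coe_coe] at this
      rw [← this, hz, map_zero]
    obtain ⟨w, hw2⟩ := h.inj (e z) hz' w' (by simpa using hw)
    refine ⟨e.symm w, ?_⟩
    apply e.injective
    have := he (e.symm w)
    simp only [LinearEquiv.coe_coe, LinearEquiv.apply_symm_apply] at this
    rw [this, hw2]

end Groth.Agent.Lib.helper22.Wiebe
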