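import Groth.Agent.Lib.Helper22.WiebeA

/-!
# Wiebe's lemma, part B: the iterated cone `D l N` and its operators (helper22)
-/

set_option autoImplicit false
universe u

namespace Groth.Agent.Lib.helper22.Wiebe

variable {R : Type u} [CommRing R]

/-- The iterated cone of the elements of `l` on `N` (ungraded Koszul complex of `l` with
coefficients in the differential module `N`). -/
def D : List R → DMod R → DMod R
  | [], N => N
  | x :: l, N => Cone x (D l N)

theorem D_nil (N : DMod R) : D [] N = N := rfl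
theorem D_cons (x : R) (l : List R) (N : DMod R) : D (x :: l) N = Cone x (D l N) := rfl

variable {N N' : DMod R}

/-- functoriality of `D l` -/
def mapD : (l : List R) → (N →ₗ[R] N') → (D l N →ₗ[R] D l N')
  | [], φ => φ
  | x :: l, φ => coneMap x (mapD l φ)

theorem mapD_chain {φ : N →ₗ[R] N'} (h : IsChain φ) : ∀ l : List R, IsChain (mapD l φ)
  | [] => h
  | x :: l => (mapD_chain h l).cone x

theorem mapD_qiso {φ : N →ₗ[R] N'} (h : QIso φ) : ∀ l : List R, QIso (mapD l φ)
  | [] => h
  | x :: l => (mapD_qiso h l).cone x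

/-! ### cone-level linear maps -/

/-- `(a, b) ↦ a` -/
def Cone.fstL (x : R) (N : DMod R) : Cone x N →ₗ[R] N := LinearMap.fst R N N
/-- `(a, b) ↦ b` -/
def Cone.sndL (x : R) (N : DMod R) : Cone x N →ₗ[R] N := LinearMap.snd R N N
/-- `a ↦ (a, 0)` -/
def Cone.inlL (x : R) (N : DMod R) : N →ₗ[R] Cone x N := LinearMap.inl R N N
/-- `b ↦ (0, b)` -/
def Cone.inrL (x : R) (N : DMod R) : N →ₗ[R] Cone x N := LinearMap.inr R N N

@[simp] theorem Cone.fstL_apply (x : R) (N : DMod R) (z : Cone x N) : Cone.fstL x N z = z.1 := rfl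
@[simp] theorem Cone.sndL_apply (x : R) (N : DMod R) (z : Cone x N) : Cone.sndL x N z = z.2 := rfl
@[simp] theorem Cone.inlL_fst (x : R) (N : DMod R) (a : N) : (Cone.inlL x N a).1 = a := rfl
@[simp] theorem Cone.inlL_snd (x : R) (N : DMod R) (a : N) : (Cone.inlL x N a).2 = 0 := rfl
@[simp] theorem Cone.inrL_fst (x : R) (N : DMod R) (a : N) : (Cone.inrL x N a).1 = 0 := rfl
@[simp] theorem Cone.inrL_snd (x : R) (N : DMod R) (a : N) : (Cone.inrL x N a).2 = a := rfl

/-- `(a, b) ↦ (h a, - h b)` -/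
def Cone.lift (x : R) (h : N →ₗ[R] N) : Cone x N →ₗ[R] Cone x N := LinearMap.prodMap h (-h)

@[simp] theorem Cone.lift_fst (x : R) (h : N →ₗ[R] N) (z : Cone x N) :
    (Cone.lift x h z).1 = h z.1 := rfl
@[simp] theorem Cone.lift_snd (x : R) (h : N →ₗ[R] N) (z : Cone x N) :
    (Cone.lift x h z).2 = - h z.2 := rfl

/-- `(a, b) ↦ (0, a)` -/
def Cone.k0 (x : R) (N : DMod R) : Cone x N →ₗ[R] Cone x N :=
  (LinearMap.inr R N N) ∘ₗ (LinearMap.fst R N N)

@[simp] theorem Cone.k0_fst (x : R) (N : DMod R) (z : Cone x N) : (Cone.k0 x N z).1 = 0 := rfl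
@[simp] theorem Cone.k0_snd (x : R) (N : DMod R) (z : Cone x N) : (Cone.k0 x N z).2 = z.1 := rfl

/-- `h` is a null-homotopy of multiplication by `r`. -/
def IsHtpy (r : R) (h : N →ₗ[R] N) : Prop := ∀ z, N.d (h z) + h (N.d z) = r • z

theorem Cone.lift_htpy (x : R) {r : R} {h : N →ₗ[R] N} (hh : IsHtpy r h) :
    IsHtpy r (Cone.lift x h) := by
  intro z
  apply Cone.ext'
  · have := hh z.1
    simp only [Cone.add_fst, Cone.d_fst, Cone.lift_fst, Cone.lift_snd, map_add, map_smul,
      Cone.smul_fst, smul_neg]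
    rw [← this]; abel
  · have := hh z.2
    simp only [Cone.add_snd, Cone.d_snd, Cone.lift_snd, map_neg, neg_neg, Cone.smul_snd]
    rw [← this]

theorem Cone.k0_htpy (x : R) (N : DMod R) : IsHtpy x (Cone.k0 x N) := by
  intro z
  apply Cone.ext'
  · simp only [Cone.add_fst, Cone.d_fst, Cone.k0_fst, Cone.k0_snd, map_zero, zero_add, add_zero,
      Cone.smul_fst]
  · simp only [Cone.add_snd, Cone.d_snd, Cone.k0_snd, Cone.d_fst, Cone.smul_snd]
    abel

theorem Cone.lift_zero (x : R) : Cone.lift x (0 : N →ₗ[R] N) = 0 := by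
  apply LinearMap.ext
  intro z
  apply Cone.ext'
  · simp only [Cone.lift_fst, LinearMap.zero_apply, Cone.zero_fst]
  · simp only [Cone.lift_snd, LinearMap.zero_apply, neg_zero, Cone.zero_snd]

/-! ### operators on `D l N` -/

/-- the embedding `n ↦ (…((n, 0), 0)…)` -/
def emb : (l : List R) → (N : DMod R) → N →ₗ[R] D l N
  | [], _ => LinearMap.id
  | x :: l, N => Cone.inlL x (D l N) ∘ₗ emb l N

/-- the projection to the component without any `e` -/
def P : (l : List R) → (N : DMod R) → D l N →ₗ[R] N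
  | [], _ => LinearMap.id
  | x :: l, N => P l N ∘ₗ Cone.fstL x (D l N)

/-- the projection to the component with all `e`'s -/
def T : (l : List R) → (N : DMod R) → D l N →ₗ[R] N
  | [], _ => LinearMap.id
  | x :: l, N => T l N ∘ₗ Cone.sndL x (D l N)

/-- the embedding as the component with all `e`'s -/
def top : (l : List R) → (N : DMod R) → N →ₗ[R] D l N
  | [], _ => LinearMap.id
  | x :: l, N => Cone.inrL x (D l N) ∘ₗ top l N

/-- extension of an endomorphism of `N` (with alternating signs) -/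
def liftD : (l : List R) → (N →ₗ[R] N) → (D l N →ₗ[R] D l N)
  | [], h => h
  | x :: l, h => Cone.lift x (liftD l h)

/-- the standard null-homotopy of the `j`-th element of `l` (zero if out of range) -/
def Kout : (l : List R) → (N : DMod R) → ℕ → (D l N →ₗ[R] D l N)
  | [], _, _ => 0
  | x :: l, N, 0 => Cone.k0 x (D l N)
  | x :: l, N, j + 1 => Cone.lift x (Kout l N j)

theorem liftD_htpy {r : R} {h : N →ₗ[R] N} (hh : IsHtpy r h) : ∀ l : List R, IsHtpy r (liftD l h)
  | [] => hh
  | x :: l => Cone.lift_htpy x (liftD_htpy hh l)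

theorem Kout_htpy : ∀ (l : List R) (N : DMod R) (j : ℕ), IsHtpy (l.getD j 0) (Kout l N j)
  | [], N, j => by
    intro z
    show N.d (0 : N) + (0 : N) = ([] : List R).getD j 0 • z
    rw [map_zero, add_zero, List.getD_nil, zero_smul]
    rfl
  | x :: l, N, 0 => by
    have e : (x :: l).getD 0 0 = x := by simp
    rw [e]
    exact Cone.k0_htpy x (D l N)
  | x :: l, N, j + 1 => by
    have e : (x :: l).getD (j + 1) 0 = l.getD j 0 := by simp
    rw [e]
    exact Cone.lift_htpy x (Kout_htpy l N j)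

theorem Kout_of_le : ∀ (l : List R) (N : DMod R) (j : ℕ), l.length ≤ j → Kout l N j = 0
  | [], N, j, _ => rfl
  | x :: l, N, 0, h => by simp at h
  | x :: l, N, j + 1, h => by
    have := Kout_of_le l N j (by simpa using h)
    show Cone.lift x (Kout l N j) = 0
    rw [this, Cone.lift_zero]

theorem P_emb : ∀ (l : List R) (n : N), P l N (emb l N n) = n
  | [], n => rfl
  | x :: l, n => by
    show P l N (Cone.fstL x (D l N) (Cone.inlL x (D l N) (emb l N n))) = n
    rw [Cone.fstL_apply, Cone.inlL_fst, P_emb l n]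

theorem T_top : ∀ (l : List R) (n : N), T l N (top l N n) = n
  | [], n => rfl
  | x :: l, n => by
    show T l N (Cone.sndL x (D l N) (Cone.inrL x (D l N) (top l N n))) = n
    rw [Cone.sndL_apply, Cone.inrL_snd, T_top l n]

theorem emb_d : ∀ (l : List R) (n : N), (D l N).d (emb l N n) = emb l N (N.d n)
  | [], n => rfl
  | x :: l, n => by
    show (Cone x (D l N)).d (Cone.inlL x (D l N) (emb l N n)) = Cone.inlL x (D l N) (emb l N (N.d n))
    apply Cone.ext'
    · simp only [Cone.d_fst, Cone.inlL_fst, Cone.inlL_snd, smul_zero, add_zero, emb_d l n]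
    · simp only [Cone.d_snd, Cone.inlL_snd, map_zero, neg_zero]

theorem mapD_emb (φ : N →ₗ[R] N') : ∀ (l : List R) (n : N),
    mapD l φ (emb l N n) = emb l N' (φ n)
  | [], n => rfl
  | x :: l, n => by
    show coneMap x (mapD l φ) (Cone.inlL x (D l N) (emb l N n)) =
      Cone.inlL x (D l N') (emb l N' (φ n))
    apply Cone.ext'
    · simp only [coneMap_fst, Cone.inlL_fst, mapD_emb φ l n]
    · simp only [coneMap_snd, Cone.inlL_snd, map_zero]

theorem T_mapD (φ : N →ₗ[R] N') : ∀ (l : List R) (z : D l N),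
    T l N' (mapD l φ z) = φ (T l N z)
  | [], z => rfl
  | x :: l, z => by
    show T l N' (Cone.sndL x (D l N') (coneMap x (mapD l φ) z)) = φ (T l N (Cone.sndL x (D l N) z))
    rw [Cone.sndL_apply, Cone.sndL_apply, coneMap_snd, T_mapD φ l]

theorem P_mapD (φ : N →ₗ[R] N') : ∀ (l : List R) (z : D l N),
    P l N' (mapD l φ z) = φ (P l N z)
  | [], z => rfl
  | x :: l, z => by
    show P l N' (Cone.fstL x (D l N') (coneMap x (mapD l φ) z)) = φ (P l N (Cone.fstL x (D l N) z))
    rw [Cone.fstL_apply, Cone.fstL_apply, coneMap_fst, P_mapD φ l]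

theorem T_d_of_d_eq_zero (hN : ∀ n : N, N.d n = 0) : ∀ (l : List R) (z : D l N),
    T l N ((D l N).d z) = 0
  | [], z => hN z
  | x :: l, z => by
    show T l N (Cone.sndL x (D l N) ((Cone x (D l N)).d z)) = 0
    rw [Cone.sndL_apply, Cone.d_snd, map_neg, T_d_of_d_eq_zero hN l, neg_zero]

theorem top_d (q : N) (hq : N.d q = 0) : ∀ (l : List R), (∀ y ∈ l, y • q = 0) →
    (D l N).d (top l N q) = 0
  | [], _ => hq
  | x :: l, h => by
    have h1 := top_d q hq l (fun y hy => h y (List.mem_cons_of_mem _ hy))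
    show (Cone x (D l N)).d (Cone.inrL x (D l N) (top l N q)) = 0
    apply Cone.ext'
    · simp only [Cone.d_fst, Cone.inrL_fst, Cone.inrL_snd, map_zero, zero_add, Cone.zero_fst]
      rw [← map_smul, h x List.mem_cons_self, map_zero]
    · simp only [Cone.d_snd, Cone.inrL_snd, h1, neg_zero, Cone.zero_snd]

theorem smul_eq_zero_D (y : R) (hy : ∀ n : N, y • n = 0) : ∀ (l : List R) (z : D l N), y • z = 0
  | [], z => hy z
  | x :: l, z => by
    have key : ∀ z : Cone x (D l N), y • z = 0 := by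
      intro z
      apply Cone.ext'
      · simp only [Cone.smul_fst, smul_eq_zero_D y hy l, Cone.zero_fst]
      · simp only [Cone.smul_snd, smul_eq_zero_D y hy l, Cone.zero_snd]
    exact key z

theorem d_eq_zero_D (hN : ∀ n : N, N.d n = 0) : ∀ (l : List R),
    (∀ y ∈ l, ∀ n : N, y • n = 0) → ∀ z : D l N, (D l N).d z = 0
  | [], _, z => hN z
  | x :: l, h, z => by
    have h1 := d_eq_zero_D hN l (fun y hy => h y (List.mem_cons_of_mem _ hy))
    show (Cone x (D l N)).d z = 0
    apply Cone.ext'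
    · simp only [Cone.d_fst, h1, zero_add, Cone.zero_fst]
      exact smul_eq_zero_D x (h x List.mem_cons_self) l _
    · simp only [Cone.d_snd, h1, neg_zero, Cone.zero_snd]

/-- `π ∘ P` is a chain map as soon as the elements of `l` act as zero after `π`. -/
theorem chain_P {Q : DMod R} {π : N →ₗ[R] Q} (hπ : IsChain π) : ∀ (l : List R),
    (∀ y ∈ l, ∀ n : N, π (y • n) = 0) → IsChain (π ∘ₗ P l N)
  | [], _ => hπ
  | x :: l, h => by
    have h1 := chain_P hπ l (fun y hy => h y (List.mem_cons_of_mem _ hy))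
    intro z
    have h2 := h1 (z : Cone x (D l N)).1
    simp only [LinearMap.comp_apply] at h2
    show π (P l N (Cone.fstL x (D l N) ((Cone x (D l N)).d z))) =
      Q.d (π (P l N (Cone.fstL x (D l N) z)))
    rw [Cone.fstL_apply, Cone.fstL_apply, Cone.d_fst, map_add, map_add, h2, map_smul,
      h x List.mem_cons_self, add_zero]

theorem P_Kout : ∀ (l : List R) (N : DMod R) (j : ℕ) (z : D l N), P l N (Kout l N j z) = 0
  | [], N, j, z => rfl
  | x :: l, N, 0, z => by
    show P l N (Cone.fstL x (D l N) (Cone.k0 x (D l N) z)) = 0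
    rw [Cone.fstL_apply, Cone.k0_fst, map_zero]
  | x :: l, N, j + 1, z => by
    show P l N (Cone.fstL x (D l N) (Cone.lift x (Kout l N j) z)) = 0
    rw [Cone.fstL_apply, Cone.lift_fst, P_Kout l N j]

theorem P_liftD (h : N →ₗ[R] N) : ∀ (l : List R) (z : D l N),
    P l N (liftD l h z) = h (P l N z)
  | [], z => rfl
  | x :: l, z => by
    show P l N (Cone.fstL x (D l N) (Cone.lift x (liftD l h) z)) = h (P l N (Cone.fstL x (D l N) z))
    rw [Cone.fstL_apply, Cone.lift_fst, P_liftD h l, Cone.fstL_apply]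

theorem mapD_Kout (φ : N →ₗ[R] N') : ∀ (l : List R) (j : ℕ) (z : D l N),
    mapD l φ (Kout l N j z) = Kout l N' j (mapD l φ z)
  | [], j, z => by
    show φ ((0 : N →ₗ[R] N) z) = (0 : N' →ₗ[R] N') (φ z)
    simp
  | x :: l, 0, z => by
    show coneMap x (mapD l φ) (Cone.k0 x (D l N) z) = Cone.k0 x (D l N') (coneMap x (mapD l φ) z)
    apply Cone.ext'
    · simp only [coneMap_fst, Cone.k0_fst, map_zero]
    · simp only [coneMap_snd, Cone.k0_snd, coneMap_fst]
  | x :: l, j + 1, z => by
    show coneMap x (mapD l φ) (Cone.lift x (Kout l N j) z) =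
      Cone.lift x (Kout l N' j) (coneMap x (mapD l φ) z)
    apply Cone.ext'
    · simp only [coneMap_fst, Cone.lift_fst, mapD_Kout φ l j]
    · simp only [coneMap_snd, Cone.lift_snd, map_neg, mapD_Kout φ l j]

theorem mapD_liftD_eq_zero (φ : N →ₗ[R] N') (h : N →ₗ[R] N) (hφ : ∀ n, φ (h n) = 0) :
    ∀ (l : List R) (z : D l N), mapD l φ (liftD l h z) = 0
  | [], z => hφ z
  | x :: l, z => by
    show coneMap x (mapD l φ) (Cone.lift x (liftD l h) z) = 0
    apply Cone.ext'
    · simp only [coneMap_fst, Cone.lift_fst, mapD_liftD_eq_zero φ h hφ l, Cone.zero_fst]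
    · simp only [coneMap_snd, Cone.lift_snd, map_neg, mapD_liftD_eq_zero φ h hφ l, neg_zero,
        Cone.zero_snd]

/-! ### anticommutation of the `Kout`'s -/

theorem Kout_sq : ∀ (l : List R) (N : DMod R) (j : ℕ) (z : D l N),
    Kout l N j (Kout l N j z) = 0
  | [], N, j, z => rfl
  | x :: l, N, 0, z => by
    show Cone.k0 x (D l N) (Cone.k0 x (D l N) z) = 0
    apply Cone.ext'
    · simp only [Cone.k0_fst, Cone.zero_fst]
    · simp only [Cone.k0_snd, Cone.k0_fst, Cone.zero_snd]
  | x :: l, N, j + 1, z => by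
    show Cone.lift x (Kout l N j) (Cone.lift x (Kout l N j) z) = 0
    apply Cone.ext'
    · simp only [Cone.lift_fst, Kout_sq l N j, Cone.zero_fst]
    · simp only [Cone.lift_snd, map_neg, neg_neg, Kout_sq l N j, Cone.zero_snd]

theorem Kout_anti : ∀ (l : List R) (N : DMod R) (i j : ℕ) (z : D l N),
    Kout l N i (Kout l N j z) + Kout l N j (Kout l N i z) = 0
  | [], N, i, j, z => by
    show (0 : N →ₗ[R] N) ((0 : N →ₗ[R] N) z) + (0 : N →ₗ[R] N) ((0 : N →ₗ[R] N) z) = 0
    simp
  | x :: l, N, 0, 0, z => by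
    rw [Kout_sq, add_zero]
  | x :: l, N, 0, j + 1, z => by
    show Cone.k0 x (D l N) (Cone.lift x (Kout l N j) z) +
      Cone.lift x (Kout l N j) (Cone.k0 x (D l N) z) = 0
    apply Cone.ext'
    · simp only [Cone.add_fst, Cone.k0_fst, Cone.lift_fst, map_zero, add_zero, Cone.zero_fst]
    · simp only [Cone.add_snd, Cone.k0_snd, Cone.lift_fst, Cone.lift_snd, add_neg_cancel,
        Cone.zero_snd]
  | x :: l, N, i + 1, 0, z => by
    show Cone.lift x (Kout l N i) (Cone.k0 x (D l N) z) +
      Cone.k0 x (D l N) (Cone.lift x (Kout l N i) z) = 0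
    apply Cone.ext'
    · simp only [Cone.add_fst, Cone.k0_fst, Cone.lift_fst, map_zero, add_zero, Cone.zero_fst]
    · simp only [Cone.add_snd, Cone.k0_snd, Cone.lift_fst, Cone.lift_snd, neg_add_cancel,
        Cone.zero_snd]
  | x :: l, N, i + 1, j + 1, z => by
    show Cone.lift x (Kout l N i) (Cone.lift x (Kout l N j) z) +
      Cone.lift x (Kout l N j) (Cone.lift x (Kout l N i) z) = 0
    apply Cone.ext'
    · simp only [Cone.add_fst, Cone.lift_fst, Kout_anti l N i j, Cone.zero_fst]
    · simp only [Cone.add_snd, Cone.lift_snd, map_neg, neg_neg, Kout_anti l N i j,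
        Cone.zero_snd]

/-! ### the swap -/

/-- `((a₁, a₂), (b₁, b₂)) ↦ ((a₁, b₁), (a₂, -b₂))` -/
def rearr (X : Type u) [AddCommGroup X] [Module R X] :
    ((X × X) × (X × X)) ≃ₗ[R] ((X × X) × (X × X)) where
  toFun z := ((z.1.1, z.2.1), (z.1.2, -z.2.2))
  invFun z := ((z.1.1, z.2.1), (z.1.2, -z.2.2))
  map_add' z w := by
    ext
    · simp
    · simp
    · simp
    · simp only [Prod.snd_add, neg_add]
  map_smul' r z := by simp
  left_inv z := by simp
  right_inv z := by simp

/-- `D l (Cone x N) ≃ Cone x (D l N)` -/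
def Sw (x : R) (N : DMod R) : (l : List R) → D l (Cone x N) ≃ₗ[R] Cone x (D l N)
  | [] => LinearEquiv.refl R _
  | _ :: l => (LinearEquiv.prodCongr (Sw x N l) (Sw x N l)).trans (rearr (D l N))

theorem Sw_cons_apply (x : R) (N : DMod R) (y : R) (l : List R)
    (z : Cone y (D l (Cone x N))) :
    Sw x N (y :: l) z =
      (Cone.mk (Cone.mk (Sw x N l z.1).1 (Sw x N l z.2).1 : Cone y (D l N))
        (Cone.mk (Sw x N l z.1).2 (-(Sw x N l z.2).2) : Cone y (D l N)) :
        Cone x (Cone y (D l N))) := rfl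

theorem Sw_chain (x : R) (N : DMod R) : ∀ l : List R,
    IsChain (Sw x N l : D l (Cone x N) →ₗ[R] Cone x (D l N))
  | [] => fun z => rfl
  | y :: l => by
    intro z
    have hA := Sw_chain x N l (z : Cone y (D l (Cone x N))).1
    have hB := Sw_chain x N l (z : Cone y (D l (Cone x N))).2
    simp only [LinearEquiv.coe_coe] at hA hB
    show Sw x N (y :: l) ((Cone y (D l (Cone x N))).d z) =
      (Cone x (Cone y (D l N))).d (Sw x N (y :: l) z)
    rw [Sw_cons_apply, Sw_cons_apply]
    apply Cone.ext'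
    · apply Cone.ext'
      · simp only [Cone.mk_fst, Cone.mk_snd, Cone.d_fst, Cone.d_snd, map_add, map_smul, hA,
          Cone.add_fst, Cone.smul_fst]
        abel
      · simp only [Cone.mk_fst, Cone.mk_snd, Cone.d_fst, Cone.d_snd, map_neg, hB, Cone.neg_fst,
          Cone.add_snd, Cone.smul_snd, smul_neg]
        abel
    · apply Cone.ext'
      · simp only [Cone.mk_fst, Cone.mk_snd, Cone.d_fst, Cone.d_snd, map_add, map_smul, hA,
          Cone.add_snd, Cone.smul_snd, Cone.neg_fst, smul_neg]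
        abel
      · simp only [Cone.mk_fst, Cone.mk_snd, Cone.d_fst, Cone.d_snd, map_neg, hB, Cone.neg_snd,
          neg_neg]

theorem P_Sw (x : R) (N : DMod R) : ∀ (l : List R) (z : D l (Cone x N)),
    P l (Cone x N) z = coneMap x (P l N) (Sw x N l z)
  | [], z => rfl
  | y :: l, z => by
    have h1 := P_Sw x N l (z : Cone y (D l (Cone x N))).1
    show P l (Cone x N) (Cone.fstL y (D l (Cone x N)) z) =
      coneMap x (P l N ∘ₗ Cone.fstL y (D l N)) (Sw x N (y :: l) z)
    rw [Cone.fstL_apply, h1, Sw_cons_apply]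
    apply Cone.ext'
    · simp only [coneMap_fst, Cone.mk_fst, LinearMap.comp_apply, Cone.fstL_apply]
    · simp only [coneMap_snd, Cone.mk_snd, LinearMap.comp_apply, Cone.fstL_apply, Cone.mk_fst]

end Groth.Agent.Lib.helper22.Wiebe
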