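import Groth.Agent.Lib.Helper22.WiebeB

/-!
# Wiebe's lemma, part C: the double Koszul complex argument (helper22)

For lists `l`, `g` which are (ungraded) Koszul-regular and with `l_i = ∑ c_ij g_j`, every `x` with
`x g_j ∈ (l)` lies in `(l) + K`, where `K` is any ideal containing the top coefficients of all words
in the operators `s_i = ∑ c_ij h_j` applied to `1` in the Koszul complex of `g`.
-/

set_option autoImplicit false
universe u

namespace Groth.Agent.Lib.helper22.Wiebe

variable {R : Type u} [CommRing R]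

/-! ### null-homotopies -/

section Htpy

variable {N : DMod R}

theorem IsHtpy.zero : IsHtpy (0 : R) (0 : N →ₗ[R] N) := by
  intro z
  simp

theorem IsHtpy.add {r r' : R} {h h' : N →ₗ[R] N} (hh : IsHtpy r h) (hh' : IsHtpy r' h') :
    IsHtpy (r + r') (h + h') := by
  intro z
  have h1 := hh z
  have h2 := hh' z
  simp only [LinearMap.add_apply, map_add, add_smul]
  rw [← h1, ← h2]; abel

theorem IsHtpy.smul (c : R) {r : R} {h : N →ₗ[R] N} (hh : IsHtpy r h) :
    IsHtpy (c * r) (c • h) := by
  intro z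
  have h1 := hh z
  simp only [LinearMap.smul_apply, map_smul, mul_smul]
  rw [← h1, smul_add]

theorem IsHtpy.sum {ι : Type*} (s : Finset ι) (r : ι → R) (h : ι → (N →ₗ[R] N))
    (hh : ∀ i ∈ s, IsHtpy (r i) (h i)) : IsHtpy (∑ i ∈ s, r i) (∑ i ∈ s, h i) := by
  classical
  induction s using Finset.induction_on with
  | empty => simpa using IsHtpy.zero
  | insert a s ha ih =>
    rw [Finset.sum_insert ha, Finset.sum_insert ha]
    exact (hh a (Finset.mem_insert_self a s)).add
      (ih fun i hi => hh i (Finset.mem_insert_of_mem hi))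

/-- the difference of two null-homotopies of the same scalar anticommutes with `d` -/
theorem IsHtpy.sub_anti {r : R} {h h' : N →ₗ[R] N} (hh : IsHtpy r h) (hh' : IsHtpy r h')
    (z : N) : N.d ((h - h') z) = - (h - h') (N.d z) := by
  have h1 := hh z
  have h2 := hh' z
  simp only [LinearMap.sub_apply, map_sub]
  have : N.d (h z) + h (N.d z) = N.d (h' z) + h' (N.d z) := by rw [h1, h2]
  rw [eq_neg_iff_add_eq_zero,
    show N.d (h z) - N.d (h' z) + (h (N.d z) - h' (N.d z)) =
      (N.d (h z) + h (N.d z)) - (N.d (h' z) + h' (N.d z)) by abel, this, sub_self]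

end Htpy

/-! ### regularity and the augmentation -/

/-- the unit of the Koszul complex -/
def one (l : List R) : D l (Triv R) := emb l (Triv R) (1 : R)

theorem one_d (l : List R) : (D l (Triv R)).d (one l) = 0 := by
  unfold one
  rw [emb_d, Triv_d, map_zero]

theorem P_one (l : List R) : P l (Triv R) (one l) = (1 : R) := P_emb l _

/-- (ungraded) Koszul-regularity of the list `l` -/
def Reg (l : List R) : Prop :=
  ∀ z : D l (Triv R), (D l (Triv R)).d z = 0 →
    ∃ (w : D l (Triv R)) (r : R), z = (D l (Triv R)).d w + r • one l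

/-- the quotient map `R → R ⧸ I` as a map of differential modules with zero differential -/
def mkT (I : Ideal R) : (Triv R : DMod R) →ₗ[R] (Triv (R ⧸ I) : DMod R) := Submodule.mkQ I

theorem mkT_apply (I : Ideal R) (r : R) : mkT I r = Submodule.Quotient.mk r := rfl

theorem mkT_chain (I : Ideal R) : IsChain (mkT I) := fun _ => rfl

theorem mkT_eq_zero (I : Ideal R) (r : R) : mkT I r = 0 ↔ r ∈ I := by
  show (Submodule.Quotient.mk r : R ⧸ I) = 0 ↔ r ∈ I
  exact Submodule.Quotient.mk_eq_zero I

/-- the augmentation `D l R → R ⧸ (l)` -/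
def aug (l : List R) : D l (Triv R) →ₗ[R] (Triv (R ⧸ Ideal.ofList l) : DMod R) :=
  mkT (Ideal.ofList l) ∘ₗ P l (Triv R)

theorem aug_chain (l : List R) : IsChain (aug l) := by
  apply chain_P (mkT_chain _) l
  intro y hy n
  rw [mkT_eq_zero]
  exact Ideal.mul_mem_right _ _ (Ideal.subset_span hy)

theorem aug_smul_one (l : List R) (r : R) : aug l (r • one l) = mkT (Ideal.ofList l) r := by
  show mkT _ (P l (Triv R) (r • one l)) = mkT _ r
  rw [map_smul, P_one]
  congr 1
  exact mul_one r

theorem smul_one_mem_range (l : List R) (r : R) (hr : r ∈ Ideal.ofList l) :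
    ∃ w, r • one l = (D l (Triv R)).d w := by
  induction hr using Submodule.span_induction with
  | mem y hy =>
    obtain ⟨j, hj, rfl⟩ := List.mem_iff_getElem.mp hy
    refine ⟨Kout l (Triv R) j (one l), ?_⟩
    have := Kout_htpy l (Triv R) j (one l)
    rw [one_d, map_zero, add_zero] at this
    rw [this, List.getD_eq_getElem _ _ hj]
  | zero => exact ⟨0, by simp⟩
  | add a b _ _ ha hb =>
    obtain ⟨wa, hwa⟩ := ha
    obtain ⟨wb, hwb⟩ := hb
    exact ⟨wa + wb, by rw [add_smul, hwa, hwb, map_add]⟩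
  | smul c a _ ha =>
    obtain ⟨wa, hwa⟩ := ha
    exact ⟨c • wa, by rw [smul_eq_mul, mul_smul, hwa, map_smul]⟩

theorem aug_qiso (l : List R) (hl : Reg l) : QIso (aug l) where
  chain := aug_chain l
  surj := by
    intro z' _
    obtain ⟨r, rfl⟩ := Submodule.Quotient.mk_surjective _ z'
    refine ⟨r • one l, by rw [map_smul, one_d, smul_zero], 0, ?_⟩
    rw [aug_smul_one, map_zero, add_zero]
    rfl
  inj := by
    intro z hz w' hw
    obtain ⟨w, r, rfl⟩ := hl z hz
    have h0 : aug l ((D l (Triv R)).d w + r • one l) = 0 := by rw [hw]; rfl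
    rw [map_add, aug_chain l w] at h0
    have h1 : aug l (r • one l) = 0 := by
      have : (Triv (R ⧸ Ideal.ofList l) : DMod R).d (aug l w) = 0 := rfl
      rw [this, zero_add] at h0
      exact h0
    have h2 : r ∈ Ideal.ofList l := by
      rw [← mkT_eq_zero, ← aug_smul_one]
      exact h1
    obtain ⟨w2, hw2⟩ := smul_one_mem_range l r h2
    exact ⟨w + w2, by rw [map_add, hw2]⟩

/-! ### part (II): the projection to `D g (R ⧸ (l))` -/

/-- `D l (D g R) → D g (R ⧸ (l))`: forget all components involving an `e` of `l`, reduce mod `(l)` -/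
def rho2 (l g : List R) : D l (D g (Triv R)) →ₗ[R] D g (Triv (R ⧸ Ideal.ofList l) : DMod R) :=
  mapD g (mkT (Ideal.ofList l)) ∘ₗ P l (D g (Triv R))

theorem rho2_qiso (l : List R) (hl : Reg l) : ∀ g : List R, QIso (rho2 l g)
  | [] => aug_qiso l hl
  | x :: g => by
    have h1 := ((rho2_qiso l hl g).cone x).comp_equiv (Sw x (D g (Triv R)) l)
      (Sw_chain x (D g (Triv R)) l)
    have e : rho2 l (x :: g) = coneMap x (rho2 l g) ∘ₗ
        (Sw x (D g (Triv R)) l : D l (Cone x (D g (Triv R))) →ₗ[R] Cone x (D l (D g (Triv R)))) := by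
      apply LinearMap.ext
      intro z
      show coneMap x (mapD g (mkT (Ideal.ofList l))) (P l (Cone x (D g (Triv R))) z) =
        coneMap x (rho2 l g) (Sw x (D g (Triv R)) l z)
      rw [P_Sw]
      rfl
    rw [e]
    exact h1

/-! ### part (I): the projection to `D l (R ⧸ (g))` -/

/-- `D l (D g R) → D l (R ⧸ (g))` -/
def rho1 (l g : List R) : D l (D g (Triv R)) →ₗ[R] D l (Triv (R ⧸ Ideal.ofList g) : DMod R) :=
  mapD l (aug g)

theorem rho1_qiso (l g : List R) (hg : Reg g) : QIso (rho1 l g) := mapD_qiso (aug_qiso g hg) l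

/-! ### generation of `D l M` -/

theorem mem_of_closed (M : DMod R) : ∀ (l : List R) (S : Submodule R (D l M)),
    (∀ m, emb l M m ∈ S) → (∀ i z, z ∈ S → Kout l M i z ∈ S) → ∀ z, z ∈ S
  | [], S, h1, _, z => h1 z
  | x :: l, S, h1, h2, z => by
    have key : ∀ (S : Submodule R (Cone x (D l M))),
        (∀ m, Cone.inlL x (D l M) (emb l M m) ∈ S) →
        (∀ z, z ∈ S → Cone.k0 x (D l M) z ∈ S) →
        (∀ i z, z ∈ S → Cone.lift x (Kout l M i) z ∈ S) → ∀ z, z ∈ S := by
      intro S h1 h20 h2 z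
      have ih := mem_of_closed M l (S.comap (Cone.inlL x (D l M))) h1 (by
        intro i a ha
        rw [Submodule.mem_comap] at ha ⊢
        have := h2 i _ ha
        convert this using 1
        apply Cone.ext'
        · simp only [Cone.inlL_fst, Cone.lift_fst]
        · simp only [Cone.inlL_snd, Cone.lift_snd, map_zero, neg_zero])
      have e : z = Cone.inlL x (D l M) z.1 + Cone.k0 x (D l M) (Cone.inlL x (D l M) z.2) := by
        apply Cone.ext'
        · simp only [Cone.add_fst, Cone.inlL_fst, Cone.k0_fst, add_zero]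
        · simp only [Cone.add_snd, Cone.inlL_snd, Cone.k0_snd, Cone.inlL_fst, zero_add]
      rw [e]
      exact S.add_mem (ih z.1) (h20 _ (ih z.2))
    exact key S h1 (fun z hz => h2 0 z hz) (fun i z hz => h2 (i + 1) z hz) z

/-! ### the operators `s_i` and the main argument -/

section Main

variable {n : ℕ} (l g : List R) (c : Matrix (Fin n) (Fin n) R)

/-- `∑ v_j h_j` on the Koszul complex of `g` -/
def sOp (v : Fin n → R) : D g (Triv R) →ₗ[R] D g (Triv R) :=
  ∑ j : Fin n, v j • Kout g (Triv R) (j : ℕ)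

theorem sOp_htpy (v : Fin n → R) : IsHtpy (∑ j : Fin n, v j * g.getD (j : ℕ) 0) (sOp g v) :=
  IsHtpy.sum _ _ _ fun j _ => (Kout_htpy g (Triv R) j).smul (v j)

theorem aug_sOp (v : Fin n → R) (z : D g (Triv R)) : aug g (sOp g v z) = 0 := by
  simp only [aug, sOp, LinearMap.comp_apply, LinearMap.sum_apply, LinearMap.smul_apply, map_sum,
    map_smul, P_Kout, map_zero, smul_zero, Finset.sum_const_zero]

/-- the coefficient of `e₁ ∧ ⋯ ∧ e_n` -/
def topCoeff : D g (Triv R) →ₗ[R] R := T g (Triv R)

/-- the word `s_{i₁} ⋯ s_{i_k} (1)` -/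
def word : List (Fin n) → D g (Triv R)
  | [] => one g
  | i :: is => sOp g (c i) (word is)

/-- the span of all words -/
def Sspan : Submodule R (D g (Triv R)) := Submodule.span R (Set.range (word g c))

theorem one_mem_Sspan : one g ∈ Sspan g c := Submodule.subset_span ⟨[], rfl⟩

theorem sOp_mem_Sspan (i : Fin n) (z : D g (Triv R)) (hz : z ∈ Sspan g c) :
    sOp g (c i) z ∈ Sspan g c := by
  induction hz using Submodule.span_induction with
  | mem y hy =>
    obtain ⟨is, rfl⟩ := hy
    exact Submodule.subset_span ⟨i :: is, rfl⟩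
  | zero => rw [map_zero]; exact Submodule.zero_mem _
  | add a b _ _ ha hb => rw [map_add]; exact Submodule.add_mem _ ha hb
  | smul r a _ ha => rw [map_smul]; exact Submodule.smul_mem _ r ha

/-- `η_i = K_i - S_i` on the double complex -/
def eta (i : Fin n) : D l (D g (Triv R)) →ₗ[R] D l (D g (Triv R)) :=
  Kout l (D g (Triv R)) (i : ℕ) - liftD l (sOp g (c i))

variable (hc : ∀ i : Fin n, l.getD (i : ℕ) 0 = ∑ j : Fin n, c i j * g.getD (j : ℕ) 0)

include hc in
theorem eta_anti (i : Fin n) (z : D l (D g (Triv R))) :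
    (D l (D g (Triv R))).d (eta l g c i z) = - eta l g c i ((D l (D g (Triv R))).d z) := by
  have h1 := Kout_htpy l (D g (Triv R)) (i : ℕ)
  have h2 := liftD_htpy (sOp_htpy g (c i)) l
  rw [← hc i] at h2
  exact h1.sub_anti h2 z

theorem rho1_eta (i : Fin n) (z : D l (D g (Triv R))) :
    rho1 l g (eta l g c i z) = Kout l _ (i : ℕ) (rho1 l g z) := by
  simp only [rho1, eta, LinearMap.sub_apply, map_sub, mapD_Kout]
  rw [mapD_liftD_eq_zero (aug g) (sOp g (c i)) (aug_sOp g (c i)) l z, sub_zero]

theorem P_eta (i : Fin n) (z : D l (D g (Triv R))) :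
    P l (D g (Triv R)) (eta l g c i z) = - sOp g (c i) (P l (D g (Triv R)) z) := by
  simp only [eta, LinearMap.sub_apply, map_sub, P_Kout, P_liftD, zero_sub]

/-- the submodule of `D l (R ⧸ (g))` of classes represented by cycles whose `l`-free part is a
combination of words -/
def Pset : Submodule R (D l (Triv (R ⧸ Ideal.ofList g) : DMod R)) where
  carrier := {Z | ∃ Y : D l (D g (Triv R)), (D l (D g (Triv R))).d Y = 0 ∧ rho1 l g Y = Z ∧
    P l (D g (Triv R)) Y ∈ Sspan g c}
  zero_mem' := ⟨0, by simp, by simp, by simp⟩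
  add_mem' := by
    rintro Z Z' ⟨Y, h1, h2, h3⟩ ⟨Y', h1', h2', h3'⟩
    exact ⟨Y + Y', by rw [map_add, h1, h1', add_zero], by rw [map_add, h2, h2'],
      by rw [map_add]; exact Submodule.add_mem _ h3 h3'⟩
  smul_mem' := by
    rintro r Z ⟨Y, h1, h2, h3⟩
    exact ⟨r • Y, by rw [map_smul, h1, smul_zero], by rw [map_smul, h2],
      by rw [map_smul]; exact Submodule.smul_mem _ r h3⟩

include hc in
theorem Pset_eq_top (hlen : l.length = n) (Z : D l (Triv (R ⧸ Ideal.ofList g) : DMod R)) :
    Z ∈ Pset l g c := by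
  apply mem_of_closed _ l (Pset l g c)
  · intro m
    obtain ⟨r, rfl⟩ := Submodule.Quotient.mk_surjective _ m
    refine ⟨r • emb l (D g (Triv R)) (one g), ?_, ?_, ?_⟩
    · rw [map_smul, emb_d, one_d, map_zero, smul_zero]
    · rw [map_smul, rho1, mapD_emb, ← map_smul, ← map_smul, aug_smul_one]
      rfl
    · rw [map_smul, P_emb]
      exact Submodule.smul_mem _ r (one_mem_Sspan g c)
  · intro i Z hZ
    by_cases hi : i < n
    · obtain ⟨Y, h1, h2, h3⟩ := hZ
      refine ⟨eta l g c ⟨i, hi⟩ Y, ?_, ?_, ?_⟩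
      · rw [eta_anti l g c hc, h1, map_zero, neg_zero]
      · rw [rho1_eta, h2]
      · rw [P_eta]
        exact Submodule.neg_mem _ (sOp_mem_Sspan g c _ _ h3)
    · rw [Kout_of_le l _ i (by omega)]
      exact Submodule.zero_mem _

include hc in
/-- The core of Wiebe's lemma. -/
theorem wiebe_core (hlen : l.length = n) (hl : Reg l) (hg : Reg g) (K : Ideal R)
    (hK : ∀ is : List (Fin n), topCoeff g (word g c is) ∈ K)
    (x : R) (hx : ∀ y ∈ g, x * y ∈ Ideal.ofList l) : x ∈ Ideal.ofList l ⊔ K := by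
  have hTK : ∀ v ∈ Sspan g c, topCoeff g v ∈ K := by
    intro v hv
    induction hv using Submodule.span_induction with
    | mem y hy => obtain ⟨is, rfl⟩ := hy; exact hK is
    | zero => rw [map_zero]; exact K.zero_mem
    | add a b _ _ ha hb => rw [map_add]; exact K.add_mem ha hb
    | smul r a _ ha => rw [map_smul]; exact K.mul_mem_left r ha
  have hTrho : ∀ Y : D l (D g (Triv R)),
      T g (Triv (R ⧸ Ideal.ofList l) : DMod R) (rho2 l g Y) =
      mkT (Ideal.ofList l) (topCoeff g (P l (D g (Triv R)) Y)) := by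
    intro Y
    exact T_mapD (mkT (Ideal.ofList l)) g (P l (D g (Triv R)) Y)
  have hTd : ∀ w : D g (Triv (R ⧸ Ideal.ofList l) : DMod R),
      T g (Triv (R ⧸ Ideal.ofList l) : DMod R)
        ((D g (Triv (R ⧸ Ideal.ofList l) : DMod R)).d w) = 0 :=
    T_d_of_d_eq_zero (fun _ => rfl) g
  -- the cycle `z'`
  have hq : ∀ y ∈ g, y • (mkT (Ideal.ofList l) x) = 0 := by
    intro y hy
    rw [← map_smul, mkT_eq_zero]
    show y * x ∈ _
    rw [mul_comm]
    exact hx y hy
  have hz' := top_d (mkT (Ideal.ofList l) x) rfl g hq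
  obtain ⟨Y, hY, w', hw'⟩ := (rho2_qiso l hl g).surj _ hz'
  have e1 : mkT (Ideal.ofList l) (topCoeff g (P l (D g (Triv R)) Y)) = mkT (Ideal.ofList l) x := by
    rw [← hTrho, hw', map_add, T_top, hTd, add_zero]
  -- compare with a cycle whose `l`-free part is a combination of words
  obtain ⟨Y', hY', hYY', hS⟩ := Pset_eq_top l g c hc hlen (rho1 l g Y)
  obtain ⟨W, hW⟩ := (rho1_qiso l g hg).inj (Y - Y') (by rw [map_sub, hY, hY', sub_zero]) 0
    (by rw [map_sub, hYY', sub_self, map_zero])
  have e2 : mkT (Ideal.ofList l) (topCoeff g (P l (D g (Triv R)) Y)) =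
      mkT (Ideal.ofList l) (topCoeff g (P l (D g (Triv R)) Y')) := by
    rw [← hTrho, ← hTrho, ← sub_eq_zero, ← map_sub, ← map_sub, hW,
      (rho2_qiso l hl g).chain W, hTd]
  have e3 : x - topCoeff g (P l (D g (Triv R)) Y') ∈ Ideal.ofList l := by
    rw [← mkT_eq_zero]
    have := (mkT (Ideal.ofList l)).map_sub x (topCoeff g (P l (D g (Triv R)) Y'))
    exact this.trans (by rw [← e1, e2, sub_self])
  have : x = (x - topCoeff g (P l (D g (Triv R)) Y')) + topCoeff g (P l (D g (Triv R)) Y') := by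
    ring
  rw [this]
  exact Submodule.add_mem_sup e3 (hTK _ hS)

end Main

end Groth.Agent.Lib.helper22.Wiebe
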