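import Groth.Agent.Lib.Helper22.WiebeC

/-!
# Wiebe's lemma, part D: degrees and the determinant (helper22)

The top coefficient of any word `s_{i₁} ⋯ s_{i_k} (1)` in the Koszul complex of `g` (of length `n`)
is a multiple of `det c`.
-/

set_option autoImplicit false
universe u

namespace Groth.Agent.Lib.helper22.Wiebe

variable {R : Type u} [CommRing R]

/-! ### a square-zero lemma -/

theorem sum_smul_sq_eq_zero {M : Type*} [AddCommGroup M] [Module R M] {ι : Type*}
    (a : ι → Module.End R M) (hsq : ∀ i, a i * a i = 0)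
    (hanti : ∀ i j, a i * a j + a j * a i = 0) (v : ι → R) (s : Finset ι) :
    (∑ i ∈ s, v i • a i) * (∑ i ∈ s, v i • a i) = 0 := by
  classical
  induction s using Finset.induction_on with
  | empty => simp
  | insert b s hb ih =>
    rw [Finset.sum_insert hb]
    have hcross : a b * (∑ i ∈ s, v i • a i) + (∑ i ∈ s, v i • a i) * a b = 0 := by
      rw [Finset.mul_sum, Finset.sum_mul, ← Finset.sum_add_distrib]
      apply Finset.sum_eq_zero
      intro i _
      rw [mul_smul_comm, smul_mul_assoc, ← smul_add, hanti, smul_zero]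
    have : (v b • a b + ∑ i ∈ s, v i • a i) * (v b • a b + ∑ i ∈ s, v i • a i) =
        (v b * v b) • (a b * a b) +
          v b • (a b * (∑ i ∈ s, v i • a i) + (∑ i ∈ s, v i • a i) * a b) +
          (∑ i ∈ s, v i • a i) * (∑ i ∈ s, v i • a i) := by
      simp only [add_mul, mul_add, smul_mul_assoc, mul_smul_comm, smul_smul, smul_add]
      abel
    rw [this, hsq, hcross, ih, smul_zero, smul_zero, add_zero, add_zero]

/-! ### degrees -/

/-- the part of cohomological degree `k` (Koszul degree `-k`) -/
def Deg : (l : List R) → ℤ → Submodule R (D l (Triv R))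
  | [], k => if k = 0 then ⊤ else ⊥
  | _ :: l, k => Submodule.prod (Deg l k) (Deg l (k + 1))

theorem mem_Deg_cons (x : R) (l : List R) (k : ℤ) (z : Cone x (D l (Triv R))) :
    z ∈ Deg (x :: l) k ↔ z.1 ∈ Deg l k ∧ z.2 ∈ Deg l (k + 1) := Iff.rfl

theorem one_mem_Deg : ∀ l : List R, one l ∈ Deg l 0
  | [] => by
    show (1 : R) ∈ (if (0 : ℤ) = 0 then (⊤ : Submodule R R) else ⊥)
    simp
  | x :: l => by
    show Cone.inlL x (D l (Triv R)) (one l) ∈ Deg (x :: l) 0
    rw [mem_Deg_cons]
    exact ⟨one_mem_Deg l, Submodule.zero_mem _⟩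

theorem Kout_mem_Deg : ∀ (l : List R) (j : ℕ) (k : ℤ) (z : D l (Triv R)), z ∈ Deg l k →
    Kout l (Triv R) j z ∈ Deg l (k - 1)
  | [], j, k, z, _ => Submodule.zero_mem _
  | x :: l, 0, k, z, hz => by
    have key : ∀ z : Cone x (D l (Triv R)), z ∈ Deg (x :: l) k →
        Cone.k0 x (D l (Triv R)) z ∈ Deg (x :: l) (k - 1) := by
      intro z hz
      rw [mem_Deg_cons] at hz ⊢
      refine ⟨Submodule.zero_mem _, ?_⟩
      rw [Cone.k0_snd, sub_add_cancel]
      exact hz.1
    exact key z hz
  | x :: l, j + 1, k, z, hz => by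
    have key : ∀ z : Cone x (D l (Triv R)), z ∈ Deg (x :: l) k →
        Cone.lift x (Kout l (Triv R) j) z ∈ Deg (x :: l) (k - 1) := by
      intro z hz
      rw [mem_Deg_cons] at hz ⊢
      refine ⟨Kout_mem_Deg l j k _ hz.1, ?_⟩
      rw [Cone.lift_snd, sub_add_cancel]
      have := Kout_mem_Deg l j (k + 1) _ hz.2
      rw [add_sub_cancel_right] at this
      exact Submodule.neg_mem _ this
    exact key z hz

theorem T_eq_zero_of_mem_Deg : ∀ (l : List R) (k : ℤ) (z : D l (Triv R)), z ∈ Deg l k →
    k ≠ -(l.length : ℤ) → T l (Triv R) z = 0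
  | [], k, z, hz, hk => by
    have hk' : k ≠ 0 := by simpa using hk
    have : z ∈ (if k = 0 then (⊤ : Submodule R R) else ⊥) := hz
    rw [if_neg hk'] at this
    have hz0 : (z : R) = 0 := (Submodule.mem_bot (R := R) (M := R)).mp this
    exact hz0
  | x :: l, k, z, hz, hk => by
    have key : ∀ z : Cone x (D l (Triv R)), z ∈ Deg (x :: l) k →
        T l (Triv R) (Cone.sndL x (D l (Triv R)) z) = 0 := by
      intro z hz
      rw [mem_Deg_cons] at hz
      apply T_eq_zero_of_mem_Deg l (k + 1) _ hz.2
      simp only [List.length_cons, Nat.cast_add, Nat.cast_one] at hk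
      omega
    exact key z hz

/-! ### the algebra map from the exterior algebra -/

section Alg

variable {n : ℕ} (g : List R)

theorem sOp_sq (v : Fin n → R) : (sOp g v : Module.End R (D g (Triv R))) * sOp g v = 0 := by
  unfold sOp
  apply sum_smul_sq_eq_zero (fun j : Fin n => (Kout g (Triv R) (j : ℕ) : Module.End R _))
  · intro i
    apply LinearMap.ext
    intro z
    exact Kout_sq g (Triv R) i z
  · intro i j
    apply LinearMap.ext
    intro z
    exact Kout_anti g (Triv R) i j z

/-- `v ↦ ∑ v_j h_j` as a linear map -/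
def sOpL : (Fin n → R) →ₗ[R] Module.End R (D g (Triv R)) where
  toFun v := sOp g v
  map_add' v w := by
    simp only [sOp, Pi.add_apply, add_smul, Finset.sum_add_distrib]
  map_smul' r v := by
    simp only [sOp, Pi.smul_apply, smul_eq_mul, mul_smul, Finset.smul_sum, RingHom.id_apply]

/-- the induced algebra map `⋀ Rⁿ → End (D g R)` -/
noncomputable def PhiE : ExteriorAlgebra R (Fin n → R) →ₐ[R] Module.End R (D g (Triv R)) :=
  ExteriorAlgebra.lift R ⟨sOpL g, fun v => sOp_sq g v⟩

theorem PhiE_ι (v : Fin n → R) : PhiE g (ExteriorAlgebra.ι R v) = sOp g v := by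
  unfold PhiE
  rw [ExteriorAlgebra.lift_ι_apply]
  rfl

theorem word_eq (c : Matrix (Fin n) (Fin n) R) : ∀ is : List (Fin n),
    word g c is = PhiE g ((is.map fun i => ExteriorAlgebra.ι R (c i)).prod) (one g)
  | [] => by
    rw [List.map_nil, List.prod_nil, map_one]
    rfl
  | i :: is => by
    rw [List.map_cons, List.prod_cons, map_mul, PhiE_ι, Module.End.mul_apply, ← word_eq c is]
    rfl

theorem word_mem_Deg (c : Matrix (Fin n) (Fin n) R) : ∀ is : List (Fin n),
    word g c is ∈ Deg g (-(is.length : ℤ))
  | [] => by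
    show one g ∈ Deg g (-((([] : List (Fin n)).length : ℕ) : ℤ))
    simpa using one_mem_Deg g
  | i :: is => by
    have h := word_mem_Deg c is
    show sOp g (c i) (word g c is) ∈ _
    have e : (-((i :: is).length : ℤ)) = -(is.length : ℤ) - 1 := by
      simp only [List.length_cons, Nat.cast_add, Nat.cast_one]; ring
    rw [e]
    unfold sOp
    rw [LinearMap.sum_apply]
    apply Submodule.sum_mem
    intro j _
    rw [LinearMap.smul_apply]
    exact Submodule.smul_mem _ _ (Kout_mem_Deg g j _ _ h)

/-- the linear functional `w ↦ topCoeff (Φ(w)(1))` -/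
noncomputable def linE : ExteriorAlgebra R (Fin n → R) →ₗ[R] R :=
  topCoeff g ∘ₗ (LinearMap.applyₗ (one g)) ∘ₗ (PhiE (n := n) g).toLinearMap

theorem linE_apply (w : ExteriorAlgebra R (Fin n → R)) :
    linE g w = topCoeff g (PhiE g w (one g)) := rfl

/-- the top coefficient of every word is a multiple of the determinant -/
theorem topCoeff_word_mem (hlen : g.length = n) (c : Matrix (Fin n) (Fin n) R)
    (is : List (Fin n)) : topCoeff g (word g c is) ∈ Ideal.span {c.det} := by
  by_cases h : is.length = n
  · -- alternating form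
    let σ : Fin n → Fin n := fun a => is.get (Fin.cast h.symm a)
    have his : is = List.ofFn σ := by
      apply List.ext_get
      · simp [h]
      · intro k h1 h2
        simp [σ]
    have e1 : (is.map fun i => ExteriorAlgebra.ι R (c i)).prod =
        ExteriorAlgebra.ιMulti R n (fun a => c (σ a)) := by
      rw [ExteriorAlgebra.ιMulti_apply, his, List.map_ofFn]
      rfl
    let F : (Fin n → R) [⋀^Fin n]→ₗ[R] R := (linE g).compAlternatingMap (ExteriorAlgebra.ιMulti R n)
    have e2 : topCoeff g (word g c is) = F (fun a => c (σ a)) := by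
      rw [word_eq, e1]
      rfl
    have e3 := F.eq_smul_basis_det (Pi.basisFun R (Fin n))
    rw [e2, e3, AlternatingMap.smul_apply, Pi.basisFun_det_apply, smul_eq_mul]
    apply Ideal.mul_mem_left
    by_cases hσ : Function.Injective σ
    · have hb : Function.Bijective σ := Finite.injective_iff_bijective.mp hσ
      have : Matrix.of (fun a => c (σ a)) = c.submatrix (Equiv.ofBijective σ hb) id := by
        ext a b
        rfl
      rw [this, Matrix.det_permute]
      exact Ideal.mul_mem_left _ _ (Ideal.subset_span rfl)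
    · rw [Function.Injective] at hσ
      push Not at hσ
      obtain ⟨a, b, hab, hne⟩ := hσ
      have hrow : (Matrix.of fun a => c (σ a)) a = (Matrix.of fun a => c (σ a)) b := by
        show c (σ a) = c (σ b)
        rw [hab]
      rw [Matrix.det_zero_of_row_eq (M := Matrix.of fun a => c (σ a)) hne hrow]
      exact Submodule.zero_mem _
  · have h1 := word_mem_Deg g c is
    have : topCoeff g (word g c is) = 0 := by
      apply T_eq_zero_of_mem_Deg g _ _ h1
      rw [hlen]
      intro h2
      exact h (by exact_mod_cast neg_injective h2)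
    rw [this]
    exact Submodule.zero_mem _

end Alg

end Groth.Agent.Lib.helper22.Wiebe
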