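import Groth.Agent.Lib.Helper22.WiebeD

/-!
# Wiebe's lemma, part E: graded exactness implies ungraded regularity (helper22)
-/

set_option autoImplicit false
universe u

namespace Groth.Agent.Lib.helper22.Wiebe

variable {R : Type u} [CommRing R]

/-- `(a, b) ↦ (f₁ a, f₂ b)` -/
def Cone.comp2 (x : R) {N : DMod R} (f1 f2 : N →ₗ[R] N) : Cone x N →ₗ[R] Cone x N :=
  LinearMap.prodMap f1 f2

@[simp] theorem Cone.comp2_fst (x : R) {N : DMod R} (f1 f2 : N →ₗ[R] N) (z : Cone x N) :
    (Cone.comp2 x f1 f2 z).1 = f1 z.1 := rfl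
@[simp] theorem Cone.comp2_snd (x : R) {N : DMod R} (f1 f2 : N →ₗ[R] N) (z : Cone x N) :
    (Cone.comp2 x f1 f2 z).2 = f2 z.2 := rfl

/-- the product submodule of the cone -/
def Cone.subm (x : R) {N : DMod R} (S1 S2 : Submodule R N) : Submodule R (Cone x N) :=
  Submodule.prod S1 S2

theorem Cone.mem_subm (x : R) {N : DMod R} (S1 S2 : Submodule R N) (z : Cone x N) :
    z ∈ Cone.subm x S1 S2 ↔ z.1 ∈ S1 ∧ z.2 ∈ S2 := Iff.rfl

theorem Cone.subm_bot (x : R) {N : DMod R} : Cone.subm x (⊥ : Submodule R N) ⊥ = ⊥ :=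
  Submodule.prod_bot

/-- the homogeneous component of cohomological degree `k` -/
def comp : (l : List R) → ℤ → (D l (Triv R) →ₗ[R] D l (Triv R))
  | [], k => if k = 0 then LinearMap.id else 0
  | x :: l, k => Cone.comp2 x (comp l k) (comp l (k + 1))

theorem comp_mem_Deg : ∀ (l : List R) (k : ℤ) (z : D l (Triv R)), comp l k z ∈ Deg l k
  | [], k, z => by
    show (if k = 0 then LinearMap.id else (0 : R →ₗ[R] R)) z ∈
      (if k = 0 then (⊤ : Submodule R R) else ⊥)
    split_ifs <;> simp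
  | x :: l, k, z => by
    have key : ∀ z : Cone x (D l (Triv R)), Cone.comp2 x (comp l k) (comp l (k + 1)) z ∈
        Cone.subm x (Deg l k) (Deg l (k + 1)) := by
      intro z
      rw [Cone.mem_subm, Cone.comp2_fst, Cone.comp2_snd]
      exact ⟨comp_mem_Deg l k _, comp_mem_Deg l (k + 1) _⟩
    exact key z

theorem comp_d : ∀ (l : List R) (k : ℤ) (z : D l (Triv R)),
    (D l (Triv R)).d (comp l k z) = comp l (k + 1) ((D l (Triv R)).d z)
  | [], k, z => by
    show (0 : R) = (if k + 1 = 0 then LinearMap.id else (0 : R →ₗ[R] R)) (0 : R)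
    split_ifs <;> simp
  | x :: l, k, z => by
    have key : ∀ z : Cone x (D l (Triv R)),
        (Cone x (D l (Triv R))).d (Cone.comp2 x (comp l k) (comp l (k + 1)) z) =
        Cone.comp2 x (comp l (k + 1)) (comp l (k + 1 + 1)) ((Cone x (D l (Triv R))).d z) := by
      intro z
      apply Cone.ext'
      · rw [Cone.d_fst, Cone.comp2_fst, Cone.comp2_snd, Cone.comp2_fst, Cone.d_fst, map_add,
          map_smul, comp_d l k]
      · rw [Cone.d_snd, Cone.comp2_snd, Cone.comp2_snd, Cone.d_snd, map_neg, comp_d l (k + 1)]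
    exact key z

theorem Deg_eq_bot_of_pos : ∀ (l : List R) (k : ℤ), 0 < k → Deg l k = ⊥
  | [], k, hk => by
    show (if k = 0 then (⊤ : Submodule R R) else ⊥) = ⊥
    rw [if_neg hk.ne']
  | x :: l, k, hk => by
    show Cone.subm x (Deg l k) (Deg l (k + 1)) = ⊥
    rw [Deg_eq_bot_of_pos l k hk, Deg_eq_bot_of_pos l (k + 1) (by omega), Cone.subm_bot]

theorem Deg_eq_bot_of_lt : ∀ (l : List R) (k : ℤ), k < -(l.length : ℤ) → Deg l k = ⊥
  | [], k, hk => by
    show (if k = 0 then (⊤ : Submodule R R) else ⊥) = ⊥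
    rw [if_neg (by simp at hk; omega)]
  | x :: l, k, hk => by
    show Cone.subm x (Deg l k) (Deg l (k + 1)) = ⊥
    simp only [List.length_cons, Nat.cast_add, Nat.cast_one] at hk
    rw [Deg_eq_bot_of_lt l k (by omega), Deg_eq_bot_of_lt l (k + 1) (by omega), Cone.subm_bot]

theorem comp_eq_zero (l : List R) (k : ℤ) (hk : 0 < k ∨ k < -(l.length : ℤ)) (z : D l (Triv R)) :
    comp l k z = 0 := by
  have h := comp_mem_Deg l k z
  rcases hk with hk | hk
  · rw [Deg_eq_bot_of_pos l k hk] at h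
    exact (Submodule.mem_bot R).mp h
  · rw [Deg_eq_bot_of_lt l k hk] at h
    exact (Submodule.mem_bot R).mp h

theorem sum_comp : ∀ (l : List R) (S : Finset ℤ), Finset.Icc (-(l.length : ℤ)) 0 ⊆ S →
    ∀ z : D l (Triv R), ∑ k ∈ S, comp l k z = z
  | [], S, hS, z => by
    have h0 : (0 : ℤ) ∈ S := hS (by simp)
    rw [Finset.sum_eq_single_of_mem 0 h0]
    · show (if (0 : ℤ) = 0 then LinearMap.id else (0 : R →ₗ[R] R)) z = z
      simp
    · intro k _ hk
      show (if k = 0 then LinearMap.id else (0 : R →ₗ[R] R)) z = 0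
      rw [if_neg hk]; rfl
  | x :: l, S, hS, z => by
    have key : ∀ z : Cone x (D l (Triv R)),
        ∑ k ∈ S, Cone.comp2 x (comp l k) (comp l (k + 1)) z = z := by
      intro z
      simp only [List.length_cons, Nat.cast_add, Nat.cast_one] at hS
      have e1 : (∑ k ∈ S, Cone.comp2 x (comp l k) (comp l (k + 1)) z).1 =
          ∑ k ∈ S, comp l k z.1 := by
        rw [← Cone.fstL_apply, map_sum]
        apply Finset.sum_congr rfl
        intro k _
        rw [Cone.fstL_apply, Cone.comp2_fst]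
      have e2 : (∑ k ∈ S, Cone.comp2 x (comp l k) (comp l (k + 1)) z).2 =
          ∑ k ∈ S, comp l (k + 1) z.2 := by
        rw [← Cone.sndL_apply, map_sum]
        apply Finset.sum_congr rfl
        intro k _
        rw [Cone.sndL_apply, Cone.comp2_snd]
      apply Cone.ext'
      · rw [e1]
        apply sum_comp l S _ z.1
        intro k hk
        apply hS
        rw [Finset.mem_Icc] at hk ⊢
        omega
      · rw [e2]
        have := sum_comp l (S.map (addRightEmbedding (1 : ℤ))) (by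
          intro k hk
          rw [Finset.mem_map]
          refine ⟨k - 1, hS ?_, by simp⟩
          rw [Finset.mem_Icc] at hk ⊢
          omega) z.2
        rw [Finset.sum_map] at this
        simpa using this
    exact key z

/-- graded exactness of the Koszul complex of `l` in nonzero degrees -/
def GReg (l : List R) : Prop :=
  ∀ k : ℤ, k ≠ 0 → ∀ z ∈ Deg l k, (D l (Triv R)).d z = 0 → ∃ w, (D l (Triv R)).d w = z

theorem mem_Deg_zero : ∀ (l : List R) (z : D l (Triv R)), z ∈ Deg l 0 → ∃ r : R, z = r • one l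
  | [], z, _ => by
    have key : ∀ z : R, ∃ r : R, z = r • (1 : R) := fun z => ⟨z, by rw [smul_eq_mul, mul_one]⟩
    exact key z
  | x :: l, z, hz => by
    have key : ∀ z : Cone x (D l (Triv R)), z ∈ Cone.subm x (Deg l 0) (Deg l (0 + 1)) →
        ∃ r : R, z = r • Cone.inlL x (D l (Triv R)) (one l) := by
      intro z hz
      rw [Cone.mem_subm] at hz
      obtain ⟨r, hr⟩ := mem_Deg_zero l z.1 hz.1
      have h2 : z.2 = 0 := by
        have := hz.2
        rw [Deg_eq_bot_of_pos l _ (by omega)] at this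
        exact (Submodule.mem_bot R).mp this
      refine ⟨r, ?_⟩
      apply Cone.ext'
      · rw [Cone.smul_fst, Cone.inlL_fst, hr]
      · rw [Cone.smul_snd, Cone.inlL_snd, smul_zero, h2]
    exact key z hz

theorem reg_of_greg (l : List R) (h : GReg l) : Reg l := by
  classical
  intro z hz
  have hsum := sum_comp l (Finset.Icc (-(l.length : ℤ)) 0) (Finset.Subset.refl _) z
  have hcyc : ∀ k, (D l (Triv R)).d (comp l k z) = 0 := by
    intro k
    rw [comp_d, hz, map_zero]
  have hex : ∀ k : ℤ, ∃ w, k ≠ 0 → (D l (Triv R)).d w = comp l k z := by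
    intro k
    by_cases hk : k = 0
    · exact ⟨0, fun h => absurd hk h⟩
    · obtain ⟨w, hw⟩ := h k hk _ (comp_mem_Deg l k z) (hcyc k)
      exact ⟨w, fun _ => hw⟩
  choose w hw using hex
  obtain ⟨r, hr⟩ := mem_Deg_zero l _ (comp_mem_Deg l 0 z)
  refine ⟨∑ k ∈ (Finset.Icc (-(l.length : ℤ)) 0).erase 0, w k, r, ?_⟩
  have h0 : (0 : ℤ) ∈ Finset.Icc (-(l.length : ℤ)) 0 := by simp
  rw [← Finset.add_sum_erase _ _ h0] at hsum
  have e : ∑ k ∈ (Finset.Icc (-(l.length : ℤ)) 0).erase 0, comp l k z =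
      (D l (Triv R)).d (∑ k ∈ (Finset.Icc (-(l.length : ℤ)) 0).erase 0, w k) := by
    rw [map_sum]
    apply Finset.sum_congr rfl
    intro k hk
    rw [hw k (Finset.ne_of_mem_erase hk)]
  rw [← e, ← hr, add_comm]
  exact hsum.symm

end Groth.Agent.Lib.helper22.Wiebe
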