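import Groth.Agent.Lib.Helper22.WiebeE
import Groth.Agent.Lib.Helper7.KoszulLow

/-!
# Wiebe's lemma, part F: the bridge to the mapping-cone Koszul complex of the prelude (helper22)

`LCI.IsKoszulRegularSeq R l → Reg l`.
-/

set_option autoImplicit false
universe u

open CategoryTheory CochainComplex
open Groth.Agent.Lib.helper7.KoszulLow

namespace Groth.Agent.Lib.helper22.Wiebe

variable {R : Type u} [CommRing R]

/-- the comparison maps `K(l)^k → D l R` -/
noncomputable def beta : (l : List R) → (k : ℤ) → (Koszul.koszul R l).X k →ₗ[R] D l (Triv R)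
  | [], k =>
    if h : k = 0 then
      (HomologicalComplex.singleObjXIsoOfEq (ComplexShape.up ℤ) 0 (ModuleCat.of R R) k h).hom.hom
    else 0
  | x :: l, k =>
    Cone.inlL x (D l (Triv R)) ∘ₗ beta l k ∘ₗ sndₗ (mulMap R x l) k +
      Cone.inrL x (D l (Triv R)) ∘ₗ beta l (k + 1) ∘ₗ fstₗ (mulMap R x l) k (k + 1) rfl

theorem beta_cons_fst (x : R) (l : List R) (k : ℤ) (z : (mappingCone (mulMap R x l)).X k) :
    ((Cone.inlL x (D l (Triv R)) ∘ₗ beta l k ∘ₗ sndₗ (mulMap R x l) k +
      Cone.inrL x (D l (Triv R)) ∘ₗ beta l (k + 1) ∘ₗ fstₗ (mulMap R x l) k (k + 1) rfl) z).1 =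
      beta l k (sndₗ (mulMap R x l) k z) := by
  simp only [LinearMap.add_apply, LinearMap.comp_apply, Cone.add_fst, Cone.inlL_fst, Cone.inrL_fst,
    add_zero]

theorem beta_cons_snd (x : R) (l : List R) (k : ℤ) (z : (mappingCone (mulMap R x l)).X k) :
    ((Cone.inlL x (D l (Triv R)) ∘ₗ beta l k ∘ₗ sndₗ (mulMap R x l) k +
      Cone.inrL x (D l (Triv R)) ∘ₗ beta l (k + 1) ∘ₗ fstₗ (mulMap R x l) k (k + 1) rfl) z).2 =
      beta l (k + 1) (fstₗ (mulMap R x l) k (k + 1) rfl z) := by
  simp only [LinearMap.add_apply, LinearMap.comp_apply, Cone.add_snd, Cone.inlL_snd, Cone.inrL_snd,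
    zero_add]

theorem subsingleton_nil (k : ℤ) (hk : k ≠ 0) : Subsingleton ((Koszul.koszul R ([] : List R)).X k) :=
  ModuleCat.subsingleton_of_isZero
    (HomologicalComplex.isZero_single_obj_X (ComplexShape.up ℤ) 0 (ModuleCat.of R R) k hk)

theorem beta_d : ∀ (l : List R) (k : ℤ) (z : (Koszul.koszul R l).X k),
    beta l (k + 1) (((Koszul.koszul R l).d k (k + 1)).hom z) = (D l (Triv R)).d (beta l k z)
  | [], k, z => by
    have h0 : ((Koszul.koszul R ([] : List R)).d k (k + 1)) = 0 :=
      HomologicalComplex.single_obj_d _ _ _ _ _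
    rw [h0]
    show beta [] (k + 1) 0 = 0
    rw [map_zero]
  | x :: l, k, z => by
    have key : ∀ z : (mappingCone (mulMap R x l)).X k,
        (Cone.inlL x (D l (Triv R)) ∘ₗ beta l (k + 1) ∘ₗ sndₗ (mulMap R x l) (k + 1) +
          Cone.inrL x (D l (Triv R)) ∘ₗ beta l (k + 1 + 1) ∘ₗ
            fstₗ (mulMap R x l) (k + 1) (k + 1 + 1) rfl)
          (((mappingCone (mulMap R x l)).d k (k + 1)).hom z) =
        (Cone x (D l (Triv R))).d
          ((Cone.inlL x (D l (Triv R)) ∘ₗ beta l k ∘ₗ sndₗ (mulMap R x l) k +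
            Cone.inrL x (D l (Triv R)) ∘ₗ beta l (k + 1) ∘ₗ
              fstₗ (mulMap R x l) k (k + 1) rfl) z) := by
      intro z
      apply Cone.ext'
      · rw [beta_cons_fst, Cone.d_fst, beta_cons_fst, beta_cons_snd, snd_d (mulMap R x l) k (k + 1) rfl,
          mulMap_f_apply, map_add, map_smul, beta_d l k]
        abel
      · rw [beta_cons_snd, Cone.d_snd, beta_cons_snd,
          fst_d (mulMap R x l) k (k + 1) (k + 1 + 1) rfl rfl, map_neg, beta_d l (k + 1)]
    exact key z

theorem beta_injective : ∀ (l : List R) (k : ℤ) (z : (Koszul.koszul R l).X k),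
    beta l k z = 0 → z = 0
  | [], k, z, h => by
    by_cases hk : k = 0
    · subst hk
      have h' : (HomologicalComplex.singleObjXIsoOfEq (ComplexShape.up ℤ) 0
          (ModuleCat.of R R) 0 rfl).hom.hom z = 0 := by
        have : beta ([] : List R) 0 = (HomologicalComplex.singleObjXIsoOfEq (ComplexShape.up ℤ) 0
          (ModuleCat.of R R) 0 rfl).hom.hom := by
          show (if h : (0 : ℤ) = 0 then _ else _) = _
          rw [dif_pos rfl]
        rw [← this]
        exact h
      have := congrArg (HomologicalComplex.singleObjXIsoOfEq (ComplexShape.up ℤ) 0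
          (ModuleCat.of R R) 0 rfl).inv.hom h'
      rw [map_zero] at this
      exact (LinearMap.congr_fun (congrArg ModuleCat.Hom.hom
        (HomologicalComplex.singleObjXIsoOfEq (ComplexShape.up ℤ) 0
          (ModuleCat.of R R) 0 rfl).hom_inv_id) z).symm.trans this
    · have := subsingleton_nil (R := R) k hk
      exact Subsingleton.elim _ _
  | x :: l, k, z, h => by
    have key : ∀ z : (mappingCone (mulMap R x l)).X k,
        (Cone.inlL x (D l (Triv R)) ∘ₗ beta l k ∘ₗ sndₗ (mulMap R x l) k +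
          Cone.inrL x (D l (Triv R)) ∘ₗ beta l (k + 1) ∘ₗ
            fstₗ (mulMap R x l) k (k + 1) rfl) z = 0 → z = 0 := by
      intro z h
      have h1 := congrArg Prod.fst h
      have h2 := congrArg Prod.snd h
      rw [beta_cons_fst] at h1
      rw [beta_cons_snd] at h2
      have e1 := beta_injective l k _ h1
      have e2 := beta_injective l (k + 1) _ h2
      apply cone_ext (mulMap R x l) k (k + 1) rfl
      · rw [e2, map_zero]
      · rw [e1, map_zero]
    exact key z h

theorem beta_surjective : ∀ (l : List R) (k : ℤ) (y : D l (Triv R)), y ∈ Deg l k →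
    ∃ z, beta l k z = y
  | [], k, y, hy => by
    by_cases hk : k = 0
    · subst hk
      have hb : beta ([] : List R) 0 = (HomologicalComplex.singleObjXIsoOfEq (ComplexShape.up ℤ) 0
          (ModuleCat.of R R) 0 rfl).hom.hom := by
        show (if h : (0 : ℤ) = 0 then _ else _) = _
        rw [dif_pos rfl]
      refine ⟨(HomologicalComplex.singleObjXIsoOfEq (ComplexShape.up ℤ) 0
          (ModuleCat.of R R) 0 rfl).inv.hom y, ?_⟩
      rw [hb]
      exact LinearMap.congr_fun (congrArg ModuleCat.Hom.hom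
        (HomologicalComplex.singleObjXIsoOfEq (ComplexShape.up ℤ) 0
          (ModuleCat.of R R) 0 rfl).inv_hom_id) y
    · refine ⟨0, ?_⟩
      have : y ∈ (if k = 0 then (⊤ : Submodule R R) else ⊥) := hy
      rw [if_neg hk] at this
      have hy0 : (y : R) = 0 := (Submodule.mem_bot (R := R) (M := R)).mp this
      rw [map_zero]
      exact hy0.symm
  | x :: l, k, y, hy => by
    have key : ∀ y : Cone x (D l (Triv R)), y ∈ Cone.subm x (Deg l k) (Deg l (k + 1)) →
        ∃ z : (mappingCone (mulMap R x l)).X k,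
          (Cone.inlL x (D l (Triv R)) ∘ₗ beta l k ∘ₗ sndₗ (mulMap R x l) k +
            Cone.inrL x (D l (Triv R)) ∘ₗ beta l (k + 1) ∘ₗ
              fstₗ (mulMap R x l) k (k + 1) rfl) z = y := by
      intro y hy
      rw [Cone.mem_subm] at hy
      obtain ⟨a, ha⟩ := beta_surjective l k y.1 hy.1
      obtain ⟨b, hb⟩ := beta_surjective l (k + 1) y.2 hy.2
      refine ⟨inlₗ (mulMap R x l) (k + 1) k rfl b + inrₗ (mulMap R x l) k a, ?_⟩
      apply Cone.ext'
      · rw [beta_cons_fst, map_add, snd_inl, snd_inr, zero_add, ha]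
      · rw [beta_cons_snd, map_add, fst_inl, fst_inr, add_zero, hb]
    exact key y hy

theorem exact_of_isKoszulRegularSeq (l : List R) (h : LCI.IsKoszulRegularSeq R l) (j : ℤ)
    (hj : j + 1 ≠ 0) (z : (Koszul.koszul R l).X (j + 1))
    (hz : ((Koszul.koszul R l).d (j + 1) (j + 1 + 1)).hom z = 0) :
    ∃ w : (Koszul.koszul R l).X j, ((Koszul.koszul R l).d j (j + 1)).hom w = z := by
  have h1 : (Koszul.koszul R l).ExactAt (j + 1) :=
    (HomologicalComplex.exactAt_iff_isZero_homology _ _).mpr (h (j + 1) hj)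
  rw [HomologicalComplex.exactAt_iff' (Koszul.koszul R l) j (j + 1) (j + 1 + 1) (by simp)
    (by simp)] at h1
  have h2 := (ShortComplex.ShortExact.moduleCat_exact_iff_function_exact _).mp h1
  exact (h2 z).mp hz

theorem greg_of_isKoszulRegularSeq (l : List R) (h : LCI.IsKoszulRegularSeq R l) : GReg l := by
  intro k hk y hy hdy
  obtain ⟨j, rfl⟩ : ∃ j, k = j + 1 := ⟨k - 1, by ring⟩
  obtain ⟨z, rfl⟩ := beta_surjective l (j + 1) y hy
  have hz : ((Koszul.koszul R l).d (j + 1) (j + 1 + 1)).hom z = 0 := by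
    apply beta_injective l (j + 1 + 1)
    rw [beta_d, hdy]
  obtain ⟨w, rfl⟩ := exact_of_isKoszulRegularSeq l h j hk z hz
  exact ⟨beta l j w, (beta_d l j w).symm⟩

/-- Koszul-regularity in the sense of the prelude implies the ungraded regularity `Reg`. -/
theorem reg_of_isKoszulRegularSeq (l : List R) (h : LCI.IsKoszulRegularSeq R l) : Reg l :=
  reg_of_greg l (greg_of_isKoszulRegularSeq l h)

end Groth.Agent.Lib.helper22.Wiebe
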