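import Groth.Agent.Lib.Helper22.WiebeF
import Groth.Agent.LibKoszulFlat29

/-!
# Wiebe's lemma and the annihilator of the diagonal (helper22)

* `wiebe`: for Koszul-regular sequences `g`, `f'` of the same length in a ring `R` with `f' = c g`,
  `((f') : (g)) ⊆ (f') + (det c)`.
* `annihilator_diagonal`: Stacks 0BWJ-type statement for `P ⊗[A] (P ⧸ (f))`.
-/

set_option autoImplicit false
universe u

open TensorProduct

namespace Groth.Agent.Lib.helper22.Wiebe

theorem ofList_ofFn {R : Type u} [CommRing R] {n : ℕ} (v : Fin n → R) :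
    Ideal.ofList (List.ofFn v) = Ideal.span (Set.range v) := by
  unfold Ideal.ofList
  congr 1
  ext r
  simp [List.mem_ofFn]

theorem getD_ofFn {R : Type u} [CommRing R] {n : ℕ} (v : Fin n → R) (i : Fin n) :
    (List.ofFn v).getD (i : ℕ) 0 = v i := by
  rw [List.getD_eq_getElem _ _ (by simp), List.getElem_ofFn]

/-- **Wiebe's lemma** for Koszul-regular sequences. -/
theorem wiebe {R : Type u} [CommRing R] {n : ℕ} (g f' : Fin n → R)
    (c : Matrix (Fin n) (Fin n) R) (hc : ∀ i, f' i = ∑ j, c i j * g j)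
    (hg : LCI.IsKoszulRegularSeq R (List.ofFn g)) (hf : LCI.IsKoszulRegularSeq R (List.ofFn f'))
    (x : R) (hx : ∀ j, x * g j ∈ Ideal.span (Set.range f')) :
    x ∈ Ideal.span (Set.range f') ⊔ Ideal.span {c.det} := by
  rw [← ofList_ofFn]
  apply wiebe_core (List.ofFn f') (List.ofFn g) c _ (by simp)
    (reg_of_isKoszulRegularSeq _ hf) (reg_of_isKoszulRegularSeq _ hg) _
    (topCoeff_word_mem (List.ofFn g) (by simp) c) x
  · intro y hy
    rw [List.mem_ofFn] at hy
    obtain ⟨j, rfl⟩ := hy
    rw [ofList_ofFn]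
    exact hx j
  · intro i
    rw [getD_ofFn, hc i]
    apply Finset.sum_congr rfl
    intro j _
    rw [getD_ofFn]

/-- Cramer: `det c • g_j ∈ (c g)` -/
theorem det_mul_mem {R : Type u} [CommRing R] {n : ℕ} (g f' : Fin n → R)
    (c : Matrix (Fin n) (Fin n) R) (hc : ∀ i, f' i = ∑ j, c i j * g j) (j : Fin n) :
    c.det * g j ∈ Ideal.span (Set.range f') := by
  have h1 : f' = c.mulVec g := by
    funext i
    rw [hc i]
    rfl
  have h2 : c.adjugate.mulVec f' = c.det • g := by
    rw [h1, Matrix.mulVec_mulVec, Matrix.adjugate_mul, Matrix.smul_mulVec, Matrix.one_mulVec]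
  have h3 : c.det * g j = ∑ i, c.adjugate j i * f' i := by
    have := congrFun h2 j
    rw [Pi.smul_apply, smul_eq_mul] at this
    rw [← this]
    rfl
  rw [h3]
  exact Ideal.sum_mem _ fun i _ => Ideal.mul_mem_left _ _ (Ideal.subset_span ⟨i, rfl⟩)

/-- The annihilator of the kernel of `B ⊗[A] B → B` for `B = P ⧸ (f)`. -/
theorem annihilator_diagonal {A P : Type u} [CommRing A] [CommRing P] [Algebra A P]
    {n : ℕ} (f : Fin n → P) (hf : LCI.IsKoszulRegularSeq P (List.ofFn f))
    [Module.Flat A (P ⧸ Ideal.span (Set.range f))]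
    (g : Fin n → P ⊗[A] (P ⧸ Ideal.span (Set.range f)))
    (hg : LCI.IsKoszulRegularSeq (P ⊗[A] (P ⧸ Ideal.span (Set.range f))) (List.ofFn g))
    (hgker : Ideal.span (Set.range g) = RingHom.ker (Algebra.TensorProduct.productMap
      (Ideal.Quotient.mkₐ A (Ideal.span (Set.range f))) (AlgHom.id A (P ⧸ Ideal.span (Set.range f)))))
    (c : Matrix (Fin n) (Fin n) (P ⊗[A] (P ⧸ Ideal.span (Set.range f))))
    (hc : ∀ i, f i ⊗ₜ[A] (1 : P ⧸ Ideal.span (Set.range f)) = ∑ j, c i j * g j) :
    Submodule.annihilator (RingHom.ker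
        (Algebra.TensorProduct.lmul' (S := P ⧸ Ideal.span (Set.range f)) A)) =
      Ideal.span {Algebra.TensorProduct.map (Ideal.Quotient.mkₐ A (Ideal.span (Set.range f)))
        (AlgHom.id A (P ⧸ Ideal.span (Set.range f))) (Matrix.det c)} := by
  have hmk : Function.Surjective (Ideal.Quotient.mkₐ A (Ideal.span (Set.range f))) :=
    Ideal.Quotient.mkₐ_surjective A _
  have hμsurj : Function.Surjective (Algebra.TensorProduct.map
      (Ideal.Quotient.mkₐ A (Ideal.span (Set.range f)))
      (AlgHom.id A (P ⧸ Ideal.span (Set.range f)))) :=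
    Algebra.TensorProduct.map_surjective _ _ hmk Function.surjective_id
  have hkerμ : RingHom.ker (Algebra.TensorProduct.map
      (Ideal.Quotient.mkₐ A (Ideal.span (Set.range f)))
      (AlgHom.id A (P ⧸ Ideal.span (Set.range f)))) =
      Ideal.span (Set.range fun i => f i ⊗ₜ[A] (1 : P ⧸ Ideal.span (Set.range f))) := by
    have hk : RingHom.ker (Ideal.Quotient.mkₐ A (Ideal.span (Set.range f))) =
        Ideal.span (Set.range f) :=
      Ideal.ext fun x => by
        rw [RingHom.mem_ker, Ideal.Quotient.mkₐ_eq_mk, Ideal.Quotient.eq_zero_iff_mem]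
    rw [Algebra.TensorProduct.rTensor_ker _ hmk, hk, Ideal.map_span, ← Set.range_comp]
    rfl
  have hlm : ∀ r, Algebra.TensorProduct.lmul' (S := P ⧸ Ideal.span (Set.range f)) A
      (Algebra.TensorProduct.map (Ideal.Quotient.mkₐ A (Ideal.span (Set.range f)))
        (AlgHom.id A (P ⧸ Ideal.span (Set.range f))) r) =
      Algebra.TensorProduct.productMap (Ideal.Quotient.mkₐ A (Ideal.span (Set.range f)))
        (AlgHom.id A (P ⧸ Ideal.span (Set.range f))) r := by
    intro r
    rw [Algebra.TensorProduct.productMap_eq_comp_map]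
    rfl
  -- `f ⊗ 1` is Koszul-regular
  have hf' : LCI.IsKoszulRegularSeq (P ⊗[A] (P ⧸ Ideal.span (Set.range f)))
      (List.ofFn fun i => f i ⊗ₜ[A] (1 : P ⧸ Ideal.span (Set.range f))) := by
    have hflat : (algebraMap P (P ⊗[A] (P ⧸ Ideal.span (Set.range f)))).Flat :=
      RingHom.flat_algebraMap_iff.mpr inferInstance
    have := Groth.Agent.LibKoszulFlat29.isKoszulRegularSeq_map_of_flat _ hflat (List.ofFn f) hf
    rw [List.map_ofFn] at this
    convert this using 2
    funext i
    rw [Function.comp_apply, Algebra.TensorProduct.algebraMap_apply]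
    rfl
  apply le_antisymm
  · intro y hy
    obtain ⟨x, rfl⟩ := hμsurj y
    have hx : ∀ j, x * g j ∈
        Ideal.span (Set.range fun i => f i ⊗ₜ[A] (1 : P ⧸ Ideal.span (Set.range f))) := by
      intro j
      rw [← hkerμ, RingHom.mem_ker, map_mul]
      have h1 : Algebra.TensorProduct.map (Ideal.Quotient.mkₐ A (Ideal.span (Set.range f)))
          (AlgHom.id A (P ⧸ Ideal.span (Set.range f))) (g j) ∈ RingHom.ker
          (Algebra.TensorProduct.lmul' (S := P ⧸ Ideal.span (Set.range f)) A) := by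
        rw [RingHom.mem_ker, hlm, ← RingHom.mem_ker, ← hgker]
        exact Ideal.subset_span ⟨j, rfl⟩
      exact (Submodule.mem_annihilator.mp hy) _ h1
    have hw := wiebe g (fun i => f i ⊗ₜ[A] (1 : P ⧸ Ideal.span (Set.range f))) c hc hg hf' x hx
    obtain ⟨a, ha, b, hb, rfl⟩ := Submodule.mem_sup.mp hw
    rw [map_add]
    have : Algebra.TensorProduct.map (Ideal.Quotient.mkₐ A (Ideal.span (Set.range f)))
        (AlgHom.id A (P ⧸ Ideal.span (Set.range f))) a = 0 := by
      rw [← RingHom.mem_ker, hkerμ]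
      exact ha
    rw [this, zero_add]
    obtain ⟨r, rfl⟩ := Ideal.mem_span_singleton'.mp hb
    rw [map_mul]
    exact Ideal.mul_mem_left _ _ (Ideal.subset_span rfl)
  · rw [Ideal.span_le, Set.singleton_subset_iff, SetLike.mem_coe, Submodule.mem_annihilator]
    intro m hm
    obtain ⟨r, rfl⟩ := hμsurj m
    have hr : r ∈ Ideal.span (Set.range g) := by
      rw [hgker, RingHom.mem_ker, ← hlm]
      exact hm
    rw [smul_eq_mul, ← map_mul, ← RingHom.mem_ker, hkerμ]
    clear hm
    induction hr using Submodule.span_induction with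
    | mem y hy =>
      obtain ⟨j, rfl⟩ := hy
      exact det_mul_mem g _ c hc j
    | zero => rw [mul_zero]; exact Submodule.zero_mem _
    | add a b _ _ ha hb => rw [mul_add]; exact Submodule.add_mem _ ha hb
    | smul s a _ ha =>
      rw [smul_eq_mul, mul_left_comm]
      exact Ideal.mul_mem_left _ _ ha

end Groth.Agent.Lib.helper22.Wiebe
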