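import Mathlib
import Groth.Agent.S0564
import Groth.Agent.S0565
import Groth.Agent.Lib.Helper2.CHRI4
import Groth.Agent.Lib.Helper3.NoetherianDescent

/-!
# Quotients of regular local rings by finite groups acting freely off the closed point (helper22)

`isRegularLocalRing_localization_fixedPoints`: let a finite group `G` act on a regular local ring
`A` such that the inertia group of every non-maximal prime is trivial. Then the localization of the
ring of invariants `A^G` at every non-maximal prime is a regular local ring.

`finite_projective_localization`: for a prime `P` of `A^G`, if `G` acts freely on the maximal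
spectrum of `A_P`, then `A_P` is a finite projective `(A^G)_P`-module (via helper2's
Chase–Harrison–Rosenberg criterion).
-/

namespace Groth.Agent.Lib.helper22.WildReg
universe u w
open IsLocalRing

section
variable (A : Type u) [CommRing A] (G : Type w) [Group G] [MulSemiringAction G A]
  (P : Ideal (FixedPoints.subring A G)) [P.IsPrime]

local notation "C" => FixedPoints.subring A G
local notation "M" => Algebra.algebraMapSubmonoid A P.primeCompl
local notation "AP" => Localization (Algebra.algebraMapSubmonoid A P.primeCompl)
local notation "CP" => Localization.AtPrime P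

theorem smul_of_mem_M (g : G) {x : A} (hx : x ∈ M) : g • x = x := by
  obtain ⟨c, -, rfl⟩ := hx
  exact c.2 g

theorem le_comap_M (g : G) : M ≤ Submonoid.comap (MulSemiringAction.toRingHom G A g) M := by
  intro x hx
  show g • x ∈ M
  rw [smul_of_mem_M A G P g hx]
  exact hx

/-- the induced automorphisms of the localization -/
noncomputable def sig (g : G) : AP →+* AP :=
  IsLocalization.map AP (MulSemiringAction.toRingHom G A g) (le_comap_M A G P g)

theorem sig_algebraMap (g : G) (a : A) :
    sig A G P g (algebraMap A AP a) = algebraMap A AP (g • a) := by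
  unfold sig
  rw [IsLocalization.map_eq]
  rfl

theorem sig_mk' (g : G) (a : A) (s : M) :
    sig A G P g (IsLocalization.mk' AP a s) = IsLocalization.mk' AP (g • a) s := by
  unfold sig
  rw [IsLocalization.map_mk']
  congr 1
  exact Subtype.ext (smul_of_mem_M A G P g s.2)

theorem sig_one : sig A G P 1 = RingHom.id AP := by
  apply IsLocalization.ringHom_ext M
  ext a
  simp [sig_algebraMap]

theorem sig_mul (g h : G) (x : AP) : sig A G P g (sig A G P h x) = sig A G P (g * h) x := by
  obtain ⟨a, s, rfl⟩ := IsLocalization.exists_mk'_eq M x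
  rw [sig_mk', sig_mk', sig_mk', mul_smul]

theorem sig_algebraMap_CP (g : G) (b : CP) :
    sig A G P g (algebraMap CP AP b) = algebraMap CP AP b := by
  obtain ⟨c, s, rfl⟩ := IsLocalization.exists_mk'_eq P.primeCompl b
  rw [IsLocalization.algebraMap_mk' A CP AP c s, sig_mk']
  congr 1
  exact c.2 g

theorem exists_of_sig_fixed [Finite G] (x : AP) (hx : ∀ g, sig A G P g x = x) :
    ∃ b : CP, algebraMap CP AP b = x := by
  classical
  cases nonempty_fintype G
  obtain ⟨a, s, rfl⟩ := IsLocalization.exists_mk'_eq M x
  have h1 : ∀ g : G, ∃ t : M, (t : A) * (g • a) = t * a := by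
    intro g
    have h := hx g
    rw [sig_mk', IsLocalization.mk'_eq_iff_eq, IsLocalization.eq_iff_exists M] at h
    obtain ⟨c, hc⟩ := h
    refine ⟨c * s, ?_⟩
    rw [Submonoid.coe_mul, mul_assoc, mul_assoc]
    exact hc
  choose t ht using h1
  set T : A := ∏ g, (t g : A) with hT
  have hTM : T ∈ M := Submonoid.prod_mem _ (fun g _ => (t g).2)
  have hTfix : ∀ g : G, g • T = T := fun g => smul_of_mem_M A G P g hTM
  have hTa : ∀ g : G, T * (g • a) = T * a := by
    intro g
    rw [hT, ← Finset.mul_prod_erase _ _ (Finset.mem_univ g)]
    rw [mul_right_comm, ht g, mul_right_comm]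
  have hfix : ∀ g : G, g • (T * a) = T * a := by
    intro g
    rw [smul_mul', hTfix, hTa]
  obtain ⟨cT, hcT, hcT'⟩ := hTM
  obtain ⟨cs, hcs, hcs'⟩ := s.2
  refine ⟨IsLocalization.mk' CP (⟨T * a, hfix⟩ : C) ⟨cT * cs, P.primeCompl.mul_mem hcT hcs⟩, ?_⟩
  rw [IsLocalization.algebraMap_mk' A CP AP]
  apply IsLocalization.mk'_eq_of_eq
  show (algebraMap C A (cT * cs)) * a = s * (T * a)
  rw [map_mul, hcT', hcs']
  ring

theorem finite_projective_localization [Finite G]
    (hfree : ∀ (m : Ideal AP), m.IsMaximal → ∀ g : G, g ≠ 1 → ∃ c : AP, sig A G P g c - c ∉ m) :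
    Module.Finite CP AP ∧ Module.Projective CP AP := by
  classical
  let e : Shrink.{u} G ≃* G := Shrink.mulEquiv
  have he_mul : ∀ x y, e (x * y) = e x * e y := fun x y => map_mul e x y
  have he_one : e 1 = 1 := map_one e
  letI : Fintype (Shrink.{u} G) := Fintype.ofFinite _
  let σ : Shrink.{u} G → AP →+* AP := fun g => sig A G P (e g)⁻¹
  let ε : Shrink.{u} G → AP := fun g => if g = 1 then 1 else 0
  have hone : σ 1 = RingHom.id AP := by
    show sig A G P (e 1)⁻¹ = _
    rw [he_one, inv_one, sig_one]
  have hmul : ∀ g h a, σ h (σ g a) = σ (g * h) a := by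
    intro g h a
    show sig A G P (e h)⁻¹ (sig A G P (e g)⁻¹ a) = sig A G P (e (g * h))⁻¹ a
    rw [sig_mul, he_mul, mul_inv_rev]
  have hα : Function.Injective (algebraMap CP AP) :=
    localizationAlgebra_injective _ _ Subtype.val_injective
  have hfix : ∀ g b, σ g (algebraMap CP AP b) = algebraMap CP AP b :=
    fun g b => sig_algebraMap_CP A G P _ b
  have hinv : ∀ a, (∀ g, σ g a = a) → ∃ b, algebraMap CP AP b = a := by
    intro a ha
    apply exists_of_sig_fixed A G P a
    intro g
    have := ha (e.symm g⁻¹)
    simpa [σ] using this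
  have hI : Groth.Agent.Lib.helper2.CHR.IsInertial σ ε := by
    refine ⟨?_, ?_, ?_⟩
    · intro g
      by_cases hg : g = 1
      · simp [ε, hg, IsIdempotentElem]
      · simp [ε, hg, IsIdempotentElem]
    · intro g a
      by_cases hg : g = 1
      · subst hg
        rw [hone]; rfl
      · simp [ε, hg]
    · intro g m hm hgm
      by_cases hg : g = 1
      · exfalso
        simp only [ε, hg, if_true] at hgm
        exact hm.ne_top ((Ideal.eq_top_iff_one _).mpr hgm)
      · have hg' : (e g)⁻¹ ≠ 1 := by
          intro h
          apply hg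
          apply e.injective
          rw [he_one, ← inv_eq_one]
          exact h
        exact hfree m hm _ hg'
  have key := Groth.Agent.Lib.helper2.CHR.finite_projective_inertial (σ := σ)
    (α := algebraMap CP AP) (e := ε) hone hmul hα hfix hinv hI
  exact key

end

theorem isLocalization_atPrime_of_comap {A : Type*} [CommRing A] (M : Submonoid A)
    (S : Type*) [CommRing S] [Algebra A S] [IsLocalization M S] (n : Ideal S) [n.IsPrime]
    (Q : Ideal A) [Q.IsPrime] (h : n.comap (algebraMap A S) = Q) :
    IsLocalization.AtPrime (Localization.AtPrime n) Q := by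
  subst h
  exact IsLocalization.isLocalization_isLocalization_atPrime_isLocalization M _ n

theorem isRegularLocalRing_localization_fixedPoints
    (A : Type u) [CommRing A] [IsRegularLocalRing A]
    (G : Type w) [Group G] [Finite G] [MulSemiringAction G A]
    (hram : ∀ Q : Ideal A, Q.IsPrime → Q ≠ maximalIdeal A → Q.inertia G = ⊥)
    (P : Ideal (FixedPoints.subring A G)) [P.IsPrime] (hP : ¬ P.IsMaximal) :
    IsRegularLocalRing (Localization.AtPrime P) := by
  haveI : Algebra.IsInvariant (FixedPoints.subring A G) A G := ⟨fun b hb => ⟨⟨b, hb⟩, rfl⟩⟩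
  haveI : Algebra.IsIntegral (FixedPoints.subring A G) A :=
    Algebra.IsInvariant.isIntegral (FixedPoints.subring A G) A G
  have hfree : ∀ (m : Ideal (Localization (Algebra.algebraMapSubmonoid A P.primeCompl))),
      m.IsMaximal → ∀ g : G, g ≠ 1 → ∃ c, sig A G P g c - c ∉ m := by
    intro m hm g hg
    haveI := hm.isPrime
    set Q := m.comap (algebraMap A (Localization (Algebra.algebraMapSubmonoid A P.primeCompl)))
      with hQ
    haveI : Q.IsPrime := Ideal.comap_isPrime _ _
    have hQm : Q ≠ maximalIdeal A := by
      intro h
      have h1 : (Q.comap (algebraMap (FixedPoints.subring A G) A)).IsMaximal := by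
        rw [h]
        exact Ideal.isMaximal_comap_of_isIntegral_of_isMaximal _
      have h2 : Q.comap (algebraMap (FixedPoints.subring A G) A) ≤ P := by
        intro c hc
        by_contra hcP
        have hmem : algebraMap A (Localization (Algebra.algebraMapSubmonoid A P.primeCompl))
            (algebraMap (FixedPoints.subring A G) A c) ∈ m := hc
        have hu : IsUnit (algebraMap A (Localization (Algebra.algebraMapSubmonoid A P.primeCompl))
            (algebraMap (FixedPoints.subring A G) A c)) :=
          IsLocalization.map_units _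
            (⟨_, ⟨c, hcP, rfl⟩⟩ : Algebra.algebraMapSubmonoid A P.primeCompl)
        exact hm.ne_top (Ideal.eq_top_of_isUnit_mem _ hmem hu)
      have h3 := h1.eq_of_le (Ideal.IsPrime.ne_top inferInstance) h2
      exact hP (h3 ▸ h1)
    have hI := hram Q inferInstance hQm
    have hg' : g ∉ Q.inertia G := by rw [hI, Subgroup.mem_bot]; exact hg
    have hg'' : ¬ ∀ a : A, g • a - a ∈ Q := hg'
    obtain ⟨a, ha⟩ := not_forall.mp hg''
    refine ⟨algebraMap A _ a, ?_⟩
    rw [sig_algebraMap, ← map_sub]
    exact ha
  obtain ⟨hfin, hproj⟩ := finite_projective_localization A G P hfree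
  obtain ⟨Q, -, hQprime, hQP⟩ := Ideal.exists_ideal_over_prime_of_isIntegral
    (S := A) P (⊥ : Ideal A) (by
      rw [← RingHom.ker_eq_comap_bot, (RingHom.injective_iff_ker_eq_bot _).mp
        (Subtype.val_injective : Function.Injective (algebraMap (FixedPoints.subring A G) A))]
      exact bot_le)
  haveI := hQprime
  have hdisj : Disjoint (Algebra.algebraMapSubmonoid A P.primeCompl : Set A) (Q : Set A) := by
    rw [Set.disjoint_left]
    rintro _ ⟨c, hc, rfl⟩ hq
    apply hc
    rw [← hQP]
    exact hq
  set n : Ideal (Localization (Algebra.algebraMapSubmonoid A P.primeCompl)) :=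
    Q.map (algebraMap A _) with hn
  haveI : n.IsPrime := IsLocalization.isPrime_of_isPrime_disjoint
    (Algebra.algebraMapSubmonoid A P.primeCompl) _ Q hQprime hdisj
  have hnQ : n.comap (algebraMap A _) = Q :=
    IsLocalization.under_map_of_isPrime_disjoint (Algebra.algebraMapSubmonoid A P.primeCompl) _
      hQprime hdisj
  haveI : IsLocalization.AtPrime (Localization.AtPrime n) Q :=
    isLocalization_atPrime_of_comap (Algebra.algebraMapSubmonoid A P.primeCompl) _ n Q hnQ
  haveI : IsRegularLocalRing (Localization.AtPrime Q) := Groth.Agent.S0564.result A Q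
  haveI : IsRegularLocalRing (Localization.AtPrime n) :=
    IsRegularLocalRing.of_ringEquiv
      (IsLocalization.algEquiv Q.primeCompl (Localization.AtPrime Q)
        (Localization.AtPrime n)).toRingEquiv
  haveI : Module.Flat (Localization.AtPrime P)
      (Localization (Algebra.algebraMapSubmonoid A P.primeCompl)) := inferInstance
  haveI : Module.Flat (Localization.AtPrime P) (Localization.AtPrime n) :=
    Module.Flat.trans _ (Localization (Algebra.algebraMapSubmonoid A P.primeCompl)) _
  haveI : IsLocalHom (algebraMap (Localization.AtPrime P) (Localization.AtPrime n)) := by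
    apply ((IsLocalRing.local_hom_TFAE (algebraMap (Localization.AtPrime P)
      (Localization.AtPrime n))).out 0 2).mpr
    rw [← Localization.AtPrime.map_eq_maximalIdeal, Ideal.map_map,
      ← IsScalarTower.algebraMap_eq, Ideal.map_le_iff_le_comap]
    intro c hc
    rw [Ideal.mem_comap, IsScalarTower.algebraMap_apply (FixedPoints.subring A G) A
      (Localization.AtPrime n), IsLocalization.AtPrime.to_map_mem_maximal_iff
      (Localization.AtPrime n) Q]
    rw [← hQP] at hc
    exact hc
  haveI : Module.FaithfullyFlat (Localization.AtPrime P) (Localization.AtPrime n) :=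
    Module.FaithfullyFlat.of_flat_of_isLocalHom
  haveI : IsNoetherianRing (Localization.AtPrime P) :=
    Groth.Agent.Lib.helper3.isNoetherianRing_of_faithfullyFlat _ (Localization.AtPrime n)
  exact Groth.Agent.S0565.result (Localization.AtPrime P) (Localization.AtPrime n)

end Groth.Agent.Lib.helper22.WildReg
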