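import Mathlib
import Groth.Agent.S0585
import Groth.Agent.Lib.Helper3.GIProj3

/-!
# Zariski descent of projectivity (helper22)

Consequences of the Raynaud–Gruson descent theorem `S0585`: projectivity of an arbitrary module can
be checked on a finite cover by principal opens.
-/

set_option autoImplicit false

namespace Groth.Agent.Lib.helper22.ZarProj

open TensorProduct

universe u

section Two

variable {R : Type u} [CommRing R]

theorem faithfullyFlat_away_prod (a f g : R) (h : a * f + g = 1) :
    Module.FaithfullyFlat R (Localization.Away f × Localization.Away g) := by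
  haveI : Module.Flat R (Localization.Away f × Localization.Away g) :=
    Groth.Agent.Lib.helper3.CplProj.flat_prod
  apply Module.FaithfullyFlat.of_comap_surjective
  intro p
  have hfg : f ∉ p.asIdeal ∨ g ∉ p.asIdeal := by
    by_contra hcon
    push Not at hcon
    refine p.isPrime.ne_top ((Ideal.eq_top_iff_one _).2 ?_)
    rw [← h]
    exact add_mem (Ideal.mul_mem_left _ _ hcon.1) hcon.2
  rcases hfg with hf | hg
  · have hp : p ∈ Set.range (PrimeSpectrum.comap (algebraMap R (Localization.Away f))) := by
      rw [PrimeSpectrum.localization_away_comap_range (Localization.Away f) f]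
      exact hf
    obtain ⟨q', rfl⟩ := hp
    refine ⟨PrimeSpectrum.comap (RingHom.fst _ _) q', ?_⟩
    rfl
  · have hp : p ∈ Set.range (PrimeSpectrum.comap (algebraMap R (Localization.Away g))) := by
      rw [PrimeSpectrum.localization_away_comap_range (Localization.Away g) g]
      exact hg
    obtain ⟨q', rfl⟩ := hp
    refine ⟨PrimeSpectrum.comap (RingHom.snd _ _) q', ?_⟩
    rfl

theorem projective_of_away_two (M : Type u) [AddCommGroup M] [Module R M] (a f g : R)
    (h : a * f + g = 1)
    [Module.Projective (Localization.Away f) (Localization.Away f ⊗[R] M)]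
    [Module.Projective (Localization.Away g) (Localization.Away g ⊗[R] M)] :
    Module.Projective R M := by
  haveI := faithfullyFlat_away_prod a f g h
  haveI := Groth.Agent.Lib.helper3.GIProj.projective_prod_baseChange (A := R)
    (Localization.Away f) (Localization.Away g) M
  exact Groth.Agent.S0585.result R (Localization.Away f × Localization.Away g) M

end Two

/-- **Zariski descent of projectivity**, universal form, by induction on the number of opens. -/
theorem projective_of_span_eq_top_fin : ∀ (n : ℕ) (R : Type u) [CommRing R] (M : Type u)
    [AddCommGroup M] [Module R M] (f : Fin n → R) (_ : Ideal.span (Set.range f) = ⊤)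
    (_ : ∀ (i : Fin n) (B : Type u) [CommRing B] [Algebra R B],
      IsUnit (algebraMap R B (f i)) → Module.Projective B (B ⊗[R] M)),
    Module.Projective R M
  | 0, R, _, M, _, _, f, hspan, _ => by
    have : Subsingleton R := by
      rw [Set.range_eq_empty, Ideal.span_empty] at hspan
      have h1 : (1 : R) ∈ (⊥ : Ideal R) := hspan ▸ Submodule.mem_top
      exact subsingleton_of_zero_eq_one ((Ideal.mem_bot.1 h1).symm)
    haveI : Subsingleton M := Module.subsingleton R M
    infer_instance
  | n + 1, R, _, M, _, _, f, hspan, h => by
    have h1 : (1 : R) ∈ Ideal.span (insert (f 0) (Set.range (fun i : Fin n => f i.succ))) := by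
      have : insert (f 0) (Set.range (fun i : Fin n => f i.succ)) = Set.range f := by
        rw [Fin.range_fin_succ]
        rfl
      rw [this, hspan]
      trivial
    obtain ⟨a, g, hg, hag⟩ := Ideal.mem_span_insert.1 h1
    haveI : Module.Projective (Localization.Away (f 0)) (Localization.Away (f 0) ⊗[R] M) :=
      h 0 _ (IsLocalization.Away.algebraMap_isUnit _)
    haveI : Module.Projective (Localization.Away g) (Localization.Away g ⊗[R] M) := by
      refine projective_of_span_eq_top_fin n (Localization.Away g) (Localization.Away g ⊗[R] M)
        (fun i => algebraMap R _ (f i.succ)) ?_ ?_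
      · have hu : algebraMap R (Localization.Away g) g ∈
            Ideal.span (Set.range fun i : Fin n => algebraMap R (Localization.Away g) (f i.succ)) := by
          have := Ideal.mem_map_of_mem (algebraMap R (Localization.Away g)) hg
          rwa [Ideal.map_span, ← Set.range_comp] at this
        exact Ideal.eq_top_of_isUnit_mem _ hu (IsLocalization.Away.algebraMap_isUnit g)
      · intro i B _ _ hu
        letI : Algebra R B :=
          ((algebraMap (Localization.Away g) B).comp (algebraMap R (Localization.Away g))).toAlgebra
        haveI : IsScalarTower R (Localization.Away g) B :=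
          IsScalarTower.of_algebraMap_eq (fun x => rfl)
        haveI : Module.Projective B (B ⊗[R] M) := h i.succ B hu
        exact Module.Projective.of_equiv
          (TensorProduct.AlgebraTensorModule.cancelBaseChange R (Localization.Away g) B B M).symm
    exact projective_of_away_two M a (f 0) g hag.symm

/-- **Zariski descent of projectivity**, universal form, finite index type. -/
theorem projective_of_span_eq_top {ι : Type*} [Finite ι] (R : Type u) [CommRing R] (M : Type u)
    [AddCommGroup M] [Module R M] (f : ι → R) (hspan : Ideal.span (Set.range f) = ⊤)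
    (h : ∀ (i : ι) (B : Type u) [CommRing B] [Algebra R B],
      IsUnit (algebraMap R B (f i)) → Module.Projective B (B ⊗[R] M)) :
    Module.Projective R M := by
  obtain ⟨n, ⟨e⟩⟩ := Finite.exists_equiv_fin ι
  refine projective_of_span_eq_top_fin n R M (f ∘ e.symm) ?_ (fun i B _ _ hu => h (e.symm i) B hu)
  rw [Set.range_comp, Set.range_eq_univ.2 e.symm.surjective, Set.image_univ]
  exact hspan

/-- **Zariski descent of projectivity**, universal form, for a set of elements spanning the unit
ideal. -/
theorem projective_of_span_set_eq_top (R : Type u) [CommRing R] (M : Type u)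
    [AddCommGroup M] [Module R M] (s : Set R) (hspan : Ideal.span s = ⊤)
    (h : ∀ f ∈ s, ∀ (B : Type u) [CommRing B] [Algebra R B],
      IsUnit (algebraMap R B f) → Module.Projective B (B ⊗[R] M)) :
    Module.Projective R M := by
  obtain ⟨t, hts, ht⟩ := (Ideal.span_eq_top_iff_finite s).1 hspan
  refine projective_of_span_eq_top R M (fun i : t => (i : R)) ?_
    (fun i B _ _ hu => h i (hts i.2) B hu)
  rw [Subtype.range_coe_subtype]
  exact ht

/-- Projectivity of a localization, given as a base change, gives projectivity after any base change
inverting the element. -/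
theorem projective_tensor_of_isBaseChange {R : Type u} [CommRing R] (M : Type u)
    [AddCommGroup M] [Module R M] (f : R) (B : Type u) [CommRing B] [Algebra R B]
    [IsLocalization.Away f B] (N : Type u) [AddCommGroup N] [Module R N] [Module B N]
    [IsScalarTower R B N] (k : M →ₗ[R] N) (hk : IsBaseChange B k) [Module.Projective B N]
    (C : Type u) [CommRing C] [Algebra R C] (hu : IsUnit (algebraMap R C f)) :
    Module.Projective C (C ⊗[R] M) := by
  letI : Algebra B C := (IsLocalization.Away.lift f hu).toAlgebra
  haveI : IsScalarTower R B C := IsScalarTower.of_algebraMap_eq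
    (fun x => (IsLocalization.Away.lift_eq f hu x).symm)
  have e1 : C ⊗[B] (B ⊗[R] M) ≃ₗ[C] C ⊗[R] M :=
    TensorProduct.AlgebraTensorModule.cancelBaseChange R B C C M
  have e2 : B ⊗[R] M ≃ₗ[B] N := hk.equiv
  have e3 : C ⊗[B] (B ⊗[R] M) ≃ₗ[C] C ⊗[B] N :=
    TensorProduct.AlgebraTensorModule.congr (LinearEquiv.refl C C) e2
  haveI : Module.Projective C (C ⊗[B] N) := inferInstance
  exact Module.Projective.of_equiv (e3.symm.trans e1)

/-- **Zariski descent of projectivity**: if `M_f` is projective over `R_f` for `f` in a set
spanning the unit ideal (localizations given as base changes), then `M` is projective. -/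
theorem projective_of_forall_isBaseChange (R : Type u) [CommRing R] (M : Type u)
    [AddCommGroup M] [Module R M] (s : Set R) (hspan : Ideal.span s = ⊤)
    (h : ∀ f ∈ s, ∃ (B : Type u) (_ : CommRing B) (_ : Algebra R B) (_ : IsLocalization.Away f B)
      (N : Type u) (_ : AddCommGroup N) (_ : Module R N) (_ : Module B N) (_ : IsScalarTower R B N)
      (k : M →ₗ[R] N), IsBaseChange B k ∧ Module.Projective B N) :
    Module.Projective R M := by
  refine projective_of_span_set_eq_top R M s hspan ?_
  intro f hf C _ _ hu
  obtain ⟨B, _, _, _, N, _, _, _, _, k, hk, hN⟩ := h f hf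
  exact projective_tensor_of_isBaseChange M f B N k hk C hu

end Groth.Agent.Lib.helper22.ZarProj
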