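import Groth.Agent.Lib.Helper22.ZarProj
import Groth.Agent.Lib.Helper1.ResBC

/-!
# Local projectivity of quasi-coherent modules is Zariski local (helper22)
-/

set_option autoImplicit false
universe u

namespace Groth.Agent.Lib.helper22.ZarProjSch

open CategoryTheory AlgebraicGeometry TopologicalSpace Opposite TensorProduct
open Groth.Agent.Lib.helper8.PullbackUnit Groth.Agent.H1.ResBC

/-- an `IsBC` along an explicit ring hom gives a linear equivalence with the tensor product for the
induced algebra structure. -/
theorem nonempty_linearEquiv_tensor' {R R' : Type u} [CommRing R] [CommRing R'] (φ : R →+* R')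
    {N P : Type u} [AddCommGroup N] [Module R N] [AddCommGroup P] [Module R' P] {k : N →+ P}
    (hk : IsBC φ k) :
    letI : Algebra R R' := φ.toAlgebra
    Nonempty (P ≃ₗ[R'] R' ⊗[R] N) := by
  letI : Algebra R R' := φ.toAlgebra
  letI : Module R P := Module.compHom P (algebraMap R R')
  haveI : IsScalarTower R R' P := ⟨fun r b n => by
    show (r • b) • n = algebraMap R R' r • (b • n)
    rw [Algebra.smul_def, mul_smul]⟩
  let kl : N →ₗ[R] P :=
    { toFun := k, map_add' := k.map_add, map_smul' := fun r n => hk.map_smul r n }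
  exact ⟨(IsBC.isBaseChange kl hk).equiv.symm⟩

variable {X : Scheme.{u}} (F : X.Modules) [F.IsQuasicoherent]

/-- restriction to a smaller affine open preserves projectivity of sections -/
theorem projective_of_le {U V : X.Opens} (hU : IsAffineOpen U) (hV : IsAffineOpen V) (h : V ≤ U)
    (hp : Module.Projective Γ(X, U) Γ(F, U)) : Module.Projective Γ(X, V) Γ(F, V) := by
  have h0 := isBC_res F hU hV h
  letI : Algebra Γ(X, U) Γ(X, V) := (X.presheaf.map (homOfLE h).op).hom.toAlgebra
  obtain ⟨e⟩ := nonempty_linearEquiv_tensor' _ h0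
  exact Module.Projective.of_equiv e.symm

/-- **Projectivity of sections of a quasi-coherent module over an affine open can be checked
locally.** -/
theorem projective_of_local {U : X.Opens} (hU : IsAffineOpen U)
    (h : ∀ x ∈ U, ∃ V : X.Opens, IsAffineOpen V ∧ x ∈ V ∧ Module.Projective Γ(X, V) Γ(F, V)) :
    Module.Projective Γ(X, U) Γ(F, U) := by
  let s : Set Γ(X, U) := {f | Module.Projective Γ(X, X.basicOpen f) Γ(F, X.basicOpen f)}
  have hs : Ideal.span s = ⊤ := by
    rw [← hU.iSup_basicOpen_eq_self_iff]
    apply le_antisymm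
    · exact iSup_le (fun f => X.basicOpen_le _)
    · intro x hx
      obtain ⟨V, hV, hxV, hpV⟩ := h x hx
      obtain ⟨f, g, hfg, hxf⟩ := exists_basicOpen_le_affine_inter hU hV x ⟨hx, hxV⟩
      have hg : Module.Projective Γ(X, X.basicOpen g) Γ(F, X.basicOpen g) :=
        projective_of_le F hV (hV.basicOpen g) (X.basicOpen_le g) hpV
      have hf : f ∈ s := by
        show Module.Projective Γ(X, X.basicOpen f) Γ(F, X.basicOpen f)
        rw [hfg]
        exact hg
      exact Opens.mem_iSup.2 ⟨⟨f, hf⟩, hxf⟩
  refine Groth.Agent.Lib.helper22.ZarProj.projective_of_forall_isBaseChange Γ(X, U) Γ(F, U) s hs ?_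
  intro f hf
  have h0 := isBC_res F hU (hU.basicOpen f) (X.basicOpen_le f)
  letI : Module Γ(X, U) Γ(F, X.basicOpen f) :=
    Module.compHom _ (algebraMap Γ(X, U) Γ(X, X.basicOpen f))
  haveI : IsScalarTower Γ(X, U) Γ(X, X.basicOpen f) Γ(F, X.basicOpen f) :=
    ⟨fun r b n => by
      show (r • b) • n = algebraMap Γ(X, U) Γ(X, X.basicOpen f) r • (b • n)
      rw [Algebra.smul_def, mul_smul]⟩
  let kl : Γ(F, U) →ₗ[Γ(X, U)] Γ(F, X.basicOpen f) :=
    { toFun := res F (X.basicOpen_le f), map_add' := (res F (X.basicOpen_le f)).map_add,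
      map_smul' := fun r n => h0.map_smul r n }
  exact ⟨Γ(X, X.basicOpen f), inferInstance, inferInstance, hU.isLocalization_basicOpen f,
    Γ(F, X.basicOpen f), inferInstance, inferInstance, inferInstance, inferInstance, kl,
    IsBC.isBaseChange kl h0, hf⟩

end Groth.Agent.Lib.helper22.ZarProjSch
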